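import Mathlib

/-!
# The model: permutations of nine points preserving three blocks of three

An element is a triple of exponents for the three `3`-cycles followed by a signed permutation
`ι^e · d_k · π_p`, where `ι = (12)(45)(78)`, the `d_k` are the products of two of the transpositions
`(12), (45), (78)` and `π_p = σ^i ρ^j` with `σ = (036)(147)(258)`, `ρ = (03)(14)(25)`.
-/

set_option autoImplicit false
set_option maxRecDepth 100000
set_option synthInstance.maxSize 10000

namespace Cfsg.Agent.NineSym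

open Equiv

/-- Permutations of nine points. -/
abbrev S9 : Type := Equiv.Perm (Fin 9)

/-- Exponent vectors. -/
abbrev V3 : Type := ZMod 3 × ZMod 3 × ZMod 3

def aP : S9 := swap 0 1 * swap 1 2
def bP : S9 := swap 3 4 * swap 4 5
def cP : S9 := swap 6 7 * swap 7 8
def iotaP : S9 := swap 1 2 * swap 4 5 * swap 7 8
def sigP : S9 := swap 0 3 * swap 3 6 * (swap 1 4 * swap 4 7) * (swap 2 5 * swap 5 8)
def rhoP : S9 := swap 0 3 * swap 1 4 * swap 2 5

/-- The elementary abelian group of order 27. -/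
def jP (v : V3) : S9 := aP ^ v.1.val * bP ^ v.2.1.val * cP ^ v.2.2.val

/-- The products of two of the three transpositions. -/
def dP : Fin 4 → S9 := ![1, swap 4 5 * swap 7 8, swap 1 2 * swap 7 8, swap 1 2 * swap 4 5]

/-- The permutations of the blocks. -/
def piP : Fin 6 → S9 := ![1, sigP, sigP * sigP, rhoP, sigP * rhoP, sigP * sigP * rhoP]

/-- A signed permutation. -/
structure Wt where
  /-- The power of the inversion. -/
  e : Bool
  /-- The diagonal part. -/
  k : Fin 4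
  /-- The permutation part. -/
  p : Fin 6
deriving DecidableEq

/-- An element of the model. -/
structure Mn where
  /-- The part in the group of order 27. -/
  v : V3
  /-- The signed permutation. -/
  w : Wt
deriving DecidableEq

instance : Fintype Wt :=
  Fintype.ofEquiv (Bool × Fin 4 × Fin 6)
    ⟨fun t => ⟨t.1, t.2.1, t.2.2⟩, fun w => (w.e, w.k, w.p), fun _ => rfl, fun _ => rfl⟩

instance : Fintype Mn :=
  Fintype.ofEquiv (V3 × Wt) ⟨fun t => ⟨t.1, t.2⟩, fun g => (g.v, g.w), fun _ => rfl, fun _ => rfl⟩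

/-- The product of two diagonal parts. -/
def kmul : Fin 4 → Fin 4 → Fin 4 := ![![0, 1, 2, 3], ![1, 0, 3, 2], ![2, 3, 0, 1], ![3, 2, 1, 0]]

/-- The action of a permutation part on a diagonal part. -/
def kact : Fin 6 → Fin 4 → Fin 4 :=
  ![![0, 1, 2, 3], ![0, 2, 3, 1], ![0, 3, 1, 2], ![0, 2, 1, 3], ![0, 3, 2, 1], ![0, 1, 3, 2]]

/-- The product of two permutation parts. -/
def pmul : Fin 6 → Fin 6 → Fin 6 :=
  ![![0, 1, 2, 3, 4, 5], ![1, 2, 0, 4, 5, 3], ![2, 0, 1, 5, 3, 4],
    ![3, 5, 4, 0, 2, 1], ![4, 3, 5, 1, 0, 2], ![5, 4, 3, 2, 1, 0]]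

/-- The action of a permutation part on exponents. -/
def pact (p : Fin 6) (v : V3) : V3 :=
  ![v, (v.2.2, v.1, v.2.1), (v.2.1, v.2.2, v.1),
    (v.2.1, v.1, v.2.2), (v.2.2, v.2.1, v.1), (v.1, v.2.2, v.2.1)] p

/-- The action of a diagonal part on exponents. -/
def dact (k : Fin 4) (v : V3) : V3 :=
  ![v, (v.1, -v.2.1, -v.2.2), (-v.1, v.2.1, -v.2.2), (-v.1, -v.2.1, v.2.2)] k

/-- The inversion. -/
def eact (e : Bool) (v : V3) : V3 := if e then -v else v

/-- The action of a signed permutation on exponents. -/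
def wact (w : Wt) (v : V3) : V3 := eact w.e (dact w.k (pact w.p v))

instance : Mul Wt := ⟨fun a b => ⟨a.e ^^ b.e, kmul a.k (kact a.p b.k), pmul a.p b.p⟩⟩
instance : One Wt := ⟨⟨false, 0, 0⟩⟩
instance : Mul Mn := ⟨fun a b => ⟨a.v + wact a.w b.v, a.w * b.w⟩⟩
instance : One Mn := ⟨⟨0, 1⟩⟩

/-- The permutation of a signed permutation. -/
def wP (w : Wt) : S9 := (if w.e then iotaP else 1) * dP w.k * piP w.p

/-- The permutation of an element. -/
def elP (g : Mn) : S9 := jP g.v * wP g.w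

theorem pow_val_add : ∀ x y : ZMod 3, aP ^ (x + y).val = aP ^ x.val * aP ^ y.val ∧
    bP ^ (x + y).val = bP ^ x.val * bP ^ y.val ∧ cP ^ (x + y).val = cP ^ x.val * cP ^ y.val := by
  decide +kernel

theorem abc_comm : aP * bP = bP * aP ∧ aP * cP = cP * aP ∧ bP * cP = cP * bP := by decide +kernel

theorem jP_add (u v : V3) : jP (u + v) = jP u * jP v := by
  simp only [jP, Prod.fst_add, Prod.snd_add, (pow_val_add _ _).1, (pow_val_add _ _).2.1, (pow_val_add _ _).2.2]
  have h1 : Commute (bP ^ u.2.1.val) (aP ^ v.1.val) := (show Commute bP aP from abc_comm.1.symm).pow_pow _ _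
  have h2 : Commute (cP ^ u.2.2.val) (aP ^ v.1.val) := (show Commute cP aP from abc_comm.2.1.symm).pow_pow _ _
  have h3 : Commute (cP ^ u.2.2.val) (bP ^ v.2.1.val) := (show Commute cP bP from abc_comm.2.2.symm).pow_pow _ _
  simp only [mul_assoc]
  congr 1
  rw [← mul_assoc (cP ^ u.2.2.val) (aP ^ v.1.val), h2.eq, mul_assoc, ← mul_assoc (cP ^ u.2.2.val) (bP ^ v.2.1.val),
    h3.eq, mul_assoc, ← mul_assoc (bP ^ u.2.1.val) (aP ^ v.1.val), h1.eq, mul_assoc]

theorem d_mul : ∀ a b : Fin 4, dP (kmul a b) = dP a * dP b := by decide +kernel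

theorem pi_mul : ∀ a b : Fin 6, piP (pmul a b) = piP a * piP b := by decide +kernel

theorem pi_d : ∀ (a : Fin 6) (b : Fin 4), piP a * dP b = dP (kact a b) * piP a := by decide +kernel

theorem iota_facts : iotaP * iotaP = 1 ∧ (∀ a, dP a * iotaP = iotaP * dP a) ∧ ∀ a, piP a * iotaP = iotaP * piP a := by
  decide +kernel

theorem wP_mul (u w : Wt) : wP (u * w) = wP u * wP w := by
  obtain ⟨h1, h2, h3⟩ := iota_facts
  show (if (u.e ^^ w.e) then iotaP else 1) * dP (kmul u.k (kact u.p w.k)) * piP (pmul u.p w.p) = _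
  have he : (if (u.e ^^ w.e) then iotaP else 1) = (if u.e then iotaP else 1) * (if w.e then iotaP else 1) := by
    cases u.e <;> cases w.e <;> simp [h1]
  have hc : Commute (dP u.k * piP u.p) (if w.e then iotaP else 1) := by
    cases w.e
    · exact Commute.one_right _
    · exact (show Commute (dP u.k) iotaP from h2 _).mul_left (h3 _)
  rw [he, d_mul, pi_mul, wP, wP]
  calc _ = (if u.e then iotaP else 1) * (if w.e then iotaP else 1) * dP u.k * (dP (kact u.p w.k) * piP u.p) * piP w.p := by group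
    _ = (if u.e then iotaP else 1) * ((if w.e then iotaP else 1) * (dP u.k * piP u.p)) * dP w.k * piP w.p := by
      rw [← pi_d]; group
    _ = _ := by rw [← hc.eq]; group

theorem iota_jP : ∀ v, iotaP * jP v = jP (-v) * iotaP := by decide +kernel

theorem d_jP : ∀ a v, dP a * jP v = jP (dact a v) * dP a := by decide +kernel

theorem pi_jP : ∀ a v, piP a * jP v = jP (pact a v) * piP a := by decide +kernel

theorem wP_jP (w : Wt) (v : V3) : wP w * jP v = jP (wact w v) * wP w := by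
  rw [wP, mul_assoc, pi_jP, mul_assoc, ← mul_assoc (dP w.k), d_jP, wact, eact]
  cases w.e
  · simp [mul_assoc]
  · simp only [if_true]
    rw [← mul_assoc iotaP, ← mul_assoc iotaP (jP _), iota_jP]
    simp [mul_assoc]

theorem elP_mul (g h : Mn) : elP (g * h) = elP g * elP h := by
  show jP (g.v + wact g.w h.v) * wP (g.w * h.w) = _
  rw [jP_add, wP_mul, elP, elP, mul_assoc, ← mul_assoc (jP (wact g.w h.v)), ← wP_jP]
  simp [mul_assoc]

theorem elP_one : elP 1 = 1 := by decide +kernel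

theorem jP_ker : ∀ u : V3, jP u = 1 → u = 0 := by decide +kernel

theorem jP_zero : jP 0 = 1 := by decide +kernel

theorem jP_inj (u v : V3) (h : jP u = jP v) : u = v := by
  have : jP (u + -v) = 1 := by rw [jP_add, h, ← jP_add, add_neg_cancel, jP_zero]
  exact eq_of_add_neg_eq_zero (jP_ker _ this)

theorem wact_faithful' : ∀ w : Wt, wact w (1, 0, 0) = (1, 0, 0) → wact w (0, 1, 0) = (0, 1, 0) →
    wact w (0, 0, 1) = (0, 0, 1) → w = 1 := by decide +kernel

theorem wact_faithful (w : Wt) (h : ∀ v : V3, wact w v = v) : w = 1 := wact_faithful' w (h _) (h _) (h _)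

theorem wP_sep (w : Wt) (v : V3) (h : wP w = jP v) : w = 1 := by
  refine wact_faithful w fun u => jP_inj _ _ (mul_right_cancel (b := jP v) ?_)
  have := wP_jP w u
  rw [h, ← jP_add, add_comm, jP_add] at this
  exact this.symm

/-- The inverse of a permutation part. -/
def pinv : Fin 6 → Fin 6 := ![0, 2, 1, 3, 4, 5]

instance : Inv Wt := ⟨fun w => ⟨w.e, kact (pinv w.p) w.k, pinv w.p⟩⟩

/-- The inverse. -/
def mnInv (g : Mn) : Mn := ⟨-wact g.w⁻¹ g.v, g.w⁻¹⟩

theorem wt_inv_mul : ∀ w : Wt, w⁻¹ * w = 1 := by decide +kernel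

theorem mn_inv_aux (g : Mn) : mnInv g * g = 1 := by
  show (⟨-wact g.w⁻¹ g.v + wact g.w⁻¹ g.v, g.w⁻¹ * g.w⟩ : Mn) = ⟨0, 1⟩
  rw [neg_add_cancel, wt_inv_mul]

theorem elP_inj : Function.Injective elP := by
  have hinj' : ∀ a b : Wt, wP a = wP b → a = b := fun a b hab => by
    have h1 : wP (b⁻¹ * a) = jP 0 := by
      rw [wP_mul, hab, ← wP_mul, wt_inv_mul, jP_zero]
      decide +kernel
    have h2 : b⁻¹ * a = b⁻¹ * b := (wP_sep _ _ h1).trans (wt_inv_mul b).symm
    exact (by decide +kernel : ∀ c a b : Wt, c * a = c * b → a = b) _ _ _ h2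
  intro g h e
  obtain ⟨u, hu⟩ : ∃ u : Wt, u * g.w = 1 := ⟨_, wt_inv_mul g.w⟩
  have h0 : wP h.w = jP (-h.v + g.v) * wP g.w := by
    rw [jP_add, mul_assoc, show jP g.v * wP g.w = elP g from rfl, e, elP, ← mul_assoc, ← jP_add,
      neg_add_cancel, show jP 0 = 1 by decide +kernel, one_mul]
  have hw : h.w = g.w := by
    have h1 : wP (u * h.w) = jP (wact u (-h.v + g.v)) := by
      rw [wP_mul, h0, ← mul_assoc, wP_jP, mul_assoc, ← wP_mul, hu, show wP 1 = 1 by decide +kernel, mul_one]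
    have h2 : u * h.w = u * g.w := (wP_sep _ _ h1).trans hu.symm
    exact hinj' _ _ (mul_left_cancel (a := wP u) (by rw [← wP_mul, ← wP_mul, h2]))
  have hv : jP g.v = jP h.v := by
    have := e
    rw [elP, elP, hw] at this
    exact mul_right_cancel this
  obtain ⟨gv, gw⟩ := g
  obtain ⟨hv', hw'⟩ := h
  simp only at hw hv
  rw [hw, jP_inj _ _ hv]

instance : Inv Mn := ⟨mnInv⟩

instance : Group Mn := Group.ofLeftAxioms
  (fun a b c => elP_inj (by simp only [elP_mul, mul_assoc]))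
  (fun a => elP_inj (by rw [elP_mul, elP_one, one_mul]))
  mn_inv_aux

/-- The embedding in the symmetric group. -/
def elHom : Mn →* S9 where
  toFun := elP
  map_one' := elP_one
  map_mul' := elP_mul

/-- The elements of the group of order 27. -/
def jM (v : V3) : Mn := ⟨v, 1⟩

/-- The lift of a signed permutation. -/
def wM (w : Wt) : Mn := ⟨0, w⟩

theorem jM_add : ∀ u v : V3, jM (u + v) = jM u * jM v := by decide +kernel

theorem mn_split : ∀ w : Wt, ∀ v : V3, (⟨v, w⟩ : Mn) = jM v * wM w := by decide +kernel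

theorem wact_one : ∀ v : V3, wact 1 v = v := by decide +kernel

theorem wact_mul (u w : Wt) (v : V3) : wact (u * w) v = wact u (wact w v) := by
  refine jP_inj _ _ (mul_right_cancel (b := wP (u * w)) ?_)
  rw [← wP_jP, wP_mul, mul_assoc, wP_jP, ← mul_assoc, wP_jP, mul_assoc]

theorem wact_add (w : Wt) (u v : V3) : wact w (u + v) = wact w u + wact w v := by
  refine jP_inj _ _ (mul_right_cancel (b := wP w) ?_)
  rw [← wP_jP, jP_add, ← mul_assoc, wP_jP, mul_assoc, wP_jP, ← mul_assoc, ← jP_add]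

/-- The permutations centralizing the product of the three `3`-cycles. -/
theorem cent_blocks : ∀ p q r : Fin 9, p.val / 3 ≠ q.val / 3 → p.val / 3 ≠ r.val / 3 →
    q.val / 3 ≠ r.val / 3 →
    ∃ i : Fin 6, (piP i 0).val / 3 = p.val / 3 ∧ (piP i 3).val / 3 = q.val / 3 ∧
      (piP i 6).val / 3 = r.val / 3 := by
  decide +kernel

theorem piP_base : ∀ i : Fin 6, (piP i 0).val % 3 = 0 ∧ (piP i 3).val % 3 = 0 ∧ (piP i 6).val % 3 = 0 := by
  decide +kernel

theorem jP_block : ∀ (v : V3) (p : Fin 9), p.val % 3 = 0 → (jP v p).val / 3 = p.val / 3 ∧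
    (jP v p).val % 3 = (![v.1, v.2.1, v.2.2] ⟨p.val / 3, by omega⟩).val := by
  decide +kernel

theorem cent_table (p q r : Fin 9) (hpq : p.val / 3 ≠ q.val / 3) (hpr : p.val / 3 ≠ r.val / 3)
    (hqr : q.val / 3 ≠ r.val / 3) :
    ∃ (v : V3) (i : Fin 6), (jP v * piP i) 0 = p ∧ (jP v * piP i) 3 = q ∧ (jP v * piP i) 6 = r := by
  obtain ⟨i, h0, h3, h6⟩ := cent_blocks p q r hpq hpr hqr
  let off : ℕ → ZMod 3 := fun b => if p.val / 3 = b then (p.val % 3 : ℕ) else
    if q.val / 3 = b then (q.val % 3 : ℕ) else (r.val % 3 : ℕ)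
  refine ⟨(off 0, off 1, off 2), i, ?_, ?_, ?_⟩
  all_goals
    obtain ⟨b0, b3, b6⟩ := piP_base i
    rw [Equiv.Perm.mul_apply]
    refine Fin.ext ?_
  · obtain ⟨e1, e2⟩ := jP_block (off 0, off 1, off 2) _ b0
    have : ![off 0, off 1, off 2] ⟨(piP i 0).val / 3, by omega⟩ = off (p.val / 3) := by
      rw [← h0]; rcases (show (piP i 0).val / 3 = 0 ∨ (piP i 0).val / 3 = 1 ∨ (piP i 0).val / 3 = 2 by omega) with e | e | e <;> simp [e]
    rw [this, show off (p.val / 3) = ((p.val % 3 : ℕ) : ZMod 3) by simp [off], ZMod.val_natCast] at e2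
    omega
  · obtain ⟨e1, e2⟩ := jP_block (off 0, off 1, off 2) _ b3
    have : ![off 0, off 1, off 2] ⟨(piP i 3).val / 3, by omega⟩ = off (q.val / 3) := by
      rw [← h3]; rcases (show (piP i 3).val / 3 = 0 ∨ (piP i 3).val / 3 = 1 ∨ (piP i 3).val / 3 = 2 by omega) with e | e | e <;> simp [e]
    rw [this, show off (q.val / 3) = ((q.val % 3 : ℕ) : ZMod 3) by simp [off, hpq], ZMod.val_natCast] at e2
    omega
  · obtain ⟨e1, e2⟩ := jP_block (off 0, off 1, off 2) _ b6
    have : ![off 0, off 1, off 2] ⟨(piP i 6).val / 3, by omega⟩ = off (r.val / 3) := by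
      rw [← h6]; rcases (show (piP i 6).val / 3 = 0 ∨ (piP i 6).val / 3 = 1 ∨ (piP i 6).val / 3 = 2 by omega) with e | e | e <;> simp [e]
    rw [this, show off (r.val / 3) = ((r.val % 3 : ℕ) : ZMod 3) by simp [off, hpr, hqr], ZMod.val_natCast] at e2
    omega

/-- The element whose centralizer is given. -/
def x0 : S9 := swap 0 1 * swap 1 2 * swap 3 4 * swap 4 5 * swap 6 7 * swap 7 8

theorem x0_facts : x0 = jP (1, 1, 1) ∧ (∀ v, jP v * x0 = x0 * jP v) ∧ (∀ i, piP i * x0 = x0 * piP i) ∧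
    (∀ i : Fin 9, i = if i.val % 3 = 0 then i else if i.val % 3 = 1 then x0 ⟨i.val / 3 * 3, by omega⟩
      else x0 (x0 ⟨i.val / 3 * 3, by omega⟩)) ∧
    (∀ i : Fin 9, (x0 i).val / 3 = i.val / 3 ∧ x0 (x0 (x0 i)) = i) := by
  decide +kernel

theorem cent_x0 {g : S9} (hg : g * x0 = x0 * g) : ∃ (v : V3) (i : Fin 6), g = jP v * piP i := by
  have hgx : ∀ i, g (x0 i) = x0 (g i) := fun i => by
    have := congrArg (fun f : S9 => f i) hg
    simpa using this
  have hsame : ∀ p q : Fin 9, p.val / 3 = q.val / 3 → q = p ∨ q = x0 p ∨ q = x0 (x0 p) := by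
    decide +kernel
  have hne : ∀ s t : Fin 9, s.val / 3 ≠ t.val / 3 → (g s).val / 3 ≠ (g t).val / 3 := by
    intro s t hst h
    rcases hsame _ _ h with e | e | e
    · exact hst (by rw [g.injective e])
    · rw [← hgx] at e
      exact hst (by rw [g.injective e, (x0_facts.2.2.2.2 s).1])
    · rw [← hgx, ← hgx] at e
      exact hst (by rw [g.injective e, (x0_facts.2.2.2.2 (x0 s)).1, (x0_facts.2.2.2.2 s).1])
  obtain ⟨v, i, h0, h3, h6⟩ := cent_table (g 0) (g 3) (g 6) (hne 0 3 (by decide)) (hne 0 6 (by decide))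
    (hne 3 6 (by decide))
  refine ⟨v, i, Equiv.ext fun s => ?_⟩
  have hh : ∀ s, (jP v * piP i) (x0 s) = x0 ((jP v * piP i) s) := fun s => by
    have h : jP v * piP i * x0 = x0 * (jP v * piP i) := by
      rw [mul_assoc, x0_facts.2.2.1, ← mul_assoc, x0_facts.2.1, mul_assoc]
    have := congrArg (fun f : S9 => f s) h
    simpa using this
  have hgen : ∀ s : Fin 9, ∃ b : Fin 9, (b = 0 ∨ b = 3 ∨ b = 6) ∧ (s = b ∨ s = x0 b ∨ s = x0 (x0 b)) := by
    decide +kernel
  have hb : ∀ b : Fin 9, (b = 0 ∨ b = 3 ∨ b = 6) → g b = (jP v * piP i) b := by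
    rintro b (rfl | rfl | rfl)
    exacts [h0.symm, h3.symm, h6.symm]
  obtain ⟨b, hbv, hs⟩ := hgen s
  rcases hs with e | e | e
  · rw [e]; exact hb _ hbv
  · rw [e, hgx, hh, hb _ hbv]
  · rw [e, hgx, hgx, hh, hh, hb _ hbv]

end Cfsg.Agent.NineSym
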