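import Cfsg.Agent.Lib.NineSym.RelTables

/-!
# Tables for the relation between `(23)` and `(56)`
-/

set_option autoImplicit false
set_option maxRecDepth 100000
set_option synthInstance.maxSize 10000

namespace Cfsg.Agent.NineSym

open Cfsg.Agent.ExtraTwoNine.CoordPerm (P6)
open SymSix (cb cc ct cw)

/-- The three-cycle `(013)`. -/
def h013 : P6 := Equiv.swap 0 1 * Equiv.swap 1 3

theorem h013_facts : h013 * h013 * h013 = 1 ∧ h013 * cc ≠ cc * h013 ∧ h013 * sw6 4 = sw6 4 * h013 ∧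
    (∃ q0, word6 q0 = t6 ∧ ∃ u e, (wM ⟨false, 0, 1⟩)⁻¹ * wordM q0 * wM ⟨false, 0, 1⟩ = mC u e) ∧
    (∃ q, word6 q = sw6 4 ∧ wM ⟨false, 0, 1⟩ * wordM q * (wM ⟨false, 0, 1⟩)⁻¹ = wM nCw) ∧
    (∃ q q', word6 q = sw6 0 ∧ word6 q' = sw6 3 ∧
      wM ⟨false, 0, 1⟩ * wordM q * (wM ⟨false, 0, 1⟩)⁻¹ = wordM q') ∧
    (∃ q q', word6 q = sw6 1 ∧ word6 q' = sw6 4 ∧
      wM ⟨false, 0, 1⟩ * wordM q * (wM ⟨false, 0, 1⟩)⁻¹ = wordM q') ∧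
    (∃ q, word6 q = cb ∧ wordM q = jM (1, 0, 0)) ∧
    (wact ⟨false, 0, 1⟩ (0, 1, 0) = (0, 0, 1) ∧ wact ⟨false, 0, 1⟩ (0, 0, 1) = (1, 0, 0)) := by
  decide +kernel

theorem v6_facts : (∀ x ∈ V6, ∀ y ∈ V6, x * y ∈ V6) ∧ (∀ x ∈ V6, x * x = 1) ∧
    (∀ x ∈ V6, ∀ i : Fin 3, cc ^ i.val * x * (cc ^ i.val)⁻¹ ∈ V6) ∧
    (∀ x ∈ V6, x * cc = cc * x → x = 1) ∧
    Fintype.card {x // x ∈ V6} = 4 ∧
    (∀ π : P6, inT6 π → π * cc = cc * π → π = 1 ∨ π = t6) ∧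
    (∀ v ∈ V6, ∀ w ∈ V6, v ≠ 1 → w ≠ 1 → ∃ i : Fin 3, cc ^ i.val * v * (cc ^ i.val)⁻¹ = w) := by
  decide +kernel

theorem s5_facts :
    (sw6 2 * t6 = t6 * sw6 2 ∧ sw6 2 * sw6 4 = sw6 4 * sw6 2 ∧ sw6 3 * t6 = t6 * sw6 3 ∧
      sw6 4 * t6 = t6 * sw6 4) ∧
    (sw6 3 * sw6 4 * (sw6 3 * sw6 4) * (sw6 3 * sw6 4) = 1 ∧
      sw6 3 * sw6 2 * (sw6 3 * sw6 2) * (sw6 3 * sw6 2) = 1 ∧
      sw6 1 * sw6 2 * (sw6 1 * sw6 2) * (sw6 1 * sw6 2) = 1 ∧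
      sw6 0 * sw6 2 = sw6 2 * sw6 0) ∧
    (sw6 2 * cb * sw6 2 ≠ cb ∧ sw6 2 * cb * sw6 2 ≠ cb⁻¹) ∧
    (t6 * cb * t6⁻¹ = cb⁻¹) ∧
    (∀ a e : Bool, apart (lab (sw6 2, false)) (lab (pb t6 a * sw6 2, e)) = true ∨ (a = false ∧ e = false)) ∧
    (∀ a : Bool, pb t6 a * sw6 2 * (pb t6 a * sw6 2) = 1) ∧
    (∀ e : Bool, sw6 0 * sw6 2 * pb (sw6 4) e ≠ 1) ∧
    sw6 4 * sw6 2 = Equiv.swap 2 3 * Equiv.swap 4 5 := by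
  decide +kernel

theorem perm5_rel : ∀ A : Equiv.Perm (Fin 5), A * A = 1 → ∀ B : Equiv.Perm (Fin 5), B * B = 1 →
    A * B * (A * B) * (A * B) = 1 → ∀ C : Equiv.Perm (Fin 5), C * C = 1 →
    A * C * (A * C) * (A * C) = 1 → B * C = C * B → B ≠ C → ∀ D : Equiv.Perm (Fin 5), D * D = 1 →
    B * D * (B * D) * (B * D) = 1 → A * D = D * A → A ≠ D →
    C * D = D * C ∨ C = A * B * D * B * A := by
  decide +kernel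

end Cfsg.Agent.NineSym
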