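import Cfsg.Agent.Lib.NineSym.RelGroup
import Cfsg.Agent.Lib.NineSym.RelTables2
import Cfsg.Agent.Lib.Classical.Linear
import Cfsg.Agent.Lib.Classical.GL2
import Cfsg.Agent.S3331

/-!
# The transpositions `(23)` and `(56)` commute
-/

set_option autoImplicit false
set_option linter.style.haveILetI false
set_option linter.unusedSectionVars false
set_option maxRecDepth 100000
set_option synthInstance.maxSize 10000

namespace Cfsg.Agent.NineSym

open Subgroup
open Cfsg.Agent.ExtraTwoNine.CoordPerm (P6)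
open SymSix (cb cc ct cw)

theorem card_psl_seven :
    Nat.card (Matrix.ProjectiveSpecialLinearGroup (Fin 2) (ZMod 7)) = 168 := by
  haveI : Fact (Nat.Prime 7) := ⟨by norm_num⟩
  have h := Classical.Linear.gcd_mul_natCard_PSL_fin (F := ZMod 7) (k := 2) (by norm_num)
  rw [Classical.GL2.natCard_SL_two, ZMod.card] at h
  rw [show Nat.gcd 2 (7 - 1) = 2 by norm_num] at h
  omega

variable {G : Type*} [Group G] [Finite G] {J : Subgroup G} {φ : Mn → G}

namespace Frame

variable (D : Frame J true true φ)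
include D

variable {K : Subgroup G} (S6 : SixData J φ K) {f : P6 →* G} (F : SixMap φ K f)
include S6 F

/-- The square subgroup is the alternating group of degree five and has five Sylow `2`-subgroups. -/
theorem relAlt : IsSimpleGroup (sqGen (W0 f φ)) ∧
    ∃ P : Sylow 2 (sqGen (W0 f φ)), ¬ (P : Subgroup (sqGen (W0 f φ))).Normal ∧
      Nat.card (Sylow 2 (sqGen (W0 f φ))) = 5 := by
  classical
  haveI : Fact (Nat.Prime 2) := ⟨Nat.prime_two⟩
  haveI : Fact (Nat.Prime 3) := ⟨Nat.prime_three⟩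
  obtain ⟨Rinter, Rcent, Rmem, Rsyl⟩ := D.relData S6 F
  obtain ⟨hV2, hVsq, hVcc, hVfix, hVcard, -, hVtrans⟩ := v6_facts
  obtain ⟨hh3, hhc, hh4, ⟨q0, hq0, u0, e0, hq0'⟩, ⟨q4, hq4, hq4'⟩, -, -, -, hsb, -⟩ := h013_facts
  have hmul : ∀ p q : Mn, φ (p * q) = φ p * φ q := fun p q => D.hom _ _ (inL_all p) (inL_all q)
  set M := sqGen (W0 f φ) with hM
  obtain ⟨qc, hqc, hqc'⟩ := model_rel.2.2.2.1
  have hfc : f cc = φ (jM (0, 1, 0)) := by rw [← hqc, F.agree, hqc']
  have hb3 : f cc ^ 3 = 1 := by rw [hfc, D.jcube]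
  have hbW : f cc ∈ W0 f φ := D.el_f S6 F cc ▸ D.el_W0 S6 F (show cc * t6 = t6 * cc by decide +kernel)
  have hoddM : ∀ g : W0 f φ, (g : G) ^ 3 = 1 → g ∈ M := fun g hg =>
    odd_mem_sqGen (Odd.of_dvd_nat (show Odd 3 by decide)
      (orderOf_dvd_of_pow_eq_one (Subtype.ext (by simpa using hg))))
  let ι : M →* G := (W0 f φ).subtype.comp M.subtype
  have hιinj : Function.Injective ι := fun a b e => Subtype.ext (Subtype.ext e)
  let b : M := ⟨⟨f cc, hbW⟩, hoddM _ hb3⟩
  have hbb : ι b = f cc := rfl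
  have hb1 : b ≠ 1 := fun e => (by decide +kernel : cc ≠ (1 : P6)) (F.inj ((congrArg ι e).trans (by simp)))
  have hbp : ∀ (i : ℕ), ι (b ^ i) = f (cc ^ i) := fun i => by
    induction i with
    | zero => simp
    | succ i ih => rw [pow_succ, pow_succ, map_mul, map_mul, ih, hbb]
  have hb0 : b ^ 3 = 1 := hιinj (by rw [hbp, map_one, show cc ^ 3 = (1 : P6) by decide +kernel, map_one])
  have hbo : orderOf b = 3 := orderOf_eq_prime hb0 hb1
  have hC : centralizer ((zpowers b : Subgroup M) : Set M) = zpowers b := by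
    refine le_antisymm (fun g hg => ?_) fun g hg => mem_centralizer_iff.2 fun x hx => ?_
    · have hgb := congrArg ι (mem_centralizer_iff.1 hg b (mem_zpowers b))
      rw [map_mul, map_mul, hbb, hfc] at hgb
      obtain ⟨u, hu⟩ := Rcent g.1 g.2 hgb.symm
      have : g = b ^ u.val := hιinj (by
        rw [hbp, show f (cc ^ u.val) = f cc ^ u.val by
          induction u.val with
          | zero => simp
          | succ n ih => rw [pow_succ, pow_succ, map_mul, ih], hfc]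
        exact hu)
      rw [this]; exact pow_mem (mem_zpowers b) _
    · obtain ⟨i, rfl⟩ := mem_zpowers_iff.1 hg
      obtain ⟨j, rfl⟩ := mem_zpowers_iff.1 hx
      exact ((Commute.refl b).zpow_zpow j i).eq
  -- the Sylow subgroup
  let V : Subgroup M :=
    { carrier := {g | ∃ v ∈ V6, ι g = f v}
      one_mem' := ⟨1, by simp [V6], by simp⟩
      mul_mem' := by
        rintro g g' ⟨v, hv, e⟩ ⟨v', hv', e'⟩
        exact ⟨_, hV2 v hv v' hv', by rw [map_mul, e, e', map_mul]⟩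
      inv_mem' := by
        rintro g ⟨v, hv, e⟩
        refine ⟨v, hv, ?_⟩
        rw [map_inv, e, ← map_inv, inv_eq_of_mul_eq_one_left (hVsq v hv)] }
  have hVex : ∀ v ∈ V6, ∃ g ∈ V, ι g = f v := fun v hv => by
    obtain ⟨g, hg, e⟩ := Rmem v hv
    exact ⟨⟨g, hg⟩, ⟨v, hv, e⟩, e⟩
  have hV4 : Nat.card V = 4 := by
    rw [← hVcard, ← Nat.card_eq_fintype_card]
    choose gv hgv hgv' using hVex
    refine (Nat.card_eq_of_bijective (fun v : {x // x ∈ V6} => (⟨gv v.1 v.2, hgv v.1 v.2⟩ : V))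
      ⟨fun v w e => Subtype.ext (F.inj ?_), fun g => ?_⟩).symm
    · rw [← hgv' v.1 v.2, ← hgv' w.1 w.2]
      exact congrArg (fun x : V => ι x.1) e
    · obtain ⟨v, hv, e⟩ := g.2
      exact ⟨⟨v, hv⟩, Subtype.ext (hιinj ((hgv' v hv).trans e.symm))⟩
  have hVp : IsPGroup 2 V := IsPGroup.of_card (n := 2) (by rw [hV4]; norm_num)
  have h2card : ∀ R : Subgroup M, IsPGroup 2 R → Nat.card R ≤ 4 := fun R hR => by
    rw [← card_map_of_injective hιinj (K := R)]
    refine Rsyl _ (hR.map _) ?_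
    rintro _ ⟨r, -, rfl⟩
    exact ⟨r.1, r.2, rfl⟩
  let P : Sylow 2 M := ⟨V, hVp, fun {R} hR hVR => (eq_of_le_of_card_ge hVR (by rw [hV4]; exact h2card R hR)).symm⟩
  have hbV : ∀ i : Fin 3, ∀ g ∈ V, b ^ i.val * g * (b ^ i.val)⁻¹ ∈ V := by
    rintro i g ⟨v, hv, e⟩
    refine ⟨_, hVcc v hv i, ?_⟩
    rw [map_mul, map_mul, map_inv, hbp, e, ← map_inv, ← map_mul, ← map_mul]
  -- the four-group is not normal
  have hmove : ¬ V.Normal := by
    intro hN
    have hall : ∀ g : M, Commute (ι g) (φ (jM (0, 0, 1))) := by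
      intro g
      obtain ⟨z, hzV, hz⟩ := hVex zP (by simp [V6])
      obtain ⟨v, hv, hgz⟩ := hN.conj_mem z hzV g
      have hv1 : v ≠ 1 := by
        rintro rfl
        rw [map_one, ← map_one ι] at hgz
        have : z = 1 := conj_eq_one_iff.1 (hιinj hgz)
        exact t6_facts.2.2.2.2.2 (F.inj (by rw [← hz, this, map_one, map_one]))
      obtain ⟨i, hi⟩ := hVtrans zP (by simp [V6]) v hv t6_facts.2.2.2.2.2 hv1
      have hcomm : ι ((b ^ i.val)⁻¹ * g) * f zP = f zP * ι ((b ^ i.val)⁻¹ * g) := by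
        rw [map_mul, map_inv, hbp, ← hz]
        rw [map_mul, map_mul, map_inv, ← hi, map_mul, map_mul, map_inv, ← hz] at hgz
        calc (f (cc ^ i.val))⁻¹ * ι g * ι z = (f (cc ^ i.val))⁻¹ * (ι g * ι z * (ι g)⁻¹) * ι g := by group
          _ = _ := by rw [hgz]; group
      obtain ⟨w, hw, e⟩ := Rinter ((b ^ i.val)⁻¹ * g).1 ((b ^ i.val)⁻¹ * g).2 hcomm
      have hg : ι g = f (cc ^ i.val) * f w := by
        rw [← e, show ((((b ^ i.val)⁻¹ * g).1 : W0 f φ) : G) = ι ((b ^ i.val)⁻¹ * g) from rfl, map_mul, map_inv,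
          hbp, mul_inv_cancel_left]
      rw [hg, ← map_mul]
      exact (F.c _).symm
    set σ := φ (wM ⟨false, 0, 1⟩) with hσ
    have hconjM : ∀ m : Mn, σ * φ m * σ⁻¹ = φ (wM ⟨false, 0, 1⟩ * m * (wM ⟨false, 0, 1⟩)⁻¹) := fun m => by
      rw [hmul, hmul, D.inv' (inL_all _)]
    have ht : f t6 = σ * φ (mC u0 e0) * σ⁻¹ := by
      rw [hconjM, ← hq0', ← hq0, F.agree]
      congr 1
      group
    have hn : φ (wM nCw) = σ * f (sw6 4) * σ⁻¹ := by rw [← hq4, F.agree, hconjM, hq4']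
    have hcomm : ∀ {x y : G}, x * y = y * x → σ * x * σ⁻¹ * (σ * y * σ⁻¹) = σ * y * σ⁻¹ * (σ * x * σ⁻¹) :=
      fun {x y} h => by
        rw [show σ * x * σ⁻¹ * (σ * y * σ⁻¹) = σ * (x * y) * σ⁻¹ by group, h]; group
    have hhW : σ * f h013 * σ⁻¹ ∈ W0 f φ := by
      rw [mem_W0, ht, hn]
      exact ⟨hcomm (D.comm_mC F u0 e0 h013).symm, hcomm (by rw [← map_mul, hh4, map_mul])⟩
    have hh : (⟨_, hhW⟩ : W0 f φ) ∈ M := hoddM _ (by
      show (σ * f h013 * σ⁻¹) ^ 3 = 1
      rw [conj_pow, show f h013 ^ 3 = 1 by rw [pow_succ, pow_two, ← map_mul, ← map_mul, hh3, map_one], mul_one,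
        mul_inv_cancel])
    have h := hall ⟨_, hh⟩
    have hc : σ * φ (jM (0, 1, 0)) * σ⁻¹ = φ (jM (0, 0, 1)) := by rw [hσ, D.act' (inL_all _), ← hsb]; rfl
    rw [← hc] at h
    have h' : f h013 * φ (jM (0, 1, 0)) = φ (jM (0, 1, 0)) * f h013 := by
      have e1 : σ * (f h013 * φ (jM (0, 1, 0))) * σ⁻¹ = σ * (φ (jM (0, 1, 0)) * f h013) * σ⁻¹ := by
        have h2 : σ * f h013 * σ⁻¹ * (σ * φ (jM (0, 1, 0)) * σ⁻¹) =
            σ * φ (jM (0, 1, 0)) * σ⁻¹ * (σ * f h013 * σ⁻¹) := h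
        calc _ = σ * f h013 * σ⁻¹ * (σ * φ (jM (0, 1, 0)) * σ⁻¹) := by group
          _ = _ := by rw [h2]; group
      exact mul_left_cancel (mul_right_cancel e1)
    rw [← hfc, ← map_mul, ← map_mul] at h'
    exact hhc (F.inj h')
  have hnor2 : ∀ N : Subgroup M, N.Normal → IsPGroup 2 N → N = ⊥ := by
    intro N hN hNp
    by_contra hne
    obtain ⟨Q, hQ⟩ := hNp.exists_le_sylow
    obtain ⟨c, hc⟩ := MulAction.exists_smul_eq M Q P
    have hNV : N ≤ V := fun g hg => by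
      have hm := smul_mem_pointwise_smul _ (MulAut.conj c) _ (hQ (hN.conj_mem g hg c⁻¹))
      rw [← Sylow.coe_subgroup_smul, hc] at hm
      have e : MulAut.conj c • (c⁻¹ * g * c⁻¹⁻¹) = g := by
        show c * (c⁻¹ * g * c⁻¹⁻¹) * c⁻¹ = g
        group
      rwa [e] at hm
    obtain ⟨x, hx, hx1⟩ : ∃ x ∈ N, x ≠ 1 := by
      by_contra h
      push Not at h
      exact hne ((eq_bot_iff_forall _).2 h)
    obtain ⟨v, hv, hxv⟩ := hNV hx
    have hv1 : v ≠ 1 := fun e => hx1 (hιinj (by rw [hxv, e, map_one, map_one]))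
    have : N = V := le_antisymm hNV fun g ⟨w, hw, hgw⟩ => by
      rcases eq_or_ne w 1 with e | e
      · rw [show g = 1 from hιinj (by rw [hgw, e, map_one, map_one])]; exact one_mem N
      · obtain ⟨i, hi⟩ := hVtrans v hv w hw hv1 e
        have : g = b ^ i.val * x * (b ^ i.val)⁻¹ := hιinj (by
          rw [map_mul, map_mul, map_inv, hbp, hxv, hgw, ← hi, map_mul, map_mul, map_inv])
        rw [this]; exact hN.conj_mem x hx _
    exact hmove (this ▸ hN)
  have h4 : 4 ∣ Nat.card M := hV4 ▸ card_subgroup_dvd_card V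
  obtain ⟨N, hN, hnil, hcop, hq⟩ | ⟨N, hN, -, hexp, ⟨e⟩⟩ | ⟨⟨e⟩⟩ :=
    Cfsg.Agent.S3331.result (zpowers b) (by rw [Nat.card_zpowers, hbo]) hC
  · exfalso
    have hNeven : 2 ∣ Nat.card N := by
      have hc := N.card_eq_card_quotient_mul_card_subgroup
      have hq6 : Nat.card (M ⧸ N) = 3 ∨ Nat.card (M ⧸ N) = 6 := by
        rcases hq with h | ⟨⟨e⟩⟩
        · exact Or.inl h
        · exact Or.inr (by rw [Nat.card_congr e.toEquiv, Nat.card_perm, Nat.card_fin]; rfl)
      rcases hq6 with h | h <;> rw [h] at hc <;> omega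
    haveI := hnil
    let P0 : Sylow 2 N := default
    haveI : (P0 : Subgroup N).Characteristic := Sylow.characteristic_of_normal P0 inferInstance
    have hP0 : ((P0 : Subgroup N).map N.subtype) = ⊥ :=
      hnor2 _ ConjAct.normal_of_characteristic_of_normal (P0.2.map _)
    rw [map_eq_bot_iff_of_injective _ N.subtype_injective] at hP0
    have := P0.ne_bot_of_dvd_card hNeven
    exact this hP0
  · have hN0 : N = ⊥ := hnor2 N hN fun g => ⟨1, Subtype.ext (by simpa using hexp g g.2)⟩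
    subst hN0
    have e' : M ≃* alternatingGroup (Fin 5) := (QuotientGroup.quotientBot (G := M)).symm.trans e
    haveI : IsSimpleGroup (alternatingGroup (Fin 5)) := alternatingGroup.isSimpleGroup_five
    haveI : Nontrivial M := ⟨b, 1, hb1⟩
    refine ⟨IsSimpleGroup.isSimpleGroup_of_surjective e'.symm.toMonoidHom e'.symm.surjective, P, hmove, ?_⟩
    have hA : Nat.card M = 60 := by
      rw [Nat.card_congr e'.toEquiv]
      have h2 : 2 * Nat.card (alternatingGroup (Fin 5)) = Nat.factorial 5 := by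
        rw [Nat.card_eq_fintype_card, two_mul_card_alternatingGroup, Fintype.card_perm, Fintype.card_fin]
      have : Nat.factorial 5 = 120 := rfl
      omega
    set N' := normalizer (V : Set M) with hN'
    have h12 : 12 ∣ Nat.card N' := by
      have h1 : 4 ∣ Nat.card N' := hV4 ▸ card_dvd_of_le (le_normalizer (H := V))
      have hbN : zpowers b ≤ N' := by
        rw [zpowers_le]
        refine mem_normalizer_iff_map_conj_eq.2 (eq_of_le_of_card_ge ?_ (le_of_eq
          (card_map_of_injective (MulEquiv.injective (MulAut.conj b))).symm))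
        rintro _ ⟨g, hg, rfl⟩
        have := hbV 1 g hg
        rw [show ((1 : Fin 3) : ℕ) = 1 from rfl, pow_one] at this
        exact this
      have h3 : 3 ∣ Nat.card N' := hbo ▸ Nat.card_zpowers b ▸ card_dvd_of_le hbN
      omega
    have hidx := N'.card_mul_index
    rw [hA] at hidx
    have hne : N'.index ≠ 1 := fun h => hmove (normalizer_eq_top_iff.1 (index_eq_one.1 h))
    rw [P.card_eq_index_normalizer]
    show N'.index = 5
    obtain ⟨k, hk⟩ := h12
    rw [hk] at hidx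
    have hidx' : k * N'.index = 5 := by nlinarith
    exact ((Nat.dvd_prime (by norm_num : Nat.Prime 5)).1 ⟨k, by rw [← hidx', mul_comm]⟩).resolve_left hne
  · exfalso
    haveI : Fact (Nat.Prime 7) := ⟨by norm_num⟩
    have h8 : 2 ^ 3 ∣ Nat.card M := by rw [Nat.card_congr e.toEquiv, card_psl_seven]; norm_num
    obtain ⟨R, hR⟩ := Sylow.exists_subgroup_card_pow_prime 2 h8
    have := h2card R (IsPGroup.of_card hR)
    omega

theorem rel_two_five :
    f (sw6 2) * (φ (wM ⟨false, 0, 1⟩) * f (sw6 2) * (φ (wM ⟨false, 0, 1⟩))⁻¹) =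
      φ (wM ⟨false, 0, 1⟩) * f (sw6 2) * (φ (wM ⟨false, 0, 1⟩))⁻¹ * f (sw6 2) := by
  classical
  haveI : Fact (Nat.Prime 2) := ⟨Nat.prime_two⟩
  obtain ⟨hsimple, P, hPn, hP5⟩ := D.relAlt S6 F
  haveI := hsimple
  obtain ⟨Rinter, -, Rmem, -⟩ := D.relData S6 F
  obtain ⟨hh3, -, -, ⟨q0, hq0, u0, e0, hq0'⟩, ⟨q4, hq4, hq4'⟩, ⟨r0, r3, hr0, hr3, hr03⟩,
    ⟨r1, r4, hr1, hr4, hr14⟩, ⟨qa, hqa, hqa'⟩, -, hsc⟩ := h013_facts
  obtain ⟨⟨h2t, h24, h3t, h4t⟩, ⟨h34', h32', h12', h02⟩, ⟨hna, hna'⟩, hta, hapart, hinv, hnd, h42⟩ := s5_facts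
  obtain ⟨hsq, -⟩ := sw6_facts
  obtain ⟨-, -, -, -, -, hkc, -⟩ := v6_facts
  have hmul : ∀ p q : Mn, φ (p * q) = φ p * φ q := fun p q => D.hom _ _ (inL_all p) (inL_all q)
  set σ := φ (wM ⟨false, 0, 1⟩) with hσ
  set s2 := f (sw6 2) with hs2
  set s3 := f (sw6 3) with hs3
  set s4 := f (sw6 4) with hs4
  set s5 := σ * f (sw6 2) * σ⁻¹ with hs5
  have hconjM : ∀ m : Mn, σ * φ m * σ⁻¹ = φ (wM ⟨false, 0, 1⟩ * m * (wM ⟨false, 0, 1⟩)⁻¹) := fun m => by
    rw [hmul, hmul, D.inv' (inL_all _)]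
  have hc2 : ∀ x y : G, σ * x * σ⁻¹ * (σ * y * σ⁻¹) = σ * (x * y) * σ⁻¹ := fun x y => by group
  have ht : f t6 = σ * φ (mC u0 e0) * σ⁻¹ := by
    rw [hconjM, ← hq0', ← hq0, F.agree]
    congr 1
    group
  have hn : φ (wM nCw) = σ * f (sw6 4) * σ⁻¹ := by rw [← hq4, F.agree, hconjM, hq4']
  have h3' : s3 = σ * f (sw6 0) * σ⁻¹ := by rw [hs3, ← hr0, ← hr3, F.agree, F.agree, hconjM, hr03]
  have h4' : s4 = σ * f (sw6 1) * σ⁻¹ := by rw [hs4, ← hr1, ← hr4, F.agree, F.agree, hconjM, hr14]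
  -- membership
  have hW : ∀ π, π * t6 = t6 * π → f π ∈ W0 f φ := fun π h => D.el_f S6 F π ▸ D.el_W0 S6 F (p := (π, false)) h
  have h5W : s5 ∈ W0 f φ := by
    rw [mem_W0, ht, hn, hs5, hc2, hc2, hc2, hc2, D.comm_mC F u0 e0, ← map_mul, ← map_mul, h24]
    exact ⟨rfl, rfl⟩
  let A : W0 f φ := ⟨s3, hW _ h3t⟩
  let B : W0 f φ := ⟨s4, hW _ h4t⟩
  let C : W0 f φ := ⟨s2, hW _ h2t⟩
  let E : W0 f φ := ⟨s5, h5W⟩
  set M := sqGen (W0 f φ) with hM
  let ψ : W0 f φ →* Equiv.Perm (Sylow 2 M) :=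
    (MulAction.toPermHom (MulAut M) (Sylow 2 M)).comp (MulAut.conjNormal (H := M))
  have hψM : ∀ (m : M) (Q : Sylow 2 M), ψ (m : W0 f φ) Q = m • Q := fun m Q => by
    show MulAut.conjNormal (H := M) (m : W0 f φ) • Q = _
    rw [MulAut.conjNormal_val]
    rfl
  have hfaith : ∀ m : M, ψ (m : W0 f φ) = 1 → m = 1 := by
    intro m hm
    rcases IsSimpleGroup.eq_bot_or_eq_top_of_normal (ψ.comp M.subtype).ker inferInstance with h | h
    · have : m ∈ (ψ.comp M.subtype).ker := hm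
      rwa [h, mem_bot] at this
    · refine absurd (normalizer_eq_top_iff.1 (eq_top_iff.2 fun x _ => ?_)) hPn
      have hx : ψ (x : W0 f φ) = 1 := (h ▸ mem_top x : x ∈ (ψ.comp M.subtype).ker)
      refine Sylow.smul_eq_iff_mem_normalizer.1 ?_
      rw [← hψM, hx]; rfl
  have hker : ∀ k : W0 f φ, ψ k = 1 → ∃ a e, (k : G) = el f φ (pb t6 a, e) := by
    intro k hk
    have hcomm : ∀ m : M, k * (m : W0 f φ) = (m : W0 f φ) * k := fun m => by
      have hm : k * (m : W0 f φ) * k⁻¹ * (m : W0 f φ)⁻¹ ∈ M :=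
        mul_mem ((sqGen_normal _).conj_mem _ m.2 k) (inv_mem m.2)
      have := hfaith ⟨_, hm⟩ (by
        show ψ (k * (m : W0 f φ) * k⁻¹ * (m : W0 f φ)⁻¹) = 1
        rw [map_mul, map_mul, map_mul, map_inv, map_inv, hk]; group)
      exact mul_inv_eq_iff_eq_mul.1 (mul_inv_eq_one.1 (congrArg Subtype.val this))
    obtain ⟨gz, hgz, ez⟩ := Rmem zP (by simp [V6])
    obtain ⟨π, e, hπ, he⟩ := D.cent_triple S6 F k.2 (by
      rw [← ez]; exact congrArg Subtype.val (hcomm ⟨gz, hgz⟩))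
    have hbW : f cc ∈ W0 f φ := hW cc (by decide +kernel)
    have hb : (⟨f cc, hbW⟩ : W0 f φ) ∈ M := odd_mem_sqGen (Odd.of_dvd_nat (show Odd 3 by decide)
      (orderOf_dvd_of_pow_eq_one (Subtype.ext (by
        show f cc ^ 3 = 1
        rw [pow_succ, pow_two, ← map_mul, ← map_mul, show cc * cc * cc = (1 : P6) by decide +kernel, map_one]))))
    have hkb : (k : G) * f cc = f cc * k := congrArg Subtype.val (hcomm ⟨_, hb⟩)
    rw [he, ← D.el_f S6 F cc, D.el_mul S6 F, D.el_mul S6 F] at hkb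
    rcases hkc π hπ (congrArg Prod.fst (D.el_inj S6 F hkb)) with h | h
    · exact ⟨false, e, by rw [he, h]; rfl⟩
    · exact ⟨true, e, by rw [he, h]; rfl⟩
  -- the images in degree five
  haveI : Fintype (Sylow 2 M) := Fintype.ofFinite _
  let ep : Equiv.Perm (Sylow 2 M) ≃* Equiv.Perm (Fin 5) :=
    Equiv.permCongrHom (Fintype.equivFinOfCardEq (by rw [← Nat.card_eq_fintype_card]; exact hP5))
  let ψ5 : W0 f φ →* Equiv.Perm (Fin 5) := ep.toMonoidHom.comp ψ
  have hψ5 : ∀ k, ψ5 k = 1 → ψ k = 1 := fun k h => (map_eq_one_iff ep ep.injective).1 h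
  have sq : ∀ {x : W0 f φ}, (x : G) * x = 1 → ψ5 x * ψ5 x = 1 := fun {x} h => by
    rw [← map_mul, show x * x = 1 from Subtype.ext h, map_one]
  have br : ∀ {x y : W0 f φ}, (x : G) * y * ((x : G) * y) * ((x : G) * y) = 1 →
      ψ5 x * ψ5 y * (ψ5 x * ψ5 y) * (ψ5 x * ψ5 y) = 1 := fun {x y} h => by
    simp only [← map_mul]
    rw [show x * y * (x * y) * (x * y) = 1 from Subtype.ext h, map_one]
  have cm : ∀ {x y : W0 f φ}, (x : G) * y = (y : G) * x → ψ5 x * ψ5 y = ψ5 y * ψ5 x := fun {x y} h => by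
    simp only [← map_mul]
    rw [show x * y = y * x from Subtype.ext h]
  have h5sq : s5 * s5 = 1 := by rw [hs5, hc2, ← map_mul, hsq, map_one, mul_one, mul_inv_cancel]
  have h22 : s2 * s2 = 1 := by rw [hs2, ← map_mul, hsq, map_one]
  have h33 : s3 * s3 = 1 := by rw [hs3, ← map_mul, hsq, map_one]
  have h44 : s4 * s4 = 1 := by rw [hs4, ← map_mul, hsq, map_one]
  have hBC : ψ5 B ≠ ψ5 C := fun h => by
    have hk : ψ5 (B * C) = 1 := by rw [map_mul, h, sq h22]
    obtain ⟨g, hg, e⟩ := Rmem (sw6 4 * sw6 2) (by rw [h42]; simp [V6])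
    have hg' : g = B * C := Subtype.ext (by rw [e, map_mul]; rfl)
    have h1 := hfaith ⟨g, hg⟩ (by show ψ g = 1; rw [hg']; exact hψ5 _ hk)
    have h2 : (g : G) = 1 := congrArg (fun m : M => ((m : W0 f φ) : G)) h1
    rw [e] at h2
    exact (by decide +kernel : sw6 4 * sw6 2 ≠ (1 : P6)) (F.inj (h2.trans (map_one f).symm))
  have hAE : ψ5 A ≠ ψ5 E := fun h => by
    have hk : ψ5 (A * E) = 1 := by rw [map_mul, h, sq h5sq]
    obtain ⟨a, e, hke⟩ := hker _ (hψ5 _ hk)
    change s3 * s5 = el f φ (pb t6 a, e) at hke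
    have he : el f φ (pb t6 a, e) = σ * (φ (if a then mC u0 e0 else 1) * f (pb (sw6 4) e)) * σ⁻¹ := by
      rw [← hc2, el]
      congr 1
      · cases a
        · simp [pb, D.one]
        · exact ht
      · cases e
        · rw [model_rel.2.2.2.2.2.2.2, D.one]; simp [pb]
        · rw [model_rel.2.2.2.2.2.2.1]; exact hn
    rw [he, h3', hs5, hc2] at hke
    have hx : f (sw6 0 * sw6 2 * pb (sw6 4) e) = φ (if a then mC u0 e0 else 1) := by
      rw [map_mul f (sw6 0 * sw6 2), map_mul f (sw6 0), mul_left_cancel (mul_right_cancel hke), mul_assoc, ← map_mul,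
        show pb (sw6 4) e * pb (sw6 4) e = 1 by cases e; exact mul_one 1; exact hsq 4, map_one, mul_one]
    refine hnd e (mC_facts.2.2.2 _ fun κ => F.inj ?_)
    rw [map_mul f κ, map_mul f _ κ, hx]
    cases a
    · simp [D.one]
    · exact (D.comm_mC F u0 e0 κ).symm
  rcases perm5_rel (ψ5 A) (sq h33) (ψ5 B) (sq h44)
      (br (by show s3 * s4 * (s3 * s4) * (s3 * s4) = 1; rw [hs3, hs4]; simp only [← map_mul]; rw [h34', map_one]))
      (ψ5 C) (sq h22)
      (br (by show s3 * s2 * (s3 * s2) * (s3 * s2) = 1; rw [hs3, hs2]; simp only [← map_mul]; rw [h32', map_one]))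
      (cm (by show s4 * s2 = s2 * s4; rw [hs4, hs2, ← map_mul, ← map_mul, h24])) hBC
      (ψ5 E) (sq h5sq)
      (br (by
        show s4 * s5 * (s4 * s5) * (s4 * s5) = 1
        rw [h4', hs5, hc2, hc2, hc2]
        simp only [← map_mul]
        rw [h12', map_one, mul_one, mul_inv_cancel]))
      (cm (by show s3 * s5 = s5 * s3; rw [h3', hs5, hc2, hc2, ← map_mul, ← map_mul, h02])) hAE with h | h
  · -- the product of the two has square in the kernel
    have hk : ψ5 (E * C * E * C) = 1 := by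
      rw [map_mul, map_mul, map_mul, mul_assoc (ψ5 E) (ψ5 C), h, ← mul_assoc (ψ5 E) (ψ5 E), sq h5sq, one_mul,
        sq h22]
    obtain ⟨a, e, hke⟩ := hker _ (hψ5 _ hk)
    change s5 * s2 * s5 * s2 = el f φ (pb t6 a, e) at hke
    have hconj : s5 * el f φ (sw6 2, false) * s5⁻¹ = el f φ (pb t6 a * sw6 2, e) := by
      rw [show el f φ (pb t6 a * sw6 2, e) = el f φ (pb t6 a, e) * el f φ (sw6 2, false) by
        rw [D.el_mul S6 F, Bool.xor_false], ← hke, D.el_f S6 F, inv_eq_of_mul_eq_one_left h5sq, ← hs2,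
        mul_assoc (s5 * s2 * s5) s2, h22, mul_one]
    have hl := D.lab_not_apart S6 F (p := (sw6 2, false)) (p' := (pb t6 a * sw6 2, e)) (hsq 2) (hinv a) hconj
    rcases hapart a e with h' | ⟨rfl, rfl⟩
    · rw [h'] at hl; exact Bool.noConfusion hl
    · rw [show el f φ (pb t6 false, false) = 1 from D.el_one S6 F] at hke
      calc s2 * s5 = s5 * s5 * (s2 * s5) * (s2 * s2) := by rw [h5sq, h22, one_mul, mul_one]
        _ = s5 * (s5 * s2 * s5 * s2) * s2 := by group
        _ = s5 * s2 := by rw [hke, mul_one]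
  · -- the other case is impossible
    exfalso
    obtain ⟨a, e, hke⟩ := hker ((A * B * E * B * A)⁻¹ * C) (hψ5 _ (by
      rw [map_mul, map_inv, map_mul, map_mul, map_mul, map_mul, ← h, inv_mul_cancel]))
    set g := s3 * s4 * s5 * s4 * s3 with hg
    change g⁻¹ * s2 = el f φ (pb t6 a, e) at hke
    have ha : φ (jM (1, 0, 0)) = σ * φ (jM (0, 0, 1)) * σ⁻¹ := by rw [hσ, D.act' (inL_all _), ← hsc]; rfl
    have hfa : f cb = φ (jM (1, 0, 0)) := by rw [← hqa, F.agree, hqa']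
    have hga : Commute g (f cb) := by
      have hcom : ∀ x, Commute (σ * f x * σ⁻¹) (f cb) := fun x => by
        rw [hfa, ha]
        show _ * _ = _ * _
        rw [hc2, hc2, F.c x]
      rw [hg, h3', h4', hs5]
      exact ((((hcom _).mul_left (hcom _)).mul_left (hcom _)).mul_left (hcom _)).mul_left (hcom _)
    have hkn : el f φ (pb t6 a, e) * f cb * (el f φ (pb t6 a, e))⁻¹ = f (pb t6 a * cb * (pb t6 a)⁻¹) := by
      simp only [el, map_mul, map_inv]
      rw [show f (pb t6 a) * φ (mC 0 e) * f cb = f (pb t6 a) * (φ (mC 0 e) * f cb) by group, D.comm_mC F]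
      group
    have hs2k : s2 = g * el f φ (pb t6 a, e) := by rw [← hke, mul_inv_cancel_left]
    have heq : s2 * f cb * s2⁻¹ = g * f (pb t6 a * cb * (pb t6 a)⁻¹) * g⁻¹ := by
      rw [← hkn, hs2k]; group
    rw [inv_eq_of_mul_eq_one_left h22, hs2, ← map_mul, ← map_mul] at heq
    cases a
    · rw [show pb t6 false = 1 from rfl, one_mul, inv_one, mul_one, hga.eq, mul_inv_cancel_right] at heq
      exact hna (F.inj heq)
    · rw [show pb t6 true = t6 from rfl, hta, map_inv,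
        show g * (f cb)⁻¹ * g⁻¹ = (g * f cb * g⁻¹)⁻¹ by group, hga.eq, mul_inv_cancel_right, ← map_inv] at heq
      exact hna' (F.inj heq)

end Frame

end Cfsg.Agent.NineSym
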