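import Cfsg.Agent.Lib.NineSym.Lin
import Cfsg.Agent.Lib.NineSym.Model

/-!
# Tables for the possible automizers
-/

set_option autoImplicit false
set_option maxRecDepth 100000
set_option synthInstance.maxSize 10000

namespace Cfsg.Agent.NineSym

/-- The images of the basis under a function. -/
def matOf (f : Vec → Vec) : M3 := (f (1, 0, 0), f (0, 1, 0), f (0, 0, 1))

/-- The six permutation maps and their negatives. -/
def pmList : List M3 :=
  [((1, 0, 0), (0, 1, 0), (0, 0, 1)),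
   ((1, 0, 0), (0, 0, 1), (0, 1, 0)),
   ((0, 1, 0), (1, 0, 0), (0, 0, 1)),
   ((0, 1, 0), (0, 0, 1), (1, 0, 0)),
   ((0, 0, 1), (1, 0, 0), (0, 1, 0)),
   ((0, 0, 1), (0, 1, 0), (1, 0, 0)),
   ((2, 0, 0), (0, 2, 0), (0, 0, 2)),
   ((2, 0, 0), (0, 0, 2), (0, 2, 0)),
   ((0, 2, 0), (2, 0, 0), (0, 0, 2)),
   ((0, 2, 0), (0, 0, 2), (2, 0, 0)),
   ((0, 0, 2), (2, 0, 0), (0, 2, 0)),
   ((0, 0, 2), (0, 2, 0), (2, 0, 0))]

/-- The permutation maps. -/
def permList : List M3 := pmList.take 6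

/-- The maps of signed permutations with the given components allowed. -/
def Wok (ci cd : Bool) (w : Wt) : Prop := (w.e = true → ci = true) ∧ (w.k ≠ 0 → cd = true)

instance (ci cd : Bool) (w : Wt) : Decidable (Wok ci cd w) := inferInstanceAs (Decidable (_ ∧ _))

theorem permList_spec : (∀ m ∈ permList, ∃ p, m = matOf (pact p)) ∧ (∀ p, matOf (pact p) ∈ permList) ∧
    (∀ m ∈ pmList, (∃ p, m = matOf (pact p)) ∨ ∃ p, m = matOf fun v => -pact p v) ∧
    (∀ p, pact p xv = xv) := by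
  decide +kernel

/-- A map moving `xv` to `-xv` and normalizing the permutations is minus a permutation. -/
theorem neg_table : ∀ a b : Vec,
    (permList.any fun q => cmp (a, b, -xv - a - b) ((0, 1, 0), (0, 0, 1), (1, 0, 0)) == cmp q (a, b, -xv - a - b)) = true →
    (permList.any fun q => cmp (a, b, -xv - a - b) ((0, 1, 0), (1, 0, 0), (0, 0, 1)) == cmp q (a, b, -xv - a - b)) = true →
    (permList.any fun q => cmp (a, b, -xv - a - b) (a, b, -xv - a - b) == q) = true →
    (allVec.all fun t => t == 0 || app (a, b, -xv - a - b) t != 0) = true →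
    ∃ p, (a, b, -xv - a - b) = matOf (fun v => -pact p v) := by
  decide +kernel

/-- Words in a map sending `xv` to `(0, 1, 2)`. -/
def wordTest (m : M3) (ps : List ℕ) : Bool :=
  let W := ps.foldl (fun W p => cmp (cmp m (pmList.getD p m)) W) m
  let u := app W xv
  pmList.any fun q => app q u == xv && !permList.elem (cmp q W)

/-- The words used. -/
def wordPats : List (List ℕ) :=
  [[0, 1], [2, 1], [4, 1], [0, 1, 1], [2, 3], [4, 5], [0, 3], [0, 4], [4, 2], [1, 0, 0], [0, 2, 1],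
   [0, 5, 1], [3, 2, 2], [4, 5, 5], [2, 2, 3], [4, 5, 2], [4, 4, 1]]

/-- Some word is not a permutation but fixes `xv`. -/
theorem word_table : ∀ a b : Vec, (allVec.all fun t => t == 0 || app (a, b, (0, 1, 2) - a - b) t != 0) = true →
    (wordPats.any (wordTest (a, b, (0, 1, 2) - a - b))) = true := by
  decide +kernel

/-- The stabilizer of the orbit of eight. -/
theorem eight_table : ∀ y : Vec, inO 97 y = true → ∀ a b : Vec,
    (allVec.all fun t => !inO 97 t || inO 97 (app (a, b, y - a - b) t)) = true →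
    (allVec.all fun t => t == 0 || app (a, b, y - a - b) t != 0) = true →
    ∃ w : Wt, (a, b, y - a - b) = matOf (wact w) := by
  decide +kernel

/-- The stabilizer of the orbit of four. -/
theorem four_table : ∀ y : Vec, inO 64 y = true → ∀ a b : Vec,
    (allVec.all fun t => !inO 64 t || inO 64 (app (a, b, y - a - b) t)) = true →
    (allVec.all fun t => t == 0 || app (a, b, y - a - b) t != 0) = true →
    ∃ w : Wt, w.e = false ∧ (a, b, y - a - b) = matOf (wact w) := by
  decide +kernel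

/-- The orbits of the standard groups. -/
theorem orbit_reps : (∀ w : Wt, w.e = false → inO 64 (wact w xv) = true) ∧
    (∀ v : Vec, inO 64 v = true → ∃ w : Wt, w.e = false ∧ wact w xv = v) ∧
    (∀ v : Vec, inO 97 v = true → ∃ w : Wt, wact w xv = v) := by
  decide +kernel

theorem orb_facts : (∀ v : Vec, orbIdx v ≤ 9 ∧ (orbIdx v = 8 ↔ v = xv) ∧ (orbIdx v = 9 ↔ v = 0) ∧
      (orbIdx v = 0 ↔ v = -xv)) ∧
    (∀ u v : Vec, orbIdx u = orbIdx v → ∃ p, pact p u = v) ∧ orbIdx (0, 1, 2) = 7 ∧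
    orbIdx (-(0, 1, 2)) = 7 := by
  decide +kernel

theorem mask_of_bits : ∀ b0 b1 b2 b3 b4 b5 b6 : Bool, ∃ m : Fin 128, (m : ℕ).testBit 0 = b0 ∧
    (m : ℕ).testBit 1 = b1 ∧ (m : ℕ).testBit 2 = b2 ∧ (m : ℕ).testBit 3 = b3 ∧ (m : ℕ).testBit 4 = b4 ∧
    (m : ℕ).testBit 5 = b5 ∧ (m : ℕ).testBit 6 = b6 ∧ (m : ℕ).testBit 7 = false := by
  decide +kernel

/-- The change of coordinates. -/
def shiftV (k : ZMod 3) (v : Vec) : Vec :=
  (v.1 + k * (v.1 + v.2.1 + v.2.2), v.2.1 + k * (v.1 + v.2.1 + v.2.2), v.2.2 + k * (v.1 + v.2.1 + v.2.2))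

theorem shiftV_facts : (∀ k v, shiftV (-k) (shiftV k v) = v) ∧ (∀ v, shiftV 0 v = v) ∧
    (∀ k p v, shiftV k (pact p v) = pact p (shiftV k v)) ∧ (∀ k, shiftV k xv = xv) ∧
    (∀ k u v, shiftV k (u + v) = shiftV k u + shiftV k v) ∧
    (∀ v, inO 64 v = inO 8 (shiftV 1 v) ∧ inO 64 v = inO 4 (shiftV 2 v) ∧
      inO 97 v = inO 25 (shiftV 1 v) ∧ inO 97 v = inO 7 (shiftV 2 v)) := by
  decide +kernel

end Cfsg.Agent.NineSym
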