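import Cfsg.Agent.Lib.NineSym.Certs
import Cfsg.Agent.Lib.NineSym.WTables

/-!
# The possible automizers of the elementary abelian group of order 27
-/

set_option autoImplicit false
set_option maxRecDepth 100000
set_option linter.unusedSectionVars false

namespace Cfsg.Agent.NineSym

/-- A group of automorphisms with stabilizer of `xv` the permutations. -/
structure WSet (W : Set (Vec → Vec)) : Prop where
  add : ∀ f ∈ W, ∀ u v, f (u + v) = f u + f v
  comp : ∀ f ∈ W, ∀ g ∈ W, f ∘ g ∈ W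
  inv : ∀ f ∈ W, ∃ g ∈ W, g ∘ f = id ∧ f ∘ g = id
  perm : ∀ p, pact p ∈ W
  stab : ∀ f ∈ W, f xv = xv → ∃ p, f = pact p

namespace WSet

variable {W : Set (Vec → Vec)} (D : WSet W)
include D

theorem eq_of_mat {f g : Vec → Vec} (hf : f ∈ W) (hg : ∀ u v, g (u + v) = g u + g v)
    (h : matOf f = matOf g) : f = g :=
  funext fun v => by
    rw [app_of_add (D.add f hf) v, app_of_add hg v]
    exact congrArg (fun m => app m v) h

theorem app_mat {f : Vec → Vec} (hf : f ∈ W) (v : Vec) : app (matOf f) v = f v :=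
  (app_of_add (D.add f hf) v).symm

theorem mat_comp {f g : Vec → Vec} (hf : f ∈ W) : matOf (f ∘ g) = cmp (matOf f) (matOf g) :=
  Prod.ext (D.app_mat hf _).symm (Prod.ext (D.app_mat hf _).symm (D.app_mat hf _).symm)

theorem inj {f : Vec → Vec} (hf : f ∈ W) : Function.Injective f := by
  obtain ⟨g, -, h, -⟩ := D.inv f hf
  exact Function.LeftInverse.injective (g := g) fun x => congrFun h x

theorem zero {f : Vec → Vec} (hf : f ∈ W) : f 0 = 0 := by
  have := D.add f hf 0 0
  simpa using this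

theorem regular {f : Vec → Vec} (hf : f ∈ W) :
    (allVec.all fun t => t == 0 || app (matOf f) t != 0) = true := by
  simp only [List.all_eq_true, Bool.or_eq_true, beq_iff_eq, bne_iff_ne]
  intro t _
  refine or_iff_not_imp_left.2 fun ht e => ht ?_
  rw [D.app_mat hf] at e
  exact D.inj hf (e.trans (D.zero hf).symm)

theorem mat_third {f : Vec → Vec} (hf : f ∈ W) :
    matOf f = (f (1, 0, 0), f (0, 1, 0), f xv - f (1, 0, 0) - f (0, 1, 0)) := by
  refine Prod.ext rfl (Prod.ext rfl ?_)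
  show f (0, 0, 1) = _
  have h : f xv = f (1, 0, 0) + f (0, 1, 0) + f (0, 0, 1) := by
    rw [← D.add f hf, ← D.add f hf]
    rfl
  rw [h]; abel

theorem pact_add (p : Fin 6) (u v : Vec) : pact p (u + v) = pact p u + pact p v := D.add _ (D.perm p) u v

/-- The orbit of `xv`. -/
theorem orbit_trans {y : Vec} {f : Vec → Vec} (hf : f ∈ W) (hy : ∃ g ∈ W, g xv = y) :
    ∃ g ∈ W, g xv = f y := by
  obtain ⟨g, hg, rfl⟩ := hy
  exact ⟨f ∘ g, D.comp f hf g hg, rfl⟩

theorem neg_form {f : Vec → Vec} (hf : f ∈ W) (hfx : f xv = -xv) : ∃ p, f = fun v => -pact p v := by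
  obtain ⟨g, hg, hgf, hfg⟩ := D.inv f hf
  have hneg : ∀ h ∈ W, h (-xv) = -h xv := fun h hh => by
    refine eq_neg_of_add_eq_zero_left ?_
    rw [← D.add h hh, neg_add_cancel, D.zero hh]
  have hgneg : g (-xv) = xv := by rw [← hfx]; exact congrFun hgf xv
  have hgx : g xv = -xv := by
    have h1 := hneg g hg
    rw [hgneg] at h1
    exact neg_eq_iff_eq_neg.1 h1.symm
  have key : ∀ p, ∃ q, f ∘ pact p = pact q ∘ f := by
    intro p
    have hm : f ∘ pact p ∘ g ∈ W := D.comp f hf _ (D.comp _ (D.perm p) g hg)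
    obtain ⟨q, hq⟩ := D.stab _ hm (by
      show f (pact p (g xv)) = xv
      rw [hgx, hneg _ (D.perm p), permList_spec.2.2.2, hneg f hf, hfx, neg_neg])
    refine ⟨q, funext fun v => ?_⟩
    have h := congrFun hq (f v)
    simp only [Function.comp_apply] at h ⊢
    rw [← h, show g (f v) = v from congrFun hgf v]
  obtain ⟨q, hq⟩ := D.stab (f ∘ f) (D.comp f hf f hf) (by
    show f (f xv) = xv
    rw [hfx, hneg f hf, hfx, neg_neg])
  have hm := D.mat_third hf
  rw [hfx] at hm
  have hcomm : ∀ p, (permList.any fun q => cmp (matOf f) (matOf (pact p)) == cmp q (matOf f)) = true := by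
    intro p
    obtain ⟨q, hq⟩ := key p
    simp only [List.any_eq_true, beq_iff_eq]
    exact ⟨matOf (pact q), permList_spec.2.1 q, by rw [← D.mat_comp hf, ← D.mat_comp (D.perm q), hq]⟩
  obtain ⟨p, hp⟩ := neg_table (f (1, 0, 0)) (f (0, 1, 0))
    (by rw [← hm]; exact hcomm 1) (by rw [← hm]; exact hcomm 3)
    (by
      rw [← hm]
      simp only [List.any_eq_true, beq_iff_eq]
      exact ⟨matOf (pact q), permList_spec.2.1 q, by rw [← D.mat_comp hf, hq]⟩)
    (by rw [← hm]; exact D.regular hf)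
  exact ⟨p, D.eq_of_mat hf (fun u v => by simp [D.pact_add]; abel) (hm.trans hp)⟩

theorem neg_mem {f : Vec → Vec} (hf : f ∈ W) (hfx : f xv = -xv) (p : Fin 6) :
    (fun v => -pact p v) ∈ W := by
  obtain ⟨q, rfl⟩ := D.neg_form hf hfx
  obtain ⟨g, hg, hgf, -⟩ := D.inv _ (D.perm q)
  have h : ((fun v => -pact q v) ∘ g) ∘ pact p ∈ W := D.comp _ (D.comp _ hf g hg) _ (D.perm p)
  have hqg : ∀ v, pact q (g v) = v := fun v => by
    obtain ⟨g', hg', h1, h2⟩ := D.inv g hg
    have : pact q = g' := funext fun u => by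
      have := congrArg g' (congrFun hgf u)
      simp only [Function.comp_apply, id] at this
      rw [show g' (g (pact q u)) = pact q u from congrFun h1 _] at this
      exact this
    rw [this]; exact congrFun h1 v
  convert h using 1
  funext v
  simp [hqg]

/-- The orbit avoids the six vectors `(0, 1, 2)` and its images. -/
theorem no_six {f : Vec → Vec} (hf : f ∈ W) (hfx : f xv = (0, 1, 2)) : False := by
  obtain ⟨g, hg, hgf, hfg⟩ := D.inv f hf
  have hgy : g (0, 1, 2) = xv := by rw [← hfx]; exact congrFun hgf xv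
  obtain ⟨p, hp⟩ := orb_facts.2.1 (0, 1, 2) (-(0, 1, 2)) (by rw [orb_facts.2.2.1, orb_facts.2.2.2])
  have hneg : (g ∘ pact p ∘ f) xv = -xv := by
    show g (pact p (f xv)) = _
    rw [hfx, hp]
    refine eq_neg_of_add_eq_zero_left ?_
    rw [← hgy, ← D.add g hg, neg_add_cancel, D.zero hg]
  have hnW : g ∘ pact p ∘ f ∈ W := D.comp g hg _ (D.comp _ (D.perm p) f hf)
  have hpm : ∀ m ∈ pmList, ∃ h ∈ W, m = matOf h := by
    intro m hm
    rcases permList_spec.2.2.1 m hm with ⟨q, e⟩ | ⟨q, e⟩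
    · exact ⟨_, D.perm q, e⟩
    · exact ⟨_, D.neg_mem hnW hneg q, e⟩
  have hfm := D.mat_third hf
  rw [hfx] at hfm
  have ht := word_table _ _ (by rw [← hfm]; exact D.regular hf)
  rw [← hfm] at ht
  simp only [List.any_eq_true] at ht
  obtain ⟨ps, -, hps⟩ := ht
  have hW : ∀ (ps : List ℕ) (m : M3), (∃ h ∈ W, m = matOf h) →
      ∃ h ∈ W, ps.foldl (fun W p => cmp (cmp (matOf f) (pmList.getD p (matOf f))) W) m = matOf h := by
    intro ps
    induction ps with
    | nil => exact fun m h => h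
    | cons p ps ih =>
      rintro m ⟨h, hh, rfl⟩
      refine ih _ ?_
      obtain ⟨k, hk, e⟩ : ∃ k ∈ W, pmList.getD p (matOf f) = matOf k := by
        rw [List.getD_eq_getElem?_getD]
        cases hp : pmList[p]? with
        | none => exact ⟨f, hf, rfl⟩
        | some m => exact hpm m (List.mem_of_getElem? hp)
      refine ⟨(f ∘ k) ∘ h, D.comp _ (D.comp f hf k hk) h hh, ?_⟩
      show cmp (cmp (matOf f) (pmList.getD p (matOf f))) (matOf h) = _
      rw [e, D.mat_comp (D.comp f hf k hk), D.mat_comp hf]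
  obtain ⟨h, hh, e⟩ := hW ps (matOf f) ⟨f, hf, rfl⟩
  simp only [wordTest, e, List.any_eq_true, Bool.and_eq_true, beq_iff_eq, Bool.not_eq_true',
    List.elem_eq_mem, decide_eq_false_iff_not] at hps
  obtain ⟨m, hm, hmx, hmS⟩ := hps
  obtain ⟨k, hk, rfl⟩ := hpm m hm
  rw [D.app_mat hh, D.app_mat hk] at hmx
  obtain ⟨q, hq⟩ := D.stab (k ∘ h) (D.comp k hk h hh) hmx
  rw [← D.mat_comp hk, hq] at hmS
  exact hmS (permList_spec.2.1 q)

/-- The orbit is one of eight bit patterns. -/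
theorem exists_mask : ∃ m : ℕ, m ∈ [0, 1, 64, 97, 8, 25, 4, 7] ∧
    ∀ v, (∃ f ∈ W, f xv = v) ↔ inO m v = true := by
  classical
  let P : Vec → Prop := fun v => ∃ f ∈ W, f xv = v
  have hP : ∀ u v, orbIdx u = orbIdx v → P u → P v := fun u v h hu => by
    obtain ⟨p, hp⟩ := orb_facts.2.1 u v h
    exact hp ▸ D.orbit_trans (D.perm p) hu
  obtain ⟨⟨m, hm⟩, h0, h1, h2, h3, h4, h5, h6, h7⟩ := mask_of_bits
    (decide (∃ v, orbIdx v = 0 ∧ P v)) (decide (∃ v, orbIdx v = 1 ∧ P v))
    (decide (∃ v, orbIdx v = 2 ∧ P v)) (decide (∃ v, orbIdx v = 3 ∧ P v))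
    (decide (∃ v, orbIdx v = 4 ∧ P v)) (decide (∃ v, orbIdx v = 5 ∧ P v))
    (decide (∃ v, orbIdx v = 6 ∧ P v))
  simp only at h0 h1 h2 h3 h4 h5 h6 h7
  have hmem : ∀ v, P v ↔ inO m v = true := by
    intro v
    obtain ⟨hle, h8, h9, -⟩ := orb_facts.1 v
    have hz : orbIdx v = 9 → ¬ P v := by
      rintro h ⟨f, hf, e⟩
      rw [h9.1 h] at e
      exact absurd (D.inj hf (e.trans (D.zero hf).symm)) (by decide)
    have h7' : orbIdx v = 7 → ¬ P v := fun h hv => by
      obtain ⟨f, hf, e⟩ := hP v (0, 1, 2) (h.trans orb_facts.2.2.1.symm) hv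
      exact D.no_six hf e
    have hx : orbIdx v = 8 → P v := fun h => ⟨pact 0, D.perm 0, by rw [h8.1 h]; exact permList_spec.2.2.2 0⟩
    have hb : ∀ i, orbIdx v = i → (decide (∃ u, orbIdx u = i ∧ P u) = true ↔ P v) := fun i hi => by
      rw [decide_eq_true_iff]
      exact ⟨fun ⟨u, hu, hPu⟩ => hP u v (hu.trans hi.symm) hPu, fun h => ⟨v, hi, h⟩⟩
    unfold inO
    generalize hi : orbIdx v = i at hle hz h7' hx hb
    interval_cases i
    all_goals simp_all
  refine ⟨m, ?_, fun v => hmem v⟩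
  rcases certs_cover ⟨m, hm⟩ with h | h
  · exact h
  exfalso
  obtain ⟨⟨m', y, P', Q', ts⟩, hc, hcm⟩ := List.mem_map.1 h
  simp only at hcm
  subst m'
  have hok := List.all_eq_true.1 certs_ok _ hc
  simp only [certOK, Bool.and_eq_true, List.all_eq_true, List.mem_filter, List.any_eq_true] at hok
  obtain ⟨⟨⟨hy, hP1⟩, hQ1⟩, hall⟩ := hok
  obtain ⟨f, hf, hfy⟩ := (hmem y).2 hy
  have hO : ∀ u, inO m u = true → inO m (f u) = true := fun u hu =>
    (hmem _).1 (D.orbit_trans hf ((hmem u).2 hu))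
  obtain ⟨t, -, ht⟩ := hall (f P') ⟨mem_allVec _, hO _ hP1⟩ (f Q') ⟨mem_allVec _, hO _ hQ1⟩
  have hlin : app (y, f P', f Q') t = f (app (xv, P', Q') t) := by
    have : (y, f P', f Q') = cmp (matOf f) (xv, P', Q') := by
      simp only [cmp, D.app_mat hf, hfy]
    rw [this, app_cmp, D.app_mat hf]
  simp only [kills, Bool.or_eq_true, Bool.and_eq_true, bne_iff_ne, beq_iff_eq, Bool.not_eq_true'] at ht
  rcases ht with ⟨ht0, ht1⟩ | ⟨ht0, ht1⟩
  · rw [hlin] at ht1
    exact ht0 (D.inj hf (ht1.trans (D.zero hf).symm))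
  · rw [hlin, hO _ ht0] at ht1
    exact absurd ht1 (by decide)

/-- Conjugation by a change of coordinates. -/
theorem shift (k : ZMod 3) : WSet {f | shiftV k ∘ f ∘ shiftV (-k) ∈ W} := by
  obtain ⟨hinv, -, hp, hx, hadd, -⟩ := shiftV_facts
  have hi : ∀ v, shiftV k (shiftV (-k) v) = v := fun v => by simpa using hinv (-k) v
  have hcomp : ∀ f g : Vec → Vec, shiftV k ∘ (f ∘ g) ∘ shiftV (-k) =
      (shiftV k ∘ f ∘ shiftV (-k)) ∘ (shiftV k ∘ g ∘ shiftV (-k)) := fun f g => funext fun v => by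
    simp [hinv]
  refine ⟨fun f hf u v => ?_, fun f hf g hg => ?_, fun f hf => ?_, fun p => ?_, fun f hf hfx => ?_⟩
  · have h := D.add _ hf (shiftV k u) (shiftV k v)
    simp only [Function.comp_apply, ← hadd, hinv] at h
    simpa [hinv, hadd] using congrArg (shiftV (-k)) h
  · show shiftV k ∘ (f ∘ g) ∘ shiftV (-k) ∈ W
    rw [hcomp]
    exact D.comp _ hf _ hg
  · obtain ⟨g, hg, h1, h2⟩ := D.inv _ hf
    refine ⟨shiftV (-k) ∘ g ∘ shiftV k, ?_, funext fun v => ?_, funext fun v => ?_⟩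
    · show shiftV k ∘ (shiftV (-k) ∘ g ∘ shiftV k) ∘ shiftV (-k) ∈ W
      convert hg using 1
      funext v
      simp [hi]
    · have := congrFun h1 (shiftV k v)
      simp only [Function.comp_apply, hinv, id] at this ⊢
      rw [this, hinv]
    · have := congrFun h2 (shiftV k v)
      simp only [Function.comp_apply, id] at this ⊢
      simpa [hinv] using congrArg (shiftV (-k)) this
  · show shiftV k ∘ pact p ∘ shiftV (-k) ∈ W
    convert D.perm p using 1
    funext v
    simp [hp, hi]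
  · obtain ⟨p, hq⟩ := D.stab _ hf (by simp [hx, hfx])
    refine ⟨p, funext fun v => ?_⟩
    have := congrArg (shiftV (-k)) (congrFun hq (shiftV k v))
    simpa [hinv, hp] using this

/-- The group generated by the permutations and one more component. -/
theorem eq_of_orbit {ci cd : Bool}
    (hto : ∀ f ∈ W, ∃ w, Wok ci cd w ∧ f = wact w)
    (hor : ∀ w, Wok ci cd w → ∃ f ∈ W, f xv = wact w xv) :
    ∀ f, f ∈ W ↔ ∃ w, Wok ci cd w ∧ f = wact w := by
  refine fun f => ⟨hto f, ?_⟩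
  rintro ⟨w, hw, rfl⟩
  obtain ⟨g, hg, e⟩ := hor w hw
  obtain ⟨w', -, rfl⟩ := hto g hg
  obtain ⟨p, rfl⟩ := (by decide +kernel : ∀ w w' : Wt, wact w' xv = wact w xv → ∃ p, w = w' * ⟨false, 0, p⟩) w w' e
  have hp : wact ⟨false, 0, p⟩ = pact p := funext fun v => by simp [wact, eact, dact]
  convert D.comp _ hg _ (D.perm p) using 1
  funext v
  rw [wact_mul, hp]
  rfl

/-- The normalized orbits. -/
theorem classify_mask {m : ℕ} (h : ∀ v, (∃ f ∈ W, f xv = v) ↔ inO m v = true)
    (hm : m = 0 ∨ m = 1 ∨ m = 64 ∨ m = 97) :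
    ∃ ci cd : Bool, ∀ f, f ∈ W ↔ ∃ w, Wok ci cd w ∧ f = wact w := by
  have hO : ∀ f ∈ W, ∀ v, inO m v = true → inO m (f v) = true := fun f hf v hv =>
    (h _).1 (D.orbit_trans hf ((h v).2 hv))
  have hpw : ∀ p, wact ⟨false, 0, p⟩ = pact p := fun p => funext fun v => by simp [wact, eact, dact]
  have hnw : ∀ p, wact ⟨true, 0, p⟩ = fun v => -pact p v := fun p => funext fun v => by simp [wact, eact, dact]
  have hall : ∀ f ∈ W, (allVec.all fun t => !inO m t || inO m (app (matOf f) t)) = true := fun f hf => by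
    simp only [List.all_eq_true, Bool.or_eq_true, Bool.not_eq_true']
    intro t _
    cases hin : inO m t
    · exact Or.inl rfl
    · exact Or.inr (by rw [D.app_mat hf]; exact hO f hf t hin)
  rcases hm with rfl | rfl | rfl | rfl
  · refine ⟨false, false, D.eq_of_orbit (fun f hf => ?_) fun w hw => ?_⟩
    · have hfx : f xv = xv :=
        (by decide +kernel : ∀ v, inO 0 v = true → v = xv) _ ((h _).1 ⟨f, hf, rfl⟩)
      obtain ⟨p, rfl⟩ := D.stab f hf hfx
      exact ⟨_, ⟨by simp, by simp⟩, (hpw p).symm⟩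
    · exact (h _).2 ((by decide +kernel : ∀ w, Wok false false w → inO 0 (wact w xv) = true) w hw)
  · refine ⟨true, false, D.eq_of_orbit (fun f hf => ?_) fun w hw => ?_⟩
    · rcases (by decide +kernel : ∀ v, inO 1 v = true → v = xv ∨ v = -xv) _ ((h _).1 ⟨f, hf, rfl⟩) with e | e
      · obtain ⟨p, rfl⟩ := D.stab f hf e
        exact ⟨_, ⟨by simp, by simp⟩, (hpw p).symm⟩
      · obtain ⟨p, rfl⟩ := D.neg_form hf e
        exact ⟨_, ⟨by simp, by simp⟩, (hnw p).symm⟩
    · exact (h _).2 ((by decide +kernel : ∀ w, Wok true false w → inO 1 (wact w xv) = true) w hw)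
  · refine ⟨false, true, D.eq_of_orbit (fun f hf => ?_) fun w hw => ?_⟩
    · obtain ⟨w, he, hw⟩ := four_table (f xv) ((h _).1 ⟨f, hf, rfl⟩) (f (1, 0, 0)) (f (0, 1, 0))
        (by rw [← D.mat_third hf]; exact hall f hf) (by rw [← D.mat_third hf]; exact D.regular hf)
      exact ⟨w, ⟨by simp [he], by simp⟩, D.eq_of_mat hf (wact_add w) ((D.mat_third hf).trans hw)⟩
    · exact (h _).2 ((by decide +kernel : ∀ w, Wok false true w → inO 64 (wact w xv) = true) w hw)
  · refine ⟨true, true, D.eq_of_orbit (fun f hf => ?_) fun w hw => ?_⟩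
    · obtain ⟨w, hw⟩ := eight_table (f xv) ((h _).1 ⟨f, hf, rfl⟩) (f (1, 0, 0)) (f (0, 1, 0))
        (by rw [← D.mat_third hf]; exact hall f hf) (by rw [← D.mat_third hf]; exact D.regular hf)
      exact ⟨w, ⟨by simp, by simp⟩, D.eq_of_mat hf (wact_add w) ((D.mat_third hf).trans hw)⟩
    · exact (h _).2 ((by decide +kernel : ∀ w, Wok true true w → inO 97 (wact w xv) = true) w hw)

/-- The four possible groups, up to a change of coordinates fixing `xv`. -/
theorem classify : ∃ (k : ZMod 3) (ci cd : Bool),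
    ∀ f, f ∈ W ↔ ∃ w, Wok ci cd w ∧ f = shiftV k ∘ wact w ∘ shiftV (-k) := by
  obtain ⟨hinv, -, -, hx, -, hmask⟩ := shiftV_facts
  obtain ⟨m, hm, h⟩ := D.exists_mask
  have key : ∀ (k : ZMod 3) (m0 : ℕ), (m0 = 0 ∨ m0 = 1 ∨ m0 = 64 ∨ m0 = 97) →
      (∀ v, inO m0 v = inO m (shiftV k v)) → ∃ (k : ZMod 3) (ci cd : Bool),
      ∀ f, f ∈ W ↔ ∃ w, Wok ci cd w ∧ f = shiftV k ∘ wact w ∘ shiftV (-k) := by
    intro k m0 hm0 heq
    have hi : ∀ v, shiftV k (shiftV (-k) v) = v := fun v => by simpa using hinv (-k) v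
    obtain ⟨ci, cd, hc⟩ := (D.shift k).classify_mask (m := m0) (fun v => by
      rw [heq, ← h]
      constructor
      · rintro ⟨f, hf, e⟩
        exact ⟨_, hf, by simp [hx, e]⟩
      · rintro ⟨f, hf, e⟩
        refine ⟨shiftV (-k) ∘ f ∘ shiftV k, ?_, by simp [hx, e, hinv]⟩
        show shiftV k ∘ (shiftV (-k) ∘ f ∘ shiftV k) ∘ shiftV (-k) ∈ W
        convert hf using 1
        funext u
        simp [hi]) hm0
    refine ⟨k, ci, cd, fun f => ⟨fun hf => ?_, ?_⟩⟩
    · have hmem : shiftV (-k) ∘ f ∘ shiftV k ∈ {g | shiftV k ∘ g ∘ shiftV (-k) ∈ W} := by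
        show shiftV k ∘ (shiftV (-k) ∘ f ∘ shiftV k) ∘ shiftV (-k) ∈ W
        convert hf using 1
        funext u
        simp [hi]
      obtain ⟨w, hw, e⟩ := (hc _).1 hmem
      refine ⟨w, hw, funext fun u => ?_⟩
      simp [← e, hi]
    · rintro ⟨w, hw, rfl⟩
      exact (hc _).2 ⟨w, hw, rfl⟩
  simp only [List.mem_cons, List.not_mem_nil, or_false] at hm
  rcases hm with rfl | rfl | rfl | rfl | rfl | rfl | rfl | rfl
  · exact key 0 0 (by simp) (fun v => by rw [shiftV_facts.2.1])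
  · exact key 0 1 (by simp) (fun v => by rw [shiftV_facts.2.1])
  · exact key 0 64 (by simp) (fun v => by rw [shiftV_facts.2.1])
  · exact key 0 97 (by simp) (fun v => by rw [shiftV_facts.2.1])
  · exact key 1 64 (by simp) (fun v => (hmask v).1)
  · exact key 1 97 (by simp) (fun v => (hmask v).2.2.1)
  · exact key 2 64 (by simp) (fun v => (hmask v).2.1)
  · exact key 2 97 (by simp) (fun v => (hmask v).2.2.2)

end WSet

end Cfsg.Agent.NineSym
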