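import Cfsg.Agent.Lib.NineSym.Setup
import Cfsg.Agent.Lib.NineSym.WClass

/-!
# The normalizer of the elementary abelian subgroup controls its fusion
-/

set_option autoImplicit false
set_option linter.style.haveILetI false
set_option linter.unusedSectionVars false
set_option maxRecDepth 100000
set_option synthInstance.maxSize 10000

namespace Cfsg.Agent.NineSym

open Subgroup

theorem pp_facts : (∀ p, pmul 0 p = p ∧ pmul p 0 = p) ∧ (∀ p : Fin 6, ∃ q, pmul q p = 0) ∧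
    (∀ p : Fin 6, p = 0 ∨ p = 1 ∨ p = 2 ∨ pmul p p = 0) ∧ (∀ p, ∀ v : V3, pact p v = v ↔ pact p v + 0 = v) ∧
    (∀ p, pact p (1, 1, 1) = (1, 1, 1)) ∧ pmul 1 1 = 2 ∧ pmul 1 (pmul 1 1) = 0 := by
  decide +kernel

theorem pact_faithful' : ∀ p : Fin 6, (∀ v, pact p v = v) → p = 0 := fun p h => pact_faithful p (h _) (h _)

variable {G : Type*} [Group G] [Finite G] {J : Subgroup G} {θ : V3 → G} {sp : Fin 6 → G}

/-- The automorphisms induced by the normalizer. -/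
def autSet (J : Subgroup G) (θ : V3 → G) : Set (Vec → Vec) :=
  {f | ∃ g ∈ normalizer (J : Set G), ∀ v, g * θ v * g⁻¹ = θ (f v)}

namespace Base

variable (B : Base J θ sp)
include B

theorem th_zero : θ 0 = 1 := by
  have h := B.tadd 0 0
  rw [add_zero] at h
  exact mul_eq_left.1 h.symm

theorem th_neg (v : V3) : θ (-v) = (θ v)⁻¹ :=
  eq_inv_of_mul_eq_one_left (by rw [← B.tadd, neg_add_cancel, B.th_zero])

theorem th_comm (u v : V3) : θ u * θ v = θ v * θ u := by rw [← B.tadd, ← B.tadd, add_comm]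

theorem th_mem (v : V3) : θ v ∈ J := (B.memJ _).2 ⟨v, rfl⟩

theorem sp_zero : sp 0 = 1 := by
  have h := B.smul 0 0
  rw [show pmul 0 0 = (0 : Fin 6) from rfl] at h
  exact mul_eq_left.1 h.symm

theorem th_cube (v : V3) : θ v ^ 3 = 1 := by
  rw [pow_succ, pow_two, ← B.tadd, ← B.tadd,
    (by decide +kernel : ∀ v : V3, v + v + v = 0) v, B.th_zero]

theorem isP_J : IsPGroup 3 J := fun g => by
  obtain ⟨v, hv⟩ := (B.memJ _).1 g.2
  exact ⟨1, Subtype.ext (by rw [Subgroup.coe_pow, ← hv, pow_one, B.th_cube]; rfl)⟩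

theorem card_J : Nat.card J = 27 := by
  rw [← Nat.card_eq_of_bijective (fun v => (⟨θ v, B.th_mem v⟩ : J)) ⟨fun u v e => B.tinj (congrArg Subtype.val e),
    fun g => by obtain ⟨v, hv⟩ := (B.memJ _).1 g.2; exact ⟨v, Subtype.ext hv⟩⟩]
  simp

theorem mem_normalizer_of {g : G} (h : ∀ v, g * θ v * g⁻¹ ∈ J) : g ∈ normalizer (J : Set G) := by
  refine mem_normalizer_iff_map_conj_eq.2 (eq_of_le_of_card_ge ?_ (by
    rw [card_map_of_injective (MulEquiv.injective _)]))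
  rintro _ ⟨j, hj, rfl⟩
  obtain ⟨v, rfl⟩ := (B.memJ j).1 hj
  exact h v

theorem sp_mem (p : Fin 6) : sp p ∈ normalizer (J : Set G) :=
  B.mem_normalizer_of fun v => by rw [B.act]; exact B.th_mem _

theorem elem_mem_normalizer (v : V3) (p : Fin 6) : θ v * sp p ∈ normalizer (J : Set G) :=
  mul_mem (le_normalizer (B.th_mem v)) (B.sp_mem p)

theorem cent_le {g : G} (hg : g * θ (1, 1, 1) = θ (1, 1, 1) * g) : g ∈ normalizer (J : Set G) := by
  obtain ⟨v, p, rfl⟩ := B.cent g hg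
  exact B.elem_mem_normalizer v p

theorem conj_elem (v : V3) (p : Fin 6) (u : V3) : θ v * sp p * θ u * (θ v * sp p)⁻¹ = θ (pact p u) := by
  rw [show θ v * sp p * θ u * (θ v * sp p)⁻¹ = θ v * (sp p * θ u * (sp p)⁻¹) * (θ v)⁻¹ by group, B.act,
    B.th_comm, mul_inv_cancel_right]

theorem mul_elem (v : V3) (p : Fin 6) (u : V3) (q : Fin 6) :
    θ v * sp p * (θ u * sp q) = θ (v + pact p u) * sp (pmul p q) := by
  rw [B.tadd, ← B.act, B.smul]; group

theorem elem_inj {v u : V3} {p q : Fin 6} (h : θ v * sp p = θ u * sp q) : v = u ∧ p = q := by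
  obtain ⟨r, hr⟩ := pp_facts.2.1 q
  have h0 : pmul p r = 0 ∧ pmul q r = 0 → p = q :=
    (by decide +kernel : ∀ p q r : Fin 6, pmul p r = 0 ∧ pmul q r = 0 → p = q) p q r
  have hqr : pmul q r = 0 := (by decide +kernel : ∀ q r : Fin 6, pmul r q = 0 → pmul q r = 0) q r hr
  have h1 : θ v * sp (pmul p r) = θ u * sp (pmul q r) := by rw [B.smul, B.smul, ← mul_assoc, h, mul_assoc]
  rw [hqr, B.sp_zero, mul_one] at h1
  have hs : sp (pmul p r) = θ (-v + u) := by
    rw [B.tadd, B.th_neg, ← h1, inv_mul_cancel_left]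
  have hp := B.sinj _ _ hs
  obtain rfl := h0 ⟨hp, hqr⟩
  exact ⟨B.tinj (mul_right_cancel h), rfl⟩

theorem eq_theta_of_comm {g : G} (h : ∀ v, g * θ v = θ v * g) : ∃ u, θ u = g := by
  obtain ⟨v, p, rfl⟩ := B.cent g (h _)
  have hp : p = 0 := pact_faithful' p fun u => B.tinj (by
    rw [← B.conj_elem v p u, h u, mul_inv_cancel_right])
  exact ⟨v, by rw [hp, B.sp_zero, mul_one]⟩

/-- The centralizer of `J` is `J`. -/
theorem cJ {g : G} (h : ∀ j ∈ J, g * j = j * g) : g ∈ J := by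
  obtain ⟨u, rfl⟩ := B.eq_theta_of_comm fun v => h _ (B.th_mem v)
  exact B.th_mem u

/-- The Sylow subgroup. -/
def sylP : Subgroup G where
  carrier := {g | ∃ v p, (p = 0 ∨ p = 1 ∨ p = 2) ∧ g = θ v * sp p}
  one_mem' := ⟨0, 0, Or.inl rfl, by rw [B.th_zero, B.sp_zero, one_mul]⟩
  mul_mem' := by
    rintro _ _ ⟨v, p, hp, rfl⟩ ⟨u, q, hq, rfl⟩
    exact ⟨_, pmul p q, by rcases hp with rfl | rfl | rfl <;> rcases hq with rfl | rfl | rfl <;> decide,
      B.mul_elem v p u q⟩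
  inv_mem' := by
    rintro _ ⟨v, p, hp, rfl⟩
    refine ⟨pact (pinv p) (-v), pinv p, by rcases hp with rfl | rfl | rfl <;> decide, ?_⟩
    refine inv_eq_of_mul_eq_one_left ?_
    rw [B.mul_elem, show pmul (pinv p) p = 0 by revert p; decide +kernel,
      (by decide +kernel : ∀ p v, pact (pinv p) (-v) + pact (pinv p) v = 0) p v, B.th_zero, B.sp_zero, one_mul]

theorem mem_sylP {g : G} : g ∈ B.sylP ↔ ∃ v p, (p = 0 ∨ p = 1 ∨ p = 2) ∧ g = θ v * sp p := Iff.rfl

theorem J_le_sylP : J ≤ B.sylP := fun g hg => by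
  obtain ⟨v, rfl⟩ := (B.memJ g).1 hg
  exact ⟨v, 0, Or.inl rfl, by rw [B.sp_zero, mul_one]⟩

theorem sylP_isP : IsPGroup 3 B.sylP := by
  rintro ⟨g, v, p, hp, rfl⟩
  refine ⟨2, Subtype.ext ?_⟩
  obtain ⟨w, hw⟩ : ∃ w, (θ v * sp p) ^ 3 = θ w := by
    refine ⟨v + pact p (v + pact p v), ?_⟩
    rw [pow_succ', pow_two, B.mul_elem, B.mul_elem,
      show pmul p (pmul p p) = 0 by rcases hp with rfl | rfl | rfl <;> rfl, B.sp_zero, mul_one]
  show (θ v * sp p) ^ (3 ^ 2) = 1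
  rw [show (3 : ℕ) ^ 2 = 3 * 3 from rfl, pow_mul, hw, B.th_cube]

/-- `P` is a Sylow subgroup. -/
theorem sylow_top : SylowAt ⊤ B.sylP := by
  refine .of_normalizer le_top B.sylP_isP fun g _ hg hpg => ?_
  obtain ⟨k, hk⟩ := hpg
  have hx : θ (1, 1, 1) ∈ B.sylP := B.J_le_sylP (B.th_mem _)
  obtain ⟨v, p, hp, hc⟩ : g * θ (1, 1, 1) * g⁻¹ ∈ B.sylP := (mem_normalizer_iff.1 hg _).1 hx
  have hcen : ∀ u q, (q = 0 ∨ q = 1 ∨ q = 2) → θ v * sp p * (θ u * sp q) = θ u * sp q * (θ v * sp p) := by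
    intro u q hq
    obtain ⟨u', q', hq', e⟩ : g⁻¹ * (θ u * sp q) * g ∈ B.sylP := by
      have := (mem_normalizer_iff.1 (inv_mem hg) _).1 (show θ u * sp q ∈ B.sylP from ⟨u, q, hq, rfl⟩)
      simpa using this
    have hc' : θ (1, 1, 1) * (θ u' * sp q') = θ u' * sp q' * θ (1, 1, 1) := by
      have h1 := B.conj_elem u' q' (1, 1, 1)
      rw [pp_facts.2.2.2.2.1, mul_inv_eq_iff_eq_mul] at h1
      exact h1.symm
    rw [← e] at hc'
    rw [← hc]
    calc g * θ (1, 1, 1) * g⁻¹ * (θ u * sp q) = g * (θ (1, 1, 1) * (g⁻¹ * (θ u * sp q) * g)) * g⁻¹ := by group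
      _ = g * (g⁻¹ * (θ u * sp q) * g * θ (1, 1, 1)) * g⁻¹ := by rw [hc']
      _ = _ := by group
  have hp0 : p = 0 := by
    have hJ : ∀ w, θ v * sp p * θ w = θ w * (θ v * sp p) := fun w => by
      have := hcen w 0 (Or.inl rfl)
      rwa [B.sp_zero, mul_one] at this
    exact pact_faithful' p fun w => B.tinj (by rw [← B.conj_elem v p w, hJ, mul_inv_cancel_right])
  subst hp0
  have hv : pact 1 v = v := by
    have h := hcen 0 1 (Or.inr (Or.inl rfl))
    rw [B.sp_zero, mul_one, B.th_zero, one_mul] at h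
    exact B.tinj ((B.act 1 v).symm.trans (by rw [← h, mul_inv_cancel_right]))
  rw [B.sp_zero, mul_one] at hc
  have hgen : ∀ u : V3, pact 1 u = u → u ≠ 0 → u = (1, 1, 1) ∨ u = -(1, 1, 1) := by decide +kernel
  have hfix : g * θ (1, 1, 1) * g⁻¹ = θ (1, 1, 1) := by
    rcases hgen v hv (fun e => by
      rw [e, B.th_zero, conj_eq_one_iff, ← B.th_zero] at hc
      exact absurd (B.tinj hc) (by decide)) with rfl | rfl
    · exact hc
    · exfalso
      rw [B.th_neg] at hc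
      have hj : ∀ j : ℕ, g ^ (2 * j + 1) * θ (1, 1, 1) * (g ^ (2 * j + 1))⁻¹ = (θ (1, 1, 1))⁻¹ := by
        intro j
        induction j with
        | zero => simpa using hc
        | succ j ih =>
          rw [show 2 * (j + 1) + 1 = 2 + (2 * j + 1) by ring, pow_add,
            show g ^ 2 * g ^ (2 * j + 1) * θ (1, 1, 1) * (g ^ 2 * g ^ (2 * j + 1))⁻¹ =
              g * (g * (g ^ (2 * j + 1) * θ (1, 1, 1) * (g ^ (2 * j + 1))⁻¹) * g⁻¹) * g⁻¹ by
              rw [pow_two]; group, ih, ← conj_inv, hc, inv_inv, hc]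
      have hodd : Odd (3 ^ k) := Odd.pow ⟨1, rfl⟩
      obtain ⟨j, hj'⟩ := hodd
      have := hj j
      rw [← hj', hk, inv_one, mul_one, one_mul, ← B.th_neg] at this
      exact absurd (B.tinj this) (by decide)
  obtain ⟨u, q, rfl⟩ := B.cent g (mul_inv_eq_iff_eq_mul.1 hfix)
  refine ⟨u, q, ?_, rfl⟩
  rcases pp_facts.2.2.1 q with h | h | h | h
  · exact Or.inl h
  · exact Or.inr (Or.inl h)
  · exact Or.inr (Or.inr h)
  have hmem : θ u * sp q ∈ B.sylP := by
    have h2 : (θ u * sp q) * (θ u * sp q) ∈ B.sylP := by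
      rw [B.mul_elem, h, B.sp_zero, mul_one]
      exact B.J_le_sylP (B.th_mem _)
    obtain ⟨j, hj'⟩ : Odd (3 ^ k) := Odd.pow ⟨1, rfl⟩
    have h1 : θ u * sp q = ((θ u * sp q * (θ u * sp q)) ^ j)⁻¹ := by
      refine eq_inv_of_mul_eq_one_right ?_
      rw [← pow_two, ← pow_mul, ← pow_succ, ← hj', hk]
    rw [h1]
    exact inv_mem (pow_mem h2 j)
  obtain ⟨u', q', hq', e⟩ := hmem
  obtain ⟨-, rfl⟩ := B.elem_inj e
  exact hq'

/-- An abelian subgroup of order 27 centralizing `x` is `J`. -/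
theorem abelian_le (A : Subgroup G) (hA : ∀ a ∈ A, a * θ (1, 1, 1) = θ (1, 1, 1) * a)
    (hcomm : ∀ a ∈ A, ∀ b ∈ A, a * b = b * a) (hcard : Nat.card A = 27) : A = J := by
  classical
  refine eq_of_le_of_card_ge (fun a ha => ?_) (by rw [B.card_J, hcard])
  obtain ⟨v, p, rfl⟩ := B.cent a (hA a ha)
  rcases eq_or_ne p 0 with rfl | hp
  · rw [B.sp_zero, mul_one]; exact B.th_mem v
  exfalso
  have h := c0_cent_small (v, p) hp
  have hle : Nat.card A ≤ ((Finset.univ : Finset (V3 × Fin 6)).filter fun r => pcomm (v, p) r = true).card := by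
    rw [← Fintype.card_coe, ← Nat.card_eq_fintype_card]
    refine Nat.card_le_card_of_injective (fun b : A =>
      ⟨((B.cent b (hA b b.2)).choose, (B.cent b (hA b b.2)).choose_spec.choose), ?_⟩) fun b c e => ?_
    · simp only [Finset.mem_filter, Finset.mem_univ, true_and]
      have hs := (B.cent b (hA b b.2)).choose_spec.choose_spec
      have hc := hcomm _ ha _ b.2
      rw [hs, B.mul_elem, B.mul_elem] at hc
      obtain ⟨e1, e2⟩ := B.elem_inj hc
      simp [pcomm, e1, e2]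
    · have hb := (B.cent b (hA b b.2)).choose_spec.choose_spec
      have hc := (B.cent c (hA c c.2)).choose_spec.choose_spec
      simp only [Subtype.mk.injEq, Prod.mk.injEq] at e
      exact Subtype.ext (hb.trans ((congrArg₂ (fun u q => θ u * sp q) e.1 e.2).trans hc.symm))
  omega

/-- `J` is weakly closed in every `3`-group containing it. -/
theorem weakly_closed {R : Subgroup G} (hR : IsPGroup 3 R) (hJR : J ≤ R) {g : G}
    (hg : ∀ v, g * θ v * g⁻¹ ∈ R) : g ∈ normalizer (J : Set G) := by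
  classical
  haveI : Fact (Nat.Prime 3) := ⟨Nat.prime_three⟩
  obtain ⟨Q, hQ⟩ := B.sylow_top.exists_sylow
  obtain ⟨T, hT⟩ := (hR.of_equiv (subgroupOfEquivOfLe (le_top : R ≤ ⊤)).symm).exists_le_sylow
  obtain ⟨c, hc⟩ := MulAction.exists_smul_eq (⊤ : Subgroup G) T Q
  have hmove : ∀ r ∈ R, (c : G) * r * (c : G)⁻¹ ∈ B.sylP := fun r hr => by
    have : (c * ⟨r, mem_top r⟩ * c⁻¹ : (⊤ : Subgroup G)) ∈ (Q : Subgroup (⊤ : Subgroup G)) := by
      rw [← hc, Sylow.coe_subgroup_smul]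
      exact smul_mem_pointwise_smul _ (MulAut.conj c) _ (hT (show (⟨r, mem_top r⟩ : (⊤ : Subgroup G)) ∈ R.subgroupOf ⊤ from hr))
    rw [hQ] at this
    exact this
  have hkey : ∀ d : G, (∀ v, d * θ v * d⁻¹ ∈ B.sylP) → d ∈ normalizer (J : Set G) := by
    intro d hd
    refine mem_normalizer_iff_map_conj_eq.2 (B.abelian_le _ ?_ ?_ ?_)
    · rintro _ ⟨j, hj, rfl⟩
      obtain ⟨v, rfl⟩ := (B.memJ j).1 hj
      obtain ⟨u, p, -, e⟩ := hd v
      show d * θ v * d⁻¹ * θ (1, 1, 1) = θ (1, 1, 1) * (d * θ v * d⁻¹)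
      have h1 := B.conj_elem u p (1, 1, 1)
      rw [pp_facts.2.2.2.2.1, mul_inv_eq_iff_eq_mul] at h1
      rw [e, h1]
    · rintro _ ⟨a, ha, rfl⟩ _ ⟨b, hb, rfl⟩
      obtain ⟨u, rfl⟩ := (B.memJ a).1 ha
      obtain ⟨v, rfl⟩ := (B.memJ b).1 hb
      rw [← map_mul, ← map_mul, B.th_comm]
    · rw [card_map_of_injective (MulEquiv.injective _), B.card_J]
  have h1 : (c : G) ∈ normalizer (J : Set G) := hkey c fun v => hmove _ (hJR (B.th_mem v))
  have h2 : (c : G) * g ∈ normalizer (J : Set G) := hkey _ fun v => by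
    rw [show (c : G) * g * θ v * ((c : G) * g)⁻¹ = c * (g * θ v * g⁻¹) * (c : G)⁻¹ by group]
    exact hmove _ (hg v)
  have := mul_mem (inv_mem h1) h2
  rwa [inv_mul_cancel_left] at this

/-- Fusion in `J`. -/
theorem fusion {u v : V3} {g : G} (h : g * θ u * g⁻¹ = θ v) :
    ∃ n ∈ normalizer (J : Set G), n * θ u * n⁻¹ = θ v := by
  classical
  haveI : Fact (Nat.Prime 3) := ⟨Nat.prime_three⟩
  set C := centralizer ({θ v} : Set G) with hC
  have hJC : J ≤ C := fun j hj => by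
    obtain ⟨w, rfl⟩ := (B.memJ j).1 hj
    exact mem_centralizer_singleton_iff.2 (B.th_comm _ _)
  have hJ'C : J.map (MulAut.conj g).toMonoidHom ≤ C := by
    rintro _ ⟨j, hj, rfl⟩
    obtain ⟨w, rfl⟩ := (B.memJ j).1 hj
    refine mem_centralizer_singleton_iff.2 ?_
    rw [← h]
    show g * θ w * g⁻¹ * (g * θ u * g⁻¹) = g * θ u * g⁻¹ * (g * θ w * g⁻¹)
    rw [show g * θ w * g⁻¹ * (g * θ u * g⁻¹) = g * (θ w * θ u) * g⁻¹ by group, B.th_comm]
    group
  obtain ⟨T1, hT1⟩ := (B.isP_J.of_equiv (subgroupOfEquivOfLe hJC).symm).exists_le_sylow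
  obtain ⟨T2, hT2⟩ := ((B.isP_J.map (MulAut.conj g).toMonoidHom).of_equiv
    (subgroupOfEquivOfLe hJ'C).symm).exists_le_sylow
  obtain ⟨c, hc⟩ := MulAction.exists_smul_eq C T2 T1
  have hn : (c : G) * g ∈ normalizer (J : Set G) := by
    refine B.weakly_closed (R := (T1 : Subgroup C).map C.subtype) (T1.2.map _)
      (fun j hj => ⟨⟨j, hJC hj⟩, hT1 hj, rfl⟩) fun w => ?_
    have hm : g * θ w * g⁻¹ ∈ J.map (MulAut.conj g).toMonoidHom := ⟨θ w, B.th_mem w, rfl⟩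
    refine ⟨c * ⟨g * θ w * g⁻¹, hJ'C hm⟩ * c⁻¹, ?_, by simp [mul_assoc]⟩
    rw [← hc, Sylow.coe_subgroup_smul]
    exact smul_mem_pointwise_smul _ (MulAut.conj c) _ (hT2 hm)
  refine ⟨(c : G) * g, hn, ?_⟩
  have hcv : (c : G) * θ v = θ v * (c : G) := mem_centralizer_singleton_iff.1 c.2
  rw [show (c : G) * g * θ u * ((c : G) * g)⁻¹ = c * (g * θ u * g⁻¹) * (c : G)⁻¹ by group, h, hcv,
    mul_inv_cancel_right]

theorem wset : WSet (autSet J θ) := by
  refine ⟨?_, ?_, ?_, fun p => ⟨sp p, B.sp_mem p, B.act p⟩, ?_⟩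
  · rintro f ⟨g, -, h⟩ u v
    refine B.tinj ?_
    rw [← h, B.tadd, B.tadd, ← h, ← h]; group
  · rintro f ⟨g, hg, h⟩ f' ⟨g', hg', h'⟩
    refine ⟨g * g', mul_mem hg hg', fun v => ?_⟩
    rw [show g * g' * θ v * (g * g')⁻¹ = g * (g' * θ v * g'⁻¹) * g⁻¹ by group, h', h]; rfl
  · rintro f ⟨g, hg, h⟩
    have hex : ∀ v, ∃ u, θ u = g⁻¹ * θ v * g := fun v => (B.memJ _).1 (by
      have := (mem_normalizer_iff.1 (inv_mem hg) _).1 (B.th_mem v)
      simpa using this)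
    choose f' hf' using hex
    refine ⟨f', ⟨g⁻¹, inv_mem hg, fun v => by rw [hf', inv_inv]⟩, funext fun v => B.tinj ?_,
      funext fun v => B.tinj ?_⟩
    · simp only [Function.comp_apply, hf', id, ← h]; group
    · simp only [Function.comp_apply, id, ← h, hf']; group
  · rintro f ⟨g, -, h⟩ hf
    have hx := h (1, 1, 1)
    rw [show f (1, 1, 1) = (1, 1, 1) from hf, mul_inv_eq_iff_eq_mul] at hx
    obtain ⟨v, p, rfl⟩ := B.cent g hx
    exact ⟨p, funext fun u => B.tinj ((h u).symm.trans (B.conj_elem v p u))⟩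

/-- A change of coordinates. -/
theorem shiftB (k : ZMod 3) : Base J (fun v => θ (shiftV k v)) sp := by
  obtain ⟨hinv, -, hp, hx, hadd, -⟩ := shiftV_facts
  have hi : ∀ v, shiftV k (shiftV (-k) v) = v := fun v => by simpa using hinv (-k) v
  refine ⟨fun u v => by rw [hadd, B.tadd], fun a b e => ?_, fun g => ?_, B.smul, fun v p e => B.sinj _ p e,
    fun p v => by rw [B.act, hp], fun g hg => ?_, B.sig⟩
  · have := congrArg (shiftV (-k)) (B.tinj e)
    rwa [hinv, hinv] at this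
  · rw [B.memJ]
    exact ⟨fun ⟨v, hv⟩ => ⟨shiftV (-k) v, by rw [hi]; exact hv⟩, fun ⟨v, hv⟩ => ⟨_, hv⟩⟩
  · obtain ⟨v, p, e⟩ := B.cent g (by rwa [show shiftV k (1, 1, 1) = (1, 1, 1) from hx k] at hg)
    exact ⟨shiftV (-k) v, p, by rw [hi]; exact e⟩

end Base

end Cfsg.Agent.NineSym
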