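import Cfsg.Agent.Lib.NineSym.Invol
import Cfsg.Agent.Lib.Transfer.HallEngel

/-!
# A normal subgroup of odd order containing the Sylow `3`-subgroup

Hall's theorem for the weakly closed group `J` and Burnside's theorem show that it is the Sylow subgroup.
-/

set_option autoImplicit false
set_option linter.style.haveILetI false
set_option linter.unusedSectionVars false
set_option maxRecDepth 100000
set_option synthInstance.maxSize 10000

namespace Cfsg.Agent.NineSym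

open Subgroup
open scoped commutatorElement

theorem odd_facts : ∀ ci : Bool,
    (∀ w, Wok ci false w → w ^ 6 = 1) ∧
    (∀ w, Wok ci false w → w ^ 3 = 1 → Wok false false w) ∧
    (∀ w, w ^ 3 = 1 → Wok ci false w → ∀ v : V3,
      ((⟨v, w⟩ : Mn) * ⟨v, w⟩ * ⟨v, w⟩) * ((⟨v, w⟩ : Mn) * ⟨v, w⟩ * ⟨v, w⟩) * ((⟨v, w⟩ : Mn) * ⟨v, w⟩ * ⟨v, w⟩) = 1) := by
  decide +kernel

theorem derived_table : ∀ ci : Bool, ∀ u w : Wt, Wok ci false u → Wok ci false w → u ^ 3 = 1 → w ^ 3 = 1 →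
    u * w = w * u ∧ ∀ x : V3, (x.1 + x.2.1 + x.2.2 = (wact u x).1 + (wact u x).2.1 + (wact u x).2.2) := by
  decide +kernel

theorem sum_zero_comm : ∀ d : V3, d.1 + d.2.1 + d.2.2 = 0 → ∃ x : V3, x + -wact ⟨false, 0, 1⟩ x = d := by
  decide +kernel

theorem plane_facts : Indep ((1, 2, 0) : V3) ((0, 1, 2) : V3) ∧ (1 : ZMod 3) + 2 + 0 = 0 ∧ (0 : ZMod 3) + 1 + 2 = 0 := by
  decide +kernel

theorem coprime_of_bot {G : Type*} [Group G] [Finite G] {K : Subgroup G} (h : SylowAt K ⊥) :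
    (Nat.card K).Coprime 3 := by
  haveI : Fact (Nat.Prime 3) := ⟨Nat.prime_three⟩
  refine Nat.Coprime.symm (Nat.prime_three.coprime_iff_not_dvd.2 fun hd => ?_)
  obtain ⟨⟨y, hy⟩, hyo⟩ := exists_prime_orderOf_dvd_card' (G := K) 3 hd
  rw [orderOf_mk] at hyo
  have := h.maximal (zpowers y) (zpowers_le.2 hy)
    (IsPGroup.of_card (n := 1) (by rw [Nat.card_zpowers, hyo, pow_one])) bot_le
  rw [zpowers_eq_bot] at this
  rw [this, orderOf_one] at hyo
  norm_num at hyo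

theorem conj_mem_of_coprime {G : Type*} [Group G] [Finite G] {C K : Subgroup G} (hK : (Nat.card K).Coprime 3)
    (hKC : K ≤ C) (hall : ∀ g ∈ C, (orderOf g).Coprime 3 → g ∈ K) {j : G}
    (hj : ∀ c ∈ C, j * c * j⁻¹ ∈ C) : j ∈ normalizer (K : Set G) := by
  refine mem_normalizer_iff_map_conj_eq.2 (eq_of_le_of_card_ge ?_ (by
    rw [card_map_of_injective (MulEquiv.injective _)]))
  rintro _ ⟨k, hk, rfl⟩
  refine hall _ (hj k (hKC hk)) ?_
  have hk3 : (orderOf k).Coprime 3 := Nat.Coprime.coprime_dvd_left (by simpa using orderOf_dvd_natCard (⟨k, hk⟩ : K)) hK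
  show (orderOf (MulAut.conj j k)).Coprime 3
  rw [MulEquiv.orderOf_eq]
  exact hk3

variable {G : Type*} [Group G] [Finite G] {J : Subgroup G} {ci : Bool} {φ : Mn → G}

theorem normal_of_odd_core (D : Frame J ci false φ) (R : Subgroup G) [R.Normal] (hodd : Odd (Nat.card R))
    (hR : ∀ q, InL ci false q → q.w ^ 3 = 1 → φ q ∈ R) : J.Normal := by
  classical
  haveI : Fact (Nat.Prime 3) := ⟨Nat.prime_three⟩
  set P0 := R ⊓ normalizer (J : Set G) with hP0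
  have hw3 : ∀ q, InL ci false q → φ q ∈ R → q.w ^ 3 = 1 := by
    intro q hq hqR
    have h1 : orderOf (φ q) ∣ Nat.card R := by
      have := orderOf_dvd_natCard (⟨φ q, hqR⟩ : R)
      rwa [orderOf_mk] at this
    have h2 : q.w ^ Nat.card R = 1 := by
      rw [← D.w_pow, D.pow_eq_one hq (orderOf_dvd_iff_pow_eq_one.1 h1)]; rfl
    have h3 := Nat.dvd_gcd (orderOf_dvd_of_pow_eq_one h2)
      (orderOf_dvd_of_pow_eq_one ((odd_facts ci).1 q.w hq))
    refine orderOf_dvd_iff_pow_eq_one.1 (h3.trans ?_)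
    exact Nat.Coprime.dvd_of_dvd_mul_left (Nat.Coprime.coprime_dvd_left (Nat.gcd_dvd_left _ _) hodd.coprime_two_right)
      (show Nat.gcd (Nat.card R) 6 ∣ 2 * 3 from Nat.gcd_dvd_right _ _)
  have hmem : ∀ g ∈ P0, ∃ q, InL ci false q ∧ q.w ^ 3 = 1 ∧ φ q = g := fun g hg => by
    obtain ⟨q, hq, rfl⟩ := D.norm g hg.2
    exact ⟨q, hq, hw3 q hq hg.1, rfl⟩
  have hJR : J ≤ R := fun j hj => by
    obtain ⟨v, rfl⟩ := (D.memJ j).1 hj
    exact hR _ ((inL_facts ci false).2.1 v) (one_pow 3)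
  have hJP : J ≤ P0 := le_inf hJR le_normalizer
  have hPp : IsPGroup 3 P0 := fun g => by
    obtain ⟨q, hq, hw, e⟩ := hmem g g.2
    refine ⟨2, Subtype.ext ?_⟩
    have h9 := (odd_facts ci).2.2 q.w hw hq q.v
    have hp3 : ∀ p : Mn, p ^ 3 = p * p * p := fun p => by rw [pow_succ, pow_two]
    rw [Subgroup.coe_pow, ← e, ← (D.map_pow hq _).2, show (3 : ℕ) ^ 2 = 3 * 3 by norm_num, pow_mul, hp3, hp3 q]
    exact (congrArg φ h9).trans D.one
  have hS : SylowAt R P0 := .of_normalizer inf_le_left hPp fun g hg hgn _ =>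
    mem_inf.2 ⟨hg, D.weak P0 hPp hJP g fun j hj => (mem_normalizer_iff.1 hgn _).1 (hJP hj)⟩
  obtain ⟨P, hP⟩ := hS.exists_sylow
  have hQ : Cfsg.IsWeaklyClosed (J.subgroupOf R) (P : Subgroup R) := by
    refine ⟨by rw [hP]; exact fun g hg => hJP hg, fun g hg => ?_⟩
    have hgN : (g : G) ∈ normalizer (J : Set G) := D.weak P0 hPp hJP g fun j hj => by
      have := hg ⟨⟨j, hJR hj⟩, mem_subgroupOf.2 hj, rfl⟩
      rw [hP] at this
      exact this
    refine eq_of_le_of_card_ge ?_ (by rw [card_map_of_injective (MulEquiv.injective _)])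
    rintro _ ⟨j, hj, rfl⟩
    exact mem_subgroupOf.2 ((mem_normalizer_iff.1 hgN _).1 (mem_subgroupOf.1 hj))
  have hE : ∀ u ∈ (P : Subgroup R), ∀ z ∈ J.subgroupOf R,
      (fun y : R => y⁻¹ * z⁻¹ * y * z)^[3 - 1] u = 1 := by
    intro u hu z hz
    rw [hP] at hu
    have hc : (u : G)⁻¹ * (z : G)⁻¹ * u * z ∈ J :=
      mul_mem (by simpa [mul_assoc] using (mem_normalizer_iff.1 (inv_mem (mem_inf.1 hu).2) _).1 (inv_mem hz)) hz
    refine Subtype.ext ?_
    show ((u : G)⁻¹ * (z : G)⁻¹ * u * z)⁻¹ * (z : G)⁻¹ * ((u : G)⁻¹ * (z : G)⁻¹ * u * z) * z = 1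
    generalize hcc : (u : G)⁻¹ * (z : G)⁻¹ * u * z = c at hc
    rw [mul_assoc (c⁻¹ * (z : G)⁻¹) c (z : G), D.J_comm hc (show (z : G) ∈ J from hz)]
    group
  obtain ⟨-, hfoc⟩ := Transfer.HallEngel.focal_le P (J.subgroupOf R) hQ hE
  let H0 : Subgroup G :=
    { carrier := {g | ∃ v : V3, v.1 + v.2.1 + v.2.2 = 0 ∧ φ (jM v) = g}
      one_mem' := ⟨0, rfl, D.jzero⟩
      mul_mem' := by
        rintro _ _ ⟨u, hu, rfl⟩ ⟨v, hv, rfl⟩
        refine ⟨u + v, ?_, D.jadd u v⟩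
        show u.1 + v.1 + (u.2.1 + v.2.1) + (u.2.2 + v.2.2) = 0
        linear_combination hu + hv
      inv_mem' := by
        rintro _ ⟨u, hu, rfl⟩
        refine ⟨-u, ?_, eq_inv_of_mul_eq_one_left (by rw [← D.jadd, neg_add_cancel, D.jzero])⟩
        show -u.1 + -u.2.1 + -u.2.2 = 0
        linear_combination -hu }
  have hcomm : ⁅normalizer ((J.subgroupOf R : Subgroup R) : Set R), normalizer ((J.subgroupOf R : Subgroup R) : Set R)⁆ ≤
      H0.subgroupOf R := by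
    rw [commutator_le]
    have hN : ∀ g : R, g ∈ normalizer ((J.subgroupOf R : Subgroup R) : Set R) → (g : G) ∈ P0 := fun g hg =>
      mem_inf.2 ⟨g.2, mem_normalizer_iff.2 fun y => ⟨fun hy => (mem_normalizer_iff.1 hg ⟨y, hJR hy⟩).1 hy, fun hy => by
        have hyR : y ∈ R := by
          have := mul_mem (mul_mem (inv_mem g.2) (hJR hy)) g.2
          simpa [mul_assoc] using this
        exact (mem_normalizer_iff.1 hg ⟨y, hyR⟩).2 hy⟩⟩
    intro a ha b hb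
    obtain ⟨p, hp, hpw, ep⟩ := hmem _ (hN a ha)
    obtain ⟨q, hq, hqw, eq⟩ := hmem _ (hN b hb)
    obtain ⟨hwc, hsum⟩ := derived_table ci p.w q.w hp hq hpw hqw
    obtain ⟨-, hsum'⟩ := derived_table ci q.w p.w hq hp hqw hpw
    set d : V3 := p.v + wact p.w q.v + -(q.v + wact q.w p.v) with hd
    have e : p * q = jM d * (q * p) := by
      show (⟨p.v + wact p.w q.v, p.w * q.w⟩ : Mn) = ⟨d + wact 1 (q.v + wact q.w p.v), 1 * (q.w * p.w)⟩
      rw [wact_one, hd, neg_add_cancel_right, one_mul, hwc]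
    refine mem_subgroupOf.2 ⟨d, ?_, ?_⟩
    · have h1 := hsum q.v
      have h2 := hsum' p.v
      simp only [hd, Prod.fst_add, Prod.snd_add, Prod.fst_neg, Prod.snd_neg]
      linear_combination h2 - h1
    · have e' := congrArg φ e
      rw [D.hom _ _ hp hq, D.hom _ _ ((inL_facts ci false).2.1 d) ((inL_facts ci false).2.2.1 _ _ hq hp),
        D.hom _ _ hq hp, ep, eq] at e'
      simp only [commutatorElement_def, Subgroup.coe_mul, InvMemClass.coe_inv]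
      rw [e']; group
  obtain ⟨K, hKn, hKP, hKtop⟩ := Transfer.Fusion.exists_normal_inf_eq_focal P
  set σ : Mn := wM ⟨false, 0, 1⟩
  have hσ : InL ci false σ := inL_mono (by decide +kernel)
  have hσR : φ σ ∈ R := hR σ hσ (by decide +kernel)
  have hHK : ∀ g ∈ H0, ∃ k : R, k ∈ K ∧ (k : G) = g := by
    rintro _ ⟨d, hd, rfl⟩
    obtain ⟨x, rfl⟩ := sum_zero_comm d hd
    refine ⟨⁅(⟨φ (jM x), hJR (D.memj x)⟩ : R), (⟨φ σ, hσR⟩ : R)⁆, ?_, ?_⟩
    · refine (hKP.ge (mem_inf.2 ⟨commutator_mem_commutator (mem_top _) (mem_top _), ?_⟩)).1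
      rw [hP]
      refine mem_subgroupOf.2 ?_
      simp only [commutatorElement_def, Subgroup.coe_mul, InvMemClass.coe_inv]
      exact mul_mem (mul_mem (mul_mem (hJP (D.memj x)) (mem_inf.2 ⟨hσR, D.mem σ hσ⟩))
        (inv_mem (hJP (D.memj x)))) (inv_mem (mem_inf.2 ⟨hσR, D.mem σ hσ⟩))
    · simp only [commutatorElement_def, Subgroup.coe_mul, InvMemClass.coe_inv]
      rw [show φ (jM x) * φ σ * (φ (jM x))⁻¹ * (φ σ)⁻¹ = φ (jM x) * (φ σ * φ (jM x) * (φ σ)⁻¹)⁻¹ by group,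
        D.act' hσ, D.jadd]
      congr 1
      exact (eq_inv_of_mul_eq_one_left (by
        rw [← D.jadd]; exact (congrArg (fun v => φ (jM v)) (neg_add_cancel _)).trans D.jzero)).symm
  -- the normal subgroup with Sylow subgroup `H0`
  set Kg := K.map R.subtype with hKg
  have hinf : ∀ g ∈ Kg, g ∈ P0 → g ∈ H0 := by
    rintro _ ⟨k, hk, rfl⟩ hkP
    have hkP' : k ∈ (P : Subgroup R) := by rw [hP]; exact hkP
    have h1 : k ∈ commutator R ⊓ (P : Subgroup R) := hKP.le (mem_inf.2 ⟨hk, hkP'⟩)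
    exact hcomm (hfoc (mem_inf.2 ⟨h1.2, h1.1⟩))
  have hH0J : H0 ≤ J := by rintro _ ⟨v, -, rfl⟩; exact D.memj v
  have hHle : H0 ≤ Kg := fun g hg => by
    obtain ⟨k, hk, e⟩ := hHK g hg
    exact ⟨k, hk, e⟩
  have hHmem : ∀ v : V3, v.1 + v.2.1 + v.2.2 = 0 → φ (jM v) ∈ H0 := fun v hv => ⟨v, hv, rfl⟩
  have hnH : ∀ g ∈ Kg, g ∈ normalizer (H0 : Set G) → g ∈ H0 := fun g hg hgn =>
    hinf g hg (mem_inf.2 ⟨by obtain ⟨k, -, rfl⟩ := hg; exact k.2,
      D.norm_plane (u := ((1, 2, 0) : V3)) (v := ((0, 1, 2) : V3)) plane_facts.1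
        (hH0J ((mem_normalizer_iff.1 hgn _).1 (hHmem (1, 2, 0) plane_facts.2.1)))
        (hH0J ((mem_normalizer_iff.1 hgn _).1 (hHmem (0, 1, 2) plane_facts.2.2)))⟩)
  have hHS : SylowAt Kg H0 := .of_normalizer hHle (D.J_isP.to_le hH0J) fun g hg hgn _ => hnH g hg hgn
  obtain ⟨K1, hK1, -, hK1H, -, hdec, hall, hK1S⟩ := hHS.split (F := ⊥)
    (fun x hx y hy => D.J_comm (hH0J hx) (hH0J hy)) (fun n hn hnn x hx => mem_bot.2 (by
      rw [D.J_comm (hH0J hx) (hH0J (hnH n hn hnn))]; group))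
  rw [le_bot_iff.1 hK1H] at hK1S
  have hc := coprime_of_bot hK1S
  have hKgn : ∀ j ∈ J, ∀ c ∈ Kg, j * c * j⁻¹ ∈ Kg := by
    rintro j hj _ ⟨k, hk, rfl⟩
    exact ⟨⟨j, hJR hj⟩ * k * ⟨j, hJR hj⟩⁻¹, hKn.conj_mem k hk _, rfl⟩
  have hK10 := D.sig K1 hc fun j hj => conj_mem_of_coprime hc hK1 hall (hKgn j hj)
  have hKH : ∀ g ∈ Kg, g ∈ H0 := fun g hg => by
    obtain ⟨k, hk, s, hs, rfl⟩ := hdec g hg
    rw [hK10, mem_bot] at hk
    rw [hk, one_mul]; exact hs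
  have hRP : ∀ g ∈ R, g ∈ P0 := fun g hg => by
    have hm : (⟨g, hg⟩ : R) ∈ K ⊔ (P : Subgroup R) := by rw [hKtop]; exact mem_top _
    obtain ⟨k, hk, s, hs, e⟩ := Subgroup.mem_sup_of_normal_left.1 hm
    rw [hP] at hs
    have : g = (k : G) * s := (congrArg Subtype.val e).symm
    rw [this]
    exact mul_mem (hJP (hH0J (hKH _ ⟨k, hk, rfl⟩))) hs
  refine normalizer_eq_top_iff.1 (eq_top_iff.2 fun g _ => D.weak P0 hPp hJP g fun j hj => hRP _ ?_)
  exact Subgroup.Normal.conj_mem inferInstance j (hJR hj) g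

end Cfsg.Agent.NineSym
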