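import Cfsg.Agent.Lib.NineSym.Cent4
import Cfsg.Agent.Lib.NineSym.Odd

/-!
# Local tools for the cases with diagonal signs
-/

set_option autoImplicit false
set_option linter.style.haveILetI false
set_option linter.unusedSectionVars false
set_option maxRecDepth 100000
set_option synthInstance.maxSize 10000

namespace Cfsg.Agent.NineSym

open Subgroup

theorem three_elem_fix : ∀ ci cd : Bool, ∀ w : Wt, Wok ci cd w → w ^ 3 = 1 →
    ∃ w' : Wt, Wok ci cd w' ∧ wact w (wact w' (1, 1, 1)) = wact w' (1, 1, 1) := by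
  decide +kernel

theorem three_elem_comm : ∀ w0 w : Wt, w0 ^ 3 = 1 → w0 ≠ 1 → w ^ 3 = 1 → w * w0 = w0 * w →
    w = 1 ∨ w = w0 ∨ w = w0 * w0 := by
  decide +kernel

theorem three_elem_small : ∀ w0 : Wt, w0 ^ 3 = 1 → w0 ≠ 1 → ∀ v : V3,
    ((Finset.univ : Finset (V3 × Fin 3)).filter fun q =>
      q.1 + wact (w0 ^ q.2.val) v = v + wact w0 q.1).card < 27 := by
  decide +kernel

/-- An element of order two in the centre, modulo which elements of odd order do not fuse. -/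
theorem eq_of_mul_central {G : Type*} [Group G] {a b z : G} (hz : z * z = 1) (hbz : b * z = z * b)
    (ha : a ^ 3 = 1) (hb : b ^ 3 = 1) (h : a = b ∨ a = b * z) : a = b := by
  rcases h with h | h
  · exact h
  · have hc : Commute b z := hbz
    have h1 : a ^ 3 = b ^ 3 * z ^ 3 := by rw [h, hc.mul_pow]
    rw [ha, hb, one_mul, pow_succ, pow_two, hz, one_mul] at h1
    rw [h, ← h1, mul_one]

/-- Conjugation of an element of odd order to itself or its inverse is trivial. -/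
theorem comm_of_odd {G : Type*} [Group G] {g s : G} (hg : Odd (orderOf g))
    (h : g * s * g⁻¹ = s ∨ g * s * g⁻¹ = s⁻¹) : g * s = s * g := by
  rcases h with h | h
  · exact mul_inv_eq_iff_eq_mul.1 h
  · have hi : g * s⁻¹ * g⁻¹ = s := by
      rw [show g * s⁻¹ * g⁻¹ = (g * s * g⁻¹)⁻¹ by group, h, inv_inv]
    have h2 : Commute (g ^ 2) s := by
      show g ^ 2 * s = s * g ^ 2
      calc g ^ 2 * s = g * (g * s * g⁻¹) * g := by rw [pow_two]; group
        _ = _ := by rw [h, show g * s⁻¹ * g = g * s⁻¹ * g⁻¹ * g ^ 2 by group, hi]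
    obtain ⟨n, hn⟩ := hg
    have hg' : g = (g ^ 2) ^ (n + 1) := by
      rw [← pow_mul, show 2 * (n + 1) = orderOf g + 1 by omega, pow_succ, pow_orderOf_eq_one, one_mul]
    rw [hg']
    exact (h2.pow_left _).eq

variable {G : Type*} [Group G] [Finite G] {J : Subgroup G} {ci cd : Bool} {φ : Mn → G}

namespace Frame

variable (D : Frame J ci cd φ)
include D

theorem jneg (x : V3) : φ (jM (-x)) = (φ (jM x))⁻¹ :=
  eq_inv_of_mul_eq_one_left (by rw [← D.jadd, neg_add_cancel, D.jzero])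

/-- The centralizer of a conjugate. -/
theorem cent_conj {p a : Mn} (hp : InL ci cd p) (ha : InL ci cd a)
    (h : ∀ g, g * φ p = φ p * g → g ∈ normalizer (J : Set G)) {g : G}
    (hg : g * φ (a * p * a⁻¹) = φ (a * p * a⁻¹) * g) : g ∈ normalizer (J : Set G) := by
  rw [D.conj' ha hp] at hg
  have h1 := h ((φ a)⁻¹ * g * φ a) (by
    calc (φ a)⁻¹ * g * φ a * φ p = (φ a)⁻¹ * (g * (φ a * φ p * (φ a)⁻¹)) * φ a := by group
      _ = (φ a)⁻¹ * ((φ a * φ p * (φ a)⁻¹) * g) * φ a := by rw [hg]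
      _ = φ p * ((φ a)⁻¹ * g * φ a) := by group)
  have := mul_mem (mul_mem (D.mem a ha) h1) (inv_mem (D.mem a ha))
  rwa [show φ a * ((φ a)⁻¹ * g * φ a) * (φ a)⁻¹ = g by group] at this

theorem cent_orbit {v : V3} {w : Wt} (hw : Wok ci cd w)
    (h : ∀ g, g * φ (jM v) = φ (jM v) * g → g ∈ normalizer (J : Set G)) {g : G}
    (hg : g * φ (jM (wact w v)) = φ (jM (wact w v)) * g) : g ∈ normalizer (J : Set G) :=
  D.cent_conj ((inL_facts ci cd).2.1 v) (show InL ci cd (wM w) from hw) h (by rwa [conj_jM])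

theorem pow_eight {p : Mn} (hp : InL ci cd p) {k : ℕ} (h : φ p ^ 2 ^ k = 1) : p ^ 8 = 1 := by
  have hJ : φ p ^ 8 ∈ J := by
    rw [← (D.map_pow hp 8).2]
    exact D.mem_of_w (by rw [D.w_pow, D.two_pow hp h])
  have h1 : orderOf (φ p ^ 8) ∣ 3 := orderOf_dvd_of_pow_eq_one (D.J_cube hJ)
  have h2 : orderOf (φ p ^ 8) ∣ 2 ^ k := orderOf_dvd_of_pow_eq_one (by rw [← pow_mul, mul_comm, pow_mul, h, one_pow])
  exact D.pow_eq_one hp (orderOf_eq_one_iff.1 (Nat.dvd_one.1
    ((Nat.Coprime.pow_left k (by norm_num : Nat.Coprime 2 3)) ▸ Nat.dvd_gcd h2 h1)))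

/-- A subgroup given by a list of elements of the model. -/
def listSub (L : List Mn) (h1 : (1 : Mn) ∈ L) (hL : ∀ q ∈ L, InL ci cd q ∧ q⁻¹ ∈ L ∧ ∀ p ∈ L, q * p ∈ L) :
    Subgroup G where
  carrier := {g | ∃ q ∈ L, φ q = g}
  one_mem' := ⟨1, h1, D.one⟩
  mul_mem' := by
    rintro _ _ ⟨p, hp, rfl⟩ ⟨q, hq, rfl⟩
    exact ⟨p * q, (hL p hp).2.2 q hq, D.hom _ _ (hL p hp).1 (hL q hq).1⟩
  inv_mem' := by
    rintro _ ⟨p, hp, rfl⟩
    exact ⟨p⁻¹, (hL p hp).2.1, D.inv' (hL p hp).1⟩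

/-- The stabilizer of `u` consists of two commuting reflections. -/
theorem cent_klein {u f1 f2 : V3} {w1 w2 : Wt} (hw1 : Wok ci cd w1) (hw2 : Wok ci cd w2)
    (hinv : (wM w1 * wM w1 = 1 ∧ wM w2 * wM w2 = 1) ∧ wM w1 * wM w2 = wM w2 * wM w1)
    (hu1 : wact w1 u = u) (hu2 : wact w2 u = u) (h11 : wact w1 f1 = -f1) (h12 : wact w1 f2 = f2)
    (h21 : wact w2 f1 = f1) (h22 : wact w2 f2 = -f2) (hind : Indep f1 f2)
    (hindu : ∀ q, q ≠ 0 → Indep u (comb2 f1 f2 q))
    (hstab : ∀ w, Wok ci cd w → wact w u = u → w = 1 ∨ w = w1 ∨ w = w2 ∨ w = w2 * w1)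
    (hax : ∀ w, Wok ci cd w → wact w u = u → ∀ x : V3, ∃ q, x + -wact w x = comb2 f1 f2 q) :
    centralizer ({φ (jM u)} : Set G) ≤ normalizer (J : Set G) := by
  classical
  have hJC := D.J_le_cent u
  have hcls : ∀ p, InL ci cd p → φ p * φ (jM u) = φ (jM u) * φ p → wact p.w u = u := fun p hp h => D.fix_of_comm hp h
  have hwsq : w1 * w1 = 1 ∧ w2 * w2 = 1 ∧ w1 * w2 = w2 * w1 :=
    ⟨congrArg Mn.w hinv.1.1, congrArg Mn.w hinv.1.2, congrArg Mn.w hinv.2⟩
  have hS : SylowAt (centralizer ({φ (jM u)} : Set G)) J := D.sylow_at hJC fun p hp hpC => by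
    rcases hstab p.w hp (hcls p hp (mem_centralizer_singleton_iff.1 hpC)) with e | e | e | e <;> rw [e]
    · rfl
    · exact hwsq.1
    · exact hwsq.2.1
    · rw [show w2 * w1 * (w2 * w1) = w2 * (w1 * w2) * w1 by simp [mul_assoc], hwsq.2.2, ← mul_assoc, hwsq.2.1,
        one_mul, hwsq.1]
  let r0 : Mn := wM w2
  let s0 : Mn := wM w1
  have hrL : InL ci cd r0 := hw2
  have hsL : InL ci cd s0 := hw1
  let F : Subgroup G :=
    { carrier := {g | ∃ q, φ (jM (comb2 f1 f2 q)) = g}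
      one_mem' := ⟨0, by rw [show comb2 f1 f2 0 = 0 by simp [comb2]]; exact D.jzero⟩
      mul_mem' := by
        rintro _ _ ⟨p, rfl⟩ ⟨q, rfl⟩
        refine ⟨p + q, ?_⟩
        rw [← D.jadd]
        congr 2
        simp only [comb2, Prod.fst_add, Prod.snd_add, Prod.mk_add_mk, Prod.ext_iff]
        exact ⟨by ring, by ring, by ring⟩
      inv_mem' := by
        rintro _ ⟨p, rfl⟩
        refine ⟨-p, ?_⟩
        rw [← D.jneg]
        congr 2
        simp only [comb2, Prod.fst_neg, Prod.snd_neg, Prod.neg_mk, Prod.ext_iff]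
        exact ⟨by ring, by ring, by ring⟩ }
  obtain ⟨K, hKC, hCK, hKF, hcomK, hdec, hall, hKS⟩ := hS.split (F := F) (fun x hx y hy => D.J_comm hx hy) (by
    intro n hnC hn j hj
    obtain ⟨p, hp, rfl⟩ := D.norm n hn
    obtain ⟨x, rfl⟩ := (D.memJ j).1 hj
    rw [show φ (jM x) * φ p * (φ (jM x))⁻¹ * (φ p)⁻¹ = φ (jM x) * (φ p * φ (jM x) * (φ p)⁻¹)⁻¹ by group,
      D.act' hp, ← D.jneg, ← D.jadd]
    obtain ⟨q, hq⟩ := hax p.w hp (hcls p hp (mem_centralizer_singleton_iff.1 hnC)) x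
    exact ⟨q, by rw [hq]⟩)
  have hrC : φ r0 ∈ centralizer ({φ (jM u)} : Set G) := mem_centralizer_singleton_iff.2 ((D.fix_iff hrL u).2 hu2)
  have hsC : φ s0 ∈ centralizer ({φ (jM u)} : Set G) := mem_centralizer_singleton_iff.2 ((D.fix_iff hsL u).2 hu1)
  have hord : ∀ p, InL ci cd p → p * p = 1 → φ p * φ p = 1 := fun p hp h => by rw [← D.hom _ _ hp hp, h, D.one]
  have hrK : φ r0 ∈ K := hall _ hrC (Nat.Coprime.coprime_dvd_left
    (orderOf_dvd_of_pow_eq_one (by rw [pow_two, hord r0 hrL hinv.1.2])) (by norm_num))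
  have hsK : φ s0 ∈ K := hall _ hsC (Nat.Coprime.coprime_dvd_left
    (orderOf_dvd_of_pow_eq_one (by rw [pow_two, hord s0 hsL hinv.1.1])) (by norm_num))
  have htwo : ∀ f : V3, f = -f + -f := by decide +kernel
  have hgenK : ∀ (w : Wt) (f : V3), Wok ci cd w → φ (wM w) ∈ centralizer ({φ (jM u)} : Set G) →
      wact w f = -f → φ (jM f) ∈ K := fun w f hw hwC hwf => by
    have hf := hcomK (φ (jM (-f))) (D.memj _) (φ (wM w)) hwC (D.mem _ hw)
    rw [show φ (jM (-f)) * φ (wM w) * (φ (jM (-f)))⁻¹ * (φ (wM w))⁻¹ =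
      φ (jM (-f)) * (φ (wM w) * φ (jM (-f)) * (φ (wM w))⁻¹)⁻¹ by group, D.act' (show InL ci cd (wM w) from hw),
      ← D.jneg, ← D.jadd] at hf
    convert hf using 3
    let F' : V3 →+ V3 := AddMonoidHom.mk' (wact w) (wact_add w)
    show f = -f + -F' (-f)
    rw [map_neg]
    show f = -f + - -wact w f
    rw [hwf, neg_neg]
    exact htwo f
  have hFK : F ≤ K := by
    have hn : ∀ (n : ℕ) (x : V3), φ (jM (n • x)) = φ (jM x) ^ n := fun n x => by
      induction n with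
      | zero => rw [zero_smul, pow_zero, D.jzero]
      | succ n ih => rw [succ_nsmul, D.jadd, ih, pow_succ]
    rintro _ ⟨q, rfl⟩
    rw [comb2_eq, D.jadd, hn, hn]
    exact mul_mem (pow_mem (hgenK w1 f1 hw1 hsC h11) _) (pow_mem (hgenK w2 f2 hw2 hrC h22) _)
  have hFJ : F ≤ J := by rintro _ ⟨q, rfl⟩; exact D.memj _
  have hKJ : K ⊓ J = F := le_antisymm hKF (le_inf hFK hFJ)
  rw [hKJ] at hKS
  have ee : comb2 f1 f2 (1, 0) = f1 := by simp [comb2]
  have ef : comb2 f1 f2 (0, 1) = f2 := by simp [comb2]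
  have hnF : ∀ g, g ∈ normalizer (F : Set G) → g ∈ normalizer (J : Set G) := fun g hg => by
    have h : ∀ q, g * φ (jM (comb2 f1 f2 q)) * g⁻¹ ∈ J := fun q =>
      hFJ ((mem_normalizer_iff.1 hg _).1 ⟨q, rfl⟩)
    exact D.norm_plane hind (ee ▸ h (1, 0)) (ef ▸ h (0, 1))
  have hJF : ∀ g ∈ K, g ∈ normalizer (J : Set G) → g ∈ normalizer (F : Set G) := by
    intro g hg hgJ
    refine mem_normalizer_iff_map_conj_eq.2 (eq_of_le_of_card_ge ?_ (by
      rw [card_map_of_injective (MulEquiv.injective _)]))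
    rintro _ ⟨f, hf, rfl⟩
    rw [SetLike.mem_coe, ← hKJ] at hf
    rw [← hKJ]
    exact mem_inf.2 ⟨mul_mem (mul_mem hg hf.1) (inv_mem hg), (mem_normalizer_iff.1 hgJ f).1 hf.2⟩
  obtain ⟨P, hP⟩ := hKS.exists_sylow
  let e1 : K := ⟨φ (jM f1), hgenK w1 f1 hw1 hsC h11⟩
  let e2 : K := ⟨φ (jM f2), hgenK w2 f2 hw2 hrC h22⟩
  let r : K := ⟨φ r0, hrK⟩
  let s : K := ⟨φ s0, hsK⟩
  have hPmem : ∀ x : K, x ∈ (P : Subgroup K) ↔ ∃ q, φ (jM (comb2 f1 f2 q)) = x := fun x => by rw [hP]; rfl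
  have hPn : ∀ g : K, g ∈ normalizer ((P : Subgroup K) : Set K) ↔ (g : G) ∈ normalizer (F : Set G) := by
    intro g
    constructor
    · intro hn
      refine mem_normalizer_iff.2 fun y => ⟨fun hy => (hPmem _).1 ((mem_normalizer_iff.1 hn ⟨y, hFK hy⟩).1
        ((hPmem _).2 hy)), fun hy => ?_⟩
      have hyK : y ∈ K := by
        have := mul_mem (mul_mem (inv_mem g.2) (hFK hy)) g.2
        simpa [mul_assoc] using this
      exact (hPmem _).1 ((mem_normalizer_iff.1 hn ⟨y, hyK⟩).2 ((hPmem _).2 hy))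
    · intro hn
      refine mem_normalizer_iff.2 fun y => ?_
      rw [hPmem, hPmem]
      exact mem_normalizer_iff.1 hn y
  have hconj : ∀ (p : Mn) (x : V3), InL ci cd p → φ p * φ p = 1 →
      φ p * φ (jM x) * φ p = φ (jM (wact p.w x)) := fun p x hp h2 => by
    rw [← D.act' hp, inv_eq_of_mul_eq_one_left h2]
  have hr2 := hord r0 hrL hinv.1.2
  have hs2 := hord s0 hsL hinv.1.1
  have hinjc : Function.Injective fun q => φ (jM (comb2 f1 f2 q)) := fun p q e => by
    have h' := D.jinj e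
    have h0 : comb2 f1 f2 (p + -q) = 0 := by
      obtain ⟨a, b⟩ := p; obtain ⟨c, d⟩ := q
      simp only [comb2, Prod.ext_iff] at h'
      simp only [comb2, Prod.neg_mk, Prod.mk_add_mk, Prod.ext_iff]
      exact ⟨by simp only [Prod.fst_zero]; linear_combination h'.1,
        by simp only [Prod.fst_zero, Prod.snd_zero]; linear_combination h'.2.1,
        by simp only [Prod.snd_zero]; linear_combination h'.2.2⟩
    obtain ⟨a, b⟩ := hind _ _ h0
    exact add_neg_eq_zero.1 (Prod.ext a b : p + -q = 0)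
  have hK := klein_normal (P := P) (e1 := e1) (e2 := e2) (r := r) (s := s)
    { ti :=
        { card := by
            rw [hP, Nat.card_congr (subgroupOfEquivOfLe hFK).toEquiv,
              ← Nat.card_eq_of_bijective (fun q : ZMod 3 × ZMod 3 => (⟨_, ⟨q, rfl⟩⟩ : F))
                ⟨fun p q e => hinjc (congrArg Subtype.val e), fun g => by
                  obtain ⟨q, hq⟩ := g.2; exact ⟨q, Subtype.ext hq⟩⟩]
            simp
          exp := fun a ha => by
            obtain ⟨q, hq⟩ := (hPmem a).1 ha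
            exact Subtype.ext (by rw [Subgroup.coe_pow, ← hq, D.jcube]; rfl)
          comm := fun a ha b hb => by
            obtain ⟨q, hq⟩ := (hPmem a).1 ha
            obtain ⟨q', hq'⟩ := (hPmem b).1 hb
            exact Subtype.ext (by rw [Subgroup.coe_mul, Subgroup.coe_mul, ← hq, ← hq', D.jcomm])
          cent := fun a ha ha1 g hg => by
            obtain ⟨q, hq⟩ := (hPmem a).1 ha
            have hq0 : q ≠ 0 := fun e => ha1 (Subtype.ext (by
              rw [← hq, e, show comb2 f1 f2 0 = 0 by simp [comb2], D.jzero]; rfl))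
            refine (hPn g).2 (hJF g g.2 (D.cent_pair' (hindu q hq0) (mem_centralizer_singleton_iff.1 (hKC g.2)) ?_))
            rw [hq]
            exact congrArg Subtype.val (mem_centralizer_singleton_iff.1 hg) }
      m1 := (hPmem _).2 ⟨(1, 0), by rw [ee]⟩
      m2 := (hPmem _).2 ⟨(0, 1), by rw [ef]⟩
      gen := fun a ha => by
        obtain ⟨q, hq⟩ := (hPmem a).1 ha
        have hn : ∀ (n : ℕ) (x : V3), φ (jM (n • x)) = φ (jM x) ^ n := fun n x => by
          induction n with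
          | zero => rw [zero_smul, pow_zero, D.jzero]
          | succ n ih => rw [succ_nsmul, D.jadd, ih, pow_succ]
        refine ⟨q.1.val, q.2.val, Subtype.ext ?_⟩
        rw [← hq, comb2_eq, D.jadd, hn, hn]
        rfl
      r2 := Subtype.ext hr2
      s2 := Subtype.ext hs2
      rs := Subtype.ext (D.map_comm hrL hsL hinv.2.symm)
      r1 := Subtype.ext ((hconj r0 f1 hrL hr2).trans (congrArg (fun x => φ (jM x)) h21))
      r1' := Subtype.ext (((hconj r0 f2 hrL hr2).trans (congrArg (fun x => φ (jM x)) h22)).trans (D.jneg f2))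
      s1 := Subtype.ext (((hconj s0 f1 hsL hs2).trans (congrArg (fun x => φ (jM x)) h11)).trans (D.jneg f1))
      s1' := Subtype.ext ((hconj s0 f2 hsL hs2).trans (congrArg (fun x => φ (jM x)) h12))
      nor := fun g hg => by
        obtain ⟨p, hp, hpg⟩ := D.norm _ (hnF g ((hPn g).1 hg))
        have hpu := hcls p hp (by rw [hpg]; exact mem_centralizer_singleton_iff.1 (hKC g.2))
        have key : ∀ (k : K) (k0 : Mn), InL ci cd k0 → (k : G) = φ k0 → (k0⁻¹ * p).w = 1 →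
            ∃ x ∈ (P : Subgroup K), g = k * x := fun k k0 hk0 hk h1 => by
          refine ⟨k⁻¹ * g, (hPmem _).2 ?_, by group⟩
          have hmJ : ((k⁻¹ * g : K) : G) ∈ J := by
            rw [Subgroup.coe_mul, InvMemClass.coe_inv, hk, ← hpg, ← D.inv' hk0,
              ← D.hom _ _ ((inL_facts ci cd).2.2.2 k0 hk0) hp]
            exact D.mem_of_w h1
          have : ((k⁻¹ * g : K) : G) ∈ F := hKJ ▸ mem_inf.2 ⟨(k⁻¹ * g).2, hmJ⟩
          exact this
        have hwinv : ∀ w : Wt, (wM w)⁻¹.w = w⁻¹ := fun _ => rfl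
        rcases hstab p.w hp hpu with e | e | e | e
        · exact ⟨1, Or.inl rfl, key 1 1 (inL_facts ci cd).1 D.one.symm (by rw [inv_one, one_mul, e])⟩
        · exact ⟨s, Or.inr (Or.inr (Or.inl rfl)), key s s0 hsL rfl (by
            show (wM w1)⁻¹.w * p.w = 1
            rw [hwinv, e, inv_mul_cancel])⟩
        · exact ⟨r, Or.inr (Or.inl rfl), key r r0 hrL rfl (by
            show (wM w2)⁻¹.w * p.w = 1
            rw [hwinv, e, inv_mul_cancel])⟩
        · exact ⟨r * s, Or.inr (Or.inr (Or.inr rfl)), key (r * s) (r0 * s0)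
            ((inL_facts ci cd).2.2.1 _ _ hrL hsL) (D.hom _ _ hrL hsL).symm (by
            show (r0 * s0)⁻¹.w * p.w = 1
            rw [e]
            show (r0 * s0)⁻¹.w * (r0 * s0).w = 1
            exact congrArg Mn.w (inv_mul_cancel (r0 * s0)))⟩ }
  intro g hg
  obtain ⟨k, hk, y, hy, rfl⟩ := hdec g hg
  exact mul_mem (hnF k ((hPn ⟨k, hk⟩).1 (by rw [normalizer_eq_top]; exact mem_top _))) (le_normalizer hy)

/-- An element conjugating an element of `J` with centralizer in the normalizer into the normalizer. -/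
theorem mem_of_moves {v : V3} (hv : ∀ g, g * φ (jM v) = φ (jM v) * g → g ∈ normalizer (J : Set G))
    (htab : ∀ w, Wok ci cd w → wact w v = v → w ^ 3 = 1 → w = 1) {g : G}
    (h : g * φ (jM v) * g⁻¹ ∈ normalizer (J : Set G)) : g ∈ normalizer (J : Set G) := by
  classical
  obtain ⟨q, hq, he⟩ := D.norm _ h
  have hq3 : φ q ^ 3 ^ 1 = 1 := by rw [he, pow_one, conj_pow, D.jcube, mul_one, mul_inv_cancel]
  obtain ⟨w', hw', hfix⟩ := three_elem_fix ci cd q.w hq (D.w_cube hq hq3)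
  set x' := φ (jM (wact w' (1, 1, 1))) with hx'
  have hcx : φ q * x' = x' * φ q := (D.fix_iff hq _).2 hfix
  obtain ⟨p, hp, hpe⟩ := D.norm (g⁻¹ * x' * g) (hv _ (by
    calc g⁻¹ * x' * g * φ (jM v) = g⁻¹ * (x' * φ q) * g := by rw [he]; group
      _ = g⁻¹ * (φ q * x') * g := by rw [hcx]
      _ = φ (jM v) * (g⁻¹ * x' * g) := by rw [he]; group))
  have hpw : p.w = 1 := by
    refine htab p.w hp (D.fix_of_comm hp ?_) (D.w_cube hp (k := 1) ?_)
    · rw [hpe]
      calc g⁻¹ * x' * g * φ (jM v) = g⁻¹ * (x' * φ q) * g := by rw [he]; group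
        _ = g⁻¹ * (φ q * x') * g := by rw [hcx]
        _ = φ (jM v) * (g⁻¹ * x' * g) := by rw [he]; group
    · rw [hpe, pow_one, show g⁻¹ * x' * g = g⁻¹ * x' * g⁻¹⁻¹ by rw [inv_inv], conj_pow, D.jcube, mul_one,
        mul_inv_cancel]
  have hy : g⁻¹ * x' * g ∈ J := hpe ▸ D.mem_of_w hpw
  have hJ'N : ∀ j ∈ J, g * j * g⁻¹ ∈ normalizer (J : Set G) := fun j hj => D.cent_orbit hw' (fun _ => D.cent_x) (by
    show g * j * g⁻¹ * x' = x' * (g * j * g⁻¹)
    calc g * j * g⁻¹ * x' = g * (j * (g⁻¹ * x' * g)) * g⁻¹ := by group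
      _ = g * ((g⁻¹ * x' * g) * j) * g⁻¹ := by rw [D.J_comm hj hy]
      _ = _ := by group)
  have hg : ∀ j ∈ J, g * j * g⁻¹ ∈ J := by
    by_contra hno
    push Not at hno
    obtain ⟨j0, hj0, hn0⟩ := hno
    obtain ⟨p0, hp0, hpe0⟩ := D.norm _ (hJ'N j0 hj0)
    have hw1 : p0.w ≠ 1 := fun e => hn0 (hpe0 ▸ D.mem_of_w e)
    have hcube : ∀ j ∈ J, ∀ p, InL ci cd p → φ p = g * j * g⁻¹ → p.w ^ 3 = 1 := fun j hj p hp e =>
      D.w_cube hp (k := 1) (by rw [e, pow_one, conj_pow, D.J_cube hj, mul_one, mul_inv_cancel])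
    have hw03 := hcube j0 hj0 p0 hp0 hpe0
    have hsmall := three_elem_small p0.w hw03 hw1 p0.v
    have key : ∀ j : J, ∃ a : V3 × Fin 3, InL ci cd ⟨a.1, p0.w ^ a.2.val⟩ ∧
        φ ⟨a.1, p0.w ^ a.2.val⟩ = g * j * g⁻¹ ∧ a.1 + wact (p0.w ^ a.2.val) p0.v = p0.v + wact p0.w a.1 := by
      intro j
      obtain ⟨p, hp, e⟩ := D.norm _ (hJ'N j j.2)
      have hc : p * p0 = p0 * p := D.comm' hp hp0 (by
        rw [e, hpe0]
        calc g * (j : G) * g⁻¹ * (g * j0 * g⁻¹) = g * ((j : G) * j0) * g⁻¹ := by group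
          _ = g * (j0 * (j : G)) * g⁻¹ := by rw [D.J_comm j.2 hj0]
          _ = _ := by group)
      obtain ⟨v, w⟩ := p
      obtain ⟨k, hk⟩ : ∃ k : Fin 3, w = p0.w ^ k.val := by
        rcases three_elem_comm p0.w w hw03 hw1 (hcube j j.2 _ hp e) (congrArg Mn.w hc) with h | h | h
        · exact ⟨0, by rw [h]; exact (pow_zero _).symm⟩
        · exact ⟨1, by rw [h]; exact (pow_one _).symm⟩
        · exact ⟨2, by rw [h]; exact (pow_two _).symm⟩
      subst hk
      exact ⟨(v, k), hp, e, congrArg Mn.v hc⟩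
    choose a ha1 ha2 ha3 using key
    have hle : Nat.card J ≤ ((Finset.univ : Finset (V3 × Fin 3)).filter fun q =>
        q.1 + wact (p0.w ^ q.2.val) p0.v = p0.v + wact p0.w q.1).card := by
      rw [← Fintype.card_coe, ← Nat.card_eq_fintype_card]
      refine Nat.card_le_card_of_injective (fun j => ⟨a j, Finset.mem_filter.2 ⟨Finset.mem_univ _, ha3 j⟩⟩)
        fun i j e => Subtype.ext ?_
      have e' : a i = a j := congrArg Subtype.val e
      exact mul_left_cancel (mul_right_cancel ((ha2 i).symm.trans ((by rw [e'] :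
        φ ⟨(a i).1, p0.w ^ (a i).2.val⟩ = φ ⟨(a j).1, p0.w ^ (a j).2.val⟩).trans (ha2 j))))
    rw [D.J_card] at hle
    omega
  refine mem_normalizer_iff_map_conj_eq.2 (eq_of_le_of_card_ge ?_ (by
    rw [card_map_of_injective (MulEquiv.injective _)]))
  rintro _ ⟨j, hj, rfl⟩
  exact hg j hj

end Frame

end Cfsg.Agent.NineSym
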