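import Cfsg.Agent.Lib.NineSym.CaseTwo
import Cfsg.Agent.Lib.NineSym.Local

/-!
# Automizer the symmetric group of degree four with even sign changes
-/

set_option autoImplicit false
set_option linter.style.haveILetI false
set_option linter.unusedSectionVars false
set_option maxRecDepth 100000
set_option synthInstance.maxSize 10000

namespace Cfsg.Agent.NineSym

open Subgroup

/-- The sign changes. -/
def dM (k : Fin 4) : Mn := wM ⟨false, k, 0⟩

/-- The dihedral group of order eight. -/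
def octM : List Mn := [1, dM 1, dM 2, dM 3, rhoM, dM 3 * rhoM, dM 1 * rhoM, dM 2 * rhoM]

/-- The cyclic subgroup of order four. -/
def quadM : List Mn := [1, dM 3, dM 1 * rhoM, dM 2 * rhoM]

theorem oct_inL : (∀ q ∈ octM, InL false true q ∧ q⁻¹ ∈ octM ∧ q ^ 8 = 1 ∧ (∀ p ∈ octM, q * p ∈ octM) ∧
    q * dM 3 = dM 3 * q ∧ (q ∈ quadM ∨ (q * q = 1 ∧ q ≠ dM 3 ∧ q ≠ 1))) ∧
    (∀ q ∈ quadM, q ∈ octM ∧ InL false true q ∧ q⁻¹ ∈ quadM ∧ (∀ p ∈ quadM, q * p ∈ quadM) ∧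
      (q * q = 1 → q = 1 ∨ q = dM 3) ∧ ∃ k : Fin 4, (dM 1 * rhoM) ^ k.val = q) := by
  decide +kernel

/-- Vectors with an evident centralizer. -/
def Good4 (v : V3) : Prop :=
  Simple false true v ∨ ∃ w : Wt, Wok false true w ∧
    (v = wact w (1, 1, 1) ∨ v = wact w (2, 2, 2) ∨ v = wact w (0, 0, 1))

instance (v : V3) : Decidable (Good4 v) := inferInstanceAs (Decidable (_ ∨ _))

theorem good4_all : ∀ v : V3, v ≠ 0 → Good4 v := by decide +kernel

theorem four_klein : (Wok false true ⟨false, 0, 3⟩ ∧ Wok false true ⟨false, 3, 3⟩) ∧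
    ((wM ⟨false, 0, 3⟩ * wM ⟨false, 0, 3⟩ = 1 ∧ wM ⟨false, 3, 3⟩ * wM ⟨false, 3, 3⟩ = 1) ∧
      wM ⟨false, 0, 3⟩ * wM ⟨false, 3, 3⟩ = wM ⟨false, 3, 3⟩ * wM ⟨false, 0, 3⟩) ∧
    wact ⟨false, 0, 3⟩ (0, 0, 1) = (0, 0, 1) ∧ wact ⟨false, 3, 3⟩ (0, 0, 1) = (0, 0, 1) ∧
    wact ⟨false, 0, 3⟩ (1, 2, 0) = -(1, 2, 0) ∧ wact ⟨false, 0, 3⟩ (1, 1, 0) = (1, 1, 0) ∧
    wact ⟨false, 3, 3⟩ (1, 2, 0) = (1, 2, 0) ∧ wact ⟨false, 3, 3⟩ (1, 1, 0) = -(1, 1, 0) ∧
    Indep ((1, 2, 0) : V3) ((1, 1, 0) : V3) := by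
  decide +kernel

theorem four_klein' : (∀ q : ZMod 3 × ZMod 3, q ≠ 0 → Indep ((0, 0, 1) : V3) (comb2 (1, 2, 0) (1, 1, 0) q)) ∧
    (∀ w, Wok false true w → wact w (0, 0, 1) = (0, 0, 1) →
      w = 1 ∨ w = ⟨false, 0, 3⟩ ∨ w = ⟨false, 3, 3⟩ ∨ w = (⟨false, 3, 3⟩ : Wt) * ⟨false, 0, 3⟩) ∧
    (∀ w, Wok false true w → wact w (0, 0, 1) = (0, 0, 1) →
      ∀ x : V3, ∃ q, x + -wact w x = comb2 (1, 2, 0) (1, 1, 0) q) := by
  decide +kernel

theorem four_rho_tab : ∀ w, Wok false true w → w * rhoM.w = rhoM.w * w →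
    (w ^ 3 = 1 → w = 1) ∧ (w = 1 ∨ w = rhoM.w ∨ w = (dM 3).w ∨ w = (dM 3 * rhoM).w) ∧
    ∀ y : V3, wact rhoM.w y = y → y + -wact w y = 0 ∨ y + -wact w y = (1, 1, 0) ∨
      y + -wact w y = (1, 1, 0) + (1, 1, 0) := by
  decide +kernel

theorem four_rho_fix : ∀ w, Wok false true w → w * rhoM.w = rhoM.w * w →
    ((∀ y : V3, wact rhoM.w y = y → wact w y = y) → w = 1 ∨ w = rhoM.w) ∧
    (wact w (1, 1, 0) = (1, 1, 0) → w = 1 ∨ w = rhoM.w) := by
  decide +kernel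

theorem four_rho_el : ∀ v : V3, ∀ w : Wt, (w = 1 ∨ w = rhoM.w) → (⟨v, w⟩ : Mn) * rhoM = rhoM * ⟨v, w⟩ →
    wact rhoM.w v = v ∧ ((⟨v, w⟩ : Mn) * ⟨v, w⟩ = 1 → w = rhoM.w → v = 0) ∧
    (w = rhoM.w → (⟨v, w⟩ : Mn) = jM v * rhoM ∧ (⟨v, w⟩ : Mn) * ⟨v, w⟩ = jM (v + v)) := by
  decide +kernel

theorem four_line : wact (dM 3).w (1, 1, 0) = -(1, 1, 0) ∧
    (∀ x : V3, wact (dM 3).w x = x → x = 0 ∨ x = (0, 0, 1) ∨ x = -(0, 0, 1)) ∧
    wact (dM 1).w (0, 0, 1) = -(0, 0, 1) ∧ wact rhoM.w (0, 0, 1) = (0, 0, 1) ∧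
    Simple false true (1, 1, 0) ∧ (∀ w, Wok false true w → w * (dM 3).w = (dM 3).w * w → w ^ 3 = 1 → w = 1) ∧
    (∀ w, Wok false true w → w * rhoM.w ≠ (dM 3).w * w) ∧
    (∀ w, Wok false true w → wact w (1, 1, 0) = (1, 1, 0) → w ^ 3 = 1 → w = 1) := by
  decide +kernel

theorem four_norm : ∀ w, Wok false true w → w * rhoM.w = rhoM.w * w → w * (dM 3).w = (dM 3).w * w → ∀ v : V3,
    (⟨v, w⟩ : Mn) * rhoM = rhoM * ⟨v, w⟩ → (⟨v, w⟩ : Mn) * dM 3 = dM 3 * ⟨v, w⟩ →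
      (⟨v, w⟩ : Mn) ^ 6 = 1 ∧ ((⟨v, w⟩ : Mn) ^ 8 = 1 → (⟨v, w⟩ : Mn) ∈ octM) := by
  decide +kernel

theorem four_stab : ∀ w, Wok false true w → wact w (0, 0, 1) = (0, 0, 1) → ∀ v : V3,
    (⟨v, w⟩ : Mn) * dM 3 = dM 3 * ⟨v, w⟩ → (⟨v, w⟩ : Mn) ^ 6 = 1 := by
  decide +kernel

/-- The involutions commuting with `(0 3)(1 4)(2 5)`, up to elements of `⟨(0 1 2)(3 4 5)⟩`. -/
theorem four_invol : ∀ w, Wok false true w → w * rhoM.w = rhoM.w * w → ∀ v : V3,
    (⟨v, w⟩ : Mn) * rhoM = rhoM * ⟨v, w⟩ → (⟨v, w⟩ : Mn) * ⟨v, w⟩ = 1 → (⟨v, w⟩ : Mn) ≠ 1 →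
    ((⟨v, w⟩ : Mn) = rhoM ∨ (⟨v, w⟩ : Mn) = dM 3 ∨ (⟨v, w⟩ : Mn) = dM 3 * rhoM ∨
      ∃ e : ZMod 3, e ≠ 0 ∧ ((⟨v, w⟩ : Mn) * dM 3 = jM (e, e, 0) ∨ (⟨v, w⟩ : Mn) * (dM 3 * rhoM) = jM (e, e, 0))) ∧
    (v = 0 ∨ ∃ a : ZMod 3, (⟨v, w⟩ : Mn) = jM (a, a, 0) * dM 3 * (jM (a, a, 0))⁻¹ ∨
      (⟨v, w⟩ : Mn) = jM (a, a, 0) * (dM 3 * rhoM) * (jM (a, a, 0))⁻¹) := by
  decide +kernel

theorem four_d3rho : dM 1 * rhoM * (dM 1)⁻¹ = dM 3 * rhoM ∧
    (jM ((2, 2, 0) : V3) * dM 3 * (jM (2, 2, 0))⁻¹) * dM 3 = jM (1, 1, 0) ∧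
    wM ⟨false, 0, 1⟩ * dM 3 * (wM ⟨false, 0, 1⟩)⁻¹ = dM 1 ∧
    (dM 1 * dM 3 = dM 3 * dM 1) ∧
    (wM ⟨false, 0, 1⟩ * dM 2 * (wM ⟨false, 0, 1⟩)⁻¹ = dM 3) ∧
    (rhoM * wM ⟨false, 0, 1⟩ * rhoM⁻¹ = (wM ⟨false, 0, 1⟩)⁻¹) ∧ (wM ⟨false, 0, 1⟩) ^ 3 = 1 ∧
    dM 2 = dM 1 * dM 3 := by
  decide +kernel

theorem three_cancel {G : Type*} [Group G] {a : G} (h : a ^ 3 = 1) : a⁻¹ * a⁻¹ = a := by
  calc a⁻¹ * a⁻¹ = a⁻¹ * a⁻¹ * a ^ 3 := by rw [h, mul_one]
    _ = a := by simp only [pow_succ, pow_zero, one_mul]; group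

variable {G : Type*} [Group G] [Finite G] {J : Subgroup G} {φ : Mn → G}

namespace Frame

variable (D : Frame J false true φ)
include D

theorem four_good {v : V3} (hv : v ≠ 0) {g : G} (hg : g * φ (jM v) = φ (jM v) * g) :
    g ∈ normalizer (J : Set G) := by
  have hk : ∀ g, g * φ (jM ((0, 0, 1) : V3)) = φ (jM (0, 0, 1)) * g → g ∈ normalizer (J : Set G) := fun g hg => by
    obtain ⟨⟨h1, h2⟩, hi, a1, a2, a3, a4, a5, a6, a7⟩ := four_klein
    exact D.cent_klein h1 h2 hi a1 a2 a3 a4 a5 a6 a7 four_klein'.1 four_klein'.2.1 four_klein'.2.2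
      (mem_centralizer_singleton_iff.2 hg)
  rcases good4_all v hv with h | ⟨w, hw, rfl | rfl | rfl⟩
  · exact D.cent_simple h (mem_centralizer_singleton_iff.2 hg)
  · exact D.cent_orbit hw (fun _ => D.cent_x) hg
  · exact D.cent_orbit hw (fun g hg => D.cent_easy (Or.inr (Or.inl rfl)) hg) hg
  · exact D.cent_orbit hw hk hg

theorem four_rho : ∀ g, g * φ rhoM = φ rhoM * g → g ∈ normalizer (J : Set G) := by
  classical
  obtain ⟨hr2, hr1, hrL0, hind, hu, hv⟩ := rho_facts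
  have hrL : InL false true rhoM := inL_mono hrL0
  set Y := centralizer ({φ rhoM} : Set G)
  set E := J ⊓ Y with hEdef
  have hS : SylowAt Y E := D.sylow_plane hrL hind hu hv
    fun w hw hc h3 hne => absurd ((four_rho_tab w hw hc).1 h3) hne
  have hnormE : ∀ g, g ∈ normalizer (E : Set G) → g ∈ normalizer (J : Set G) := fun g hg => D.norm_plane hind
    (mem_inf.1 ((mem_normalizer_iff.1 hg _).1 ((D.mem_fix hrL).2 ⟨_, rfl, hu⟩))).1
    (mem_inf.1 ((mem_normalizer_iff.1 hg _).1 ((D.mem_fix hrL).2 ⟨_, rfl, hv⟩))).1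
  set f : G := φ (jM ((1, 1, 0) : V3)) with hf
  have hf3 : orderOf f = 3 := orderOf_eq_prime (D.jcube _) fun e =>
    absurd (D.jinj (e.trans D.jzero.symm)) (by decide +kernel : ((1, 1, 0) : V3) ≠ 0)
  have hfY : f ∈ Y := ((D.mem_fix hrL).2 ⟨_, rfl, hu⟩).2
  have hd3 : InL false true (dM 3) ∧ dM 3 * rhoM = rhoM * dM 3 ∧ dM 3 * dM 3 = 1 := by decide +kernel
  obtain ⟨K, hKY, hYK, hKE, hcomK, hdec, hall, hKS⟩ := hS.split (F := zpowers f)
    (fun x hx y hy => D.J_comm hx.1 hy.1) fun n hn hnn x hx => by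
      obtain ⟨q, hq, rfl⟩ := D.norm n (hnormE n hnn)
      obtain ⟨y, rfl, hy⟩ := (D.mem_fix hrL).1 hx
      rw [show φ (jM y) * φ q * (φ (jM y))⁻¹ * (φ q)⁻¹ = φ (jM y) * (φ q * φ (jM y) * (φ q)⁻¹)⁻¹ by group,
        D.act' hq, ← D.jneg, ← D.jadd]
      rcases (four_rho_tab q.w hq (congrArg Mn.w (D.comm' hq hrL (mem_centralizer_singleton_iff.1 hn)))).2.2 y hy
        with e | e | e <;> rw [e]
      · rw [D.jzero]; exact one_mem _
      · exact mem_zpowers f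
      · rw [D.jadd]; exact mul_mem (mem_zpowers f) (mem_zpowers f)
  have hrY : φ rhoM ∈ Y := mem_centralizer_singleton_iff.2 rfl
  have hdY : φ (dM 3) ∈ Y := mem_centralizer_singleton_iff.2 (D.map_comm hd3.1 hrL hd3.2.1)
  have hinvK : ∀ p, InL false true p → φ p ∈ Y → p * p = 1 → φ p ∈ K := fun p hp hpY h2 =>
    hall _ hpY (Nat.Coprime.coprime_dvd_left (orderOf_dvd_of_pow_eq_one (n := 2)
      (by rw [pow_two, ← D.hom _ _ hp hp, h2, D.one])) (by norm_num))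
  have hfK : f ∈ K := by
    have h := hcomK _ ((D.mem_fix hrL).2 ⟨_, rfl, hu⟩) _ hdY (mem_normalizer_iff.2 fun y => ?_)
    · rw [show φ (jM (1, 1, 0)) * φ (dM 3) * (φ (jM (1, 1, 0)))⁻¹ * (φ (dM 3))⁻¹ =
        φ (jM (1, 1, 0)) * (φ (dM 3) * φ (jM (1, 1, 0)) * (φ (dM 3))⁻¹)⁻¹ by group, D.act' hd3.1, four_line.1,
        D.jneg, inv_inv] at h
      have h2 := pow_mem h 2
      rwa [← hf, ← pow_two, ← pow_mul, show 2 * 2 = 3 + 1 by norm_num, pow_succ, ← hf3, pow_orderOf_eq_one,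
        one_mul] at h2
    · have hJ := mem_normalizer_iff.1 (D.mem _ hd3.1) y
      have hY' := mem_normalizer_iff.1 (le_normalizer hdY : φ (dM 3) ∈ normalizer (Y : Set G)) y
      exact and_congr hJ hY'
  set Z := zpowers (φ rhoM) with hZ
  have hr2' : φ rhoM * φ rhoM = 1 := by rw [← D.hom _ _ hrL hrL, hr2, D.one]
  have hrZ : ∀ z ∈ Z, z = 1 ∨ z = φ rhoM := fun z hz => by
    obtain ⟨k, rfl⟩ := mem_zpowers_iff.1 hz
    rcases Int.even_or_odd k with ⟨j, rfl⟩ | ⟨j, rfl⟩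
    · left; rw [zpow_add, ← (Commute.refl (φ rhoM)).mul_zpow, hr2', one_zpow]
    · right; rw [zpow_add, zpow_mul, zpow_two, hr2', one_zpow, one_mul, zpow_one]
  have hZK : Z ≤ K := zpowers_le.2 (hinvK rhoM hrL hrY hr2)
  have hsmall := self_three_small K Z E f hfK hf3 hZK
    (by
      rw [hZ, Nat.card_zpowers]
      exact orderOf_dvd_of_pow_eq_one (by rw [pow_two, hr2']))
    (fun z hz k hk => by
      have hc : Commute k (φ rhoM) := mem_centralizer_singleton_iff.1 (hKY hk)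
      rcases hrZ z hz with rfl | rfl
      · simp
      · exact hc.eq.symm)
    (fun g hg hgf => by
      obtain ⟨q, hq, rfl⟩ := D.norm g (D.four_good (by decide +kernel) hgf)
      have hc := D.comm' hq hrL (mem_centralizer_singleton_iff.1 (hKY hg))
      have hw := (four_rho_fix q.w hq (congrArg Mn.w hc)).2 (D.fix_of_comm hq hgf)
      obtain ⟨v, w⟩ := q
      obtain ⟨hv', -, hsplit⟩ := four_rho_el v w hw hc
      have hjE : φ (jM v) ∈ E := (D.mem_fix hrL).2 ⟨v, rfl, hv'⟩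
      obtain ⟨z, hzZ, hgz⟩ : ∃ z ∈ Z, φ ⟨v, w⟩ = φ (jM v) * z := by
        rcases hw with e | e <;> simp only at e <;> subst e
        · exact ⟨1, one_mem _, (mul_one _).symm⟩
        · exact ⟨φ rhoM, mem_zpowers _, by rw [(hsplit rfl).1, D.hom _ _ ((inL_facts _ _).2.1 v) hrL]⟩
      have hjK : φ (jM v) ∈ K := by
        rw [show φ (jM v) = φ ⟨v, w⟩ * z⁻¹ by rw [hgz, mul_inv_cancel_right]]
        exact mul_mem hg (inv_mem (hZK hzZ))
      obtain ⟨k, hk⟩ := mem_zpowers_iff.1 (hKE (mem_inf.2 ⟨hjK, hjE⟩))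
      refine ⟨(k % 3).toNat, z, hzZ, ?_⟩
      rw [hgz, ← hk, ← zpow_natCast, Int.toNat_of_nonneg (Int.emod_nonneg k (by norm_num))]
      congr 1
      exact zpow_eq_zpow_emod k (by exact_mod_cast D.jcube _))
    (D.J_isP.to_le inf_le_left) ((inf_le_right : E ≤ Y).trans hYK)
    (fun R hRK hR hER => by
      have hRN : R ≤ normalizer (J : Set G) := by
        refine D.le_of_fixed_plane hind hR (fun q => hER ((D.mem_fix hrL).2 ⟨_, rfl, ?_⟩)) fun q hq r _ hr =>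
          D.four_good (fun e => hq ?_) hr
        · let F : V3 →+ V3 := AddMonoidHom.mk' (wact rhoM.w) (wact_add rhoM.w)
          show F (comb2 _ _ q) = comb2 _ _ q
          rw [comb2_eq, map_add, map_nsmul, map_nsmul]
          show q.1.val • wact rhoM.w (1, 1, 0) + q.2.val • wact rhoM.w (0, 0, 1) = _
          rw [hu, hv]
        · exact (by decide +kernel : ∀ q : ZMod 3 × ZMod 3, comb2 (1, 1, 0) (0, 0, 1) q = 0 → q = 0) q e
      intro r hr
      obtain ⟨p, hp, rfl⟩ := D.norm r (hRN hr)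
      have hord : (orderOf (φ p)).Coprime 3 :=
        Nat.Coprime.coprime_dvd_left (by simpa using orderOf_dvd_natCard (⟨φ p, hr⟩ : R)) hR
      have hc := D.comm' hp hrL (mem_centralizer_singleton_iff.1 (hKY (hRK hr)))
      have hfixE : ∀ y : V3, wact rhoM.w y = y → wact p.w y = y := fun y hy => by
        have he : φ (jM y) ∈ E := (D.mem_fix hrL).2 ⟨y, rfl, hy⟩
        have h1 : φ p * φ (jM y) * (φ p)⁻¹ * (φ (jM y))⁻¹ ∈ J :=
          mul_mem ((mem_normalizer_iff.1 (D.mem p hp) _).1 he.1) (inv_mem he.1)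
        have h2 : φ p * φ (jM y) * (φ p)⁻¹ * (φ (jM y))⁻¹ ∈ R := by
          rw [show φ p * φ (jM y) * (φ p)⁻¹ * (φ (jM y))⁻¹ = φ p * (φ (jM y) * (φ p)⁻¹ * (φ (jM y))⁻¹) by group]
          exact mul_mem hr ((mem_normalizer_iff.1 (hER he) _).1 (inv_mem hr))
        have h3 : φ p * φ (jM y) * (φ p)⁻¹ * (φ (jM y))⁻¹ = 1 :=
          orderOf_eq_one_iff.1 (Nat.dvd_one.1 (hR ▸ Nat.dvd_gcd (orderOf_mk _ h2 ▸ orderOf_dvd_natCard _)
            (orderOf_dvd_of_pow_eq_one (D.J_cube h1))))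
        rw [D.act' hp, mul_inv_eq_one] at h3
        exact D.jinj h3
      have hw := (four_rho_fix p.w hp (congrArg Mn.w hc)).1 hfixE
      obtain ⟨v, w⟩ := p
      obtain ⟨-, hz, hsplit⟩ := four_rho_el v w hw hc
      rcases hw with e | e <;> simp only at e <;> subst e
      · have : φ (jM v) = 1 := orderOf_eq_one_iff.1 (Nat.dvd_one.1 (hord ▸ Nat.dvd_gcd dvd_rfl
          (orderOf_dvd_of_pow_eq_one (D.jcube v))))
        show φ (jM v) ∈ Z
        rw [this]; exact one_mem _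
      · have hsq : φ ⟨v, rhoM.w⟩ * φ ⟨v, rhoM.w⟩ = φ (jM (v + v)) := by rw [← D.hom _ _ hp hp, (hsplit rfl).2]
        have h0 : φ (jM (v + v)) = 1 := orderOf_eq_one_iff.1 (Nat.dvd_one.1 (hR ▸ Nat.dvd_gcd
          (orderOf_mk _ (hsq ▸ mul_mem hr hr : φ (jM (v + v)) ∈ R) ▸ orderOf_dvd_natCard _)
          (orderOf_dvd_of_pow_eq_one (D.jcube _))))
        have hv0 : v = 0 := hz (D.eq_one ((inL_facts _ _).2.2.1 _ _ hp hp) (by rw [D.hom _ _ hp hp, hsq, h0])) rfl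
        rw [hv0]; exact mem_zpowers (φ rhoM))
  intro g hg
  obtain ⟨k, hk, s, hs, rfl⟩ := hdec g (mem_centralizer_singleton_iff.2 hg)
  refine mul_mem ?_ (le_normalizer hs.1)
  have hdfd : φ (dM 3) * f⁻¹ * (φ (dM 3))⁻¹ = f := by
    rw [hf, ← D.jneg, D.act' hd3.1]
    exact congrArg (fun x => φ (jM x)) (by decide +kernel : wact (dM 3).w (-(1, 1, 0)) = (1, 1, 0))
  rcases hsmall k hk with e | e
  · exact D.four_good (v := (1, 1, 0)) (by decide +kernel) (mul_inv_eq_iff_eq_mul.1 e)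
  · have h1 : φ (dM 3) * k ∈ normalizer (J : Set G) := D.four_good (v := (1, 1, 0)) (by decide +kernel) (mul_inv_eq_iff_eq_mul.1 (by
      show φ (dM 3) * k * f * (φ (dM 3) * k)⁻¹ = f
      rw [show φ (dM 3) * k * f * (φ (dM 3) * k)⁻¹ = φ (dM 3) * (k * f * k⁻¹) * (φ (dM 3))⁻¹ by group, e, hdfd]))
    simpa using mul_mem (inv_mem (D.mem _ hd3.1)) h1

theorem four_dee : ∀ g, g * φ (dM 3) = φ (dM 3) * g → g ∈ normalizer (J : Set G) := by
  classical
  haveI : Fact (Nat.Prime 2) := ⟨Nat.prime_two⟩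
  obtain ⟨hr2, hr1, hrL0, hind, hu, hv⟩ := rho_facts
  have hrL : InL false true rhoM := inL_mono hrL0
  obtain ⟨hde, hduniq, hd1c, hrc, hsimple, hd3tab, hrd, -⟩ := four_line
  obtain ⟨hd3r, -, hσd, hd13, hσd2, hrσ, hσ3, hd2eq⟩ := four_d3rho
  set σ : Mn := wM ⟨false, 0, 1⟩ with hσdef
  have hσL : InL false true σ := by decide +kernel
  have hmem3 : dM 3 ∈ quadM := by simp [quadM]
  have hmem1 : dM 1 ∈ octM := by simp [octM]
  have hmemr : rhoM ∈ octM := by simp [octM]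
  have hd3L : InL false true (dM 3) := (oct_inL.2 _ hmem3).2.1
  have hd1L : InL false true (dM 1) := (oct_inL.1 _ hmem1).1
  set u := φ (dM 3) with hudef
  set r := φ rhoM with hrdef
  set Y := centralizer ({u} : Set G) with hY
  have hcY : ∀ g, g * φ (jM ((0, 0, 1) : V3)) = φ (jM (0, 0, 1)) * g → g ∈ normalizer (J : Set G) :=
    fun g => D.four_good (by decide +kernel)
  have hlineS : SylowAt Y (J ⊓ Y) := D.sylow_line hd3L (v := ((0, 0, 1) : V3)) (by decide +kernel) hduniq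
    (fun g _ hg _ => hcY g hg) fun w hw hc h3 hne => absurd (hd3tab w hw hc h3) hne
  have hrne : ∀ g, g * r * g⁻¹ ≠ u := D.not_conj_plane hrL hd3L hind hu hv
    (D.sylow_plane hrL hind hu hv fun w hw hc h3 hne => absurd ((four_rho_tab w hw hc).1 h3) hne) hlineS hrd
  -- the dihedral group
  let T := D.listSub octM (by simp [octM]) fun q hq =>
    ⟨(oct_inL.1 q hq).1, (oct_inL.1 q hq).2.1, (oct_inL.1 q hq).2.2.2.1⟩
  let C := D.listSub quadM (by simp [quadM]) fun q hq =>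
    ⟨(oct_inL.2 q hq).2.1, (oct_inL.2 q hq).2.2.1, (oct_inL.2 q hq).2.2.2.1⟩
  have hTY : T ≤ Y := by
    rintro _ ⟨q, hq, rfl⟩
    exact mem_centralizer_singleton_iff.2 (D.map_comm (oct_inL.1 q hq).1 hd3L (oct_inL.1 q hq).2.2.2.2.1)
  have hT2 : IsPGroup 2 T := by
    rintro ⟨_, q, hq, rfl⟩
    exact ⟨3, Subtype.ext (by
      rw [Subgroup.coe_pow, Subgroup.coe_one, ← (D.map_pow (oct_inL.1 q hq).1 _).2]
      show φ (q ^ 8) = 1
      rw [(oct_inL.1 q hq).2.2.1, D.one])⟩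
  have hd1r : φ (dM 1) * r * (φ (dM 1))⁻¹ = φ (dM 3 * rhoM) := by rw [hrdef, ← D.conj' hd1L hrL, hd3r]
  have hd3r' : InL false true (dM 3 * rhoM) := (inL_facts _ _).2.2.1 _ _ hd3L hrL
  have hrho3 : ∀ g, g * φ (dM 3 * rhoM) = φ (dM 3 * rhoM) * g → g ∈ normalizer (J : Set G) := fun g hg =>
    D.cent_conj hrL hd1L D.four_rho (by rw [hd3r]; exact hg)
  have hmax := maximal_of_normalizer (p := 2) (Y := Y) (T := T) fun g hg hgn ⟨k, hk⟩ => by
    have hu' : g * u = u * g := mem_centralizer_singleton_iff.1 hg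
    have hgT : g * r * g⁻¹ ∈ T := (mem_normalizer_iff.1 hgn _).1 ⟨rhoM, hmemr, rfl⟩
    obtain ⟨t, htm, hte⟩ := hgT
    have ht2 : t * t = 1 ∧ t ≠ 1 := by
      have h1 : φ t * φ t = 1 := by
        rw [hte, show g * r * g⁻¹ * (g * r * g⁻¹) = g * (r * r) * g⁻¹ by group, hrdef, ← D.hom _ _ hrL hrL, hr2,
          D.one, mul_one, mul_inv_cancel]
      refine ⟨D.eq_one ((inL_facts _ _).2.2.1 _ _ (oct_inL.1 t htm).1 (oct_inL.1 t htm).1)
        (by rw [D.hom _ _ (oct_inL.1 t htm).1 (oct_inL.1 t htm).1, h1]), fun e => ?_⟩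
      rw [e, D.one, eq_comm, conj_eq_one_iff] at hte
      exact hr1 (D.eq_one hrL hte)
    have hcases : t = rhoM ∨ t = dM 3 * rhoM ∨ t = dM 3 ∨ t = dM 1 ∨ t = dM 2 :=
      (by decide +kernel : ∀ t ∈ octM, t * t = 1 → t ≠ 1 →
        t = rhoM ∨ t = dM 3 * rhoM ∨ t = dM 3 ∨ t = dM 1 ∨ t = dM 2) t htm ht2.1 ht2.2
    have hd2L : InL false true (dM 2) := (oct_inL.1 _ (by simp [octM] : dM 2 ∈ octM)).1
    obtain ⟨a, hat, hae⟩ : ∃ a ∈ octM, φ a * g * r = r * (φ a * g) := by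
      rcases hcases with e | e | e | e | e <;> subst e
      · exact ⟨1, by simp [octM], by rw [D.one, one_mul]; exact mul_inv_eq_iff_eq_mul.1 hte.symm⟩
      · refine ⟨(dM 1)⁻¹, (oct_inL.1 _ hmem1).2.1, mul_inv_eq_iff_eq_mul.1 ?_⟩
        rw [show φ (dM 1)⁻¹ * g * r * (φ (dM 1)⁻¹ * g)⁻¹ = φ (dM 1)⁻¹ * (g * r * g⁻¹) * (φ (dM 1)⁻¹)⁻¹ by group,
          ← hte, D.inv' hd1L, inv_inv, ← hd1r]
        group
      · exact absurd hte.symm (hrne g)
      · refine absurd ?_ (hrne ((φ σ)⁻¹ * g))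
        rw [show (φ σ)⁻¹ * g * r * ((φ σ)⁻¹ * g)⁻¹ = (φ σ)⁻¹ * (g * r * g⁻¹) * φ σ by group, ← hte,
          ← hσd, D.conj' hσL hd3L]
        group
        rfl
      · refine absurd ?_ (hrne (φ σ * g))
        rw [show φ σ * g * r * (φ σ * g)⁻¹ = φ σ * (g * r * g⁻¹) * (φ σ)⁻¹ by group, ← hte,
          ← D.conj' hσL hd2L, hσd2]
    obtain ⟨q, hq, hqe⟩ := D.norm _ (D.four_rho _ hae)
    have haL := (oct_inL.1 a hat).1
    have hd3 : φ q * u = u * φ q := by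
      rw [hqe]; exact mem_centralizer_singleton_iff.1 (mul_mem (hTY ⟨a, hat, rfl⟩) hg)
    have hqr : φ q * r = r * φ q := by rw [hqe]; exact hae
    have h1 := D.comm' hq hrL hqr
    have h2 := D.comm' hq hd3L hd3
    have hgq : g = φ (a⁻¹ * q) := by
      rw [D.hom _ _ ((inL_facts _ _).2.2.2 a haL) hq, D.inv' haL, hqe, inv_mul_cancel_left]
    obtain ⟨v, w⟩ := q
    obtain ⟨h6, h8⟩ := four_norm w hq (congrArg Mn.w h1) (congrArg Mn.w h2) v h1 h2
    refine hgq ▸ ⟨a⁻¹ * ⟨v, w⟩, ?_, rfl⟩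
    refine (oct_inL.1 _ (oct_inL.1 a hat).2.1).2.2.2.1 _ (h8 ?_)
    refine D.eq_one (D.map_pow hq 8).1 ?_
    rw [(D.map_pow hq 8).2, hqe]
    obtain ⟨n, hn⟩ : ∃ n : ℕ, (φ a * g) ^ 2 ^ n = 1 := by
      refine ⟨k + 3, ?_⟩
      have hsub : IsPGroup 2 (closure ((T : Set G) ∪ {g}) : Subgroup G) := by
        have hle : closure ((T : Set G) ∪ {g}) ≤ T ⊔ zpowers g := by
          rw [closure_le]
          rintro x (hx | rfl)
          · exact (le_sup_left : T ≤ T ⊔ zpowers g) hx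
          · exact (le_sup_right : zpowers x ≤ T ⊔ zpowers x) (mem_zpowers x)
        refine IsPGroup.to_le ?_ hle
        rw [sup_comm]
        have hz : IsPGroup 2 (zpowers g) := by
          rintro ⟨x, hx⟩
          obtain ⟨m, rfl⟩ := mem_zpowers_iff.1 hx
          exact ⟨k, Subtype.ext (by
            rw [Subgroup.coe_pow, ← zpow_natCast, ← zpow_mul, mul_comm, zpow_mul, zpow_natCast, hk, one_zpow]
            rfl)⟩
        exact hz.to_sup_of_normal_right' hT2 (zpowers_le.2 hgn)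
      obtain ⟨n, hn⟩ := hsub ⟨φ a * g, mul_mem (subset_closure (Or.inl ⟨a, hat, rfl⟩))
        (subset_closure (Or.inr rfl))⟩
      have h1 : orderOf (φ a * g) ∣ 2 ^ n := orderOf_dvd_of_pow_eq_one (congrArg Subtype.val hn)
      have h6' : (φ a * g) ^ 6 = 1 := by rw [← hqe, ← (D.map_pow hq 6).2, h6, D.one]
      have h2' : (φ a * g) ^ 2 = 1 := sq_one_of_two_pow (congrArg Subtype.val hn) h6'
      rw [pow_succ', pow_mul, h2', one_pow]
    have h6' : (φ a * g) ^ 6 = 1 := by rw [← hqe, ← (D.map_pow hq 6).2, h6, D.one]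
    rw [show (8 : ℕ) = 2 * 4 by norm_num, pow_mul, sq_one_of_two_pow hn h6', one_pow]
  have hCT : C ≤ T := by rintro _ ⟨q, hq, rfl⟩; exact ⟨q, (oct_inL.2 q hq).1, rfl⟩
  have hqL : InL false true (dM 1 * rhoM) := (inL_facts _ _).2.2.1 _ _ hd1L hrL
  have hCcyc : IsCyclic C := by
    refine ⟨⟨⟨φ (dM 1 * rhoM), _, by simp [quadM], rfl⟩, ?_⟩⟩
    rintro ⟨_, q, hq, rfl⟩
    obtain ⟨k, hk⟩ := (oct_inL.2 q hq).2.2.2.2.2
    exact ⟨(k.val : ℤ), Subtype.ext (by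
      show ((_ : C) ^ (k.val : ℤ) : C).1 = _
      rw [zpow_natCast, Subgroup.coe_pow, ← (D.map_pow hqL _).2, hk])⟩
  have hCi : C.relIndex T = 2 := by
    refine (index_eq_two_iff (H := C.subgroupOf T)).2 ⟨⟨r, rhoM, hmemr, rfl⟩, ?_⟩
    rintro ⟨_, q, hq, rfl⟩
    have hm : ∀ p ∈ octM, φ p ∈ C ↔ p ∈ quadM := fun p hp => ⟨fun ⟨q', hq', e⟩ =>
      D.inj q' p (oct_inL.1 q' (oct_inL.2 q' hq').1).1 (oct_inL.1 p hp).1 e ▸ hq', fun h => ⟨p, h, rfl⟩⟩
    show Xor _ _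
    simp only [mem_subgroupOf, Subgroup.coe_mul]
    rw [hrdef, ← D.hom _ _ (oct_inL.1 q hq).1 hrL, hm _ hq, hm _ ((oct_inL.1 q hq).2.2.2.1 _ hmemr)]
    exact (by decide +kernel : ∀ q ∈ octM, Xor (q * rhoM ∈ quadM) (q ∈ quadM)) q hq
  obtain ⟨O, hOY, hYO, hOodd, hall⟩ := odd_core (Y := Y) (T := T) (C := C) hTY hT2 hmax hCT hCcyc (by
    rintro _ ⟨q, hq, rfl⟩
    rcases (oct_inL.1 q hq).2.2.2.2.2 with h | ⟨h2, hne, hne1⟩
    · exact Or.inl ⟨q, h, rfl⟩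
    refine Or.inr ⟨φ q, ⟨q, hq, rfl⟩, 1, one_mem _, by rw [mul_one, mul_one],
      by rw [← D.hom _ _ (oct_inL.1 q hq).1 (oct_inL.1 q hq).1, h2, D.one], C, hCT, hCi, ?_⟩
    rintro y hy ⟨c, hc, he⟩
    have hcL := (oct_inL.2 c hc).2.1
    have hc2 : φ c * φ c = 1 := by
      rw [he, show y * φ q * y⁻¹ * (y * φ q * y⁻¹) = y * (φ q * φ q) * y⁻¹ by group,
        ← D.hom _ _ (oct_inL.1 q hq).1 (oct_inL.1 q hq).1, h2, D.one, mul_one, mul_inv_cancel]
    rcases (oct_inL.2 c hc).2.2.2.2.1 (D.eq_one ((inL_facts _ _).2.2.1 _ _ hcL hcL)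
      (by rw [D.hom _ _ hcL hcL, hc2])) with e | e <;> subst e
    · rw [D.one, eq_comm, conj_eq_one_iff] at he
      exact hne1 (D.eq_one (oct_inL.1 q hq).1 he)
    · refine hne (D.inj _ _ (oct_inL.1 q hq).1 hd3L (mul_left_cancel (a := y) ?_))
      calc y * φ q = u * y := (mul_inv_eq_iff_eq_mul.1 he.symm)
        _ = y * u := (mem_centralizer_singleton_iff.1 hy).symm)
  set b : G := φ (jM ((0, 0, 1) : V3)) with hbdef
  have hbL : b ∈ J ⊓ Y := (D.mem_fix hd3L).2 ⟨_, rfl, by decide +kernel⟩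
  have hL' : ∀ x ∈ J ⊓ Y, x = 1 ∨ x = b ∨ x = b⁻¹ := by
    intro x hx
    obtain ⟨y, rfl, hy⟩ := (D.mem_fix hd3L).1 hx
    rcases hduniq y hy with e | e | e <;> rw [e]
    · exact Or.inl D.jzero
    · exact Or.inr (Or.inl rfl)
    · exact Or.inr (Or.inr (D.jneg _))
  have hLO : J ⊓ Y ≤ O := fun x hx => hall x hx.2
    ((show Odd 3 by decide).of_dvd_nat (orderOf_dvd_of_pow_eq_one (D.J_cube hx.1)))
  have hSO : SylowAt O (J ⊓ Y) := ⟨hLO, hlineS.isP, fun R hR => hlineS.maximal R (hR.trans hOY)⟩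
  have hoddO : ∀ g ∈ O, Odd (orderOf g) := fun g hg =>
    hOodd.of_dvd_nat (by simpa using orderOf_dvd_natCard (⟨g, hg⟩ : O))
  have hbne : b ≠ 1 := fun e => absurd (D.jinj (e.trans D.jzero.symm)) (by decide +kernel : ((0, 0, 1) : V3) ≠ 0)
  obtain ⟨K, hKO, hOK, hKL, -, hdec, hallK, hKS⟩ := hSO.split (F := ⊥) (fun x hx y hy => D.J_comm hx.1 hy.1)
    fun g hg hgn x hx => by
      have hgb : Commute g b := comm_of_odd (hoddO g hg) (by
        rcases hL' _ ((mem_normalizer_iff.1 hgn _).1 hbL) with e | e | e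
        · exact absurd (conj_eq_one_iff.1 e) hbne
        · exact Or.inl e
        · exact Or.inr e)
      rw [mem_bot]
      rcases hL' x hx with e | e | e <;> rw [e]
      · group
      · rw [← hgb.eq]; group
      · rw [← hgb.inv_right.eq]; group
  rw [le_bot_iff.1 hKL] at hKS
  have hKc := coprime_of_bot hKS
  have hnK : ∀ g ∈ Y, g ∈ normalizer (K : Set G) := fun g hg =>
    conj_mem_of_coprime hKc hKO hallK fun x hx => (mem_normalizer_iff.1 (hYO hg) x).1 hx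
  have hK6 : ∀ k ∈ K, k ^ 6 = 1 → k = 1 := fun k hk h => orderOf_eq_one_iff.1 (Nat.dvd_one.1
    (Nat.Coprime.mul_right (hoddO k (hKO hk)).coprime_two_right
      (Nat.Coprime.coprime_dvd_left (by simpa using orderOf_dvd_natCard (⟨k, hk⟩ : K)) hKc) ▸
      Nat.dvd_gcd dvd_rfl (show orderOf k ∣ 2 * 3 from orderOf_dvd_of_pow_eq_one h)))
  have hKu : ∀ k ∈ K, k * u = u * k := fun k hk => mem_centralizer_singleton_iff.1 (hOY (hKO hk))
  have hfree : ∀ k ∈ K, r * k = k * r → k = 1 := by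
    intro k hk hkr
    refine hK6 k hk ?_
    obtain ⟨q, hq, rfl⟩ := D.norm k (D.four_rho k hkr.symm)
    have h1 := D.comm' hq hrL hkr.symm
    have h2 := D.comm' hq hd3L (hKu _ hk)
    obtain ⟨v, w⟩ := q
    rw [← (D.map_pow hq 6).2, (four_norm w hq (congrArg Mn.w h1) (congrArg Mn.w h2) v h1 h2).1, D.one]
  have hr2' : r * r = 1 := by rw [hrdef, ← D.hom _ _ hrL hrL, hr2, D.one]
  have hrY : r ∈ Y := hTY ⟨rhoM, hmemr, rfl⟩
  have hd1Y : φ (dM 1) ∈ Y := hTY ⟨dM 1, hmem1, rfl⟩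
  have hinvr := inverts_fpf hr2' (fun k hk => (mem_normalizer_iff.1 (hnK r hrY) k).1 hk) hfree
  have hKb : ∀ k ∈ K, k * b = b * k → k = 1 := by
    intro k hk hkb
    refine hK6 k hk ?_
    obtain ⟨q, hq, rfl⟩ := D.norm k (hcY k hkb)
    have h2 := D.comm' hq hd3L (hKu _ hk)
    obtain ⟨v, w⟩ := q
    rw [← (D.map_pow hq 6).2, four_stab w hq (D.fix_of_comm hq hkb) v h2, D.one]
  have hb3 : b ^ 3 = 1 := D.jcube _
  set t := φ (dM 1) with htdef
  have ht2 : t * t = 1 := by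
    rw [htdef, ← D.hom _ _ hd1L hd1L, (by decide +kernel : dM 1 * dM 1 = 1), D.one]
  have htb : t * b * t⁻¹ = b⁻¹ := by rw [htdef, hbdef, D.act' hd1L, hd1c, D.jneg]
  have htbt : t * (b * t * b⁻¹) = b := by
    rw [show t * (b * t * b⁻¹) = (t * b * t⁻¹) * (t * t) * b⁻¹ by group, htb, ht2, mul_one, three_cancel hb3]
  have hbY : b ∈ Y := hbL.2
  have hnb : ∀ k ∈ K, b⁻¹ * k * b ∈ K := fun k hk => by
    simpa using (mem_normalizer_iff.1 (hnK b⁻¹ (inv_mem hbY)) k).1 hk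
  -- the elements of `K` centralized by the four-group
  have hR1 : ∀ k ∈ K, t * k = k * t → k = 1 := by
    intro q hq hqt
    by_contra hq1
    set s := φ σ with hs
    have hs3 : s ^ 3 = 1 := by rw [hs, ← (D.map_pow hσL 3).2, hσ3, D.one]
    have hst : s * u * s⁻¹ = t := by rw [hs, hudef, ← D.conj' hσL hd3L, hσd]
    have hsu : s * (t * u) * s⁻¹ = u := by
      rw [hs, htdef, hudef, ← D.hom _ _ hd1L hd3L, ← hd2eq,
        ← D.conj' hσL ((oct_inL.1 _ (by simp [octM] : dM 2 ∈ octM)).1), hσd2]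
    have hsigma : ∀ k ∈ K, t * k = k * t → s * k * s⁻¹ ∈ K ∧ t * (s * k * s⁻¹) = s * k * s⁻¹ * t := by
      intro k hk hkt
      have hc : Commute t k := hkt
      have hcu : Commute u k := (hKu k hk).symm
      have h1 : s * k * s⁻¹ * u = u * (s * k * s⁻¹) := by
        rw [← hsu]
        calc s * k * s⁻¹ * (s * (t * u) * s⁻¹) = s * (k * (t * u)) * s⁻¹ := by group
          _ = s * (t * u * k) * s⁻¹ := by rw [(hc.mul_left hcu).eq]
          _ = _ := by group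
      have ho : orderOf (s * k * s⁻¹) = orderOf k := by
        rw [show s * k * s⁻¹ = MulAut.conj s k from rfl, MulEquiv.orderOf_eq]
      refine ⟨hallK _ (hall _ (mem_centralizer_singleton_iff.2 h1) (ho ▸ hoddO k (hKO hk))) (ho ▸
        Nat.Coprime.coprime_dvd_left (by simpa using orderOf_dvd_natCard (⟨k, hk⟩ : K)) hKc), ?_⟩
      rw [← hst]
      calc s * u * s⁻¹ * (s * k * s⁻¹) = s * (u * k) * s⁻¹ := by group
        _ = s * (k * u) * s⁻¹ := by rw [hcu.eq]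
        _ = _ := by group
    obtain ⟨h1, h1'⟩ := hsigma q hq hqt
    obtain ⟨h2, -⟩ := hsigma _ h1 h1'
    have hs2 : s * s = s⁻¹ := eq_inv_of_mul_eq_one_left (by rw [← pow_two, ← pow_succ, hs3])
    have hsq' : s⁻¹ * q * s ∈ K := by
      rwa [show s * (s * q * s⁻¹) * s⁻¹ = s * s * q * (s * s)⁻¹ by group, hs2, inv_inv] at h2
    have hrs : r * s * r⁻¹ = s⁻¹ := by rw [hrdef, hs, ← D.conj' hrL hσL, hrσ, D.inv' hσL]
    have hqs : q * s = s * q := by
      have ha : s * r * s⁻¹ * q * (s * r * s⁻¹)⁻¹ = q⁻¹ := by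
        calc s * r * s⁻¹ * q * (s * r * s⁻¹)⁻¹ = s * (r * (s⁻¹ * q * s) * r⁻¹) * s⁻¹ := by group
          _ = s * (s⁻¹ * q * s)⁻¹ * s⁻¹ := by rw [hinvr _ hsq']
          _ = q⁻¹ := by group
      have hb' : r * (s * r * s⁻¹) = s := by
        rw [show r * (s * r * s⁻¹) = (r * s * r⁻¹) * (r * r) * s⁻¹ by group, hrs, hr2', mul_one,
          three_cancel hs3]
      have hb'' : r * (s * r * s⁻¹ * q * (s * r * s⁻¹)⁻¹) * r⁻¹ = q := by
        rw [ha, hinvr _ (inv_mem hq), inv_inv]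
      rw [show r * (s * r * s⁻¹ * q * (s * r * s⁻¹)⁻¹) * r⁻¹ = r * (s * r * s⁻¹) * q * (r * (s * r * s⁻¹))⁻¹ by group,
        hb'] at hb''
      exact (mul_inv_eq_iff_eq_mul.1 hb'').symm
    have hrq := hinvr q hq
    have hoddq := hoddO q (hKO hq)
    have hqne : q ≠ q⁻¹ := fun e => hq1 (hK6 q hq (by
      rw [show (6 : ℕ) = 2 * 3 by norm_num, pow_mul, pow_two]
      nth_rewrite 1 [e]
      rw [inv_mul_cancel, one_pow]))
    have hnogood : ∀ e : ZMod 3, e ≠ 0 → (φ (jM (e, e, 0)) * q * (φ (jM (e, e, 0)))⁻¹ = q ∨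
        φ (jM (e, e, 0)) * q * (φ (jM (e, e, 0)))⁻¹ = q⁻¹) → False := by
      intro e he h
      have h' := comm_of_odd ((show Odd 3 by decide).of_dvd_nat (orderOf_dvd_of_pow_eq_one (D.jcube _))) h
      have hne : ((e, e, 0) : V3) ≠ 0 := fun h0 => he (congrArg Prod.fst h0)
      obtain ⟨p, hp, hpe⟩ := D.norm q (D.four_good hne h'.symm)
      have hw := D.fix_of_comm hp (hpe ▸ h'.symm)
      have hwr : p.w * rhoM.w = rhoM.w * p.w :=
        (by decide +kernel : ∀ w, Wok false true w → ∀ e : ZMod 3, e ≠ 0 → wact w (e, e, 0) = (e, e, 0) →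
          w * rhoM.w = rhoM.w * w) p.w hp e he hw
      have hp6 : q ^ 12 = 1 := by
        rw [← hpe, ← (D.map_pow hp 12).2]
        obtain ⟨v, w⟩ := p
        rw [(by decide +kernel : ∀ w, Wok false true w → w * rhoM.w = rhoM.w * w → ∀ v : V3,
          (⟨v, w⟩ : Mn) ^ 12 = 1) w hp hwr v, D.one]
      have h2 : (q ^ 6) ^ 2 = 1 := by rw [← pow_mul]; exact hp6
      exact hq1 (hK6 q hq (orderOf_eq_one_iff.1 (Nat.dvd_one.1 ((hoddq.of_dvd_nat (orderOf_pow_dvd 6)).coprime_two_right ▸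
        Nat.dvd_gcd dvd_rfl (orderOf_dvd_of_pow_eq_one h2)))))
    have hru : φ (dM 3 * rhoM) = u * r := by rw [D.hom _ _ hd3L hrL]
    have hu2 : u * u = 1 := by rw [hudef, ← D.hom _ _ hd3L hd3L, (by decide +kernel : dM 3 * dM 3 = 1), D.one]
    have huq : u * q * u⁻¹ = q := mul_inv_eq_iff_eq_mul.2 (hKu q hq).symm
    have hurq : φ (dM 3 * rhoM) * q * (φ (dM 3 * rhoM))⁻¹ = q⁻¹ := by
      rw [hru, show u * r * q * (u * r)⁻¹ = u * (r * q * r⁻¹) * u⁻¹ by group, hrq,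
        show u * q⁻¹ * u⁻¹ = (u * q * u⁻¹)⁻¹ by group, huq]
    -- involutions of the normalizer which normalize `⟨q⟩` and commute with `r`
    have key : ∀ p, InL false true p → p * rhoM = rhoM * p → p * p = 1 → p ≠ 1 →
        (φ p * q * (φ p)⁻¹ = q ∨ φ p * q * (φ p)⁻¹ = q⁻¹) →
        p = rhoM ∨ p = dM 3 ∨ p = dM 3 * rhoM := by
      intro p hp hpr hp2 hp1 hpq
      obtain ⟨v, w⟩ := p
      rcases (four_invol w hp (congrArg Mn.w hpr) v hpr hp2 hp1).1 with e | e | e | ⟨e, he, h | h⟩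
      · exact Or.inl e
      · exact Or.inr (Or.inl e)
      · exact Or.inr (Or.inr e)
      · exfalso
        refine hnogood e he ?_
        rw [← h, D.hom _ _ hp hd3L, show φ ⟨v, w⟩ * u * q * (φ ⟨v, w⟩ * u)⁻¹ =
          φ ⟨v, w⟩ * (u * q * u⁻¹) * (φ ⟨v, w⟩)⁻¹ by group, huq]
        exact hpq
      · exfalso
        refine hnogood e he ?_
        rw [← h, D.hom _ _ hp hd3r', show φ ⟨v, w⟩ * φ (dM 3 * rhoM) * q * (φ ⟨v, w⟩ * φ (dM 3 * rhoM))⁻¹ =
          φ ⟨v, w⟩ * (φ (dM 3 * rhoM) * q * (φ (dM 3 * rhoM))⁻¹) * (φ ⟨v, w⟩)⁻¹ by group, hurq,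
          show φ ⟨v, w⟩ * q⁻¹ * (φ ⟨v, w⟩)⁻¹ = (φ ⟨v, w⟩ * q * (φ ⟨v, w⟩)⁻¹)⁻¹ by group]
        rcases hpq with h' | h' <;> rw [h']
        · exact Or.inr rfl
        · exact Or.inl (inv_inv q)
    have hA : ∀ g, g * q = q * g → Commute (g * u * g⁻¹) u := by
      intro g hgq
      set v := g * u * g⁻¹ with hv'
      have hv2 : v * v = 1 := by
        rw [hv', show g * u * g⁻¹ * (g * u * g⁻¹) = g * (u * u) * g⁻¹ by group, hu2, mul_one, mul_inv_cancel]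
      have hv1 : v ≠ 1 := fun e => by
        have h1 : u = 1 := conj_eq_one_iff.1 e
        exact absurd (D.eq_one hd3L h1) (by decide +kernel : dM 3 ≠ 1)
      have hvq : v * q * v⁻¹ = q := by
        have hc : Commute g q := hgq
        have hcu : Commute u q := (hKu q hq).symm
        exact mul_inv_eq_iff_eq_mul.2 ((hc.mul_left hcu).mul_left hc.inv_left).eq
      have hvinv : ∀ p, InL false true p → p * rhoM = rhoM * p → φ p = v → p = dM 3 := by
        intro p hp hpr hpe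
        have hp2 : p * p = 1 := D.eq_one ((inL_facts _ _).2.2.1 _ _ hp hp) (by rw [D.hom _ _ hp hp, hpe, hv2])
        have hp1 : p ≠ 1 := fun e => hv1 (by rw [← hpe, e, D.one])
        rcases key p hp hpr hp2 hp1 (Or.inl (by rw [hpe, hvq])) with e | e | e
        · exact absurd (hrq.symm.trans (by rw [hrdef, ← e, hpe, hvq])) hqne.symm
        · exact e
        · exact absurd (hurq.symm.trans (by rw [← e, hpe, hvq])) hqne.symm
      rcases dihedral_pair (w := r) (v := v) hr2' hv2 with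
        ⟨y, -, hy⟩ | ⟨z, hzD, hz2, hz1, hzr, hzv, hzz, -⟩
      · exact absurd (show g⁻¹ * y * r * (g⁻¹ * y)⁻¹ = u by
          rw [show g⁻¹ * y * r * (g⁻¹ * y)⁻¹ = g⁻¹ * (y * r * y⁻¹) * g by group, hy, hv']; group) (hrne _)
      obtain ⟨p, hp, hpz⟩ := D.norm z (D.four_rho z hzr)
      have hpr : p * rhoM = rhoM * p := D.comm' hp hrL (hpz ▸ hzr)
      have hp2 : p * p = 1 := D.eq_one ((inL_facts _ _).2.2.1 _ _ hp hp) (by rw [D.hom _ _ hp hp, hpz, hz2])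
      have hp1 : p ≠ 1 := fun e => hz1 (by rw [← hpz, e, D.one])
      have hzq : z * q * z⁻¹ = q ∨ z * q * z⁻¹ = q⁻¹ := by
        have hdq : ∀ x ∈ closure ({r, v} : Set G), x * q * x⁻¹ = q ∨ x * q * x⁻¹ = q⁻¹ := by
          intro x hx
          induction hx using closure_induction with
          | mem x hx => rcases hx with rfl | rfl; exacts [Or.inr hrq, Or.inl hvq]
          | one => left; group
          | mul a b _ _ iha ihb =>
            rw [show a * b * q * (a * b)⁻¹ = a * (b * q * b⁻¹) * a⁻¹ by group]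
            rcases ihb with h | h <;> rw [h]
            · exact iha
            · rw [show a * q⁻¹ * a⁻¹ = (a * q * a⁻¹)⁻¹ by group]
              rcases iha with h' | h' <;> rw [h']
              · exact Or.inr rfl
              · exact Or.inl (inv_inv q)
          | inv a _ iha =>
            rcases iha with h | h
            · left; nth_rewrite 1 [← h]; group
            · right
              have h2 : q = a⁻¹ * q⁻¹ * a⁻¹⁻¹ := by rw [← h]; group
              rw [show a⁻¹ * q * a⁻¹⁻¹ = (a⁻¹ * q⁻¹ * a⁻¹⁻¹)⁻¹ by group, ← h2]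
        exact hdq z hzD
      rcases key p hp hpr hp2 hp1 (hpz ▸ hzq) with e | e | e <;> rw [e] at hpz
      · have hvr : v * φ rhoM = φ rhoM * v := by rw [hpz]; exact hzv.symm
        obtain ⟨p', hp', hpe⟩ := D.norm v (D.four_rho v hvr)
        have hp'u := hvinv p' hp' (D.comm' hp' hrL (hpe.symm ▸ hvr)) hpe
        rw [show v = u by rw [← hpe, hp'u]]
      · show v * u = u * v
        rw [hudef, hpz]; exact hzv.symm
      · obtain ⟨p', hp', hpe⟩ := D.norm v (hrho3 v (by rw [hpz]; exact hzv.symm))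
        have hc3 : p' * (dM 3 * rhoM) = dM 3 * rhoM * p' := D.comm' hp' hd3r' (by rw [hpe, hpz]; exact hzv.symm)
        have hsh : (dM 1)⁻¹ * p' * dM 1 = dM 3 := by
          have hd1i : InL false true (dM 1)⁻¹ := (inL_facts _ _).2.2.2 _ hd1L
          have hLp : InL false true ((dM 1)⁻¹ * p' * dM 1) :=
            (inL_facts _ _).2.2.1 _ _ ((inL_facts _ _).2.2.1 _ _ hd1i hp') hd1L
          have hc : (dM 1)⁻¹ * p' * dM 1 * rhoM = rhoM * ((dM 1)⁻¹ * p' * dM 1) := by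
            rw [show rhoM = (dM 1)⁻¹ * (dM 3 * rhoM) * dM 1 by rw [← hd3r]; group]
            calc _ = (dM 1)⁻¹ * (p' * (dM 3 * rhoM)) * dM 1 := by group
              _ = _ := by rw [hc3]; group
          have he : φ ((dM 1)⁻¹ * p' * dM 1) = t⁻¹ * v * t := by
            rw [D.hom _ _ ((inL_facts _ _).2.2.1 _ _ hd1i hp') hd1L, D.hom _ _ hd1i hp', D.inv' hd1L, hpe]
          have hp2' : ((dM 1)⁻¹ * p' * dM 1) * ((dM 1)⁻¹ * p' * dM 1) = 1 :=
            D.eq_one ((inL_facts _ _).2.2.1 _ _ hLp hLp) (by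
              rw [D.hom _ _ hLp hLp, he, show t⁻¹ * v * t * (t⁻¹ * v * t) = t⁻¹ * (v * v) * t by group, hv2,
                mul_one, inv_mul_cancel])
          have hp1' : (dM 1)⁻¹ * p' * dM 1 ≠ 1 := fun e => hv1 (by
            rw [show v = t * (t⁻¹ * v * t) * t⁻¹ by group, ← he, e, D.one, mul_one, mul_inv_cancel])
          have htq : t * q * t⁻¹ = q := mul_inv_eq_iff_eq_mul.2 hqt
          have hq' : φ ((dM 1)⁻¹ * p' * dM 1) * q * (φ ((dM 1)⁻¹ * p' * dM 1))⁻¹ = q := by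
            rw [he, show t⁻¹ * v * t * q * (t⁻¹ * v * t)⁻¹ = t⁻¹ * (v * (t * q * t⁻¹) * v⁻¹) * t by group, htq, hvq]
            rw [mul_assoc, ← hqt, inv_mul_cancel_left]
          rcases key _ hLp hc hp2' hp1' (Or.inl hq') with h | h | h
          · exact absurd (hrq.symm.trans (by rw [hrdef, ← h, hq'])) hqne.symm
          · exact h
          · exact absurd (hurq.symm.trans (by rw [← h, hq'])) hqne.symm
        have : p' = dM 3 := by
          rw [show p' = dM 1 * ((dM 1)⁻¹ * p' * dM 1) * (dM 1)⁻¹ by group, hsh, hd13, mul_inv_cancel_right]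
        rw [show v = u by rw [← hpe, this]]
    -- every element of `K` commutes with `t`
    have hKab : ∀ x ∈ K, ∀ y ∈ K, x * y = y * x := fun x hx y hy => by
      have h := hinvr _ (mul_mem hx hy)
      rw [show r * (x * y) * r⁻¹ = (r * x * r⁻¹) * (r * y * r⁻¹) by group, hinvr x hx, hinvr y hy,
        mul_inv_rev, ← mul_inv_rev y x] at h
      have h' := congrArg (fun g : G => g⁻¹) h
      simp only [mul_inv_rev, inv_inv] at h'
      first | exact h' | exact h'.symm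
    have hKt : ∀ k ∈ K, t * k = k * t := by
      intro k hk
      have hcom : Commute (s⁻¹ * (k * s)) q := by
        have h1 : Commute s q := hqs.symm
        have h2 : Commute k q := hKab k hk q hq
        exact h1.inv_left.mul_left (h2.mul_left h1)
      have h := hA _ hcom
      have h' : Commute (k * t * k⁻¹) t := by
        rw [← hst]
        show k * (s * u * s⁻¹) * k⁻¹ * (s * u * s⁻¹) = s * u * s⁻¹ * (k * (s * u * s⁻¹) * k⁻¹)
        calc k * (s * u * s⁻¹) * k⁻¹ * (s * u * s⁻¹)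
            = s * (s⁻¹ * (k * s) * u * (s⁻¹ * (k * s))⁻¹ * u) * s⁻¹ := by group
          _ = s * (u * (s⁻¹ * (k * s) * u * (s⁻¹ * (k * s))⁻¹)) * s⁻¹ := by rw [h.eq]
          _ = _ := by group
      have hx : k * (t * k⁻¹ * t⁻¹) ∈ K :=
        mul_mem hk ((mem_normalizer_iff.1 (hnK t hd1Y) _).1 (inv_mem hk))
      have hx2 : k * (t * k⁻¹ * t⁻¹) * (k * (t * k⁻¹ * t⁻¹)) = 1 := by
        rw [inv_eq_of_mul_eq_one_left ht2]
        calc k * (t * k⁻¹ * t) * (k * (t * k⁻¹ * t)) = (k * t * k⁻¹ * t) * (k * t * k⁻¹ * t) := by group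
          _ = (k * t * k⁻¹ * t) * (t * (k * t * k⁻¹)) := by rw [h'.eq]
          _ = k * t * k⁻¹ * (t * t) * (k * t * k⁻¹) := by group
          _ = k * (t * (1 * t)) * k⁻¹ := by rw [ht2]; group
          _ = 1 := by rw [one_mul, ht2, mul_one, mul_inv_cancel]
      have hx1 : k * (t * k⁻¹ * t⁻¹) = 1 :=
        hK6 _ hx (by rw [show (6 : ℕ) = 2 * 3 by norm_num, pow_mul, pow_two, hx2, one_pow])
      calc t * k = (k * (t * k⁻¹ * t⁻¹)) * (t * k) := by rw [hx1, one_mul]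
        _ = k * t := by group
    refine hq1 (hKb q hq ?_)
    have hc : Commute (t * (b * t * b⁻¹)) q := by
      refine (show Commute t q from hqt).mul_left ?_
      show b * t * b⁻¹ * q = q * (b * t * b⁻¹)
      calc b * t * b⁻¹ * q = b * (t * (b⁻¹ * q * b)) * b⁻¹ := by group
        _ = b * ((b⁻¹ * q * b) * t) * b⁻¹ := by rw [hKt _ (hnb q hq)]
        _ = q * (b * t * b⁻¹) := by group
    rw [htbt] at hc
    exact hc.eq.symm
  have hinvt := inverts_fpf ht2 (fun k hk => (mem_normalizer_iff.1 (hnK t hd1Y) k).1 hk) hR1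
  have hK1 : ∀ k ∈ K, k = 1 := by
    intro k hk
    refine hKb k hk ?_
    have h1 : b * t * b⁻¹ * k * (b * t * b⁻¹)⁻¹ = k⁻¹ := by
      calc b * t * b⁻¹ * k * (b * t * b⁻¹)⁻¹ = b * (t * (b⁻¹ * k * b) * t⁻¹) * b⁻¹ := by group
        _ = b * (b⁻¹ * k * b)⁻¹ * b⁻¹ := by rw [hinvt _ (hnb k hk)]
        _ = k⁻¹ := by group
    have h2 : t * (b * t * b⁻¹ * k * (b * t * b⁻¹)⁻¹) * t⁻¹ = k := by rw [h1, hinvt _ (inv_mem hk), inv_inv]
    rw [show t * (b * t * b⁻¹ * k * (b * t * b⁻¹)⁻¹) * t⁻¹ = t * (b * t * b⁻¹) * k * (t * (b * t * b⁻¹))⁻¹ by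
      group, htbt] at h2
    exact (mul_inv_eq_iff_eq_mul.1 h2).symm
  intro g hg
  have hgY : g ∈ Y := mem_centralizer_singleton_iff.2 hg
  obtain ⟨k, hk, x, hx, e⟩ := hdec _ ((mem_normalizer_iff.1 (hYO hgY) b).1 (hLO hbL))
  rw [hK1 k hk, one_mul] at e
  rcases hL' x hx with h | h | h <;> rw [h] at e
  · exact absurd (conj_eq_one_iff.1 e) hbne
  · exact hcY g (mul_inv_eq_iff_eq_mul.1 e)
  · have h1 : t * g ∈ normalizer (J : Set G) := hcY _ (mul_inv_eq_iff_eq_mul.1 (by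
      show t * g * b * (t * g)⁻¹ = b
      rw [show t * g * b * (t * g)⁻¹ = t * (g * b * g⁻¹) * t⁻¹ by group, e,
        show t * b⁻¹ * t⁻¹ = (t * b * t⁻¹)⁻¹ by group, htb, inv_inv]))
    have h2 := mul_mem (inv_mem (D.mem _ hd1L)) h1
    rwa [← htdef, inv_mul_cancel_left] at h2

end Frame

theorem case_four (D : Frame J false true φ) : J.Normal := by
  classical
  obtain ⟨hr2, hr1, hrL0, hind, hu, hv⟩ := rho_facts
  have hrL : InL false true rhoM := inL_mono hrL0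
  obtain ⟨-, hduniq, -, -, -, hd3tab, hrd, hstab⟩ := four_line
  obtain ⟨hd3r, hprod, -, -, -, -, -, -⟩ := four_d3rho
  have hd3L : InL false true (dM 3) := by decide +kernel
  have hd1L : InL false true (dM 1) := by decide +kernel
  have hlineS : SylowAt (centralizer ({φ (dM 3)} : Set G)) (J ⊓ centralizer ({φ (dM 3)} : Set G)) :=
    D.sylow_line hd3L (v := ((0, 0, 1) : V3)) (by decide +kernel) hduniq
      (fun g _ hg _ => D.four_good (by decide +kernel) hg) fun w hw hc h3 hne => absurd (hd3tab w hw hc h3) hne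
  have hrne : ∀ g, g * φ rhoM * g⁻¹ ≠ φ (dM 3) := D.not_conj_plane hrL hd3L hind hu hv
    (D.sylow_plane hrL hind hu hv fun w hw hc h3 hne => absurd ((four_rho_tab w hw hc).1 h3) hne) hlineS hrd
  have h2 : ∀ p, InL false true p → p * p = 1 → φ p * φ p = 1 := fun p hp h => by
    rw [← D.hom _ _ hp hp, h, D.one]
  have hall := engine (Y := (⊤ : Subgroup G)) (H := normalizer (J : Set G)) (fun g => ConjClasses.mk g)
    (fun g _ w _ _ => (ConjClasses.mk_eq_mk_iff_isConj.2 (isConj_iff.2 ⟨g, rfl⟩)).symm)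
    (w1 := φ rhoM) (w2 := φ (dM 3)) (mem_top _) (h2 _ hrL hr2)
    (fun e => by
      obtain ⟨g, hg⟩ := isConj_iff.1 (ConjClasses.mk_eq_mk_iff_isConj.1 e)
      exact hrne g hg)
    (fun v _ hv' => D.four_rho v hv')
    (fun z _ _ hz2 hz1 hzr => Or.inl fun v _ _ _ hzv => by
      obtain ⟨p, hp, rfl⟩ := D.norm z (D.four_rho z hzr)
      have hpr := D.comm' hp hrL hzr
      have hp2 : p * p = 1 := D.eq_one ((inL_facts _ _).2.2.1 _ _ hp hp) (by rw [D.hom _ _ hp hp, hz2])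
      have hp1 : p ≠ 1 := fun e => hz1 (by rw [e, D.one])
      obtain ⟨x, w⟩ := p
      have hrho3 : ∀ g, g * φ (dM 3 * rhoM) = φ (dM 3 * rhoM) * g → g ∈ normalizer (J : Set G) := fun g hg =>
        D.cent_conj hrL hd1L D.four_rho (by rw [hd3r]; exact hg)
      obtain ⟨hA, hB⟩ := four_invol w hp (congrArg Mn.w hpr) x hpr hp2 hp1
      have hd3r' : InL false true (dM 3 * rhoM) := (inL_facts _ _).2.2.1 _ _ hd3L hrL
      rcases hB with h0 | ⟨a, h | h⟩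
      · rcases hA with h | h | h | ⟨e, he, h | h⟩
        · exact D.four_rho v (by rw [← h]; exact hzv.symm)
        · exact D.four_dee v (by rw [← h]; exact hzv.symm)
        · exact hrho3 v (by rw [← h]; exact hzv.symm)
        all_goals
          exfalso
          have h' := congrArg Mn.v h
          revert h'
          rw [h0]
          exact (by decide +kernel : ∀ e : ZMod 3, e ≠ 0 → ∀ w : Wt, ((⟨0, w⟩ : Mn) * dM 3).v ≠ (e, e, 0) ∧
            ((⟨0, w⟩ : Mn) * (dM 3 * rhoM)).v ≠ (e, e, 0)) e he w |> fun hh => by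
              first | exact hh.1 | exact hh.2
      · refine D.cent_conj hd3L ((inL_facts false true).2.1 (a, a, 0)) D.four_dee ?_
        rw [← h]; exact hzv.symm
      · refine D.cent_conj hd3r' ((inL_facts false true).2.1 (a, a, 0)) hrho3 ?_
        rw [← h]; exact hzv.symm)
  refine normalizer_eq_top_iff.1 (eq_top_iff.2 fun g _ => ?_)
  have hmem : ∀ a : G, a * φ (dM 3) * a⁻¹ ∈ normalizer (J : Set G) := fun a => by
    refine hall _ (mem_top _) ?_ (ConjClasses.mk_eq_mk_iff_isConj.2 (isConj_iff.2 ⟨a, rfl⟩)).symm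
    rw [show a * φ (dM 3) * a⁻¹ * (a * φ (dM 3) * a⁻¹) = a * (φ (dM 3) * φ (dM 3)) * a⁻¹ by group,
      h2 _ hd3L (by decide +kernel), mul_one, mul_inv_cancel]
  refine D.mem_of_moves (v := ((1, 1, 0) : V3)) (fun g hg => D.four_good (by decide +kernel) hg) hstab ?_
  set j := φ (jM ((2, 2, 0) : V3)) with hj
  have he : φ (jM ((1, 1, 0) : V3)) = (j * φ (dM 3) * j⁻¹) * φ (dM 3) := by
    have hjL := (inL_facts false true).2.1 ((2, 2, 0) : V3)
    have hc : InL false true (jM ((2, 2, 0) : V3) * dM 3 * (jM (2, 2, 0))⁻¹) :=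
      (inL_facts _ _).2.2.1 _ _ ((inL_facts _ _).2.2.1 _ _ hjL hd3L) ((inL_facts _ _).2.2.2 _ hjL)
    rw [← hprod, D.hom _ _ hc hd3L, D.conj' hjL hd3L]
  have h := mul_mem (hmem (g * j)) (hmem g)
  rw [he]
  rwa [show g * j * φ (dM 3) * (g * j)⁻¹ * (g * φ (dM 3) * g⁻¹) =
    g * (j * φ (dM 3) * j⁻¹ * φ (dM 3)) * g⁻¹ by group] at h

end Cfsg.Agent.NineSym
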