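import Cfsg.Agent.Lib.NineSym.CaseMonTables

/-!
# Automizer all signed permutations, with all centralizers in the normalizer
-/

set_option autoImplicit false
set_option linter.style.haveILetI false
set_option linter.unusedSectionVars false
set_option maxRecDepth 100000
set_option synthInstance.maxSize 10000

namespace Cfsg.Agent.NineSym

open Subgroup

variable {G : Type*} [Group G] [Finite G] {J : Subgroup G} {φ : Mn → G}

namespace Frame

variable (D : Frame J true true φ)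
include D

/-- The frame as a homomorphism. -/
def monHom : Mn →* G where
  toFun := φ
  map_one' := D.one
  map_mul' p q := D.hom p q (wok_true _) (wok_true _)

theorem monHom_apply (p : Mn) : D.monHom p = φ p := rfl

theorem monHom_inj : Function.Injective D.monHom := fun p q h => D.inj p q (wok_true _) (wok_true _) h

theorem monHom_comm {p q : Mn} : Commute (φ p) (φ q) ↔ p * q = q * p :=
  ⟨D.comm' (wok_true _) (wok_true _), D.map_comm (wok_true _) (wok_true _)⟩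

theorem sylow_rep (hgood : ∀ v : V3, v ≠ 0 → ∀ g : G, g * φ (jM v) = φ (jM v) * g → g ∈ normalizer (J : Set G))
    (i : Fin 4) : SylowAt (centralizer ({φ (monRep i)} : Set G)) (J ⊓ centralizer ({φ (monRep i)} : Set G)) := by
  obtain ⟨hrep, -, ⟨hn, hn1, hn2⟩, ⟨hd, hd'⟩, ⟨hq, hq'⟩, -⟩ := rep_facts
  obtain ⟨-, -, -, hr, hr1, hr2⟩ := rho_facts
  have htab : ∀ w, Wok true true w → w * (monRep i).w = (monRep i).w * w → w ^ 3 = 1 → w ≠ 1 →
      ∀ x : V3, x + wact w (monRep i).v ≠ (monRep i).v + wact (monRep i).w x :=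
    fun w _ hc h3 hne => absurd ((hrep i).2.2.2 w hc h3) hne
  fin_cases i
  · exact D.sylow_plane (wok_true _) hn hn1 hn2 htab
  · exact D.sylow_plane (wok_true _) hr hr1 hr2 htab
  · exact D.sylow_line (wok_true _) hd hd' (fun g _ hg _ => hgood _ (by decide) g hg) htab
  · exact D.sylow_line (wok_true _) hq hq' (fun g _ hg _ => hgood _ (by decide) g hg) htab

theorem rep_ne (hgood : ∀ v : V3, v ≠ 0 → ∀ g : G, g * φ (jM v) = φ (jM v) * g → g ∈ normalizer (J : Set G))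
    {i j : Fin 4} (hij : i ≠ j) (g : G) : g * φ (monRep i) * g⁻¹ ≠ φ (monRep j) := by
  obtain ⟨-, hw, ⟨hn, hn1, hn2⟩, ⟨hd, -⟩, -, hline⟩ := rep_facts
  obtain ⟨-, -, -, hr, hr1, hr2⟩ := rho_facts
  have hS := D.sylow_rep hgood
  have hlow : ∀ i j : Fin 4, i < 2 → i ≠ j → ∀ g, g * φ (monRep i) * g⁻¹ ≠ φ (monRep j) := fun i j hi hij => by
    fin_cases i
    · exact D.not_conj_plane (wok_true _) (wok_true _) hn hn1 hn2 (hS _) (hS j) fun w _ => hw _ j hij w
    · exact D.not_conj_plane (wok_true _) (wok_true _) hr hr1 hr2 (hS _) (hS j) fun w _ => hw _ j hij w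
    all_goals exact absurd hi (by decide)
  have hflip : ∀ i j : Fin 4, (∀ g, g * φ (monRep j) * g⁻¹ ≠ φ (monRep i)) →
      ∀ g, g * φ (monRep i) * g⁻¹ ≠ φ (monRep j) := fun i j h g e => h g⁻¹ (by rw [← e]; group)
  have h23 : ∀ g, g * φ (monRep 2) * g⁻¹ ≠ φ (monRep 3) :=
    D.not_conj_line (wok_true _) (wok_true _) hd (hS 2) (hS 3) fun w _ => hline w
  rcases (show i < 2 ∨ (2 ≤ i ∧ (j < 2 ∨ (i = 2 ∧ j = 3) ∨ (i = 3 ∧ j = 2))) by
      revert i j; decide) with h | ⟨-, h | ⟨rfl, rfl⟩ | ⟨rfl, rfl⟩⟩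
  · exact hlow i j h hij g
  · exact hflip i j (hlow j i h hij.symm) g
  · exact h23 g
  · exact hflip 3 2 h23 g

theorem lab_conj {w : Wt} {i : Fin 4} (h : labW w = some i) :
    ∃ a : G, φ (wM w) = a * φ (monRep i) * a⁻¹ := by
  obtain ⟨a, ha⟩ := labW_spec w i h
  exact ⟨φ (wM a), by rw [ha, D.conj' (wok_true _) (wok_true _)]⟩

theorem lab_ne (hgood : ∀ v : V3, v ≠ 0 → ∀ g : G, g * φ (jM v) = φ (jM v) * g → g ∈ normalizer (J : Set G))
    {w w' : Wt} (h : ((labW w).isSome && (labW w').isSome && labW w != labW w') = true) (g : G) :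
    g * φ (wM w) * g⁻¹ ≠ φ (wM w') := by
  simp only [Bool.and_eq_true, Option.isSome_iff_exists, bne_iff_ne] at h
  obtain ⟨⟨⟨i, hi⟩, j, hj⟩, hne⟩ := h
  obtain ⟨a, ha⟩ := D.lab_conj hi
  obtain ⟨b, hb⟩ := D.lab_conj hj
  rw [ha, hb]
  intro e
  refine D.rep_ne hgood (i := i) (j := j) (fun e' => hne (by rw [hi, hj, e'])) (b⁻¹ * g * a) ?_
  calc b⁻¹ * g * a * φ (monRep i) * (b⁻¹ * g * a)⁻¹ = b⁻¹ * (g * (a * φ (monRep i) * a⁻¹) * g⁻¹) * b := by group
    _ = φ (monRep j) := by rw [e]; group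

theorem sep_ne (hgood : ∀ v : V3, v ≠ 0 → ∀ g : G, g * φ (jM v) = φ (jM v) * g → g ∈ normalizer (J : Set G))
    {s w w' : Wt} (h : Sep s w w' = true) {y : G} (hy : y * φ (wM s) = φ (wM s) * y) :
    y * φ (wM w) * y⁻¹ ≠ φ (wM w') := by
  rcases Bool.or_eq_true_iff.1 h with h | h
  · exact D.lab_ne hgood h y
  · intro e
    refine D.lab_ne hgood h y ?_
    rw [wM_mul, wM_mul, D.hom _ _ (wok_true _) (wok_true _), D.hom _ _ (wok_true _) (wok_true _), ← e]
    calc y * (φ (wM w) * φ (wM s)) * y⁻¹ = y * φ (wM w) * y⁻¹ * (y * φ (wM s) * y⁻¹) := by group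
      _ = _ := by rw [hy, mul_inv_cancel_right]

/-- The centralizer of a conjugate of a representative. -/
theorem cent_lab {a : Mn} {w : Wt} {i : Fin 4} (h : labW w = some i)
    (hc : ∀ g, g * φ (monRep i) = φ (monRep i) * g → g ∈ normalizer (J : Set G)) {g : G}
    (hg : g * φ (a * wM w * a⁻¹) = φ (a * wM w * a⁻¹) * g) : g ∈ normalizer (J : Set G) := by
  obtain ⟨b, hb⟩ := labW_spec w i h
  refine D.cent_conj (p := monRep i) (a := a * wM b) (wok_true _) (wok_true _) hc ?_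
  rwa [show a * wM b * monRep i * (a * wM b)⁻¹ = a * (wM b * monRep i * (wM b)⁻¹) * a⁻¹ by group, ← hb]

variable (hgood : ∀ v : V3, v ≠ 0 → ∀ g : G, g * φ (jM v) = φ (jM v) * g → g ∈ normalizer (J : Set G))
  (hρ : ∀ g : G, g * φ rhoM = φ rhoM * g → g ∈ normalizer (J : Set G))
include hgood hρ

theorem mon_quo : ∀ g, g * φ quoM = φ quoM * g → g ∈ normalizer (J : Set G) := by
  classical
  obtain ⟨hrq, hdq, -, hjq, hnar, hstab⟩ := quo_basic
  obtain ⟨-, hprod, -⟩ := four_d3rho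
  set Y := centralizer ({φ quoM} : Set G) with hY
  have hmem : ∀ p : Mn, p * quoM = quoM * p → φ p ∈ Y := fun p hp =>
    mem_centralizer_singleton_iff.2 (D.monHom_comm.2 hp).eq
  let pt : G → Set G := fun v => {x | ∃ y ∈ Y, y * v * y⁻¹ = x}
  have hpt : ∀ g ∈ Y, ∀ v, pt (g * v * g⁻¹) = pt v := fun g hg v => by
    ext x
    exact ⟨fun ⟨y, hy, e⟩ => ⟨y * g, mul_mem hy hg, by rw [← e]; group⟩,
      fun ⟨y, hy, e⟩ => ⟨y * g⁻¹, mul_mem hy (inv_mem hg), by rw [← e]; group⟩⟩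
  have hptY : ∀ a b : G, pt a = pt b → ∃ y ∈ Y, y * a * y⁻¹ = b := fun a b h => by
    have hb : b ∈ pt b := ⟨1, one_mem _, by group⟩
    rw [← h] at hb
    exact hb
  have hdY := hmem _ hdq
  have hsq : ∀ i, φ (monRep i) * φ (monRep i) = 1 := fun i => by
    rw [← D.hom _ _ (wok_true _) (wok_true _), (rep_facts.1 i).1, D.one]
  have hall := engine (Y := Y) (H := normalizer (J : Set G)) pt (fun g hg w _ _ => hpt g hg w)
    (w1 := φ rhoM) (w2 := φ (dM 3)) (hmem _ hrq) (hsq 1)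
    (fun e => by
      obtain ⟨y, -, hy⟩ := hptY _ _ e
      exact D.rep_ne hgood (show (1 : Fin 4) ≠ 2 by decide) y hy)
    (fun v _ hv => hρ v hv)
    (fun z hzY _ hz2 hz1 hzr => by
      obtain ⟨p, -, rfl⟩ := D.norm z (hρ z hzr)
      have hpr := D.monHom_comm.1 hzr
      have hpq := D.monHom_comm.1 (mem_centralizer_singleton_iff.1 hzY)
      have hp2 : p * p = 1 := D.monHom_inj (by rw [map_mul, map_one]; exact hz2)
      have hp1 : p ≠ 1 := fun e => hz1 (by rw [e, D.one])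
      obtain ⟨v, w⟩ := p
      obtain ⟨e, he, hcase⟩ := quo_invol w (congrArg Mn.w hpr) (congrArg Mn.w hpq) v hpr hpq hp2 hp1
      obtain ⟨her, heq⟩ := quo_conj.1 e
      rw [he] at hzY ⊢
      rcases hcase with h | h | ⟨h1, h2⟩
      · exact Or.inl fun u _ _ _ hzu => D.cent_lab h hρ hzu.symm
      · refine Or.inl fun u huY _ _ hzu => D.cent_lab (a := jM (e, e, 0)) h hρ ?_
        rw [show wM (w * quoM.w) = wM w * quoM from wM_mul w quoM.w,
          show jM (e, e, 0) * (wM w * quoM) * (jM (e, e, 0))⁻¹ =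
            jM (e, e, 0) * wM w * (jM (e, e, 0))⁻¹ * (jM (e, e, 0) * quoM * (jM (e, e, 0))⁻¹) by group,
          mul_inv_eq_iff_eq_mul.2 heq, D.hom _ _ (wok_true _) (wok_true _)]
        exact ((show Commute u _ from hzu.symm).mul_right (mem_centralizer_singleton_iff.1 huY)).eq
      · have hpe : pt (φ (jM (e, e, 0) * wM w * (jM (e, e, 0))⁻¹) * φ rhoM) = pt (φ (wM (w * rhoM.w))) := by
          rw [← hpt _ (hmem _ heq) (φ (wM (w * rhoM.w))), ← D.conj' (wok_true _) (wok_true _),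
            ← D.hom _ _ (wok_true _) (wok_true _), show wM (w * rhoM.w) = wM w * rhoM from wM_mul w rhoM.w]
          rw [show jM (e, e, 0) * (wM w * rhoM) * (jM (e, e, 0))⁻¹ =
            jM (e, e, 0) * wM w * (jM (e, e, 0))⁻¹ * (jM (e, e, 0) * rhoM * (jM (e, e, 0))⁻¹) by group,
            mul_inv_eq_iff_eq_mul.2 her]
        rw [hpe]
        refine Or.inr ⟨fun e' => ?_, fun e' => ?_⟩
        · rcases h1 with h1 | h1
          · -- `(1 2)(4 5)(0 3)(1 4)(2 5)` is not conjugate to `(0 3)(1 4)(2 5)` here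
            obtain ⟨y, hy, hye⟩ := hptY _ _ e'.symm
            rw [h1, show wM ((dM 3).w * rhoM.w) = dM 3 * rhoM from wM_mul (dM 3).w rhoM.w] at hye
            have hc : ((φ naM)⁻¹ * y) * φ rhoM = φ rhoM * ((φ naM)⁻¹ * y) := by
              refine mul_inv_eq_iff_eq_mul.1 ?_
              rw [show (φ naM)⁻¹ * y * φ rhoM * ((φ naM)⁻¹ * y)⁻¹ = (φ naM)⁻¹ * (y * φ rhoM * y⁻¹) * φ naM by group,
                hye, ← hnar, D.conj' (wok_true _) (wok_true _)]
              group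
            have hyN := mul_mem (D.mem naM (wok_true _)) (hρ _ hc)
            rw [mul_inv_cancel_left] at hyN
            obtain ⟨⟨v', w'⟩, -, rfl⟩ := D.norm y hyN
            have hyq := D.monHom_comm.1 (mem_centralizer_singleton_iff.1 hy)
            refine quo_conj.2 w' (congrArg Mn.w hyq) v' hyq (D.monHom_inj ?_)
            rw [map_mul, map_mul]
            exact mul_inv_eq_iff_eq_mul.1 hye
          · obtain ⟨y, hy, hye⟩ := hptY _ _ e'
            exact D.sep_ne hgood h1 (mem_centralizer_singleton_iff.1 hy) hye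
        · obtain ⟨y, hy, hye⟩ := hptY _ _ e'
          exact D.sep_ne hgood h2 (mem_centralizer_singleton_iff.1 hy) hye)
  intro g hg
  have hgY : g ∈ Y := mem_centralizer_singleton_iff.2 hg
  have hconj : ∀ a ∈ Y, a * φ (dM 3) * a⁻¹ ∈ normalizer (J : Set G) := fun a ha => by
    refine hall _ (mul_mem (mul_mem ha hdY) (inv_mem ha)) ?_ (hpt a ha _)
    rw [show a * φ (dM 3) * a⁻¹ * (a * φ (dM 3) * a⁻¹) = a * (φ (monRep 2) * φ (monRep 2)) * a⁻¹ by
      show _ = a * (φ (dM 3) * φ (dM 3)) * a⁻¹; group, hsq 2, mul_one, mul_inv_cancel]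
  refine D.mem_of_moves (v := ((1, 1, 0) : V3)) (fun g hg => hgood _ (by decide) g hg)
    (fun w _ => hstab w) ?_
  set j := φ (jM ((2, 2, 0) : V3))
  have he : φ (jM ((1, 1, 0) : V3)) = j * φ (dM 3) * j⁻¹ * φ (dM 3) := by
    rw [← hprod, D.hom _ _ (wok_true _) (wok_true _), D.conj' (wok_true _) (wok_true _)]
  have h := mul_mem (hconj (g * j) (mul_mem hgY (hmem _ hjq))) (hconj g hgY)
  rw [he]
  rwa [show g * j * φ (dM 3) * (g * j)⁻¹ * (g * φ (dM 3) * g⁻¹) =
    g * (j * φ (dM 3) * j⁻¹ * φ (dM 3)) * g⁻¹ by group] at h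

theorem mon_dee : ∀ g, g * φ (dM 3) = φ (dM 3) * g → g ∈ normalizer (J : Set G) := by
  classical
  haveI : Fact (Nat.Prime 2) := ⟨Nat.prime_two⟩
  obtain ⟨hrep, -, -, ⟨-, hduniq⟩, -, -⟩ := rep_facts
  obtain ⟨hncq, hncb, hbd, hqd⟩ := dee_basic
  obtain ⟨hTf, hTcl, hC1, hC2, hrT, hncT, -, hqT⟩ := monT_facts
  set u := φ (dM 3) with hudef
  set Y := centralizer ({u} : Set G) with hY
  have hmem : ∀ p : Mn, p * dM 3 = dM 3 * p → φ p ∈ Y := fun p hp =>
    mem_centralizer_singleton_iff.2 (D.monHom_comm.2 hp).eq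
  have hcomY : ∀ p : Mn, φ p ∈ Y → p * dM 3 = dM 3 * p := fun p hp =>
    D.monHom_comm.1 (mem_centralizer_singleton_iff.1 hp)
  let T : Subgroup G := D.listSub monT hTcl.1 fun q hq => ⟨wok_true _, hTcl.2 q hq⟩
  let C1 : Subgroup G := D.listSub quad'M hC1.1 fun q hq => ⟨wok_true _, (hC1.2 q hq).1, (hC1.2 q hq).2.1⟩
  let C2 : Subgroup G := D.listSub quadM hC2.1 fun q hq => ⟨wok_true _, hC2.2 q hq⟩
  have hTY : T ≤ Y := by rintro _ ⟨q, hq, rfl⟩; exact hmem q (hTf q hq).2.1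
  have hT2 : IsPGroup 2 T := by
    rintro ⟨_, q, hq, rfl⟩
    refine ⟨3, Subtype.ext ?_⟩
    show D.monHom q ^ 8 = 1
    rw [← _root_.map_pow, (hTf q hq).2.2.1, map_one]
  have hinT : ∀ p : Mn, φ p ∈ T → p ∈ monT := fun p ⟨q, hq, e⟩ => D.monHom_inj e ▸ hq
  have hmax := maximal_of_normalizer (p := 2) (Y := Y) (T := T) fun g hg hgn _ => by
    obtain ⟨t, htm, hte⟩ : g * φ rhoM * g⁻¹ ∈ T := (mem_normalizer_iff.1 hgn _).1 ⟨rhoM, hrT, rfl⟩
    obtain ⟨a, haL⟩ : ∃ a : Mn, φ a * g * φ rhoM = φ rhoM * (φ a * g) := by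
      obtain ⟨ht0, -, -, hcase⟩ := hTf t htm
      rcases hcase with e | e | e | e | e
      · exact ⟨1, by rw [D.one, one_mul]; exact mul_inv_eq_iff_eq_mul.1 (by rw [← hte, e])⟩
      · refine ⟨naM⁻¹, mul_inv_eq_iff_eq_mul.1 ?_⟩
        rw [show φ naM⁻¹ * g * φ rhoM * (φ naM⁻¹ * g)⁻¹ = φ naM⁻¹ * (g * φ rhoM * g⁻¹) * (φ naM⁻¹)⁻¹ by group,
          ← hte, e, ← D.conj' (wok_true _) (wok_true _), ← quo_basic.2.2.2.2.1]
        exact congrArg φ (by group)
      · rw [e, D.one, eq_comm, conj_eq_one_iff] at hte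
        exact absurd (D.eq_one (wok_true _) hte) (hrep 1).2.1
      · refine absurd (D.monHom_inj ?_) e
        rw [map_mul, map_one, D.monHom_apply, hte,
          show g * φ rhoM * g⁻¹ * (g * φ rhoM * g⁻¹) = g * (φ rhoM * φ rhoM) * g⁻¹ by group,
          ← D.hom _ _ (wok_true _) (wok_true _), rho_facts.1, D.one, mul_one, mul_inv_cancel]
      · refine absurd ?_ (D.sep_ne hgood e (y := g) (mem_centralizer_singleton_iff.1 hg))
        rw [show wM t.w = t from by rw [wM, ← ht0]]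
        exact hte.symm
    have hgN : g ∈ normalizer (J : Set G) := by
      have h := mul_mem (inv_mem (D.mem a (wok_true _))) (hρ _ haL)
      rwa [inv_mul_cancel_left] at h
    obtain ⟨⟨v, w⟩, -, rfl⟩ := D.norm g hgN
    have hc := hcomY _ hg
    refine ⟨_, (monT_norm w (congrArg Mn.w hc) v hc).2 (hinT _ ?_), rfl⟩
    rw [D.conj' (wok_true _) (wok_true _)]
    exact (mem_normalizer_iff.1 hgn _).1 ⟨ncM, hncT, rfl⟩
  obtain ⟨O, hOY, hYO, hOodd, hall⟩ := odd_core_of (Y := Y) (T := T) ((C1 : Set G) ∪ (C2 : Set G)) hTY hT2 hmax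
    (fun H _ hH => by
      have hor : H ≤ C1 ∨ H ≤ C2 := by
        by_contra hno
        rw [not_or, SetLike.not_le_iff_exists, SetLike.not_le_iff_exists] at hno
        obtain ⟨⟨a, ha, ha1⟩, b, hb, hb2⟩ := hno
        have ha2 : a ∈ C2 := (hH a ha).resolve_left ha1
        have hb1 : b ∈ C1 := (hH b hb).resolve_right hb2
        rcases hH _ (mul_mem ha hb) with h | h
        · exact ha1 (by simpa using mul_mem h (inv_mem hb1))
        · exact hb2 (by simpa using mul_mem (inv_mem ha2) h)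
      have hcyc : ∀ (C : Subgroup G) (g : Mn), φ g ∈ C → (∀ x ∈ C, ∃ k : ℕ, φ g ^ k = x) → H ≤ C → IsCyclic H :=
        fun C g hgC hgen hle => by
          haveI : IsCyclic C := ⟨⟨⟨φ g, hgC⟩, fun ⟨x, hx⟩ => by
            obtain ⟨k, hk⟩ := hgen x hx
            exact ⟨(k : ℤ), Subtype.ext (by simp [hk])⟩⟩⟩
          exact isCyclic_of_injective (Subgroup.inclusion hle) (Subgroup.inclusion_injective hle)
      rcases hor with h | h
      · refine hcyc C1 (dM 1 * rhoM * ncM) ⟨_, by simp [quad'M], rfl⟩ ?_ h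
        rintro _ ⟨q, hq, rfl⟩
        obtain ⟨k, hk⟩ := (hC1.2 q hq).2.2
        exact ⟨k.val, (_root_.map_pow D.monHom _ _).symm.trans (congrArg φ hk)⟩
      · refine hcyc C2 (dM 1 * rhoM) ⟨_, by simp [quadM], rfl⟩ ?_ h
        rintro _ ⟨q, hq, rfl⟩
        obtain ⟨k, hk⟩ := (oct_inL.2 q hq).2.2.2.2.2
        exact ⟨k.val, (_root_.map_pow D.monHom _ _).symm.trans (congrArg φ hk)⟩)
    (by
      rintro _ ⟨q, hq, rfl⟩
      rcases monT_cover q hq with h | h | ⟨h2, L, hL, hsep⟩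
      · exact Or.inl (Or.inr ⟨q, h, rfl⟩)
      · exact Or.inl (Or.inl ⟨q, h, rfl⟩)
      obtain ⟨⟨hL1, hLcl⟩, a, haT, hxor⟩ := monT_half L hL
      let Q : Subgroup G := D.listSub L hL1 fun q hq => ⟨wok_true _, (hLcl q hq).2⟩
      have hinQ : ∀ p : Mn, φ p ∈ Q ↔ p ∈ L := fun p =>
        ⟨fun ⟨q, hq, e⟩ => D.monHom_inj e ▸ hq, fun h => ⟨p, h, rfl⟩⟩
      refine Or.inr ⟨φ q, ⟨q, hq, rfl⟩, 1, one_mem _, by rw [mul_one, mul_one],
        by rw [← D.hom _ _ (wok_true _) (wok_true _), h2, D.one], Q, ?_, ?_, ?_⟩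
      · rintro _ ⟨p, hp, rfl⟩; exact ⟨p, (hLcl p hp).1, rfl⟩
      · refine (index_eq_two_iff (H := Q.subgroupOf T)).2 ⟨⟨φ a, a, haT, rfl⟩, ?_⟩
        rintro ⟨_, p, hp, rfl⟩
        show Xor _ _
        simp only [mem_subgroupOf, Subgroup.coe_mul]
        rw [← D.hom _ _ (wok_true _) (wok_true _), hinQ, hinQ]
        by_cases hpL : p ∈ L
        · exact Or.inr ⟨hpL, fun h => (hxor p hp).1 h hpL⟩
        · exact Or.inl ⟨(hxor p hp).2 hpL, hpL⟩
      · rintro y hy ⟨c, hc, he⟩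
        obtain ⟨hc0, hcase⟩ := hsep c hc
        have hyu := mem_centralizer_singleton_iff.1 hy
        rcases hcase with h | ⟨h, hne⟩ | h
        · refine h (D.monHom_inj ?_)
          rw [map_mul, map_one, D.monHom_apply, he,
            show y * φ q * y⁻¹ * (y * φ q * y⁻¹) = y * (φ q * φ q) * y⁻¹ by group,
            ← D.hom _ _ (wok_true _) (wok_true _), h2, D.one, mul_one, mul_inv_cancel]
        · refine hne (D.monHom_inj ?_)
          rw [D.monHom_apply, D.monHom_apply, he]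
          rcases h with h | h <;> rw [h] at he
          · rw [D.one, eq_comm, conj_eq_one_iff] at he
            rw [he, mul_one, mul_inv_cancel]
          · have : φ q = u := by
              refine mul_left_cancel (a := y) ?_
              rw [hyu]
              exact mul_inv_eq_iff_eq_mul.1 he.symm
            rw [this, mul_inv_eq_iff_eq_mul.2 hyu]
        · refine absurd ?_ (D.sep_ne hgood h (y := y) hyu)
          rw [show wM c.w = c from by rw [wM, ← hc0], show wM q.w = q from by rw [wM, ← (hTf q hq).1]]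
          exact he.symm)
  set b : G := φ (jM ((0, 0, 1) : V3)) with hbdef
  have hbY : b ∈ Y := hmem _ hbd
  have hL' : ∀ x ∈ J ⊓ Y, x = 1 ∨ x = b ∨ x = b⁻¹ := by
    intro x hx
    obtain ⟨y, rfl, hy⟩ := (D.mem_fix (wok_true _)).1 hx
    rcases hduniq y hy with e | e | e <;> rw [e]
    · exact Or.inl D.jzero
    · exact Or.inr (Or.inl rfl)
    · exact Or.inr (Or.inr (D.jneg _))
  have hbL : b ∈ J ⊓ Y := mem_inf.2 ⟨D.memj _, hbY⟩
  have hLO : J ⊓ Y ≤ O := fun x hx => hall x hx.2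
    ((show Odd 3 by decide).of_dvd_nat (orderOf_dvd_of_pow_eq_one (D.J_cube hx.1)))
  have hlineS : SylowAt Y (J ⊓ Y) := D.sylow_rep hgood 2
  have hSO : SylowAt O (J ⊓ Y) := ⟨hLO, hlineS.isP, fun R hR => hlineS.maximal R (hR.trans hOY)⟩
  have hoddO : ∀ g ∈ O, Odd (orderOf g) := fun g hg =>
    hOodd.of_dvd_nat (by simpa using orderOf_dvd_natCard (⟨g, hg⟩ : O))
  have hbne : b ≠ 1 := fun e => absurd (D.jinj (e.trans D.jzero.symm)) (by decide +kernel : ((0, 0, 1) : V3) ≠ 0)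
  obtain ⟨K, hKO, hOK, hKL, -, hdec, hallK, hKS⟩ := hSO.split (F := ⊥) (fun x hx y hy => D.J_comm hx.1 hy.1)
    fun g hg hgn x hx => by
      have hgb : Commute g b := comm_of_odd (hoddO g hg) (by
        rcases hL' _ ((mem_normalizer_iff.1 hgn _).1 hbL) with e | e | e
        · exact absurd (conj_eq_one_iff.1 e) hbne
        · exact Or.inl e
        · exact Or.inr e)
      rw [mem_bot]
      rcases hL' x hx with e | e | e <;> rw [e]
      · group
      · rw [← hgb.eq]; group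
      · rw [← hgb.inv_right.eq]; group
  rw [le_bot_iff.1 hKL] at hKS
  have hKc := coprime_of_bot hKS
  have hnK : ∀ g ∈ Y, g ∈ normalizer (K : Set G) := fun g hg =>
    conj_mem_of_coprime hKc hKO hallK fun x hx => (mem_normalizer_iff.1 (hYO hg) x).1 hx
  have hK12 : ∀ k ∈ K, k ^ 12 = 1 → k = 1 := fun k hk h => by
    have h2 : (orderOf k).Coprime 2 := (hoddO k (hKO hk)).coprime_two_right
    have h3 : (orderOf k).Coprime 3 :=
      Nat.Coprime.coprime_dvd_left (by simpa using orderOf_dvd_natCard (⟨k, hk⟩ : K)) hKc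
    exact orderOf_eq_one_iff.1 (Nat.dvd_one.1 (Nat.Coprime.mul_right (Nat.Coprime.mul_right h2 h2) h3 ▸
      Nat.dvd_gcd dvd_rfl (show orderOf k ∣ 2 * 2 * 3 from orderOf_dvd_of_pow_eq_one h)))
  have hin12 : ∀ k ∈ K, k ∈ normalizer (J : Set G) → k = 1 := fun k hk hkN => by
    refine hK12 k hk ?_
    obtain ⟨⟨v, w⟩, -, rfl⟩ := D.norm k hkN
    have hc := hcomY _ (hOY (hKO hk))
    show D.monHom (⟨v, w⟩ : Mn) ^ 12 = 1
    rw [← _root_.map_pow, (monT_norm w (congrArg Mn.w hc) v hc).1, map_one]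
  have hinv : ∀ p ∈ monT, p * p = 1 → (∀ g, g * φ p = φ p * g → g ∈ normalizer (J : Set G)) →
      ∀ k ∈ K, φ p * k * (φ p)⁻¹ = k⁻¹ := fun p hp hp2 hcp =>
    inverts_fpf (by rw [← D.hom _ _ (wok_true _) (wok_true _), hp2, D.one])
      (fun k hk => (mem_normalizer_iff.1 (hnK _ (hTY ⟨p, hp, rfl⟩)) k).1 hk)
      fun k hk h => hin12 k hk (hcp k h.symm)
  set t := φ ncM with htdef
  have ht2 : t * t = 1 := by rw [htdef, ← D.hom _ _ (wok_true _) (wok_true _), show ncM * ncM = 1 from (hrep 0).1, D.one]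
  have hKt : ∀ k ∈ K, t * k * t⁻¹ = k := fun k hk => by
    rw [htdef, hncq, D.hom _ _ (wok_true _) (wok_true _),
      show φ quoM * φ rhoM * k * (φ quoM * φ rhoM)⁻¹ = φ quoM * (φ rhoM * k * (φ rhoM)⁻¹) * (φ quoM)⁻¹ by group,
      hinv rhoM hrT rho_facts.1 hρ k hk,
      hinv quoM hqT (hrep 3).1 (D.mon_quo hgood hρ) _ (inv_mem hk), inv_inv]
  have hb3 : b ^ 3 = 1 := D.jcube _
  have htb : t * b * t⁻¹ = b⁻¹ := by rw [htdef, hbdef, D.act' (wok_true _), hncb, D.jneg]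
  have htbt : t * (b * t * b⁻¹) = b := by
    rw [show t * (b * t * b⁻¹) = (t * b * t⁻¹) * (t * t) * b⁻¹ by group, htb, ht2, mul_one, three_cancel hb3]
  have hnb : ∀ k ∈ K, b⁻¹ * k * b ∈ K := fun k hk => by
    simpa using (mem_normalizer_iff.1 (hnK b⁻¹ (inv_mem hbY)) k).1 hk
  have hK1 : ∀ k ∈ K, k = 1 := fun k hk => by
    refine hin12 k hk (hgood ((0, 0, 1) : V3) (by decide) k ?_)
    have h1 : b * t * b⁻¹ * k * (b * t * b⁻¹)⁻¹ = k := by
      calc b * t * b⁻¹ * k * (b * t * b⁻¹)⁻¹ = b * (t * (b⁻¹ * k * b) * t⁻¹) * b⁻¹ := by group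
        _ = k := by rw [hKt _ (hnb k hk)]; group
    have h2 : t * (b * t * b⁻¹ * k * (b * t * b⁻¹)⁻¹) * t⁻¹ = k := by rw [h1, hKt k hk]
    rw [show t * (b * t * b⁻¹ * k * (b * t * b⁻¹)⁻¹) * t⁻¹ = t * (b * t * b⁻¹) * k * (t * (b * t * b⁻¹))⁻¹ by
      group, htbt] at h2
    exact (mul_inv_eq_iff_eq_mul.1 h2).symm
  intro g hg
  have hgY : g ∈ Y := mem_centralizer_singleton_iff.2 hg
  obtain ⟨k, hk, x, hx, e⟩ := hdec _ ((mem_normalizer_iff.1 (hYO hgY) b).1 (hLO hbL))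
  rw [hK1 k hk, one_mul] at e
  rcases hL' x hx with h | h | h <;> rw [h] at e
  · exact absurd (conj_eq_one_iff.1 e) hbne
  · exact hgood ((0, 0, 1) : V3) (by decide) g (mul_inv_eq_iff_eq_mul.1 e)
  · have h1 : t * g ∈ normalizer (J : Set G) := hgood ((0, 0, 1) : V3) (by decide) _ (mul_inv_eq_iff_eq_mul.1 (by
      show t * g * b * (t * g)⁻¹ = b
      rw [show t * g * b * (t * g)⁻¹ = t * (g * b * g⁻¹) * t⁻¹ by group, e,
        show t * b⁻¹ * t⁻¹ = (t * b * t⁻¹)⁻¹ by group, htb, inv_inv]))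
    have h2 := mul_mem (inv_mem (D.mem ncM (wok_true _))) h1
    rwa [← htdef, inv_mul_cancel_left] at h2

end Frame

theorem case_mon_one {G : Type*} [Group G] [Finite G] {J : Subgroup G} {φ : Mn → G} (D : Frame J true true φ)
    (hgood : ∀ v : V3, v ≠ 0 → ∀ g : G, g * φ (jM v) = φ (jM v) * g → g ∈ normalizer (J : Set G))
    (hρ : ∀ g : G, g * φ rhoM = φ rhoM * g → g ∈ normalizer (J : Set G)) :
    J.Normal := by
  classical
  have hclass : ∀ a w : G, ConjClasses.mk (a * w * a⁻¹) = ConjClasses.mk w := fun a w =>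
    (ConjClasses.mk_eq_mk_iff_isConj.2 (isConj_iff.2 ⟨a, rfl⟩)).symm
  have hne : ∀ {i j : Fin 4}, i ≠ j → ConjClasses.mk (φ (monRep i)) ≠ ConjClasses.mk (φ (monRep j)) :=
    fun hij e => by
      obtain ⟨g, hg⟩ := isConj_iff.1 (ConjClasses.mk_eq_mk_iff_isConj.1 e)
      exact D.rep_ne hgood hij g hg
  have hsq : ∀ i, φ (monRep i) * φ (monRep i) = 1 := fun i => by
    rw [← D.hom _ _ (wok_true _) (wok_true _), (rep_facts.1 i).1, D.one]
  have hall := engine (Y := (⊤ : Subgroup G)) (H := normalizer (J : Set G)) (fun g => ConjClasses.mk g)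
    (fun g _ w _ _ => hclass g w) (w1 := φ rhoM) (w2 := φ (dM 3)) (mem_top _) (hsq 1)
    (hne (show (1 : Fin 4) ≠ 2 by decide)) (fun v _ hv => hρ v hv)
    (fun z _ _ hz2 hz1 hzr => by
      obtain ⟨p, -, rfl⟩ := D.norm z (hρ z hzr)
      have hpr := D.monHom_comm.1 hzr
      have hp2 : p * p = 1 := D.monHom_inj (by rw [map_mul, map_one]; exact hz2)
      have hp1 : p ≠ 1 := fun e => hz1 (by rw [e, D.one])
      obtain ⟨v, w⟩ := p
      obtain ⟨x, hxr, hx, hcase⟩ := rho_invol w (congrArg Mn.w hpr) v hpr hp2 hp1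
      rw [hx]
      rcases hcase with h | h | h | h
      · exact Or.inl fun u _ _ _ hzu => D.cent_lab h hρ hzu.symm
      · exact Or.inl fun u _ _ _ hzu => D.cent_lab h (D.mon_dee hgood hρ) hzu.symm
      · exact Or.inl fun u _ _ _ hzu => D.cent_lab h (D.mon_quo hgood hρ) hzu.symm
      · obtain ⟨a, ha⟩ := D.lab_conj h
        have he : ConjClasses.mk (φ (jM x * wM w * (jM x)⁻¹) * φ rhoM) = ConjClasses.mk (φ (monRep 3)) := by
          rw [← D.hom _ _ (wok_true _) (wok_true _),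
            show jM x * wM w * (jM x)⁻¹ * rhoM = jM x * (wM w * rhoM) * (jM x)⁻¹ by
              calc jM x * wM w * (jM x)⁻¹ * rhoM
                  = jM x * wM w * ((jM x)⁻¹ * (rhoM * jM x)) * (jM x)⁻¹ := by group
                _ = _ := by rw [← hxr]; group,
            D.conj' (wok_true _) (wok_true _), hclass,
            show wM w * rhoM = wM (w * rhoM.w) from (wM_mul w rhoM.w).symm, ha, hclass]
        rw [he]
        exact Or.inr ⟨hne (show (3 : Fin 4) ≠ 1 by decide), hne (show (3 : Fin 4) ≠ 2 by decide)⟩)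
  refine normalizer_eq_top_iff.1 (eq_top_iff.2 fun g _ => ?_)
  have hmem : ∀ a : G, a * φ (dM 3) * a⁻¹ ∈ normalizer (J : Set G) := fun a => by
    refine hall _ (mem_top _) ?_ (hclass a _)
    rw [show a * φ (dM 3) * a⁻¹ * (a * φ (dM 3) * a⁻¹) = a * (φ (dM 3) * φ (dM 3)) * a⁻¹ by group,
      show φ (dM 3) * φ (dM 3) = 1 from hsq 2, mul_one, mul_inv_cancel]
  refine D.mem_of_moves (v := ((1, 1, 0) : V3)) (fun g hg => hgood _ (by decide) g hg)
    (fun w _ => quo_basic.2.2.2.2.2 w) ?_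
  obtain ⟨-, hprod, -⟩ := four_d3rho
  set j := φ (jM ((2, 2, 0) : V3))
  have he : φ (jM ((1, 1, 0) : V3)) = j * φ (dM 3) * j⁻¹ * φ (dM 3) := by
    rw [← hprod, D.hom _ _ (wok_true _) (wok_true _), D.conj' (wok_true _) (wok_true _)]
  have h := mul_mem (hmem (g * j)) (hmem g)
  rw [he]
  rwa [show g * j * φ (dM 3) * (g * j)⁻¹ * (g * φ (dM 3) * g⁻¹) =
    g * (j * φ (dM 3) * j⁻¹ * φ (dM 3)) * g⁻¹ by group] at h

end Cfsg.Agent.NineSym
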