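import Cfsg.Agent.Lib.NineSym.CaseFour

/-!
# Tables for the automizer of all signed permutations
-/

set_option autoImplicit false
set_option maxRecDepth 100000
set_option synthInstance.maxSize 10000

namespace Cfsg.Agent.NineSym

/-- The transposition of the third block. -/
def ncM : Mn := wM ⟨true, 3, 0⟩

/-- The transposition of the first block. -/
def naM : Mn := wM ⟨true, 1, 0⟩

/-- The product `(0 3)(1 4)(2 5)(7 8)`. -/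
def quoM : Mn := ncM * rhoM

/-- Representatives of four classes of involutions. -/
def monRep : Fin 4 → Mn := ![ncM, rhoM, dM 3, quoM]

/-- The class of an involution, if it is one of the four. -/
def labW (w : Wt) : Option (Fin 4) :=
  if w.p = 0 then (if w.k = 0 then none else if w.e then some 0 else some 2)
  else if w * w = 1 then (if w.e then some 3 else some 1) else none

/-- Separated by the classes, directly or after multiplication by `s`. -/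
def Sep (s w w' : Wt) : Bool :=
  ((labW w).isSome && (labW w').isSome && labW w != labW w') ||
    ((labW (w * s)).isSome && (labW (w' * s)).isSome && labW (w * s) != labW (w' * s))

/-- The Sylow `2`-subgroup of the centralizer of `(1 2)(4 5)`. -/
def monT : List Mn := octM ++ octM.map (· * ncM)

/-- The second cyclic subgroup of order four. -/
def quad'M : List Mn := [1, dM 3, dM 1 * rhoM * ncM, dM 2 * rhoM * ncM]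

/-- The subgroup of sign changes. -/
def signM : List Mn := [1, dM 1, dM 2, dM 3, ncM, dM 1 * ncM, dM 2 * ncM, dM 3 * ncM]

/-- The subgroup generated by `(1 2)(4 5)`, `(7 8)` and `(0 3)(1 4)(2 5)`. -/
def planeM : List Mn := [1, dM 3, rhoM, dM 3 * rhoM, ncM, dM 3 * ncM, rhoM * ncM, dM 3 * rhoM * ncM]

theorem wok_true : ∀ w : Wt, Wok true true w := fun _ => ⟨fun _ => rfl, fun _ => rfl⟩

theorem wM_mul : ∀ a b : Wt, wM (a * b) = wM a * wM b := by decide +kernel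

theorem labW_spec : ∀ w i, labW w = some i → ∃ a : Wt, wM w = wM a * monRep i * (wM a)⁻¹ := by
  decide +kernel

theorem rep_facts : (∀ i, monRep i * monRep i = 1 ∧ monRep i ≠ 1 ∧ labW (monRep i).w = some i ∧
      ∀ w, w * (monRep i).w = (monRep i).w * w → w ^ 3 = 1 → w = 1) ∧
    (∀ i j, i ≠ j → ∀ w, w * (monRep i).w ≠ (monRep j).w * w) ∧
    (Indep ((1, 0, 0) : V3) ((0, 1, 0) : V3) ∧ wact ncM.w (1, 0, 0) = (1, 0, 0) ∧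
      wact ncM.w (0, 1, 0) = (0, 1, 0)) ∧
    (wact (dM 3).w (0, 0, 1) = (0, 0, 1) ∧
      ∀ x, wact (dM 3).w x = x → x = 0 ∨ x = (0, 0, 1) ∨ x = -(0, 0, 1)) ∧
    (wact quoM.w (1, 1, 0) = (1, 1, 0) ∧
      ∀ x, wact quoM.w x = x → x = 0 ∨ x = (1, 1, 0) ∨ x = -(1, 1, 0)) ∧
    ∀ w, wact quoM.w (wact w (0, 0, 1)) ≠ wact w (0, 0, 1) := by
  decide +kernel

theorem quo_basic : rhoM * quoM = quoM * rhoM ∧ dM 3 * quoM = quoM * dM 3 ∧ quoM * dM 3 = dM 3 * quoM ∧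
    jM ((2, 2, 0) : V3) * quoM = quoM * jM (2, 2, 0) ∧ naM * rhoM * naM⁻¹ = dM 3 * rhoM ∧
    ∀ w, wact w (1, 1, 0) = (1, 1, 0) → w ^ 3 = 1 → w = 1 := by
  decide +kernel

/-- The involutions commuting with `(0 3)(1 4)(2 5)` and `(0 3)(1 4)(2 5)(7 8)`. -/
theorem quo_invol : ∀ w, w * rhoM.w = rhoM.w * w → w * quoM.w = quoM.w * w → ∀ v : V3,
    (⟨v, w⟩ : Mn) * rhoM = rhoM * ⟨v, w⟩ → (⟨v, w⟩ : Mn) * quoM = quoM * ⟨v, w⟩ →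
    (⟨v, w⟩ : Mn) * ⟨v, w⟩ = 1 → (⟨v, w⟩ : Mn) ≠ 1 →
    ∃ e : ZMod 3, (⟨v, w⟩ : Mn) = jM (e, e, 0) * wM w * (jM (e, e, 0))⁻¹ ∧
      (labW w = some 1 ∨ labW (w * quoM.w) = some 1 ∨
        ((w = (dM 3).w ∨ Sep quoM.w (w * rhoM.w) rhoM.w = true) ∧
          Sep quoM.w (w * rhoM.w) (dM 3).w = true)) := by
  decide +kernel

theorem quo_conj : (∀ e : ZMod 3, jM (e, e, 0) * rhoM = rhoM * jM (e, e, 0) ∧
      jM (e, e, 0) * quoM = quoM * jM (e, e, 0)) ∧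
    ∀ w, w * quoM.w = quoM.w * w → ∀ v : V3, (⟨v, w⟩ : Mn) * quoM = quoM * ⟨v, w⟩ →
      (⟨v, w⟩ : Mn) * rhoM ≠ dM 3 * rhoM * ⟨v, w⟩ := by
  decide +kernel

/-- The involutions commuting with `(0 3)(1 4)(2 5)`. -/
theorem rho_invol : ∀ w, w * rhoM.w = rhoM.w * w → ∀ v : V3, (⟨v, w⟩ : Mn) * rhoM = rhoM * ⟨v, w⟩ →
    (⟨v, w⟩ : Mn) * ⟨v, w⟩ = 1 → (⟨v, w⟩ : Mn) ≠ 1 →
    ∃ x : V3, jM x * rhoM = rhoM * jM x ∧ (⟨v, w⟩ : Mn) = jM x * wM w * (jM x)⁻¹ ∧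
      (labW w = some 1 ∨ labW w = some 2 ∨ labW w = some 3 ∨ labW (w * rhoM.w) = some 3) := by
  decide +kernel

theorem monT_facts : (∀ t ∈ monT, t.v = 0 ∧ t * dM 3 = dM 3 * t ∧ t ^ 8 = 1 ∧
      (t = rhoM ∨ t = dM 3 * rhoM ∨ t = 1 ∨ t * t ≠ 1 ∨ Sep (dM 3).w rhoM.w t.w = true)) ∧
    (1 ∈ monT ∧ ∀ q ∈ monT, q⁻¹ ∈ monT ∧ ∀ p ∈ monT, q * p ∈ monT) ∧
    (1 ∈ quad'M ∧ ∀ q ∈ quad'M, q⁻¹ ∈ quad'M ∧ (∀ p ∈ quad'M, q * p ∈ quad'M) ∧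
      ∃ k : Fin 4, (dM 1 * rhoM * ncM) ^ k.val = q) ∧
    (1 ∈ quadM ∧ ∀ q ∈ quadM, q⁻¹ ∈ quadM ∧ ∀ p ∈ quadM, q * p ∈ quadM) ∧
    rhoM ∈ monT ∧ ncM ∈ monT ∧ dM 3 ∈ monT ∧ quoM ∈ monT := by
  decide +kernel

theorem monT_cover : ∀ q ∈ monT, q ∈ quadM ∨ q ∈ quad'M ∨ (q * q = 1 ∧ ∃ L ∈ [octM, signM, planeM],
    ∀ c ∈ L, c.v = 0 ∧ (c * c ≠ 1 ∨ ((c = 1 ∨ c = dM 3) ∧ q ≠ c) ∨ Sep (dM 3).w q.w c.w = true)) := by
  decide +kernel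

theorem monT_half : ∀ L ∈ [octM, signM, planeM], (1 ∈ L ∧ (∀ q ∈ L, q ∈ monT ∧ q⁻¹ ∈ L ∧ ∀ p ∈ L, q * p ∈ L)) ∧
    ∃ a ∈ monT, ∀ p ∈ monT, p * a ∈ L ↔ p ∉ L := by
  decide +kernel

theorem monT_norm : ∀ w, w * (dM 3).w = (dM 3).w * w → ∀ v : V3, (⟨v, w⟩ : Mn) * dM 3 = dM 3 * ⟨v, w⟩ →
    ((⟨v, w⟩ : Mn) ^ 12 = 1 ∧ ((⟨v, w⟩ : Mn) * ncM * (⟨v, w⟩ : Mn)⁻¹ ∈ monT → (⟨v, w⟩ : Mn) ∈ monT)) := by
  decide +kernel

theorem dee_basic : ncM = quoM * rhoM ∧ wact ncM.w (0, 0, 1) = -(0, 0, 1) ∧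
    jM ((0, 0, 1) : V3) * dM 3 = dM 3 * jM (0, 0, 1) ∧
    (∀ w, w * quoM.w = quoM.w * w → w * (dM 3).w = (dM 3).w * w → ∀ v : V3,
      (⟨v, w⟩ : Mn) * quoM = quoM * ⟨v, w⟩ → (⟨v, w⟩ : Mn) * dM 3 = dM 3 * ⟨v, w⟩ →
      (⟨v, w⟩ : Mn) ^ 12 = 1) := by
  decide +kernel

end Cfsg.Agent.NineSym
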