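import Cfsg.Agent.Lib.NineSym.Cent3
import Cfsg.Agent.Lib.NineSym.Odd

/-!
# Automizer the symmetric group of degree three
-/

set_option autoImplicit false
set_option linter.style.haveILetI false
set_option linter.unusedSectionVars false
set_option maxRecDepth 100000
set_option synthInstance.maxSize 10000

namespace Cfsg.Agent.NineSym

open Subgroup

/-- The model element `(0 3)(1 4)(2 5)`. -/
def rhoM : Mn := wM ⟨false, 0, 3⟩

theorem rho_facts : rhoM * rhoM = 1 ∧ rhoM ≠ 1 ∧ InL false false rhoM ∧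
    Indep ((1, 1, 0) : V3) ((0, 0, 1) : V3) ∧ wact rhoM.w (1, 1, 0) = (1, 1, 0) ∧
    wact rhoM.w (0, 0, 1) = (0, 0, 1) := by
  decide +kernel

theorem one_easy : ∀ q : ZMod 3 × ZMod 3, q ≠ 0 → Easy false false (comb2 (1, 1, 0) (0, 0, 1) q) := by
  decide +kernel

theorem rho_tab : ∀ w, Wok false false w → w * rhoM.w = rhoM.w * w →
    (w = 1 ∨ w = rhoM.w) ∧ (w ^ 3 = 1 → w = 1) ∧ ∀ x : V3, wact rhoM.w x = x → wact w x = x := by
  decide +kernel

theorem rho_two : ∀ v : V3, (⟨v, rhoM.w⟩ : Mn) * ⟨v, rhoM.w⟩ = jM (v + wact rhoM.w v) ∧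
    (v + wact rhoM.w v = 0 → (⟨v, rhoM.w⟩ : Mn) * rhoM = rhoM * ⟨v, rhoM.w⟩ → (⟨v, rhoM.w⟩ : Mn) = rhoM) := by
  decide +kernel

variable {G : Type*} [Group G] [Finite G] {J : Subgroup G} {φ : Mn → G}

theorem case_one (D : Frame J false false φ) : J.Normal := by
  classical
  haveI : Fact (Nat.Prime 2) := ⟨Nat.prime_two⟩
  obtain ⟨hr2, hr1, hrL, hind, hu, hv⟩ := rho_facts
  set r := φ rhoM with hr
  have hr2' : r * r = 1 := by rw [hr, ← D.hom _ _ hrL hrL, hr2, D.one]
  have hr1' : r ≠ 1 := fun e => hr1 (D.eq_one hrL e)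
  have hY := D.cent_plane_trivial hrL hind hu hv one_easy
    (fun w hw hc h3 hne => absurd ((rho_tab w hw hc).2.1 h3) hne) (fun w hw hc => (rho_tab w hw hc).2.2)
  have ho : orderOf r = 2 := orderOf_eq_prime (by rw [pow_two, hr2']) hr1'
  have hT : IsPGroup 2 (zpowers r) := IsPGroup.of_card (n := 1) (by rw [Nat.card_zpowers, ho, pow_one])
  have hcard : Nat.card (zpowers r) = 2 := by rw [Nat.card_zpowers, ho]
  have hzp : ∀ g ∈ zpowers r, g = 1 ∨ g = r := fun g hg => by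
    obtain ⟨k, rfl⟩ := mem_zpowers_iff.1 hg
    rcases Int.even_or_odd k with ⟨j, rfl⟩ | ⟨j, rfl⟩
    · left; rw [zpow_add, ← (Commute.refl r).mul_zpow, hr2', one_zpow]
    · right; rw [zpow_add, zpow_mul, zpow_two, hr2', one_zpow, one_mul, zpow_one]
  have hmax := maximal_of_normalizer (p := 2) (Y := (⊤ : Subgroup G)) (T := zpowers r) fun g _ hgn ⟨k, hk⟩ => by
    have hm : g * r * g⁻¹ ∈ zpowers r := (mem_normalizer_iff.1 hgn r).1 (mem_zpowers r)
    have hcomm : g * r = r * g := by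
      rcases hzp _ hm with e | e
      · exact absurd (conj_eq_one_iff.1 e) hr1'
      · exact mul_inv_eq_iff_eq_mul.1 e
    obtain ⟨q, hq, rfl⟩ := D.norm g (hY (mem_centralizer_singleton_iff.2 hcomm))
    have hc := D.comm' hq hrL hcomm
    obtain ⟨v, w⟩ := q
    rcases (rho_tab w hq (congrArg Mn.w hc)).1 with e | e <;> subst e
    · have hv0 : φ (jM v) = 1 := by
        have h1 : orderOf (φ (jM v)) ∣ 2 ^ k := orderOf_dvd_of_pow_eq_one hk
        have h2 : orderOf (φ (jM v)) ∣ 3 := orderOf_dvd_of_pow_eq_one (D.jcube v)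
        exact orderOf_eq_one_iff.1 (Nat.dvd_one.1 ((Nat.Coprime.pow_left k (by norm_num : Nat.Coprime 2 3)) ▸
          Nat.dvd_gcd h1 h2))
      show φ (jM v) ∈ zpowers r
      rw [hv0]; exact one_mem _
    · have hsq : φ ⟨v, rhoM.w⟩ * φ ⟨v, rhoM.w⟩ = φ (jM (v + wact rhoM.w v)) := by
        rw [← D.hom _ _ hq hq, (rho_two v).1]
      have h0 : v + wact rhoM.w v = 0 := by
        refine D.jinj (Eq.trans ?_ D.jzero.symm)
        have h1 : orderOf (φ (jM (v + wact rhoM.w v))) ∣ 2 ^ k := orderOf_dvd_of_pow_eq_one (by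
          rw [← hsq, ← pow_two, ← pow_mul, mul_comm, pow_mul, hk, one_pow])
        have h2 : orderOf (φ (jM (v + wact rhoM.w v))) ∣ 3 := orderOf_dvd_of_pow_eq_one (D.jcube _)
        exact orderOf_eq_one_iff.1 (Nat.dvd_one.1 ((Nat.Coprime.pow_left k (by norm_num : Nat.Coprime 2 3)) ▸
          Nat.dvd_gcd h1 h2))
      rw [(rho_two v).2 h0 hc]
      exact mem_zpowers r
  obtain ⟨O, -, hOn, hodd, hall⟩ := odd_core (Y := (⊤ : Subgroup G)) (T := zpowers r) (C := ⊥) le_top hT hmax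
    bot_le inferInstance fun g hg => by
    rcases hzp g hg with rfl | rfl
    · exact Or.inl (one_mem _)
    · refine Or.inr ⟨r, hg, 1, one_mem _, by rw [mul_one, mul_one], hr2', ⊥, bot_le, ?_, fun y _ hy => ?_⟩
      · rw [relIndex_bot_left, hcard]
      · exact hr1' (conj_eq_one_iff.1 (mem_bot.1 hy))
  haveI : O.Normal := normalizer_eq_top_iff.1 (top_le_iff.1 hOn)
  refine normal_of_odd_core D O hodd fun q hq h3 => hall _ (mem_top _) ?_
  have h9 := (odd_facts false).2.2 q.w h3 hq q.v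
  have hp3 : ∀ p : Mn, p ^ 3 = p * p * p := fun p => by rw [pow_succ, pow_two]
  have h9' : φ q ^ 9 = 1 := by
    rw [← (D.map_pow hq _).2, show (9 : ℕ) = 3 * 3 by norm_num, pow_mul, hp3, hp3 q]
    exact (congrArg φ h9).trans D.one
  exact (show Odd 9 by decide).of_dvd_nat (orderOf_dvd_of_pow_eq_one h9')

end Cfsg.Agent.NineSym
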