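import Cfsg.Agent.Lib.Transfer.Fusion
import Cfsg.Agent.Lib.Coprime.Generation
import Cfsg.Agent.Lib.PLocal.Cores

/-!
# Splitting by transfer, generation by fixed points, dihedral pairs of involutions
-/

set_option autoImplicit false
set_option linter.style.haveILetI false
set_option linter.unusedSectionVars false

namespace Cfsg.Agent.NineSym

open Subgroup
open scoped Pointwise commutatorElement

variable {G : Type*} [Group G] [Finite G]

/-- `S` is a Sylow `3`-subgroup of `C`. -/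
structure SylowAt (C S : Subgroup G) : Prop where
  le : S ≤ C
  isP : IsPGroup 3 S
  maximal : ∀ R : Subgroup G, R ≤ C → IsPGroup 3 R → S ≤ R → R = S

theorem SylowAt.of_normalizer {C S : Subgroup G} (hle : S ≤ C) (hp : IsPGroup 3 S)
    (h : ∀ g ∈ C, g ∈ normalizer (S : Set G) → (∃ k : ℕ, g ^ 3 ^ k = 1) → g ∈ S) : SylowAt C S := by
  refine ⟨hle, hp, fun R hRC hR hSR => ?_⟩
  haveI : Fact (Nat.Prime 3) := ⟨Nat.prime_three⟩
  by_contra hne
  haveI : Group.IsNilpotent R := hR.isNilpotent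
  have hlt : S.subgroupOf R < ⊤ := lt_top_iff_ne_top.2 fun e =>
    hne (le_antisymm (subgroupOf_eq_top.1 e) hSR)
  obtain ⟨g, hgn, hgS⟩ := SetLike.exists_of_lt (Group.normalizerCondition_of_isNilpotent (S.subgroupOf R) hlt)
  refine hgS (mem_subgroupOf.2 (h (g : G) (hRC g.2) ?_ ?_))
  · refine mem_normalizer_iff.2 fun y => ⟨fun hy => ?_, fun hy => ?_⟩
    · exact mem_subgroupOf.1 ((mem_normalizer_iff.1 hgn ⟨y, hSR hy⟩).1 (mem_subgroupOf.2 hy))
    · have hyR : y ∈ R := by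
        have := mul_mem (mul_mem (inv_mem g.2) (hSR hy)) g.2
        simpa [mul_assoc] using this
      exact mem_subgroupOf.1 ((mem_normalizer_iff.1 hgn ⟨y, hyR⟩).2 (mem_subgroupOf.2 hy))
  · obtain ⟨k, hk⟩ := hR g
    exact ⟨k, by simpa using congrArg Subtype.val hk⟩

theorem SylowAt.exists_sylow {C S : Subgroup G} (h : SylowAt C S) :
    ∃ P : Sylow 3 C, (P : Subgroup C) = S.subgroupOf C := by
  refine ⟨⟨S.subgroupOf C, h.isP.of_equiv (subgroupOfEquivOfLe h.le).symm, fun {R} hR hSR => ?_⟩, rfl⟩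
  have := h.maximal (R.map C.subtype) (map_subtype_le R) (hR.map _) fun g hg =>
    ⟨⟨g, h.le hg⟩, hSR (mem_subgroupOf.2 hg), rfl⟩
  rw [← this, Subgroup.subgroupOf, comap_map_eq_self_of_injective C.subtype_injective]

/-- Fusion in an abelian Sylow subgroup is controlled by the normalizer. -/
theorem SylowAt.fusion {C S : Subgroup G} (h : SylowAt C S) (hcomm : ∀ x ∈ S, ∀ y ∈ S, x * y = y * x)
    {x g : G} (hg : g ∈ C) (hx : x ∈ S) (hgx : g * x * g⁻¹ ∈ S) :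
    ∃ n ∈ C, n ∈ normalizer (S : Set G) ∧ n * x * n⁻¹ = g * x * g⁻¹ := by
  haveI : Fact (Nat.Prime 3) := ⟨Nat.prime_three⟩
  obtain ⟨P, hP⟩ := h.exists_sylow
  haveI : IsMulCommutative (P : Subgroup C) :=
    ⟨⟨fun a b => Subtype.ext (Subtype.ext (hcomm _ (hP ▸ a.2 : (a : C) ∈ S.subgroupOf C) _
      (hP ▸ b.2 : (b : C) ∈ S.subgroupOf C)))⟩⟩
  obtain ⟨n, hn, e⟩ := P.conj_eq_normalizer_conj_of_mem (⟨x, h.le hx⟩ : C) ⟨g, hg⟩⁻¹
    (show _ ∈ (P : Subgroup C) by rw [hP]; exact hx)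
    (show _ ∈ (P : Subgroup C) by rw [hP, inv_inv]; exact hgx)
  refine ⟨(n : G)⁻¹, inv_mem n.2, ?_, ?_⟩
  · refine inv_mem (mem_normalizer_iff.2 fun y => ?_)
    have hn : n ∈ normalizer ((S.subgroupOf C : Subgroup C) : Set C) := by rw [← hP]; exact hn
    constructor
    · intro hy
      exact (mem_normalizer_iff.1 hn ⟨y, h.le hy⟩).1 hy
    · intro hy
      have hyC : y ∈ C := by
        have := mul_mem (mul_mem (inv_mem n.2) (h.le hy)) n.2
        simpa [mul_assoc] using this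
      exact (mem_normalizer_iff.1 hn ⟨y, hyC⟩).2 hy
  · simp only [inv_inv] at e ⊢
    exact (congrArg Subtype.val e).symm

/-- The transfer into an abelian Sylow subgroup splits off the focal subgroup. -/
theorem SylowAt.split {C S F : Subgroup G} (h : SylowAt C S)
    (hcomm : ∀ x ∈ S, ∀ y ∈ S, x * y = y * x)
    (hF : ∀ n ∈ C, n ∈ normalizer (S : Set G) → ∀ x ∈ S, x * n * x⁻¹ * n⁻¹ ∈ F) :
    ∃ K : Subgroup G, K ≤ C ∧ C ≤ normalizer (K : Set G) ∧ K ⊓ S ≤ F ∧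
      (∀ x ∈ S, ∀ n ∈ C, n ∈ normalizer (S : Set G) → x * n * x⁻¹ * n⁻¹ ∈ K) ∧
      (∀ g ∈ C, ∃ k ∈ K, ∃ s ∈ S, g = k * s) ∧
      (∀ g ∈ C, (orderOf g).Coprime 3 → g ∈ K) ∧ SylowAt K (K ⊓ S) := by
  classical
  haveI : Fact (Nat.Prime 3) := ⟨Nat.prime_three⟩
  obtain ⟨P, hP⟩ := h.exists_sylow
  obtain ⟨N, hN, hNP, hNtop⟩ := Transfer.Fusion.exists_normal_inf_eq_focal P
  haveI := hN
  have hfoc : commutator C ⊓ (P : Subgroup C) ≤ F.subgroupOf C := by
    refine Transfer.Fusion.focal_le_of_fusion P fun x hx g hg => ?_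
    have hxS : (x : G) ∈ S := hP.le hx
    obtain ⟨n, hnC, hn, e⟩ := h.fusion hcomm g.2 hxS (hP.le hg)
    refine ⟨⟨n, hnC⟩, Subtype.ext e, mem_subgroupOf.2 ?_⟩
    simpa [commutatorElement_def] using hF n hnC hn _ hxS
  have hcent : ∀ x ∈ S, ∀ n ∈ C, n ∈ normalizer (S : Set G) → x * n * x⁻¹ * n⁻¹ ∈ N.map C.subtype := by
    intro x hx n hnC hn
    have hm : (⁅(⟨x, h.le hx⟩ : C), ⟨n, hnC⟩⁆) ∈ commutator C ⊓ (P : Subgroup C) := by
      refine mem_inf.2 ⟨commutator_mem_commutator (mem_top _) (mem_top _), ?_⟩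
      rw [hP]
      refine mem_subgroupOf.2 ?_
      simp only [commutatorElement_def, Subgroup.coe_mul, InvMemClass.coe_inv]
      rw [mul_assoc x n, mul_assoc]
      exact mul_mem hx ((mem_normalizer_iff.1 hn _).1 (inv_mem hx))
    rw [← hNP] at hm
    exact ⟨_, (mem_inf.1 hm).1, rfl⟩
  refine ⟨N.map C.subtype, map_subtype_le N, fun c hc => ?_, ?_, hcent, fun g hg => ?_, ?_, ?_⟩
  · exact le_normalizer_map C.subtype ⟨⟨c, hc⟩, by rw [normalizer_eq_top]; exact mem_top _, rfl⟩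
  · rintro g ⟨⟨k, hk, rfl⟩, hgS⟩
    have : k ∈ N ⊓ (P : Subgroup C) := ⟨hk, by rw [hP]; exact hgS⟩
    rw [hNP] at this
    exact hfoc this
  · have hm : (⟨g, hg⟩ : C) ∈ N ⊔ (P : Subgroup C) := by rw [hNtop]; exact mem_top _
    obtain ⟨k, hk, s, hs, e⟩ := Subgroup.mem_sup_of_normal_left.1 hm
    rw [hP] at hs
    exact ⟨k, ⟨k, hk, rfl⟩, s, hs, (congrArg Subtype.val e).symm⟩
  · intro g hg hcop
    refine ⟨⟨g, hg⟩, ?_, rfl⟩
    rw [SetLike.mem_coe, ← QuotientGroup.eq_one_iff, ← orderOf_eq_one_iff]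
    have hq : IsPGroup 3 (C ⧸ N) := by
      refine (P.2.map (QuotientGroup.mk' N)).of_equiv ?_
      refine (MulEquiv.subgroupCongr ?_).trans Subgroup.topEquiv
      rw [← map_top_of_surjective _ (QuotientGroup.mk'_surjective N), ← hNtop, Subgroup.map_sup,
        QuotientGroup.map_mk'_self, bot_sup_eq]
    obtain ⟨k, hk⟩ := hq (⟨g, hg⟩ : C)
    have h1 := orderOf_dvd_of_pow_eq_one hk
    have h2 := (orderOf_map_dvd (QuotientGroup.mk' N) (⟨g, hg⟩ : C))
    rw [orderOf_mk] at h2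
    exact Nat.dvd_one.1 ((hcop.pow_right k) ▸ Nat.dvd_gcd h2 h1)
  · refine ⟨inf_le_left, h.isP.to_le inf_le_right, fun R hRK hR hSR => ?_⟩
    have hRC : R.subgroupOf C ≤ N := fun r hr => by
      obtain ⟨k, hk, e⟩ := hRK hr
      exact (Subtype.ext e : k = r) ▸ hk
    obtain ⟨Q, hQ⟩ := (hR.of_equiv (subgroupOfEquivOfLe (hRK.trans (map_subtype_le N))).symm).exists_le_sylow
    obtain ⟨c, hc⟩ := MulAction.exists_smul_eq C Q P
    refine (eq_of_le_of_card_ge hSR ?_).symm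
    have hmap : (R.subgroupOf C).map (MulAut.conj c).toMonoidHom ≤ N ⊓ (P : Subgroup C) := by
      rintro _ ⟨r, hr, rfl⟩
      refine ⟨hN.conj_mem r (hRC hr) c, ?_⟩
      rw [← hc, Sylow.coe_subgroup_smul]
      exact smul_mem_pointwise_smul r (MulAut.conj c) _ (hQ hr)
    have h1 := card_le_of_le hmap
    rw [card_map_of_injective (MulEquiv.injective _),
      Nat.card_congr (subgroupOfEquivOfLe (hRK.trans (map_subtype_le N))).toEquiv, hP] at h1
    refine h1.trans (le_of_eq ?_)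
    rw [← card_map_of_injective (K := N ⊓ S.subgroupOf C) C.subtype_injective,
      Subgroup.map_inf _ _ _ C.subtype_injective, subgroupOf_map_subtype, inf_of_le_left h.le]

/-- A subgroup normalized by a noncyclic abelian group is inside every subgroup containing the
fixed points. -/
theorem le_of_fixed {E R M : Subgroup G} (hcomm : ∀ x ∈ E, ∀ y ∈ E, x * y = y * x)
    (h9 : Nat.card E = 9) (hexp : ∀ x ∈ E, x ^ 3 = 1) (hER : E ≤ normalizer (R : Set G))
    (hR : (Nat.card R).Coprime 3)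
    (h : ∀ v ∈ E, v ≠ 1 → ∀ r ∈ R, r * v = v * r → r ∈ M) : R ≤ M := by
  haveI : IsMulCommutative E := ⟨⟨fun a b => Subtype.ext (hcomm _ a.2 _ b.2)⟩⟩
  have hncyc : ¬ IsCyclic E := fun hc => by
    obtain ⟨g, hg⟩ := hc.exists_ofOrder_eq_natCard
    have : orderOf g ∣ 3 := orderOf_dvd_of_pow_eq_one (Subtype.ext (by simpa using hexp _ g.2))
    rw [hg, h9] at this
    norm_num at this
  have hcop : (Nat.card E).Coprime (Nat.card R) := by
    rw [h9, show (9 : ℕ) = 3 ^ 2 by norm_num]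
    exact (Nat.Coprime.pow_left 2 hR.symm)
  rw [← Coprime.fixedGen_eq hncyc hER hcop]
  refine iSup₂_le fun v hv r hr => ?_
  exact h v hv.1 hv.2 r hr.1 (mem_centralizer_singleton_iff.1 hr.2)

/-- Two involutions with different invariants: the central involution of the dihedral group. -/
theorem dihedral_pair {v w : G} (hw : w * w = 1) (hv : v * v = 1) :
    (∃ g ∈ closure ({w, v} : Set G), g * w * g⁻¹ = v) ∨
      ∃ z ∈ closure ({w, v} : Set G), z * z = 1 ∧ z ≠ 1 ∧ z * w = w * z ∧ z * v = v * z ∧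
        z ∈ zpowers (w * v) ∧
        ∃ g ∈ closure ({w, v} : Set G), g * w * g⁻¹ = z * w ∨ g * v * g⁻¹ = z * w := by
  set r := w * v with hr
  set D := closure ({w, v} : Set G) with hD
  have hwD : w ∈ D := subset_closure (Set.mem_insert _ _)
  have hvD : v ∈ D := subset_closure (Set.mem_insert_of_mem _ rfl)
  have hrD : r ∈ D := mul_mem hwD hvD
  have hwi : w⁻¹ = w := inv_eq_of_mul_eq_one_left hw
  have hvi : v⁻¹ = v := inv_eq_of_mul_eq_one_left hv
  have hwr : ∀ k : ℕ, w * r ^ k = (r ^ k)⁻¹ * w := by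
    intro k
    induction k with
    | zero => simp
    | succ k ih =>
      calc w * r ^ (k + 1) = (w * r ^ k) * r := by rw [pow_succ, mul_assoc]
        _ = (r ^ k)⁻¹ * (w * w) * v := by rw [ih, hr]; group
        _ = (r ^ k)⁻¹ * v := by rw [hw, mul_one]
        _ = (r ^ k)⁻¹ * (r⁻¹ * w) := by
          congr 1
          rw [hr, mul_inv_rev, hwi, hvi, mul_assoc, hw, mul_one]
        _ = (r ^ (k + 1))⁻¹ * w := by rw [pow_succ']; group
  have hv' : v = w * r := by rw [hr, ← mul_assoc, hw, one_mul]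
  have hv1 : v = r⁻¹ * w := by rw [hr, mul_inv_rev, hwi, hvi, mul_assoc, hw, mul_one]
  have hconj : ∀ j : ℕ, (r ^ j)⁻¹ * w * r ^ j = (r ^ (2 * j))⁻¹ * w := fun j => by
    rw [mul_assoc, hwr, ← mul_assoc, ← mul_inv_rev, ← pow_add, two_mul]
  rcases Nat.even_or_odd (orderOf r) with ⟨k, hk⟩ | ⟨k, hk⟩
  · right
    have hz2 : r ^ k * r ^ k = 1 := by rw [← pow_add, ← hk, pow_orderOf_eq_one]
    have hzi : (r ^ k)⁻¹ = r ^ k := inv_eq_of_mul_eq_one_left hz2
    have hz1 : r ^ k ≠ 1 := fun e => by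
      have h0 := orderOf_pos r
      have := Nat.le_of_dvd (by omega) (orderOf_dvd_of_pow_eq_one e)
      omega
    have hzw : r ^ k * w = w * r ^ k := by rw [hwr, hzi]
    have hzv : r ^ k * v = v * r ^ k := by
      rw [hv', ← mul_assoc, hzw, mul_assoc, mul_assoc, ← pow_succ, ← pow_succ']
    refine ⟨r ^ k, pow_mem hrD k, hz2, hz1, hzw, hzv, pow_mem (mem_zpowers r) k, ?_⟩
    rcases Nat.even_or_odd k with ⟨j, hj⟩ | ⟨j, hj⟩
    · refine ⟨(r ^ j)⁻¹, inv_mem (pow_mem hrD j), Or.inl ?_⟩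
      rw [inv_inv, hconj, show 2 * j = k by omega, hzi]
    · refine ⟨(r ^ j)⁻¹, inv_mem (pow_mem hrD j), Or.inr ?_⟩
      calc (r ^ j)⁻¹ * v * ((r ^ j)⁻¹)⁻¹ = (r ^ j)⁻¹ * (r⁻¹ * w) * r ^ j := by rw [hv1, inv_inv]
        _ = (r * r ^ j)⁻¹ * (w * r ^ j) := by group
        _ = (r * r ^ j)⁻¹ * (r ^ j)⁻¹ * w := by rw [hwr]; group
        _ = (r ^ j * (r * r ^ j))⁻¹ * w := by rw [← mul_inv_rev]
        _ = r ^ k * w := by
          rw [← pow_succ' r j, ← pow_add, show j + (j + 1) = k by omega, hzi]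
  · left
    refine ⟨w * (r ^ k)⁻¹, mul_mem hwD (inv_mem (pow_mem hrD k)), ?_⟩
    calc w * (r ^ k)⁻¹ * w * (w * (r ^ k)⁻¹)⁻¹ = w * ((r ^ k)⁻¹ * w * r ^ k) * w⁻¹ := by group
      _ = w * ((r ^ (2 * k))⁻¹ * w) * w := by rw [hconj, hwi]
      _ = w * (r * w) * w := by
        rw [show (r ^ (2 * k))⁻¹ = r from inv_eq_of_mul_eq_one_right (by
          rw [← pow_succ, ← hk, pow_orderOf_eq_one])]
      _ = v := by rw [hr, show w * (w * v * w) * w = (w * w) * v * (w * w) by group, hw]; group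

/-- Involutions with the invariant of `w₂` lie in `H`, when the centralizer of `w₁` does and the
possible central involutions of the dihedral groups cannot lead outside. -/
theorem engine {α : Sort*} {Y H : Subgroup G} (pt : G → α)
    (hpt : ∀ g ∈ Y, ∀ w ∈ Y, w * w = 1 → pt (g * w * g⁻¹) = pt w) {w1 w2 : G} (hw1Y : w1 ∈ Y)
    (hw1 : w1 * w1 = 1) (hne : pt w1 ≠ pt w2)
    (h1 : ∀ v ∈ Y, v * w1 = w1 * v → v ∈ H)
    (hz : ∀ z ∈ Y, z ∈ H → z * z = 1 → z ≠ 1 → z * w1 = w1 * z →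
      (∀ v ∈ Y, v * v = 1 → pt v = pt w2 → z * v = v * z → v ∈ H) ∨
        (pt (z * w1) ≠ pt w1 ∧ pt (z * w1) ≠ pt w2)) :
    ∀ v ∈ Y, v * v = 1 → pt v = pt w2 → v ∈ H := by
  intro v hvY hv hvp
  have hle : Subgroup.closure ({w1, v} : Set G) ≤ Y := by
    rw [closure_le]; rintro g (rfl | rfl)
    exacts [hw1Y, hvY]
  rcases dihedral_pair hw1 hv with ⟨g, hg, e⟩ | ⟨z, hzD, hz2, hz1, hzw, hzv, -, g, hg, hgc⟩
  · exact absurd ((hpt g (hle hg) w1 hw1Y hw1).symm.trans ((congrArg pt e).trans hvp)) hne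
  · rcases hz z (hle hzD) (h1 z (hle hzD) hzw) hz2 hz1 hzw with h | ⟨n1, n2⟩
    · exact h v hvY hv hvp hzv
    · rcases hgc with e | e
      · exact absurd ((congrArg pt e).symm.trans (hpt g (hle hg) w1 hw1Y hw1)) n1
      · exact absurd (((congrArg pt e).symm.trans (hpt g (hle hg) v hvY hv)).trans hvp) n2

/-- The same, with the conclusion for the whole group. -/
theorem engine_le {α : Sort*} {Y H : Subgroup G} (pt : G → α)
    (hpt : ∀ g ∈ Y, ∀ w ∈ Y, w * w = 1 → pt (g * w * g⁻¹) = pt w) {w2 : G} (hw2Y : w2 ∈ Y)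
    (hw2 : w2 * w2 = 1) (hall : ∀ v ∈ Y, v * v = 1 → pt v = pt w2 → v ∈ H)
    (hconj : ∀ v ∈ Y, v ∈ H → v * v = 1 → pt v = pt w2 → ∃ h ∈ Y, h ∈ H ∧ h * w2 * h⁻¹ = v)
    (h2 : ∀ v ∈ Y, v * w2 = w2 * v → v ∈ H) : Y ≤ H := by
  intro g hg
  have hv : g * w2 * g⁻¹ * (g * w2 * g⁻¹) = 1 := by
    rw [show g * w2 * g⁻¹ * (g * w2 * g⁻¹) = g * (w2 * w2) * g⁻¹ by group, hw2, mul_one, mul_inv_cancel]
  have hvY : g * w2 * g⁻¹ ∈ Y := mul_mem (mul_mem hg hw2Y) (inv_mem hg)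
  have hp := hpt g hg w2 hw2Y hw2
  obtain ⟨h, hhY, hhH, e⟩ := hconj _ hvY (hall _ hvY hv hp) hv hp
  have hc : h⁻¹ * g * w2 = w2 * (h⁻¹ * g) := by
    calc h⁻¹ * g * w2 = h⁻¹ * (g * w2 * g⁻¹) * g := by group
      _ = h⁻¹ * (h * w2 * h⁻¹) * g := by rw [e]
      _ = w2 * (h⁻¹ * g) := by group
  have := mul_mem hhH (h2 _ (mul_mem (inv_mem hhY) hg) hc)
  rwa [mul_inv_cancel_left] at this

end Cfsg.Agent.NineSym
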