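import Cfsg.Agent.S3347
import Cfsg.Agent.Lib.PLocal.Cores
import Cfsg.Agent.Lib.NineSym.Tools

/-!
# An abelian Sylow subgroup inverted by its automizer
-/

set_option autoImplicit false
set_option linter.style.haveILetI false
set_option linter.unusedSectionVars false

namespace Cfsg.Agent.NineSym

open Subgroup

theorem normal_of_plength_one {H : Type*} [Group H] [Finite H] (P : Sylow 3 H)
    (hl : Cfsg.PLengthLE 3 1 H)
    (hR : ∀ R : Subgroup H, R.Normal → (Nat.card R).Coprime 3 → R ≤ normalizer ((P : Subgroup H) : Set H)) :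
    (P : Subgroup H).Normal := by
  haveI : Fact (Nat.Prime 3) := ⟨Nat.prime_three⟩
  set T1 := (Cfsg.upperPSeries 3 H 1).1 with hT1
  haveI hn1 : T1.Normal := (Cfsg.upperPSeries 3 H 1).2
  have e1 : T1 = (Cfsg.pPrimeCore 3 (H ⧸ (Cfsg.upperPSeries 3 H 0).1)).comap (QuotientGroup.mk' _) := rfl
  set T2 := (Cfsg.upperPSeries 3 H 2).1 with hT2
  haveI hn2 : T2.Normal := (Cfsg.upperPSeries 3 H 2).2
  have e2 : T2 = (Cfsg.pCore 3 (H ⧸ T1)).comap (QuotientGroup.mk' T1) := rfl
  have e3 : (Cfsg.pPrimeCore 3 (H ⧸ T2)).comap (QuotientGroup.mk' T2) = ⊤ := hl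
  have hc1 : (Nat.card T1).Coprime 3 := by
    have h := PLocal.Cores.card_comap_eq (Cfsg.pPrimeCore 3 (H ⧸ (Cfsg.upperPSeries 3 H 0).1))
      (QuotientGroup.mk'_surjective (Cfsg.upperPSeries 3 H 0).1)
    rw [QuotientGroup.ker_mk', show Nat.card (Cfsg.upperPSeries 3 H 0).1 = 1 from card_bot] at h
    rw [e1, h]
    simpa using PLocal.Cores.coprime_card_pPrimeCore (G := H ⧸ (Cfsg.upperPSeries 3 H 0).1) (p := 3)
  have hcent : ∀ t ∈ T1, ∀ s ∈ (P : Subgroup H), t * s = s * t := by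
    intro t ht s hs
    have h1 : t * s * t⁻¹ * s⁻¹ ∈ (P : Subgroup H) :=
      mul_mem ((mem_normalizer_iff.1 (hR T1 hn1 hc1 ht) s).1 hs) (inv_mem hs)
    have h2 : t * s * t⁻¹ * s⁻¹ ∈ T1 := by
      rw [show t * s * t⁻¹ * s⁻¹ = t * (s * t⁻¹ * s⁻¹) by group]
      exact mul_mem ht (hn1.conj_mem _ (inv_mem ht) s)
    have h := PLocal.Cores.inf_eq_bot_of_isPGroup_of_coprime P.2 hc1
    have h3 : t * s * t⁻¹ * s⁻¹ = 1 := mem_bot.1 (h ▸ mem_inf.2 ⟨h1, h2⟩)
    rwa [mul_inv_eq_one, mul_inv_eq_iff_eq_mul] at h3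
  have hP2 : (P : Subgroup H) ≤ T2 := fun s hs => by
    rw [← QuotientGroup.eq_one_iff, ← orderOf_eq_one_iff]
    have htop : Cfsg.pPrimeCore 3 (H ⧸ T2) = ⊤ := by
      rw [← map_comap_eq_self_of_surjective (QuotientGroup.mk'_surjective T2) (Cfsg.pPrimeCore 3 (H ⧸ T2)), e3,
        map_top_of_surjective _ (QuotientGroup.mk'_surjective T2)]
    have hcop := PLocal.Cores.coprime_card_pPrimeCore (G := H ⧸ T2) (p := 3)
    rw [htop, card_top] at hcop
    obtain ⟨k, hk⟩ := P.2 ⟨s, hs⟩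
    have hk' : s ^ 3 ^ k = 1 := by simpa using congrArg Subtype.val hk
    have h1 : orderOf (QuotientGroup.mk' T2 s) ∣ 3 ^ k :=
      orderOf_dvd_of_pow_eq_one (by rw [← map_pow, hk', map_one])
    have h2 : orderOf (QuotientGroup.mk' T2 s) ∣ Nat.card (H ⧸ T2) := orderOf_dvd_natCard _
    exact Nat.dvd_one.1 ((hcop.pow_right k) ▸ Nat.dvd_gcd h2 h1)
  have hT2le : ∀ y ∈ T2, ∃ t ∈ T1, ∃ s ∈ (P : Subgroup H), y = t * s := by
    intro y hy
    rw [e2] at hy
    obtain ⟨s, hs, e⟩ := PLocal.Cores.pCore_le_sylow (P.mapSurjective (QuotientGroup.mk'_surjective T1))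
      (mem_comap.1 hy)
    refine ⟨y * s⁻¹, ?_, s, hs, (inv_mul_cancel_right y s).symm⟩
    rw [← QuotientGroup.eq_one_iff]
    show QuotientGroup.mk' T1 (y * s⁻¹) = 1
    rw [map_mul, map_inv, e, mul_inv_cancel]
  refine ⟨fun s hs g => ?_⟩
  obtain ⟨t, ht, u, hu, e⟩ := hT2le _ (hn2.conj_mem s (hP2 hs) g)
  obtain ⟨k, hk⟩ := P.2 ⟨s, hs⟩
  obtain ⟨l, hl⟩ := P.2 ⟨u, hu⟩
  have hk' : s ^ 3 ^ k = 1 := by simpa using congrArg Subtype.val hk
  have hl' : u ^ 3 ^ l = 1 := by simpa using congrArg Subtype.val hl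
  have hg : (t * u) ^ 3 ^ (k + l) = 1 := by
    rw [← e, conj_pow, pow_add, pow_mul, hk', one_pow, mul_one, mul_inv_cancel]
  rw [(show Commute t u from hcent t ht u hu).mul_pow,
    show u ^ 3 ^ (k + l) = 1 by rw [pow_add, mul_comm, pow_mul, hl', one_pow], mul_one] at hg
  have ht1 : t = 1 := by
    have h1 := orderOf_dvd_of_pow_eq_one hg
    have h2 := orderOf_dvd_natCard (⟨t, ht⟩ : T1)
    rw [orderOf_mk] at h2
    exact orderOf_eq_one_iff.1 (Nat.dvd_one.1 ((hc1.pow_right (k + l)) ▸ Nat.dvd_gcd h2 h1))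
  rw [e, ht1, one_mul]
  exact hu

variable {G : Type*} [Group G] [Finite G]

/-- A noncyclic abelian Sylow subgroup inverted by an involution and otherwise centralized by its
normalizer is normal, if the invariant `3'`-subgroups normalize it. -/
theorem normal_of_inverted {C S : Subgroup G} (hS : SylowAt C S)
    (hcomm : ∀ x ∈ S, ∀ y ∈ S, x * y = y * x) (hexp : ∀ x ∈ S, x ^ 3 = 1) (h9 : Nat.card S = 9)
    {w : G} (hwC : w ∈ C) (hw2 : w * w = 1) (hwS : ∀ s ∈ S, w * s * w⁻¹ = s⁻¹)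
    (hN : ∀ g ∈ C, g ∈ normalizer (S : Set G) →
      (∀ s ∈ S, g * s * g⁻¹ = s) ∨ (∀ s ∈ S, g * s * g⁻¹ = s⁻¹))
    (hsig : ∀ R : Subgroup G, R ≤ C → (Nat.card R).Coprime 3 → S ≤ normalizer (R : Set G) →
      R ≤ normalizer (S : Set G)) :
    C ≤ normalizer (S : Set G) := by
  classical
  haveI : Fact (Nat.Prime 3) := ⟨Nat.prime_three⟩
  obtain ⟨P, hP⟩ := hS.exists_sylow
  have hmem : ∀ s : C, s ∈ (P : Subgroup C) ↔ (s : G) ∈ S := fun s => by rw [hP]; rfl
  have hPn : ∀ n : C, n ∈ normalizer ((P : Subgroup C) : Set C) → (n : G) ∈ normalizer (S : Set G) := by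
    intro n hn
    refine mem_normalizer_iff.2 fun y => ⟨fun hy => ?_, fun hy => ?_⟩
    · exact (hmem _).1 ((mem_normalizer_iff.1 hn ⟨y, hS.le hy⟩).1 ((hmem _).2 hy))
    · have hyC : y ∈ C := by
        have := mul_mem (mul_mem (inv_mem n.2) (hS.le hy)) n.2
        simpa [mul_assoc] using this
      exact (hmem _).1 ((mem_normalizer_iff.1 hn ⟨y, hyC⟩).2 ((hmem _).2 hy))
  have hab : IsMulCommutative (P : Subgroup C) :=
    ⟨⟨fun a b => Subtype.ext (Subtype.ext (hcomm _ ((hmem _).1 a.2) _ ((hmem _).1 b.2)))⟩⟩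
  have hP9 : Nat.card (P : Subgroup C) = 9 := by
    rw [hP, Nat.card_congr (subgroupOfEquivOfLe hS.le).toEquiv, h9]
  have hnc : ¬ IsCyclic (P : Subgroup C) := fun hc => by
    obtain ⟨g, hg⟩ := hc.exists_ofOrder_eq_natCard
    have : orderOf g ∣ 3 := orderOf_dvd_of_pow_eq_one (Subtype.ext (Subtype.ext (by
      simpa using hexp _ ((hmem _).1 g.2))))
    rw [hg, hP9] at this
    norm_num at this
  let wC : C := ⟨w, hwC⟩
  have hwP : wC ∈ normalizer ((P : Subgroup C) : Set C) := by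
    refine mem_normalizer_iff.2 fun y => ?_
    rw [hmem, hmem]
    simp only [Subgroup.coe_mul, InvMemClass.coe_inv, wC]
    constructor
    · intro hy; rw [hwS _ hy]; exact inv_mem hy
    · intro hy
      have h := inv_mem hy
      rw [← hwS _ hy, inv_eq_of_mul_eq_one_left hw2] at h
      rw [show w * (w * (y : G) * w) * w = w * w * y * (w * w) by group, hw2, one_mul, mul_one] at h
      exact h
  have hidx : ((centralizer ((P : Subgroup C) : Set C)).subgroupOf
      (normalizer ((P : Subgroup C) : Set C))).index = 2 := by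
    refine Subgroup.index_eq_two_iff.2 ⟨⟨wC, hwP⟩, fun g => ?_⟩
    have hcase := hN _ g.1.2 (hPn g.1 g.2)
    have hcen : ∀ k : normalizer ((P : Subgroup C) : Set C),
        k ∈ (centralizer ((P : Subgroup C) : Set C)).subgroupOf (normalizer ((P : Subgroup C) : Set C)) ↔
          ∀ s ∈ S, ((k : C) : G) * s * ((k : C) : G)⁻¹ = s := by
      intro k
      rw [mem_subgroupOf, mem_centralizer_iff]
      constructor
      · intro h s hs
        have := congrArg Subtype.val (h ⟨s, hS.le hs⟩ ((hmem _).2 hs))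
        rw [mul_inv_eq_iff_eq_mul]
        exact this.symm
      · intro h s hs
        exact Subtype.ext (mul_inv_eq_iff_eq_mul.1 (h _ ((hmem _).1 hs))).symm
    obtain ⟨s0, hs0, hs1⟩ : ∃ s ∈ S, s⁻¹ ≠ s := by
      by_contra h
      push Not at h
      have h1 : S ≤ ⊥ := fun s hs => mem_bot.2 (by
        have h3 := hexp s hs
        have := h s hs
        rw [inv_eq_iff_mul_eq_one] at this
        rwa [pow_succ, pow_two, this, one_mul] at h3)
      rw [le_bot_iff] at h1
      rw [h1, card_bot] at h9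
      norm_num at h9
    rw [hcen, hcen]
    simp only [Subgroup.coe_mul, wC]
    rcases hcase with h | h
    · refine Or.inr ⟨h, fun h' => hs1 ?_⟩
      have e := h' s0 hs0
      rwa [show ((g : C) : G) * w * s0 * (((g : C) : G) * w)⁻¹ = ((g : C) : G) * (w * s0 * w⁻¹) * ((g : C) : G)⁻¹ by
        group, hwS _ hs0, h _ (inv_mem hs0)] at e
    · refine Or.inl ⟨fun s hs => ?_, fun h' => hs1 ?_⟩
      · rw [show ((g : C) : G) * w * s * (((g : C) : G) * w)⁻¹ = ((g : C) : G) * (w * s * w⁻¹) * ((g : C) : G)⁻¹ by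
          group, hwS _ hs, h _ (inv_mem hs), inv_inv]
      · exact (h _ hs0).symm.trans (h' s0 hs0)
  have hres : Cfsg.pResidual 3 C = ⊤ := by
    rw [eq_top_iff]
    intro g _
    haveI : (Cfsg.pResidual 3 C).Normal := by
      constructor
      intro n hn c
      have : (MulAut.conj c).toMonoidHom n ∈ (Cfsg.pResidual 3 C).map (MulAut.conj c).toMonoidHom :=
        mem_map_of_mem _ hn
      refine (?_ : (Cfsg.pResidual 3 C).map (MulAut.conj c).toMonoidHom ≤ Cfsg.pResidual 3 C) this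
      rw [Cfsg.pResidual, MonoidHom.map_closure, closure_le]
      rintro _ ⟨x, hx, rfl⟩
      exact subset_closure (show Nat.Coprime (orderOf _) 3 by
        rw [orderOf_injective _ (MulEquiv.injective _)]; exact hx)
    have hinv : ∀ y : C, y * y = 1 → y ∈ Cfsg.pResidual 3 C := fun y hy => by
      refine subset_closure ?_
      have : orderOf y ∣ 2 := orderOf_dvd_of_pow_eq_one (by rw [pow_two, hy])
      exact Nat.Coprime.coprime_dvd_left this (by norm_num)
    have hPle : (P : Subgroup C) ≤ Cfsg.pResidual 3 C := fun s hs => by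
      have h1 : (s * wC) * (s * wC) = 1 := Subtype.ext (by
        simp only [Subgroup.coe_mul, Subgroup.coe_one, wC]
        rw [show (s : G) * w * ((s : G) * w) = (s : G) * (w * s * w⁻¹) * (w * w) by group, hwS _ ((hmem s).1 hs),
          hw2, mul_inv_cancel, one_mul])
      have h := mul_mem (hinv _ h1) (hinv wC (Subtype.ext hw2))
      rwa [mul_assoc, show wC * wC = 1 from Subtype.ext hw2, mul_one] at h
    rw [← QuotientGroup.eq_one_iff, ← orderOf_eq_one_iff]
    set n := orderOf (g : C ⧸ Cfsg.pResidual 3 C) with hn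
    have hnd : n ∣ orderOf g := orderOf_map_dvd (QuotientGroup.mk' _) g
    have hidx3 : ¬ 3 ∣ (Cfsg.pResidual 3 C).index := fun h =>
      P.not_dvd_index (h.trans (index_dvd_of_le hPle))
    have h3 : ¬ 3 ∣ n := fun h => hidx3 (h.trans (by rw [index_eq_card]; exact orderOf_dvd_natCard _))
    obtain ⟨k, hk⟩ : ∃ k, ((orderOf g) / n) = k := ⟨_, rfl⟩
    by_contra hne
    obtain ⟨q, hq, hqn⟩ := Nat.exists_prime_and_dvd hne
    have hg0 := orderOf_pos g
    have hq3 : q ≠ 3 := fun e => h3 (e ▸ hqn)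
    obtain ⟨e, m, hm, hom⟩ := Nat.exists_eq_pow_mul_and_not_dvd hg0.ne' 3 (by norm_num)
    have hmem' : g ^ 3 ^ e ∈ Cfsg.pResidual 3 C := by
      refine subset_closure ?_
      show Nat.Coprime (orderOf (g ^ 3 ^ e)) 3
      rw [orderOf_pow, hom, Nat.gcd_eq_right (dvd_mul_right _ _), Nat.mul_div_cancel_left _ (by positivity)]
      exact (Nat.prime_three.coprime_iff_not_dvd.2 hm).symm
    have hdvd : n ∣ 3 ^ e := orderOf_dvd_of_pow_eq_one (by
      rw [← QuotientGroup.mk_pow, QuotientGroup.eq_one_iff]; exact hmem')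
    exact hq3 ((Nat.prime_dvd_prime_iff_eq hq Nat.prime_three).1 (hq.dvd_of_dvd_pow (hqn.trans hdvd)))
  rcases S3347.result 3 (by norm_num) P hab hnc hidx with h | h
  · exact absurd hres h
  haveI := normal_of_plength_one P h fun R hRn hRc => by
    intro r hr
    have h1 := hsig (R.map C.subtype) (map_subtype_le R) (by rwa [card_map_of_injective C.subtype_injective])
      (fun s hs => le_normalizer_map C.subtype ⟨⟨s, hS.le hs⟩, by rw [normalizer_eq_top]; exact mem_top _, rfl⟩)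
      ⟨r, hr, rfl⟩
    refine mem_normalizer_iff.2 fun y => ?_
    rw [hmem, hmem]
    exact mem_normalizer_iff.1 h1 y
  intro c hc
  exact hPn ⟨c, hc⟩ (by rw [normalizer_eq_top]; exact mem_top _)

end Cfsg.Agent.NineSym
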