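import Cfsg.Agent.Lib.NineSym.Cent3
import Cfsg.Agent.Lib.NineSym.Inverted

/-!
# Centralizers with an inverted plane
-/

set_option autoImplicit false
set_option linter.style.haveILetI false
set_option linter.unusedSectionVars false
set_option maxRecDepth 100000
set_option synthInstance.maxSize 10000

namespace Cfsg.Agent.NineSym

open Subgroup

theorem inverts_fpf {G : Type*} [Group G] [Finite G] {K : Subgroup G} {v : G} (hv : v * v = 1)
    (hn : ∀ k ∈ K, v * k * v⁻¹ ∈ K) (h : ∀ k ∈ K, v * k = k * v → k = 1) : ∀ k ∈ K, v * k * v⁻¹ = k⁻¹ := by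
  intro k hk
  let φ : K → K := fun x => ⟨v * x * v⁻¹, hn x x.2⟩
  let ψ : K →* K := MonoidHom.mk' φ fun a b => Subtype.ext (by simp only [φ, Subgroup.coe_mul]; group)
  have hf : MonoidHom.FixedPointFree ψ := fun x hx => Subtype.ext (h x x.2 (mul_inv_eq_iff_eq_mul.1 (congrArg Subtype.val hx)))
  have hinv : Function.Involutive ψ := fun x => Subtype.ext (by
    show v * (v * x * v⁻¹) * v⁻¹ = x
    rw [inv_eq_of_mul_eq_one_left hv, show v * (v * (x : G) * v) * v = v * v * x * (v * v) by group, hv, one_mul, mul_one])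
  exact congrArg Subtype.val (congrFun (hf.coe_eq_inv_of_involutive hinv) ⟨k, hk⟩)

variable {G : Type*} [Group G] [Finite G] {J : Subgroup G} {ci cd : Bool} {φ : Mn → G}

namespace Frame

variable (D : Frame J ci cd φ)
include D

theorem card_fix {p : Mn} (hp : InL ci cd p) :
    Nat.card ↥(J ⊓ centralizer ({φ p} : Set G)) = fixCard p.w := by
  rw [← Nat.card_eq_of_bijective
    (fun v : {v : V3 // wact p.w v = v} => (⟨φ (jM v.1), (D.mem_fix hp).2 ⟨v.1, rfl, v.2⟩⟩ :
      ↥(J ⊓ centralizer ({φ p} : Set G))))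
    ⟨fun a b e => Subtype.ext (D.jinj (congrArg Subtype.val e)), fun g => by
      obtain ⟨v, hv, hf⟩ := (D.mem_fix hp).1 g.2
      exact ⟨⟨v, hf⟩, Subtype.ext hv⟩⟩, Nat.card_eq_fintype_card, Fintype.card_subtype]
  rfl

/-- The centralizer of an element with a plane `F` of fixed points, inverted by `w0`. -/
theorem cent_inverted {p w0 : Mn} (hp : InL ci cd p) (hw0 : InL ci cd w0) (hw2 : w0 * w0 = 1)
    (hw0p : w0 * p = p * w0) {u v : V3} (huv : Indep u v) (hu : wact p.w u = u) (hv : wact p.w v = v)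
    (h9 : fixCard p.w = 9) (hinv : ∀ x, wact p.w x = x → wact w0.w x = -x)
    (hall : ∀ q, q ≠ 0 → Easy ci cd (comb2 u v q))
    (htab : ∀ w, Wok ci cd w → w * p.w = p.w * w → w ^ 3 = 1 → w ≠ 1 →
      ∀ x : V3, x + wact w p.v ≠ p.v + wact p.w x)
    (hfix : ∀ w, Wok ci cd w → w * p.w = p.w * w →
      (∀ x, wact p.w x = x → wact w x = x) ∨ (∀ x, wact p.w x = x → wact w x = -x)) :
    centralizer ({φ p} : Set G) ≤ normalizer (J : Set G) := by
  have hS := D.sylow_plane hp huv hu hv htab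
  have hF : ∀ q, wact p.w (comb2 u v q) = comb2 u v q := fun q => by
    let F : V3 →+ V3 := AddMonoidHom.mk' (wact p.w) (wact_add p.w)
    show F (comb2 u v q) = comb2 u v q
    rw [comb2_eq, map_add, map_nsmul, map_nsmul]
    show q.1.val • wact p.w u + q.2.val • wact p.w v = _
    rw [hu, hv]
  have hneg : ∀ x : V3, φ (jM (-x)) = (φ (jM x))⁻¹ := fun x =>
    eq_inv_of_mul_eq_one_left (by rw [← D.jadd, neg_add_cancel, D.jzero])
  have hnorm : ∀ g, g ∈ normalizer ((J ⊓ centralizer ({φ p} : Set G) : Subgroup G) : Set G) →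
      g ∈ normalizer (J : Set G) := fun g hg => D.norm_plane huv
    (mem_inf.1 ((mem_normalizer_iff.1 hg _).1 ((D.mem_fix hp).2 ⟨u, rfl, hu⟩))).1
    (mem_inf.1 ((mem_normalizer_iff.1 hg _).1 ((D.mem_fix hp).2 ⟨v, rfl, hv⟩))).1
  refine fun g hg => hnorm g (normal_of_inverted hS (fun x hx y hy => D.J_comm (mem_inf.1 hx).1 (mem_inf.1 hy).1)
    (fun x hx => D.J_cube (mem_inf.1 hx).1) (by rw [D.card_fix hp, h9])
    (w := φ w0) (mem_centralizer_singleton_iff.2 (D.map_comm hw0 hp hw0p)) ?_ ?_ ?_ ?_ hg)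
  · rw [← D.hom _ _ hw0 hw0, hw2, D.one]
  · intro s hs
    obtain ⟨x, rfl, hx⟩ := (D.mem_fix hp).1 hs
    rw [D.act' hw0, hinv x hx, hneg]
  · intro n hn hnn
    obtain ⟨q, hq, rfl⟩ := D.norm n (hnorm n hnn)
    rcases hfix q.w hq (congrArg Mn.w (D.comm' hq hp (mem_centralizer_singleton_iff.1 hn))) with h | h
    · left; intro s hs
      obtain ⟨x, rfl, hx⟩ := (D.mem_fix hp).1 hs
      rw [D.act' hq, h x hx]
    · right; intro s hs
      obtain ⟨x, rfl, hx⟩ := (D.mem_fix hp).1 hs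
      rw [D.act' hq, h x hx, hneg]
  · intro R hRC hR hSR
    have hRN : R ≤ normalizer (J : Set G) :=
      D.le_of_fixed_plane huv hR (fun q => hSR ((D.mem_fix hp).2 ⟨_, rfl, hF q⟩)) fun q hq r _ hr =>
        D.cent_easy (hall q hq) hr
    intro r hr
    refine mem_normalizer_iff_map_conj_eq.2 (eq_of_le_of_card_ge ?_ (by
      rw [card_map_of_injective (MulEquiv.injective _)]))
    rintro _ ⟨s, hs, rfl⟩
    show r * s * r⁻¹ ∈ _
    refine mem_inf.2 ⟨(mem_normalizer_iff.1 (hRN hr) s).1 (mem_inf.1 hs).1, mem_centralizer_singleton_iff.2 ?_⟩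
    exact ((show Commute r (φ p) from mem_centralizer_singleton_iff.1 (hRC hr)).mul_left
      (show Commute s (φ p) from mem_centralizer_singleton_iff.1 (mem_inf.1 hs).2)).mul_left
      ((show Commute r (φ p) from mem_centralizer_singleton_iff.1 (hRC hr)).inv_left)

/-- The centralizer of an element `u` of order three whose stabilizer inverts a plane `F`. -/
theorem cent_anti {u e f : V3} {w0 : Mn} (hw0 : InL ci cd w0) (hw2 : w0 * w0 = 1)
    (hw0u : wact w0.w u = u) (hef : Indep e f) (he : wact w0.w e = -e) (hf : wact w0.w f = -f)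
    (hFw : ∀ x : V3, wact w0.w x = -x → ∃ q, comb2 e f q = x)
    (hspan : ∀ x : V3, ∃ a : Fin 3, ∃ q, x = a.val • u + comb2 e f q)
    (hfix : ∀ w, Wok ci cd w → wact w u = u → w = 1 ∨ w = w0.w) :
    centralizer ({φ (jM u)} : Set G) ≤ normalizer (J : Set G) := by
  classical
  have hJC := D.J_le_cent u
  let Fm : V3 →+ V3 := AddMonoidHom.mk' (wact w0.w) (wact_add w0.w)
  have hFneg : ∀ q, wact w0.w (comb2 e f q) = -comb2 e f q := fun q => by
    show Fm (comb2 e f q) = -comb2 e f q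
    rw [comb2_eq, map_add, map_nsmul, map_nsmul]
    show q.1.val • wact w0.w e + q.2.val • wact w0.w f = _
    rw [he, hf, smul_neg, smul_neg, neg_add]
  have hneg : ∀ x : V3, φ (jM (-x)) = (φ (jM x))⁻¹ := fun x =>
    eq_inv_of_mul_eq_one_left (by rw [← D.jadd, neg_add_cancel, D.jzero])
  let F : Subgroup G :=
    { carrier := {g | ∃ x, wact w0.w x = -x ∧ φ (jM x) = g}
      one_mem' := ⟨0, by rw [neg_zero]; exact map_zero Fm, D.jzero⟩
      mul_mem' := by
        rintro _ _ ⟨x, hx, rfl⟩ ⟨y, hy, rfl⟩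
        exact ⟨x + y, by rw [wact_add, hx, hy, neg_add], D.jadd x y⟩
      inv_mem' := by
        rintro _ ⟨x, hx, rfl⟩
        refine ⟨-x, ?_, hneg x⟩
        show Fm (-x) = - -x
        rw [map_neg]
        show -wact w0.w x = _
        rw [hx] }
  have hmemF : ∀ x, φ (jM x) ∈ F ↔ wact w0.w x = -x :=
    fun x => ⟨fun ⟨y, hy, e⟩ => by rwa [← D.jinj e], fun h => ⟨x, h, rfl⟩⟩
  have hinvol : ∀ x, wact w0.w (wact w0.w x) = x := fun x => by
    rw [← wact_mul, show w0.w * w0.w = 1 from congrArg Mn.w hw2, wact_one]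
  have hcls : ∀ p, InL ci cd p → φ p * φ (jM u) = φ (jM u) * φ p → p.w = 1 ∨ p.w = w0.w :=
    fun p hp h => hfix p.w hp (D.fix_of_comm hp h)
  have hS : SylowAt (centralizer ({φ (jM u)} : Set G)) J := D.sylow_at hJC fun p hp hpC => by
    rcases hcls p hp (mem_centralizer_singleton_iff.1 hpC) with h | h <;> rw [h]
    · rfl
    · exact congrArg Mn.w hw2
  have hw0C : φ w0 ∈ centralizer ({φ (jM u)} : Set G) :=
    mem_centralizer_singleton_iff.2 ((D.fix_iff hw0 u).2 hw0u)
  obtain ⟨K, hKC, hCK, hKF, hcomK, hdec, hall, hKS⟩ := hS.split (F := F) (fun x hx y hy => D.J_comm hx hy) (by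
    intro n hnC hn j hj
    obtain ⟨p, hp, rfl⟩ := D.norm n hn
    obtain ⟨x, rfl⟩ := (D.memJ j).1 hj
    rw [show φ (jM x) * φ p * (φ (jM x))⁻¹ * (φ p)⁻¹ = φ (jM x) * (φ p * φ (jM x) * (φ p)⁻¹)⁻¹ by group,
      D.act' hp, ← hneg, ← D.jadd, hmemF]
    rcases hcls p hp (mem_centralizer_singleton_iff.1 hnC) with h | h <;> rw [h]
    · rw [wact_one, add_neg_cancel, neg_zero]; exact map_zero Fm
    · show Fm (x + -wact w0.w x) = _
      rw [map_add, map_neg]
      show wact w0.w x + -wact w0.w (wact w0.w x) = _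
      rw [hinvol, neg_add, neg_neg, add_comm])
  have hw0F : φ w0 * φ w0 = 1 := by rw [← D.hom _ _ hw0 hw0, hw2, D.one]
  have hKJ : ∀ x, wact w0.w x = -x → φ (jM x) ∈ K := by
    intro x hx
    have h := hcomK (φ (jM (-x))) (D.memj _) (φ w0) hw0C (D.mem w0 hw0)
    rw [show φ (jM (-x)) * φ w0 * (φ (jM (-x)))⁻¹ * (φ w0)⁻¹ =
      φ (jM (-x)) * (φ w0 * φ (jM (-x)) * (φ w0)⁻¹)⁻¹ by group, D.act' hw0, ← hneg, ← D.jadd] at h
    convert h using 3
    show x = -x + -Fm (-x)
    rw [map_neg]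
    show x = -x + - -wact w0.w x
    rw [hx, neg_neg]
    exact (by decide +kernel : ∀ x : V3, x = -x + -x) x
  have hKJ' : K ⊓ J = F := le_antisymm hKF fun g hg => by
    obtain ⟨x, hx, rfl⟩ := hg
    exact mem_inf.2 ⟨hKJ x hx, D.memj x⟩
  rw [hKJ'] at hKS
  have hw0K : φ w0 ∈ K := hall _ hw0C (Nat.Coprime.coprime_dvd_left
    (orderOf_dvd_of_pow_eq_one (by rw [pow_two, hw0F])) (by norm_num))
  have hnormF : ∀ g, g ∈ normalizer (F : Set G) → g ∈ normalizer (J : Set G) := fun g hg => by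
    have h : ∀ q, g * φ (jM (comb2 e f q)) * g⁻¹ ∈ J := fun q => by
      obtain ⟨y, -, hy⟩ := (mem_normalizer_iff.1 hg _).1 ((hmemF _).2 (hFneg q))
      rw [← hy]; exact D.memj y
    have ee : comb2 e f (1, 0) = e := by simp [comb2]
    have ef : comb2 e f (0, 1) = f := by simp [comb2]
    exact D.norm_plane hef (ee ▸ h (1, 0)) (ef ▸ h (0, 1))
  have h9 : Nat.card F = 9 := by
    rw [← Nat.card_eq_of_bijective (fun q : ZMod 3 × ZMod 3 => (⟨φ (jM (comb2 e f q)), (hmemF _).2 (hFneg q)⟩ : F))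
      ⟨fun p q h => by
        have h' := D.jinj (congrArg Subtype.val h)
        have h0 : comb2 e f (p + -q) = 0 := by
          obtain ⟨a, b⟩ := p; obtain ⟨c, d⟩ := q
          simp only [comb2, Prod.ext_iff] at h'
          simp only [comb2, Prod.neg_mk, Prod.mk_add_mk, Prod.ext_iff]
          exact ⟨by simp only [Prod.fst_zero]; linear_combination h'.1,
            by simp only [Prod.fst_zero, Prod.snd_zero]; linear_combination h'.2.1,
            by simp only [Prod.snd_zero]; linear_combination h'.2.2⟩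
        obtain ⟨a, b⟩ := hef _ _ h0
        exact add_neg_eq_zero.1 (Prod.ext a b : p + -q = 0),
      fun g => by
        obtain ⟨x, hx, e'⟩ := g.2
        obtain ⟨q, rfl⟩ := hFw x hx
        exact ⟨q, Subtype.ext e'⟩⟩]
    simp
  have hK : K ≤ normalizer (F : Set G) := by
    refine normal_of_inverted hKS (fun x hx y hy => ?_) (fun x hx => ?_) h9 hw0K hw0F ?_ ?_ ?_
    · obtain ⟨a, -, rfl⟩ := hx; obtain ⟨b, -, rfl⟩ := hy; exact D.jcomm a b
    · obtain ⟨a, -, rfl⟩ := hx; exact D.jcube a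
    · rintro s ⟨a, ha, rfl⟩; rw [D.act' hw0, ha, hneg]
    · intro g hg hgn
      obtain ⟨p, hp, rfl⟩ := D.norm g (hnormF g hgn)
      rcases hcls p hp (mem_centralizer_singleton_iff.1 (hKC hg)) with h | h
      · left; rintro s ⟨a, -, rfl⟩; rw [D.act' hp, h, wact_one]
      · right; rintro s ⟨a, ha, rfl⟩; rw [D.act' hp, h, ha, hneg]
    · intro R hRK hR hFR
      have hR0 : R = ⊥ := D.sig R hR fun j hj => by
        obtain ⟨x, rfl⟩ := (D.memJ j).1 hj
        obtain ⟨a, q, rfl⟩ := hspan x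
        have hn : ∀ (n : ℕ) (x : V3), φ (jM (n • x)) = φ (jM x) ^ n := fun n x => by
          induction n with
          | zero => rw [zero_smul, pow_zero, D.jzero]
          | succ n ih => rw [succ_nsmul, D.jadd, ih, pow_succ]
        rw [D.jadd, hn]
        refine mul_mem (pow_mem (mem_normalizer_iff.2 fun r => ?_) _) (hFR ((hmemF _).2 (hFneg q)))
        constructor
        · intro hr
          rw [← mem_centralizer_singleton_iff.1 (hKC (hRK hr)), mul_inv_cancel_right]; exact hr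
        · intro hr
          have := mem_centralizer_singleton_iff.1 (hKC (hRK hr))
          rw [show φ (jM u) * r * (φ (jM u))⁻¹ * φ (jM u) = φ (jM u) * r by group] at this
          rwa [← mul_left_cancel this] at hr
      rw [hR0]; exact bot_le
  intro g hg
  obtain ⟨k, hk, s, hs, rfl⟩ := hdec g hg
  exact mul_mem (hnormF k (hK hk)) (le_normalizer hs)

end Frame

end Cfsg.Agent.NineSym
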