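import Cfsg.Agent.Lib.NineSym.CaseOne
import Cfsg.Agent.Lib.NineSym.Cent4
import Cfsg.Agent.S0112
import Cfsg.Agent.S0113
import Cfsg.Agent.S0215

/-!
# Automizer the symmetric group of degree three with the inversion
-/

set_option autoImplicit false
set_option linter.style.haveILetI false
set_option linter.unusedSectionVars false
set_option maxRecDepth 100000
set_option synthInstance.maxSize 10000

namespace Cfsg.Agent.NineSym

open Subgroup

/-- The inversion. -/
def iotM : Mn := wM ⟨true, 0, 0⟩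

/-- The product of the inversion and `(0 3)(1 4)(2 5)`. -/
def zetM : Mn := wM ⟨true, 0, 3⟩

/-- The Klein four-group. -/
def fourM : List Mn := [1, rhoM, iotM, zetM]

theorem four_inL : ∀ q ∈ fourM, InL true false q ∧ q * q = 1 ∧ (∀ p ∈ fourM, q * p ∈ fourM ∧ q * p = p * q) := by
  decide +kernel

theorem two_basic : rhoM * iotM = zetM ∧ zetM * rhoM = iotM ∧ wact iotM.w (1, 1, 0) = -(1, 1, 0) ∧
    fixCard rhoM.w = 9 ∧ (∀ x : V3, wact rhoM.w x = x → wact iotM.w x = -x) ∧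
    wact zetM.w (1, 2, 0) = (1, 2, 0) ∧ (∀ x : V3, wact zetM.w x = x → x = 0 ∨ x = (1, 2, 0) ∨ x = -(1, 2, 0)) ∧
    wact rhoM.w (1, 2, 0) = -(1, 2, 0) ∧ wact zetM.w (1, 1, 0) = -(1, 1, 0) ∧ wact zetM.w (0, 0, 1) = -(0, 0, 1) := by
  decide +kernel

theorem two_easy : ∀ q : ZMod 3 × ZMod 3, q ≠ 0 → Easy true false (comb2 (1, 1, 0) (0, 0, 1) q) := by
  decide +kernel

theorem two_rho_tab : ∀ w, Wok true false w → w * rhoM.w = rhoM.w * w →
    (w ^ 3 = 1 → w = 1) ∧ ((∀ x : V3, wact rhoM.w x = x → wact w x = x) ∨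
      ∀ x : V3, wact rhoM.w x = x → wact w x = -x) := by
  decide +kernel

theorem two_zet_tab : (∀ w, Wok true false w → w * zetM.w = zetM.w * w → w ^ 3 = 1 → w = 1) ∧
    (∀ w, Wok true false w → w * rhoM.w ≠ zetM.w * w) ∧
    (∀ w, Wok true false w → wact w (1, 2, 0) = (1, 2, 0) → w = 1 ∨ w = zetM.w) := by
  decide +kernel

theorem two_planes : (∀ x : V3, wact zetM.w x = -x → ∃ q, comb2 (1, 1, 0) (0, 0, 1) q = x) ∧
    ∀ x : V3, ∃ a : Fin 3, ∃ q, x = a.val • ((1, 2, 0) : V3) + comb2 (1, 1, 0) (0, 0, 1) q := by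
  decide +kernel

theorem two_four_cent : ∀ w, Wok true false w → w * rhoM.w = rhoM.w * w → w * iotM.w = iotM.w * w → ∀ v : V3,
    (⟨v, w⟩ : Mn) * rhoM = rhoM * ⟨v, w⟩ → (⟨v, w⟩ : Mn) * iotM = iotM * ⟨v, w⟩ → (⟨v, w⟩ : Mn) ∈ fourM := by
  decide +kernel

theorem two_cent_u : ∀ w, Wok true false w → wact w (1, 2, 0) = (1, 2, 0) → ∀ v : V3,
    (⟨v, w⟩ : Mn) * zetM = zetM * ⟨v, w⟩ →
      (⟨v, w⟩ : Mn) ^ 6 = 1 ∧ ((⟨v, w⟩ : Mn) ^ 3 = 1 → wact zetM.w v = v ∧ w = 1) ∧
      ((⟨v, w⟩ : Mn) ^ 2 = 1 → (⟨v, w⟩ : Mn) = 1 ∨ (⟨v, w⟩ : Mn) = zetM) := by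
  decide +kernel

theorem odd_split : ∀ w, Wok true false w → w ^ 3 = 1 → (⟨0, w⟩ : Mn) = 1 ∨
    (⟨0, w⟩ : Mn) = zetM * wM ⟨false, 0, 1⟩ * zetM * (wM ⟨false, 0, 1⟩)⁻¹ ∨
    (⟨0, w⟩ : Mn) = (zetM * wM ⟨false, 0, 1⟩ * zetM * (wM ⟨false, 0, 1⟩)⁻¹)⁻¹ := by
  decide +kernel

theorem plane_span : ∀ v : V3, ∃ x y : V3, v = (x + -wact zetM.w x) + wact ⟨false, 0, 1⟩ (y + -wact zetM.w y) := by
  decide +kernel

theorem mn_nine : ∀ ci w, Wok ci false w → w ^ 3 = 1 → ∀ v : V3, (⟨v, w⟩ : Mn) ^ 9 = 1 := by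
  intro ci w hw h3 v
  have h9 := (odd_facts ci).2.2 w h3 hw v
  have hp3 : ∀ p : Mn, p ^ 3 = p * p * p := fun p => by rw [pow_succ, pow_two]
  rw [show (9 : ℕ) = 3 * 3 by norm_num, pow_mul, hp3, hp3]
  exact h9

theorem sq_one_of_two_pow {G : Type*} [Group G] {g : G} {k : ℕ} (hk : g ^ 2 ^ k = 1) (h6 : g ^ 6 = 1) :
    g ^ 2 = 1 := by
  have h := Nat.dvd_gcd (orderOf_dvd_of_pow_eq_one hk) (orderOf_dvd_of_pow_eq_one h6)
  refine orderOf_dvd_iff_pow_eq_one.1 (h.trans ?_)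
  have h2 : Nat.gcd (2 ^ k) 6 ∣ 2 * 3 := Nat.gcd_dvd_right _ _
  exact (Nat.Coprime.coprime_dvd_left (Nat.gcd_dvd_left _ _)
    (Nat.Coprime.pow_left k (by norm_num : Nat.Coprime 2 3))).dvd_of_dvd_mul_right h2

variable {G : Type*} [Group G] [Finite G] {J : Subgroup G} {φ : Mn → G}

theorem case_two (D : Frame J true false φ) : J.Normal := by
  classical
  haveI h2p : Fact (Nat.Prime 2) := ⟨Nat.prime_two⟩
  obtain ⟨hrM2, hrM1, hrL0, hind, hru, hrv⟩ := rho_facts
  obtain ⟨hri, hzr, hie, hr9, hiinv, hzu, hzuniq, hrneg, hze, hzf⟩ := two_basic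
  have hrmem : rhoM ∈ fourM := by simp [fourM]
  have himem : iotM ∈ fourM := by simp [fourM]
  have hzmem : zetM ∈ fourM := by simp [fourM]
  obtain ⟨hrL, -, hr'⟩ := four_inL _ hrmem
  obtain ⟨hiL, hiM2, hi'⟩ := four_inL _ himem
  obtain ⟨hzL, hzM2, hz'⟩ := four_inL _ hzmem
  set r := φ rhoM with hrdef
  set i := φ iotM with hidef
  set z := φ zetM with hzdef
  set u : V3 := ((1, 2, 0) : V3) with hudef
  have hsq : ∀ p, InL true false p → p * p = 1 → φ p * φ p = 1 := fun p hp h => by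
    rw [← D.hom _ _ hp hp, h, D.one]
  have hr2 := hsq _ hrL hrM2
  have hz2 := hsq _ hzL hzM2
  -- the centralizers
  have hYr : ∀ g, g * r = r * g → g ∈ normalizer (J : Set G) := fun g hg =>
    D.cent_inverted hrL hiL hiM2 (hi' _ hrmem).2 hind hru hrv hr9 hiinv two_easy
      (fun w hw hc h3 hne => absurd ((two_rho_tab w hw hc).1 h3) hne) (fun w hw hc => (two_rho_tab w hw hc).2)
      (mem_centralizer_singleton_iff.2 hg)
  have hYu : ∀ g, g * φ (jM u) = φ (jM u) * g → g ∈ normalizer (J : Set G) := fun g hg =>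
    D.cent_anti hzL hzM2 hzu hind hze hzf two_planes.1 two_planes.2 two_zet_tab.2.2
      (mem_centralizer_singleton_iff.2 hg)
  have htabz : ∀ w, Wok true false w → w * zetM.w = zetM.w * w → w ^ 3 = 1 → w ≠ 1 →
      ∀ x : V3, x + wact w zetM.v ≠ zetM.v + wact zetM.w x :=
    fun w hw hc h3 hne => absurd (two_zet_tab.1 w hw hc h3) hne
  have hzr_ne : ∀ g : G, g * r * g⁻¹ ≠ z :=
    D.not_conj_plane hrL hzL hind hru hrv
      (D.sylow_plane hrL hind hru hrv fun w hw hc h3 hne => absurd ((two_rho_tab w hw hc).1 h3) hne)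
      (D.sylow_line hzL hzu hzuniq (fun g _ hg _ => hYu g hg) htabz) two_zet_tab.2.1
  -- the four-group
  let V : Subgroup G :=
    { carrier := {g | ∃ q ∈ fourM, φ q = g}
      one_mem' := ⟨1, by simp [fourM], D.one⟩
      mul_mem' := by
        rintro _ _ ⟨p, hp, rfl⟩ ⟨q, hq, rfl⟩
        exact ⟨p * q, ((four_inL p hp).2.2 q hq).1, D.hom _ _ (four_inL p hp).1 (four_inL q hq).1⟩
      inv_mem' := by
        rintro _ ⟨p, hp, rfl⟩
        exact ⟨p, hp, eq_inv_of_mul_eq_one_left (hsq p (four_inL p hp).1 (four_inL p hp).2.1)⟩ }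
  have hrV : r ∈ V := ⟨_, hrmem, rfl⟩
  have hiV : i ∈ V := ⟨_, himem, rfl⟩
  have hzV : z ∈ V := ⟨_, hzmem, rfl⟩
  have hVcases : ∀ g ∈ V, g = 1 ∨ g = r ∨ g = i ∨ g = z := by
    rintro _ ⟨q, hq, rfl⟩
    simp only [fourM, List.mem_cons, List.not_mem_nil, or_false] at hq
    rcases hq with rfl | rfl | rfl | rfl
    exacts [Or.inl D.one, Or.inr (Or.inl rfl), Or.inr (Or.inr (Or.inl rfl)), Or.inr (Or.inr (Or.inr rfl))]
  have hne : r ≠ 1 ∧ i ≠ 1 ∧ z ≠ 1 ∧ r ≠ i ∧ r ≠ z ∧ i ≠ z := by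
    have hne' : rhoM ≠ 1 ∧ iotM ≠ 1 ∧ zetM ≠ 1 ∧ rhoM ≠ iotM ∧ rhoM ≠ zetM ∧ iotM ≠ zetM := by decide +kernel
    exact ⟨fun e => hne'.1 (D.eq_one hrL e), fun e => hne'.2.1 (D.eq_one hiL e), fun e => hne'.2.2.1 (D.eq_one hzL e),
      fun e => hne'.2.2.2.1 (D.inj _ _ hrL hiL e), fun e => hne'.2.2.2.2.1 (D.inj _ _ hrL hzL e),
      fun e => hne'.2.2.2.2.2 (D.inj _ _ hiL hzL e)⟩
  obtain ⟨hr1, hi1, hz1, hri', hrz', hiz'⟩ := hne
  have hri2 : r * i = z := by rw [hrdef, hidef, ← D.hom _ _ hrL hiL, hri]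
  have hzr2 : z * r = i := by rw [hzdef, hrdef, ← D.hom _ _ hzL hrL, hzr]
  have hV2 : ∀ g ∈ V, g * g = 1 := by
    rintro _ ⟨q, hq, rfl⟩; exact hsq q (four_inL q hq).1 (four_inL q hq).2.1
  have hVc : ∀ g ∈ V, ∀ h ∈ V, g * h = h * g := by
    rintro _ ⟨p, hp, rfl⟩ _ ⟨q, hq, rfl⟩
    exact D.map_comm (four_inL p hp).1 (four_inL q hq).1 ((four_inL p hp).2.2 q hq).2
  have hCV : ∀ g, g * r = r * g → g * i = i * g → g ∈ V := by
    intro g hg hg'
    obtain ⟨q, hq, rfl⟩ := D.norm g (hYr g hg)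
    have h1 := D.comm' hq hrL hg
    have h2 := D.comm' hq hiL hg'
    exact ⟨q, two_four_cent q.w hq (congrArg Mn.w h1) (congrArg Mn.w h2) q.v h1 h2, rfl⟩
  have hV4 : Nat.card V = 4 := by
    have hcard : Nat.card ({1, r, i, z} : Finset G) = 4 := by
      rw [Nat.card_eq_fintype_card, Fintype.card_coe, Finset.card_insert_of_notMem (by simp [hr1.symm, hi1.symm, hz1.symm]),
        Finset.card_insert_of_notMem (by simp [hri', hrz']), Finset.card_insert_of_notMem (by simp [hiz']),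
        Finset.card_singleton]
    rw [← hcard]
    refine Nat.card_congr (Equiv.subtypeEquivRight fun g => ⟨fun hg => by
      rcases hVcases g hg with e | e | e | e <;> simp [e], fun hg => ?_⟩)
    simp only [Finset.mem_insert, Finset.mem_singleton] at hg
    rcases hg with rfl | rfl | rfl | rfl
    exacts [one_mem V, hrV, hiV, hzV]
  obtain ⟨T, hVT⟩ := (IsPGroup.of_card (p := 2) (n := 2) (G := V) (by rw [hV4]; norm_num)).exists_le_sylow
  have hTmax : ∀ R : Subgroup G, R ≤ ⊤ → IsPGroup 2 R → (T : Subgroup G) ≤ R → R = T := fun R _ hR h => T.3 hR h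
  have hrT : r ∈ (T : Subgroup G) := hVT hrV
  have hzT : z ∈ (T : Subgroup G) := hVT hzV
  -- the Sylow `3`-elements of the normalizer have odd order
  have hPodd : ∀ q, InL true false q → q.w ^ 3 = 1 → Odd (orderOf (φ q)) := fun q hq h3 =>
    (show Odd 9 by decide).of_dvd_nat (orderOf_dvd_of_pow_eq_one (by
      rw [← (D.map_pow hq _).2, mn_nine true q.w hq h3 q.v, D.one]))
  by_cases hT4 : Nat.card (T : Subgroup G) = 4
  · have hTV : (T : Subgroup G) = V := (eq_of_le_of_card_ge hVT (by rw [hV4, hT4])).symm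
    have hCz : IsCyclic (zpowers i) := inferInstance
    obtain ⟨O, -, hOn, hodd, hall⟩ := odd_core (Y := (⊤ : Subgroup G)) (T := (T : Subgroup G)) (C := zpowers i)
      le_top T.2 hTmax (zpowers_le.2 (hVT hiV)) hCz fun g hg => by
      have hrel : ∀ a ∈ V, a ≠ 1 → (zpowers a).relIndex (T : Subgroup G) = 2 := fun a ha ha1 => by
        have h1 := relIndex_mul_relIndex ⊥ (zpowers a) (T : Subgroup G) bot_le (zpowers_le.2 (hVT ha))
        rw [relIndex_bot_left, relIndex_bot_left, Nat.card_zpowers,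
          orderOf_eq_prime (by rw [pow_two, hV2 a ha]) ha1, hT4] at h1
        omega
      have hzp : ∀ a ∈ V, ∀ g ∈ zpowers a, g = 1 ∨ g = a := fun a ha g hg => by
        obtain ⟨k, rfl⟩ := mem_zpowers_iff.1 hg
        rcases Int.even_or_odd k with ⟨j, rfl⟩ | ⟨j, rfl⟩
        · left; rw [zpow_add, ← (Commute.refl a).mul_zpow, hV2 a ha, one_zpow]
        · right; rw [zpow_add, zpow_mul, zpow_two, hV2 a ha, one_zpow, one_mul, zpow_one]
      rcases hVcases g (hTV ▸ hg) with rfl | rfl | rfl | rfl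
      · exact Or.inl (one_mem _)
      · refine Or.inr ⟨r, hg, 1, one_mem _, by rw [mul_one, mul_one], hr2, zpowers z,
          zpowers_le.2 hzT, hrel z hzV hz1, fun y _ hy => ?_⟩
        rcases hzp z hzV _ hy with e | e
        · exact hr1 (conj_eq_one_iff.1 e)
        · exact hzr_ne y e
      · exact Or.inl (mem_zpowers _)
      · refine Or.inr ⟨z, hg, 1, one_mem _, by rw [mul_one, mul_one], hz2, zpowers r,
          zpowers_le.2 hrT, hrel r hrV hr1, fun y _ hy => ?_⟩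
        rcases hzp r hrV _ hy with e | e
        · exact hz1 (conj_eq_one_iff.1 e)
        · exact hzr_ne y⁻¹ (by rw [← e]; group)
    haveI : O.Normal := normalizer_eq_top_iff.1 (top_le_iff.1 hOn)
    exact normal_of_odd_core D O hodd fun q hq h3 => hall _ (mem_top _) (hPodd q hq h3)
  -- maximal class
  obtain ⟨n, hn⟩ := T.2.exists_card_eq
  have hn3 : 3 ≤ n := by
    by_contra h
    push Not at h
    have hdvd := card_dvd_of_le hVT
    rw [hV4, hn] at hdvd
    interval_cases n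
    · norm_num at hdvd
    · norm_num at hdvd
    · exact hT4 (hn.trans (by norm_num))
  have hclass := S0112.result (X := (T : Subgroup G)) (p := 2) n hn (V.subgroupOf (T : Subgroup G))
    (by rw [Nat.card_congr (subgroupOfEquivOfLe hVT).toEquiv, hV4]; norm_num) (le_antisymm (fun g hg => by
      refine mem_subgroupOf.2 (hCV g ?_ ?_)
      · exact congrArg Subtype.val (mem_centralizer_iff.1 hg ⟨r, hrT⟩ (mem_subgroupOf.2 hrV)).symm
      · exact congrArg Subtype.val (mem_centralizer_iff.1 hg ⟨i, hVT hiV⟩ (mem_subgroupOf.2 hiV)).symm)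
      fun g hg => mem_centralizer_iff.2 fun h hh => Subtype.ext (hVc h hh g hg))
  obtain ⟨C', hC'cyc, hC'i⟩ := S0113.result n hn3 hn hclass
  set C := C'.map (T : Subgroup G).subtype with hCdef
  have hCT : C ≤ (T : Subgroup G) := map_subtype_le C'
  have hCi : C.relIndex (T : Subgroup G) = 2 := by
    show (C.subgroupOf (T : Subgroup G)).index = 2
    rw [hCdef, Subgroup.subgroupOf, comap_map_eq_self_of_injective (T : Subgroup G).subtype_injective, hC'i]
  have hCcyc : IsCyclic C := by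
    haveI := hC'cyc
    exact isCyclic_of_surjective (equivMapOfInjective C' _ (T : Subgroup G).subtype_injective).toMonoidHom
      (equivMapOfInjective C' _ (T : Subgroup G).subtype_injective).surjective
  have hCcard : Nat.card C * 2 = 2 ^ n := by
    have h := C'.card_mul_index
    rw [hC'i, hn] at h
    rwa [hCdef, card_map_of_injective (T : Subgroup G).subtype_injective]
  have hCn : ∀ g ∈ (T : Subgroup G), ∀ c ∈ C, g * c * g⁻¹ ∈ C := by
    rintro g hg _ ⟨c, hc, rfl⟩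
    haveI := normal_of_index_eq_two hC'i
    exact ⟨⟨g, hg⟩ * c * ⟨g, hg⟩⁻¹, Subgroup.Normal.conj_mem inferInstance c hc _, rfl⟩
  obtain ⟨c, hc⟩ := isCyclic_iff_exists_zpowers_eq_top.1 hCcyc
  have hCgen : ∀ g ∈ C, ∃ k : ℤ, (c : G) ^ k = g := fun g hg => by
    obtain ⟨k, hk⟩ := mem_zpowers_iff.1 (hc ▸ mem_top (⟨g, hg⟩ : C))
    exact ⟨k, congrArg Subtype.val hk⟩
  have hCc : ∀ a ∈ C, ∀ b ∈ C, a * b = b * a := fun a ha b hb => by
    obtain ⟨k, rfl⟩ := hCgen a ha
    obtain ⟨l, rfl⟩ := hCgen b hb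
    exact ((Commute.refl (c : G)).zpow_zpow k l).eq
  have hn8 : 8 ≤ 2 ^ n := le_trans (by norm_num) (Nat.pow_le_pow_right (by norm_num) hn3)
  have hrC : r ∉ C := by
    intro hr
    haveI := hCcyc
    haveI : Fintype C := Fintype.ofFinite C
    have hr2' : orderOf r = 2 := orderOf_eq_prime (by rw [pow_two, hr2]) hr1
    have huniq : ∀ g ∈ C, orderOf g = 2 → g = r := fun g hg ho => by
      have hdvd : 2 ∣ Fintype.card C := by
        rw [← Nat.card_eq_fintype_card, ← hr2', ← orderOf_mk r hr]; exact orderOf_dvd_natCard _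
      have h := IsCyclic.card_orderOf_eq_totient (α := C) (d := 2) hdvd
      rw [Nat.totient_two, Finset.card_eq_one] at h
      obtain ⟨a, ha⟩ := h
      have h1 : (⟨g, hg⟩ : C) ∈ ({a} : Finset C) := by rw [← ha]; simp [ho]
      have h2 : (⟨r, hr⟩ : C) ∈ ({a} : Finset C) := by rw [← ha]; simp [hr2']
      simp only [Finset.mem_singleton] at h1 h2
      exact congrArg Subtype.val (h1.trans h2.symm)
    have hsq' : ∀ g ∈ (T : Subgroup G), g * g = 1 ∧ g * r = r * g := by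
      intro g hg
      have hgr : g * r = r * g := mul_inv_eq_iff_eq_mul.1 (huniq _ (hCn g hg r hr)
        (by rw [show g * r * g⁻¹ = MulAut.conj g r from rfl, MulEquiv.orderOf_eq, hr2']))
      refine ⟨?_, hgr⟩
      obtain ⟨q, hq, rfl⟩ := D.norm g (hYr g hgr)
      have h1 := D.comm' hq hrL hgr
      have hq2 : q.w ^ 2 = 1 := (by decide +kernel : ∀ w : Wt, Wok true false w → w * rhoM.w = rhoM.w * w →
          w ^ 2 = 1) q.w hq (congrArg Mn.w h1)
      have hpow : φ q ^ 2 ∈ J := by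
        rw [← (D.map_pow hq 2).2]
        exact D.mem_of_w (by rw [D.w_pow, hq2])
      obtain ⟨k, hk⟩ := T.2 ⟨φ q, hg⟩
      rw [← pow_two]
      exact sq_one_of_two_pow (k := k) (congrArg Subtype.val hk)
        (by rw [show (6 : ℕ) = 2 * 3 by norm_num, pow_mul, D.J_cube hpow])
    have hle : (T : Subgroup G) ≤ V := fun g hg => by
      refine hCV g (hsq' g hg).2 ?_
      have h1 := (hsq' g hg).1
      have h2 := (hsq' i (hVT hiV)).1
      have h3 := (hsq' (g * i) (mul_mem hg (hVT hiV))).1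
      rw [← inv_eq_of_mul_eq_one_left h3, mul_inv_rev, inv_eq_of_mul_eq_one_left h1, inv_eq_of_mul_eq_one_left h2]
    have := card_le_of_le hle
    rw [hV4, hn] at this
    omega
  -- the involution of `C`
  have hCeven : 2 ∣ Nat.card C := by
    obtain ⟨m, rfl⟩ : ∃ m, n = m + 2 := ⟨n - 2, by omega⟩
    rw [pow_succ] at hCcard
    exact ⟨2 ^ m, by rw [← pow_succ']; omega⟩
  obtain ⟨⟨j, hjC⟩, hjo⟩ := exists_prime_orderOf_dvd_card' (G := C) 2 hCeven
  rw [orderOf_mk] at hjo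
  have hjuniq : ∀ g ∈ C, orderOf g = 2 → g = j := fun g hg ho => by
    haveI := hCcyc
    haveI : Fintype C := Fintype.ofFinite C
    have h := IsCyclic.card_orderOf_eq_totient (α := C) (d := 2) (by rw [Fintype.card_eq_nat_card]; exact hCeven)
    rw [Nat.totient_two, Finset.card_eq_one] at h
    obtain ⟨a, ha⟩ := h
    have h1 : (⟨g, hg⟩ : C) ∈ ({a} : Finset C) := by rw [← ha]; simp [ho]
    have h2 : (⟨j, hjC⟩ : C) ∈ ({a} : Finset C) := by rw [← ha]; simp [hjo]
    simp only [Finset.mem_singleton] at h1 h2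
    exact congrArg Subtype.val (h1.trans h2.symm)
  have hjZ : ∀ g ∈ (T : Subgroup G), g * j * g⁻¹ = j := fun g hg =>
    hjuniq _ (hCn g hg j hjC) (by rw [show g * j * g⁻¹ = MulAut.conj g j from rfl, MulEquiv.orderOf_eq, hjo])
  have hjV : j ∈ V := by
    obtain ⟨q, hq, hqj⟩ := D.norm j (hYr j ((mul_inv_eq_iff_eq_mul.1 (hjZ r hrT)).symm))
    have h1 := D.comm' hq hrL (by rw [hqj]; exact (mul_inv_eq_iff_eq_mul.1 (hjZ r hrT)).symm)
    refine hCV j (mul_inv_eq_iff_eq_mul.1 (hjZ r hrT)).symm ?_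
    exact (mul_inv_eq_iff_eq_mul.1 (hjZ i (hVT hiV))).symm
  have hj1 : j ≠ 1 := fun e => by rw [e, orderOf_one] at hjo; norm_num at hjo
  have hjz : j = z := by
    rcases hVcases j hjV with e | e | e | e
    · exact absurd e hj1
    · exact absurd (e ▸ hjC) hrC
    · exfalso
      have hlt : V.subgroupOf (T : Subgroup G) < ⊤ := lt_top_iff_ne_top.2 fun e' => by
        have := card_le_of_le (subgroupOf_eq_top.1 e')
        rw [hV4, hn] at this
        omega
      haveI : Group.IsNilpotent (T : Subgroup G) := T.2.isNilpotent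
      obtain ⟨g, hgn, hgV⟩ := SetLike.exists_of_lt (Group.normalizerCondition_of_isNilpotent _ hlt)
      refine hgV (mem_subgroupOf.2 ?_)
      have hgr : (g : G) * r * (g : G)⁻¹ ∈ V :=
        mem_subgroupOf.1 ((mem_normalizer_iff.1 hgn ⟨r, hrT⟩).1 (mem_subgroupOf.2 hrV))
      have hgi : (g : G) * i * (g : G)⁻¹ = i := e ▸ hjZ g g.2
      rcases hVcases _ hgr with h | h | h | h
      · exact absurd (conj_eq_one_iff.1 h) hr1
      · exact hCV g (mul_inv_eq_iff_eq_mul.1 h) (mul_inv_eq_iff_eq_mul.1 hgi)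
      · exact absurd (mul_left_cancel (mul_right_cancel (h.trans hgi.symm))) hri'
      · exact absurd h (hzr_ne g)
    · exact e
  rw [hjz] at hjC hjZ hjuniq
  clear hjV hj1 hjz hjo
  have hTcoset : ∀ g ∈ (T : Subgroup G), g ∉ C → r * g ∈ C := fun g hg hgC => by
    have h := (mul_mem_iff_of_index_two hC'i (a := (⟨r, hrT⟩ : (T : Subgroup G))) (b := ⟨g, hg⟩))
    have hm : ∀ x : (T : Subgroup G), x ∈ C' ↔ (x : G) ∈ C := fun x =>
      ⟨fun hx => ⟨x, hx, rfl⟩, fun ⟨y, hy, e⟩ => (Subtype.ext e : y = x) ▸ hy⟩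
    rw [hm, hm, hm] at h
    exact h.2 (iff_of_false hrC hgC)
  -- the subgroup of index two
  have hTidx : ¬ 2 ∣ (T : Subgroup G).index := T.not_dvd_index
  obtain ⟨M, hM2, hrM⟩ := Involutions.ThompsonTransfer.exists_index_two_of_no_conj C
    (by have := relIndex_mul_index hCT; rw [hCi] at this; omega) r (orderOf_eq_prime (by rw [pow_two, hr2]) hr1)
    fun y hy => by
      rcases eq_or_ne (y * r * y⁻¹) 1 with e | e
      · exact hr1 (conj_eq_one_iff.1 e)
      · refine hzr_ne y (hjuniq _ hy (orderOf_eq_prime ?_ e))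
        rw [conj_pow, pow_two, hr2, mul_one, mul_inv_cancel]
  haveI hMn : M.Normal := normal_of_index_eq_two hM2
  have hcord : orderOf (c : G) = Nat.card C := by
    rw [Subgroup.orderOf_coe, ← Nat.card_zpowers, hc, card_top]
  obtain ⟨m, hm⟩ : ∃ m, orderOf (c : G) = 2 ^ m := by
    obtain ⟨k, hk⟩ := T.2 ⟨c, hCT c.2⟩
    obtain ⟨m, -, hm⟩ := (Nat.dvd_prime_pow Nat.prime_two).1
      (orderOf_dvd_of_pow_eq_one (congrArg Subtype.val hk : (c : G) ^ 2 ^ k = 1))
    exact ⟨m, hm⟩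
  have hzsq : z ∈ M := by
    obtain ⟨k, hk⟩ := hCgen z hjC
    rcases Int.even_or_odd k with ⟨l, rfl⟩ | ⟨l, rfl⟩
    · rw [← hk, zpow_add]; exact mul_self_mem_of_index_two hM2 _
    · exfalso
      have h1 : ((c : G) ^ 2) ^ (2 * l + 1) = 1 := by
        rw [← zpow_natCast (c : G) 2, ← zpow_mul, mul_comm, zpow_mul, hk, zpow_natCast, pow_two, hz2]
      have h2 : orderOf ((c : G) ^ 2) ∣ (2 * l + 1).natAbs :=
        Int.natCast_dvd.1 (orderOf_dvd_iff_zpow_eq_one.2 h1)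
      have h3 : orderOf ((c : G) ^ 2) ∣ 2 ^ m := hm ▸ orderOf_pow_dvd 2
      have hodd : Nat.Coprime (2 * l + 1).natAbs (2 ^ m) :=
        Nat.Coprime.pow_right m (Nat.Coprime.symm (Nat.prime_two.coprime_iff_not_dvd.2 (by omega)))
      have h4 : (c : G) ^ 2 = 1 := orderOf_eq_one_iff.1 (Nat.dvd_one.1 (hodd ▸ Nat.dvd_gcd h2 h3))
      have := Nat.le_of_dvd (by norm_num) (orderOf_dvd_of_pow_eq_one h4)
      omega
  have hMT : ∀ g, g ∈ (T : Subgroup G) → g * g ∈ M := fun g _ => mul_self_mem_of_index_two hM2 g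
  by_cases hinv : ∀ t ∈ (T : Subgroup G), t ∈ M → t * t = 1 → t = 1 ∨ t = z
  · -- the involution is isolated
    set P0 : Subgroup M := (T : Subgroup G).subgroupOf M with hP0
    have hTM : (M.subgroupOf (T : Subgroup G)).index = 2 := by
      refine index_eq_two_iff.2 ⟨⟨r, hrT⟩, fun g => ?_⟩
      simp only [mem_subgroupOf, Subgroup.coe_mul]
      have h := mul_mem_iff_of_index_two hM2 (a := (g : G)) (b := r)
      by_cases hg : (g : G) ∈ M
      · exact Or.inr ⟨hg, fun h' => hrM (((h.1 h')).1 hg)⟩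
      · exact Or.inl ⟨h.2 (iff_of_false hg hrM), hg⟩
    have hinfcard : Nat.card P0 * 2 = 2 ^ n := by
      have h := (M.subgroupOf (T : Subgroup G)).card_mul_index
      rw [hTM, hn] at h
      rw [← h]
      congr 1
      rw [hP0, ← card_map_of_injective M.subtype_injective, ← card_map_of_injective (T : Subgroup G).subtype_injective,
        subgroupOf_map_subtype, subgroupOf_map_subtype, inf_comm]
    let P : Sylow 2 M := (T.2.comap_of_injective _ M.subtype_injective).toSylow fun hd => by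
      change 2 ∣ P0.index at hd
      have hmul : Nat.card P0 * P0.index * 2 = 2 ^ n * (T : Subgroup G).index := by
        rw [P0.card_mul_index, ← hn, (T : Subgroup G).card_mul_index, ← hM2, M.card_mul_index]
      have he : P0.index = (T : Subgroup G).index := by
        have h2n : 0 < 2 ^ n := by positivity
        rw [mul_assoc, mul_comm P0.index, ← mul_assoc, hinfcard] at hmul
        exact Nat.eq_of_mul_eq_mul_left h2n hmul
      exact hTidx (he ▸ hd)
    obtain ⟨N0, hN0n, hN0odd, hN0⟩ := S0215.result P (⟨z, hzsq⟩ : M)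
      (by rw [orderOf_mk]; exact orderOf_eq_prime (by rw [pow_two, hz2]) hz1) hzT fun g hg => by
        refine Subtype.ext ((hinv _ hg (g * _ * g⁻¹).2 ?_).resolve_left fun e => hz1 ?_)
        · show (g : G) * z * (g : G)⁻¹ * ((g : G) * z * (g : G)⁻¹) = 1
          rw [show (g : G) * z * (g : G)⁻¹ * ((g : G) * z * (g : G)⁻¹) = (g : G) * (z * z) * (g : G)⁻¹ by group,
            hz2, mul_one, mul_inv_cancel]
        · exact conj_eq_one_iff.1 e
    -- enlarge to a normal subgroup of the whole group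
    set R0 := N0.map M.subtype with hR0
    set R1 := R0.map (MulAut.conj r).toMonoidHom with hR1
    have hR0M : R0 ≤ M := map_subtype_le N0
    have hR1M : R1 ≤ M := by
      rintro _ ⟨g, hg, rfl⟩; exact hMn.conj_mem g (hR0M hg) r
    have hR0n : ∀ g ∈ M, ∀ x ∈ R0, g * x * g⁻¹ ∈ R0 := by
      rintro g hg _ ⟨x, hx, rfl⟩
      exact ⟨⟨g, hg⟩ * x * ⟨g, hg⟩⁻¹, hN0n.conj_mem x hx _, rfl⟩
    have hR1n : ∀ g ∈ M, ∀ x ∈ R1, g * x * g⁻¹ ∈ R1 := by
      rintro g hg _ ⟨x, hx, rfl⟩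
      refine ⟨r⁻¹ * g * r * x * (r⁻¹ * g * r)⁻¹, hR0n _ ?_ x hx, ?_⟩
      · simpa using hMn.conj_mem g hg r⁻¹
      · show r * (r⁻¹ * g * r * x * (r⁻¹ * g * r)⁻¹) * r⁻¹ = g * (r * x * r⁻¹) * g⁻¹
        group
    set R := R0 ⊔ R1 with hRdef
    haveI hRn : R.Normal := by
      refine ⟨fun x hx g => ?_⟩
      have hconjM : ∀ g ∈ M, ∀ x ∈ R, g * x * g⁻¹ ∈ R := fun g hg x hx => by
        have hle : R ≤ R.comap (MulAut.conj g).toMonoidHom := by
          rw [hRdef, sup_le_iff]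
          exact ⟨fun y hy => (le_sup_left : R0 ≤ R0 ⊔ R1) (hR0n g hg y hy),
            fun y hy => (le_sup_right : R1 ≤ R0 ⊔ R1) (hR1n g hg y hy)⟩
        exact hle hx
      have hconjr : ∀ x ∈ R, r * x * r⁻¹ ∈ R := fun x hx => by
        have hle : R ≤ R.comap (MulAut.conj r).toMonoidHom := by
          rw [hRdef, sup_le_iff]
          refine ⟨fun y hy => (le_sup_right : R1 ≤ R0 ⊔ R1) ⟨y, hy, rfl⟩, ?_⟩
          rintro _ ⟨y, hy, rfl⟩
          refine (le_sup_left : R0 ≤ R0 ⊔ R1) ?_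
          show r * (r * y * r⁻¹) * r⁻¹ ∈ R0
          rw [show r * (r * y * r⁻¹) * r⁻¹ = r * r * y * (r * r)⁻¹ by group, hr2, one_mul, inv_one, mul_one]
          exact hy
        exact hle hx
      by_cases hg : g ∈ M
      · exact hconjM g hg x hx
      · have hgr : g * r ∈ M := (mul_mem_iff_of_index_two hM2).2 (iff_of_false hg hrM)
        have := hconjM _ hgr _ (hconjr x hx)
        rw [show g * r * (r * x * r⁻¹) * (g * r)⁻¹ = g * (r * r) * x * (r * r)⁻¹ * g⁻¹ by group, hr2, inv_one,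
          mul_one, mul_one] at this
        exact this
    have hRodd : Odd (Nat.card R) := by
      haveI : (R0.subgroupOf M).Normal := ⟨fun x hx g => hR0n g g.2 x hx⟩
      have h0 : Odd (Nat.card (R0.subgroupOf M)) := by
        rwa [Nat.card_congr (subgroupOfEquivOfLe hR0M).toEquiv, hR0, card_map_of_injective M.subtype_injective]
      have h1 : Odd (Nat.card (R1.subgroupOf M)) := by
        rw [Nat.card_congr (subgroupOfEquivOfLe hR1M).toEquiv, hR1, card_map_of_injective (MulEquiv.injective _), hR0,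
          card_map_of_injective M.subtype_injective]
        exact hN0odd
      rw [hRdef, ← Nat.card_congr (subgroupOfEquivOfLe (sup_le hR0M hR1M)).toEquiv, subgroupOf_sup hR0M hR1M]
      refine (h1.mul h0).of_dvd_nat ?_
      have h := relIndex_mul_relIndex ⊥ (R0.subgroupOf M) (R1.subgroupOf M ⊔ R0.subgroupOf M) bot_le le_sup_right
      rw [relIndex_bot_left, relIndex_bot_left, relIndex_sup_right] at h
      rw [sup_comm, ← h, mul_comm (Nat.card (R0.subgroupOf M))]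
      exact Nat.mul_dvd_mul_right (relIndex_dvd_card _ _) _
    have hcomm : ∀ q, InL true false q → φ q ∈ M → φ (zetM * q * zetM * q⁻¹) ∈ R := by
      intro q hq hqM
      refine (le_sup_left : R0 ≤ R0 ⊔ R1) ⟨_, hN0 ⟨φ q, hqM⟩, ?_⟩
      show z * φ q * z⁻¹ * (φ q)⁻¹ = _
      rw [inv_eq_of_mul_eq_one_left hz2, D.hom _ _ ((inL_facts _ _).2.2.1 _ _ ((inL_facts _ _).2.2.1 _ _ hzL hq) hzL)
        ((inL_facts _ _).2.2.2 q hq), D.hom _ _ ((inL_facts _ _).2.2.1 _ _ hzL hq) hzL, D.hom _ _ hzL hq, D.inv' hq]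
    have hoddM : ∀ g : G, Odd (orderOf g) → g ∈ M := fun g hg => by
      obtain ⟨k, hk⟩ := hg
      have h1 : g = g ^ (k + 1) * g ^ (k + 1) := by
        rw [← pow_add, show k + 1 + (k + 1) = orderOf g + 1 by omega, pow_succ, pow_orderOf_eq_one, one_mul]
      rw [h1]; exact mul_self_mem_of_index_two hM2 _
    set σ : Mn := wM ⟨false, 0, 1⟩
    have hσ : InL true false σ := inL_mono (by decide +kernel)
    have hσR : φ (zetM * σ * zetM * σ⁻¹) ∈ R := hcomm σ hσ (hoddM _ (hPodd σ hσ (by decide +kernel)))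
    refine normal_of_odd_core D R hRodd fun q hq h3 => ?_
    obtain ⟨v, w⟩ := q
    have hplane : ∀ x, φ (jM (x + -wact zetM.w x)) ∈ R := fun x => by
      have h := inv_mem (hcomm (jM x) ((inL_facts _ _).2.1 x)
        (hoddM _ (hPodd _ ((inL_facts _ _).2.1 x) (one_pow 3))))
      rw [← D.inv' ((inL_facts _ _).2.2.1 _ _ ((inL_facts _ _).2.2.1 _ _ ((inL_facts _ _).2.2.1 _ _ hzL
        ((inL_facts _ _).2.1 x)) hzL) ((inL_facts _ _).2.2.2 _ ((inL_facts _ _).2.1 x)))] at h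
      convert h using 2
      exact (by decide +kernel : ∀ x : V3, jM (x + -wact zetM.w x) = (zetM * jM x * zetM * (jM x)⁻¹)⁻¹) x
    have hJR : φ (jM v) ∈ R := by
      obtain ⟨x, y, e⟩ := plane_span v
      rw [e, D.jadd, ← show wact σ.w (y + -wact zetM.w y) = wact ⟨false, 0, 1⟩ (y + -wact zetM.w y) from rfl,
        ← D.act' hσ]
      exact mul_mem (hplane x) (hRn.conj_mem _ (hplane y) _)
    have hw : φ (⟨0, w⟩ : Mn) ∈ R := by
      rcases odd_split w hq h3 with e | e | e <;> rw [e]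
      · rw [D.one]; exact one_mem _
      · exact hσR
      · rw [D.inv' ((inL_facts _ _).2.2.1 _ _ ((inL_facts _ _).2.2.1 _ _ ((inL_facts _ _).2.2.1 _ _ hzL hσ) hzL)
          ((inL_facts _ _).2.2.2 _ hσ))]
        exact inv_mem hσR
    have e : (⟨v, w⟩ : Mn) = jM v * ⟨0, w⟩ := mn_split w v
    rw [e, D.hom _ _ ((inL_facts _ _).2.1 v) (show InL true false ⟨0, w⟩ from hq)]
    exact mul_mem hJR hw
  -- a second involution of the subgroup of index two
  exfalso
  push Not at hinv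
  obtain ⟨t, htT, htM, ht2, ht1, htz⟩ := hinv
  have htC : t ∉ C := fun h => htz (hjuniq t h (orderOf_eq_prime (by rw [pow_two, ht2]) ht1))
  obtain ⟨e0, he0⟩ := hCgen _ (hTcoset t htT htC)
  have hj0 : Odd e0 := by
    rcases Int.even_or_odd e0 with ⟨l, rfl⟩ | h
    · exfalso
      have h1 : r * t ∈ M := by rw [← he0, zpow_add]; exact mul_self_mem_of_index_two hM2 _
      exact hrM (((mul_mem_iff_of_index_two hM2).1 h1).2 htM)
    · exact h
  set Y := centralizer ({z} : Set G) with hYdef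
  have hTY : (T : Subgroup G) ≤ Y := fun g hg =>
    mem_centralizer_singleton_iff.2 (mul_inv_eq_iff_eq_mul.1 (hjZ g hg))
  have hsepC : ∀ w, w * w = 1 → w ≠ 1 → (∀ y ∈ Y, y * w * y⁻¹ ≠ z) → ∀ y ∈ Y, y * w * y⁻¹ ∉ C := by
    intro w hw2 hw1 hwz y hy hC
    rcases eq_or_ne (y * w * y⁻¹) 1 with e | e
    · exact hw1 (conj_eq_one_iff.1 e)
    · exact hwz y hy (hjuniq _ hC (orderOf_eq_prime (by rw [conj_pow, pow_two, hw2, mul_one, mul_inv_cancel]) e))
  have hyz : ∀ y ∈ Y, ∀ w, y * w * y⁻¹ = z → w = z := fun y hy w h => by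
    rw [← mem_centralizer_singleton_iff.1 hy |> fun h' => (mul_inv_eq_iff_eq_mul.2 h' : y * z * y⁻¹ = z)] at h
    exact mul_left_cancel (mul_right_cancel h)
  obtain ⟨O, hOY, hYO, hOodd, hall⟩ := odd_core (Y := Y) (T := (T : Subgroup G)) (C := C) hTY T.2
    (fun R _ hR h => T.3 hR h) hCT hCcyc fun g hg => by
    by_cases hgC : g ∈ C
    · exact Or.inl hgC
    · obtain ⟨k, hk⟩ := hCgen _ (hTcoset g hg hgC)
      have hgr : g = r * (c : G) ^ k := by rw [hk, ← mul_assoc, hr2, one_mul]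
      rcases Int.even_or_odd k with ⟨l, rfl⟩ | hko
      · exact Or.inr ⟨r, hrT, _, hCT (zpow_mem c.2 l), by rw [hgr, zpow_add], hr2, C, hCT, hCi,
          hsepC r hr2 hr1 fun y _ => hzr_ne y⟩
      · obtain ⟨l, hl⟩ := hko.sub_odd hj0
        refine Or.inr ⟨t, htT, _, hCT (zpow_mem c.2 l), ?_, ht2, C, hCT, hCi,
          hsepC t ht2 ht1 fun y hy h => htz (hyz y hy t h)⟩
        have ht' : t = r * (c : G) ^ e0 := by rw [he0, ← mul_assoc, hr2, one_mul]
        rw [hgr, ← zpow_add, ← hl, ht', mul_assoc, ← zpow_add, add_sub_cancel]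
  set L := J ⊓ centralizer ({z} : Set G) with hL
  have hSY : SylowAt Y L := D.sylow_line hzL hzu hzuniq (fun g _ hg _ => hYu g hg) htabz
  have huL : φ (jM u) ∈ L := (D.mem_fix hzL).2 ⟨u, rfl, hzu⟩
  have hL' : ∀ x ∈ L, x = 1 ∨ x = φ (jM u) ∨ x = (φ (jM u))⁻¹ := by
    intro x hx
    obtain ⟨v, rfl, hv⟩ := (D.mem_fix hzL).1 hx
    rcases hzuniq v hv with e | e | e
    · exact Or.inl (by rw [e, D.jzero])
    · exact Or.inr (Or.inl (by rw [e]))
    · exact Or.inr (Or.inr (eq_inv_of_mul_eq_one_left (by rw [e, ← D.jadd, neg_add_cancel, D.jzero])))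
  have hLO : L ≤ O := fun x hx => hall x hx.2
    ((show Odd 3 by decide).of_dvd_nat (orderOf_dvd_of_pow_eq_one (D.J_cube hx.1)))
  have hSO : SylowAt O L := ⟨hLO, hSY.isP, fun R hR => hSY.maximal R (hR.trans hOY)⟩
  obtain ⟨K, hKO, hOK, hKL, -, hdec, hallK, hKS⟩ := hSO.split (F := ⊥) (fun x hx y hy => D.J_comm hx.1 hy.1)
    fun g hg hgn x hx => by
      have hodd : Odd (orderOf g) := hOodd.of_dvd_nat (by simpa using orderOf_dvd_natCard (⟨g, hg⟩ : O))
      have hgu : g * φ (jM u) = φ (jM u) * g := by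
        rcases hL' _ ((mem_normalizer_iff.1 hgn _).1 huL) with e | e | e
        · rw [conj_eq_one_iff.1 e, one_mul, mul_one]
        · exact mul_inv_eq_iff_eq_mul.1 e
        · have h2 : Commute (g ^ 2) (φ (jM u)) := by
            show g ^ 2 * φ (jM u) = φ (jM u) * g ^ 2
            have hi : g * (φ (jM u))⁻¹ * g⁻¹ = φ (jM u) := by
              rw [show g * (φ (jM u))⁻¹ * g⁻¹ = (g * φ (jM u) * g⁻¹)⁻¹ by group, e, inv_inv]
            calc g ^ 2 * φ (jM u) = g * (g * φ (jM u) * g⁻¹) * g := by rw [pow_two]; group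
              _ = _ := by rw [e, show g * (φ (jM u))⁻¹ * g = g * (φ (jM u))⁻¹ * g⁻¹ * g ^ 2 by group, hi]
          obtain ⟨l, hl⟩ := hodd
          have hg' : g = (g ^ 2) ^ (l + 1) := by
            rw [← pow_mul, show 2 * (l + 1) = orderOf g + 1 by omega, pow_succ, pow_orderOf_eq_one, one_mul]
          rw [hg']; exact (h2.pow_left _).eq
      have hc : Commute g (φ (jM u)) := hgu
      rw [mem_bot]
      rcases hL' x hx with e | e | e <;> rw [e]
      · group
      · rw [← hc.eq]; group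
      · rw [← hc.inv_right.eq]; group
  rw [le_bot_iff.1 hKL] at hKS
  have hKc := coprime_of_bot hKS
  have hnK : ∀ g ∈ Y, g ∈ normalizer (K : Set G) := fun g hg =>
    conj_mem_of_coprime hKc hKO hallK fun x hx => (mem_normalizer_iff.1 (hYO hg) x).1 hx
  have hfree : ∀ k ∈ K, r * k = k * r → k = 1 := by
    intro k hk hkr
    have hkz : k * z = z * k := mem_centralizer_singleton_iff.1 (hOY (hKO hk))
    have hki : k * i = i * k := by rw [← hzr2, ← mul_assoc, hkz, mul_assoc, ← hkr, ← mul_assoc]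
    have hodd : Odd (orderOf k) := hOodd.of_dvd_nat (by simpa using orderOf_dvd_natCard (⟨k, hKO hk⟩ : O))
    obtain ⟨l, hl⟩ := hodd
    have h := pow_orderOf_eq_one k
    rw [hl, pow_succ, pow_mul, pow_two, hV2 k (hCV k hkr.symm hki), one_pow, one_mul] at h
    exact h
  have hinvr := inverts_fpf hr2 (fun k hk => (mem_normalizer_iff.1 (hnK r (hTY hrT)) k).1 hk) hfree
  have huY : φ (jM u) ∈ Y := huL.2
  have hru' : r * φ (jM u) * r⁻¹ = (φ (jM u))⁻¹ := by
    rw [hrdef, D.act' hrL, hrneg]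
    exact eq_inv_of_mul_eq_one_left (by rw [← D.jadd, neg_add_cancel, D.jzero])
  set b := φ (jM u) with hbdef
  have hb3 : b * b * b = 1 := by rw [← D.jadd, ← D.jadd, (by decide +kernel : ∀ v : V3, v + v + v = 0) u, D.jzero]
  have hinvb : ∀ k ∈ K, b * r * b⁻¹ * k * (b * r * b⁻¹)⁻¹ = k⁻¹ := by
    intro k hk
    have h := hinvr _ ((mem_normalizer_iff.1 (hnK b⁻¹ (inv_mem huY)) k).1 hk)
    rw [show b⁻¹ * k * b⁻¹⁻¹ = b⁻¹ * k * b by group] at h
    calc b * r * b⁻¹ * k * (b * r * b⁻¹)⁻¹ = b * (r * (b⁻¹ * k * b) * r⁻¹) * b⁻¹ := by group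
      _ = b * (b⁻¹ * k * b)⁻¹ * b⁻¹ := by rw [h]
      _ = k⁻¹ := by group
  have hrb : r * (b * r * b⁻¹) = b := by
    rw [show r * (b * r * b⁻¹) = (r * b * r⁻¹) * (r * r) * b⁻¹ by group, hru', hr2, mul_one]
    calc b⁻¹ * b⁻¹ = b⁻¹ * b⁻¹ * (b * b * b) := by rw [hb3, mul_one]
      _ = b := by group
  have hKb : ∀ k ∈ K, k * b = b * k := by
    intro k hk
    have h : r * (b * r * b⁻¹ * k * (b * r * b⁻¹)⁻¹) * r⁻¹ = k := by
      rw [hinvb k hk, hinvr _ (inv_mem hk), inv_inv]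
    rw [show r * (b * r * b⁻¹ * k * (b * r * b⁻¹)⁻¹) * r⁻¹ = (r * (b * r * b⁻¹)) * k * (r * (b * r * b⁻¹))⁻¹ by
      group, hrb] at h
    exact (mul_inv_eq_iff_eq_mul.1 h).symm
  have hcentu : ∀ g, g ∈ Y → g * b = b * g → ∃ q, InL true false q ∧ φ q = g ∧ wact q.w u = u ∧
      q * zetM = zetM * q := fun g hg hgb => by
    obtain ⟨q, hq, rfl⟩ := D.norm g (hYu g hgb)
    exact ⟨q, hq, rfl, D.fix_of_comm hq hgb, D.comm' hq hzL (mem_centralizer_singleton_iff.1 hg)⟩
  have hK1 : ∀ k ∈ K, k = 1 := by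
    intro k hk
    obtain ⟨q, hq, rfl, hqu, hqz⟩ := hcentu k (hOY (hKO hk)) (hKb k hk)
    obtain ⟨v, w⟩ := q
    obtain ⟨h6, -, -⟩ := two_cent_u w hq hqu v hqz
    have h1 : orderOf (φ ⟨v, w⟩) ∣ 6 := orderOf_dvd_of_pow_eq_one (by rw [← (D.map_pow hq 6).2, h6, D.one])
    have h2 : orderOf (φ ⟨v, w⟩) ∣ Nat.card K := by
      simpa using orderOf_dvd_natCard (⟨_, hk⟩ : K)
    have h3 : Nat.card K ∣ Nat.card O := card_dvd_of_le hKO
    have hc6 : Nat.Coprime (Nat.card K) (2 * 3) :=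
      Nat.Coprime.mul_right ((hOodd.of_dvd_nat h3).coprime_two_right) hKc
    exact orderOf_eq_one_iff.1 (Nat.dvd_one.1 (hc6 ▸ Nat.dvd_gcd h2 h1))
  have hOL : ∀ g ∈ O, g ∈ L := fun g hg => by
    obtain ⟨k, hk, s, hs, rfl⟩ := hdec g hg
    rw [hK1 k hk, one_mul]; exact hs
  have hbne : b ≠ 1 := fun e =>
    absurd (D.jinj (e.trans D.jzero.symm)) (by decide +kernel : ((1, 2, 0) : V3) ≠ 0)
  have hTb : ∀ g ∈ (T : Subgroup G), g * b * g⁻¹ = b ∨ g * b * g⁻¹ = b⁻¹ := fun g hg => by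
    rcases hL' _ (hOL _ ((mem_normalizer_iff.1 (hYO (hTY hg)) b).1 (hLO huL))) with e | e | e
    · exact absurd (conj_eq_one_iff.1 e) hbne
    · exact Or.inl e
    · exact Or.inr e
  have hfixC : ∀ g ∈ (T : Subgroup G), g * b = b * g → g ^ 2 = 1 := fun g hg hgb => by
    obtain ⟨q, hq, rfl, hqu, hqz⟩ := hcentu g (hTY hg) hgb
    obtain ⟨v, w⟩ := q
    obtain ⟨k, hk⟩ := T.2 ⟨φ ⟨v, w⟩, hg⟩
    exact sq_one_of_two_pow (k := k) (congrArg Subtype.val hk)
      (by rw [← (D.map_pow hq 6).2, (two_cent_u w hq hqu v hqz).1, D.one])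
  have hb2 : (c : G) * b = b * c → False := fun h => by
    have := Nat.le_of_dvd (by norm_num) (orderOf_dvd_of_pow_eq_one (hfixC c (hCT c.2) h))
    omega
  have hrc : r * c * b = b * (r * c) → False := fun h => by
    obtain ⟨q, hq, he, hqu, hqz⟩ := hcentu (r * c) (hTY (mul_mem hrT (hCT c.2))) h
    obtain ⟨v, w⟩ := q
    have h2 := D.pow_eq_one hq (n := 2) (by rw [he]; exact hfixC _ (mul_mem hrT (hCT c.2)) h)
    rcases (two_cent_u w hq hqu v hqz).2.2 h2 with e | e <;> rw [e] at he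
    · rw [D.one] at he
      rw [eq_inv_of_mul_eq_one_left he.symm] at hrC
      exact hrC (inv_mem c.2)
    · exact hrC (by rw [show r = z * (c : G)⁻¹ by rw [hzdef, he]; group]; exact mul_mem hjC (inv_mem c.2))
  rcases hTb c (hCT c.2) with e | e
  · exact hb2 (mul_inv_eq_iff_eq_mul.1 e)
  · refine hrc (mul_inv_eq_iff_eq_mul.1 ?_)
    rw [show r * c * b * (r * c)⁻¹ = r * (c * b * (c : G)⁻¹) * r⁻¹ by group, e,
      show r * b⁻¹ * r⁻¹ = (r * b * r⁻¹)⁻¹ by group, hru', inv_inv]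

end Cfsg.Agent.NineSym
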