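import Cfsg.Agent.S3331
import Cfsg.Agent.Lib.PSLOrderSpectrum.Main
import Cfsg.Agent.Lib.NineSym.Tools

/-!
# A self-centralizing element of order three, up to a small centre, acted on by a `3`-group
-/

set_option autoImplicit false
set_option linter.style.haveILetI false
set_option linter.unusedSectionVars false

namespace Cfsg.Agent.NineSym

open Subgroup

variable {G : Type*} [Group G] [Finite G]

theorem le_normalizer_map_char {K A : Subgroup G} (hAK : A ≤ normalizer (K : Set G))
    (L : Subgroup K) [hL : L.Characteristic] : A ≤ normalizer (L.map K.subtype : Set G) := fun _ ha =>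
  SelfThree.Inv.map_char (hAK ha) L

theorem sylow_two_five {Q : Type*} [Group Q] [Finite Q] [IsSimpleGroup Q] (h60 : Nat.card Q = 60) :
    Nat.card (Sylow 2 Q) = 5 := by
  classical
  haveI : Fact (Nat.Prime 2) := ⟨Nat.prime_two⟩
  have hG : ¬ IsMulCommutative Q := SmallSimple.Basic.not_comm_of_not_prime (by rw [h60]; norm_num)
  have h2 : 2 ∣ Nat.card Q := by rw [h60]; norm_num
  obtain ⟨hd, hodd, h1, hf⟩ := SmallSimple.Basic.sylow_count (p := 2) hG h2 (a := 2) (m := 15)
    (by rw [h60]; norm_num) (by norm_num)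
  have hn : Nat.card (Sylow 2 Q) = 5 ∨ Nat.card (Sylow 2 Q) = 15 := by
    have hle := Nat.le_of_dvd (by norm_num) hd
    rw [h60] at hf
    generalize Nat.card (Sylow 2 Q) = n at hd hodd h1 hle hf ⊢
    interval_cases n <;> revert hd hodd hf <;> decide
  refine hn.resolve_right fun h => ?_
  have P : Sylow 2 Q := default
  have hP4 : Nat.card (P : Subgroup Q) = 4 := by
    simpa using SmallSimple.Basic.card_sylow_eq_pow (p := 2) (a := 2) (m := 15) (by rw [h60]; norm_num) (by norm_num) P
  have hN := SmallSimple.Basic.card_normalizer_mul P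
  rw [h, h60] at hN
  have hPN : normalizer ((P : Subgroup Q) : Set Q) = (P : Subgroup Q) :=
    (eq_of_le_of_card_ge le_normalizer (by rw [hP4]; omega)).symm
  refine SmallSimple.Basic.not_normalizer_le_centralizer hG h2 P fun g hg => ?_
  rw [hPN] at hg
  haveI : IsMulCommutative (P : Subgroup Q) :=
    IsPGroup.isMulCommutative_of_card_eq_prime_sq (p := 2) (by rw [hP4]; norm_num)
  exact mem_centralizer_iff.2 fun y hy =>
    congrArg Subtype.val (mul_comm' (⟨y, hy⟩ : (P : Subgroup Q)) ⟨g, hg⟩)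

/-- `f` is self-centralizing modulo `Z` and a `3`-group normalizes `K` with no invariant
`3'`-subgroups outside `Z`: then `⟨f⟩` is normal in `K`. -/
theorem self_three_small (K Z A : Subgroup G) (f : G) (hfK : f ∈ K) (hf : orderOf f = 3)
    (hZK : Z ≤ K) (hZ2 : Nat.card Z ∣ 2) (hZc : ∀ z ∈ Z, ∀ k ∈ K, z * k = k * z)
    (hC : ∀ g ∈ K, g * f = f * g → ∃ i : ℕ, ∃ z ∈ Z, g = f ^ i * z)
    (hA : IsPGroup 3 A) (hAK : A ≤ normalizer (K : Set G))
    (hsig : ∀ R : Subgroup G, R ≤ K → (Nat.card R).Coprime 3 → A ≤ normalizer (R : Set G) → R ≤ Z) :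
    ∀ g ∈ K, g * f * g⁻¹ = f ∨ g * f * g⁻¹ = f⁻¹ := by
  classical
  haveI h3p : Fact (Nat.Prime 3) := ⟨Nat.prime_three⟩
  have hZn : (Z.subgroupOf K).Normal := ⟨fun z hz k => by
    rw [mem_subgroupOf] at hz ⊢
    simpa [← hZc _ hz _ k.2] using hz⟩
  set π := QuotientGroup.mk' (Z.subgroupOf K) with hπ
  have hZcard : Nat.card (Z.subgroupOf K) = Nat.card Z := Nat.card_congr (subgroupOfEquivOfLe hZK).toEquiv
  have hZ3 : (Nat.card (Z.subgroupOf K)).Coprime 3 := by
    rw [hZcard]; exact Nat.Coprime.coprime_dvd_left hZ2 (by norm_num)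
  have hker : ∀ k : K, π k = 1 ↔ (k : G) ∈ Z := fun k => by
    rw [hπ, QuotientGroup.mk'_apply, QuotientGroup.eq_one_iff, mem_subgroupOf]
  have hfz : ∀ z ∈ Z, ∀ i : ℕ, orderOf (f ^ i * z) ∣ 3 → z = 1 := by
    intro z hz i hd
    have hz' : Commute z f := hZc z hz f hfK
    have hc : Commute (f ^ i) z := hz'.symm.pow_left i
    have h3 : (f ^ i * z) ^ 3 = 1 := orderOf_dvd_iff_pow_eq_one.1 hd
    rw [hc.mul_pow, ← pow_mul, mul_comm i, pow_mul, ← hf, pow_orderOf_eq_one, one_pow, one_mul] at h3
    have h2 : z ^ 2 = 1 := by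
      have h := orderOf_dvd_natCard (⟨z, hz⟩ : Z)
      rw [orderOf_mk] at h
      exact orderOf_dvd_iff_pow_eq_one.1 (h.trans hZ2)
    rw [hf] at h3
    rwa [pow_succ, h2, one_mul] at h3
  set fQ : K ⧸ Z.subgroupOf K := π ⟨f, hfK⟩ with hfQ
  have hfQ3 : orderOf fQ = 3 := by
    refine orderOf_eq_prime ?_ fun e => ?_
    · rw [hfQ, ← map_pow, show (⟨f, hfK⟩ : K) ^ 3 = 1 from Subtype.ext (by
        simp [← hf, pow_orderOf_eq_one]), map_one]
    · have := hfz f ((hker _).1 e) 0 (by rw [pow_zero, one_mul, hf])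
      rw [this, orderOf_one] at hf
      norm_num at hf
  have hX : Nat.card (zpowers fQ) = 3 := by rw [Nat.card_zpowers, hfQ3]
  have hCX : centralizer (zpowers fQ : Set (K ⧸ Z.subgroupOf K)) = zpowers fQ := by
    refine le_antisymm (fun q hq => ?_) (fun q hq => mem_centralizer_iff.2 fun y hy => ?_)
    · obtain ⟨k, rfl⟩ := QuotientGroup.mk'_surjective _ q
      have hc := mem_centralizer_iff.1 hq fQ (mem_zpowers fQ)
      rw [← hπ, hfQ, ← map_mul, ← map_mul, hπ, QuotientGroup.mk'_apply, QuotientGroup.mk'_apply,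
        QuotientGroup.eq, mem_subgroupOf] at hc
      simp only [mul_inv_rev, Subgroup.coe_mul, InvMemClass.coe_inv] at hc
      set z := (k : G)⁻¹ * f⁻¹ * ((k : G) * f) with hz
      have h1 : (k : G)⁻¹ * f * k = f * z⁻¹ := by rw [hz]; group
      have hz1 : z⁻¹ = 1 := hfz _ (inv_mem hc) 1 (by
        rw [pow_one, ← h1, show (k : G)⁻¹ * f * k = (k : G)⁻¹ * f * ((k : G)⁻¹)⁻¹ by group]
        have ho := (orderOf_injective (MulAut.conj (k : G)⁻¹).toMonoidHom (MulEquiv.injective _) f).trans hf
        simp only [MulEquiv.coe_toMonoidHom, MulAut.conj_apply] at ho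
        rw [ho])
      rw [hz1, mul_one] at h1
      obtain ⟨i, w, hw, e⟩ := hC k k.2 (by
        calc (k : G) * f = (k : G) * ((k : G)⁻¹ * f * k) := by rw [h1]
          _ = f * k := by group)
      have : π k = fQ ^ i := by
        rw [hfQ, ← map_pow, hπ, QuotientGroup.mk'_apply, QuotientGroup.mk'_apply, eq_comm,
          QuotientGroup.eq, mem_subgroupOf]
        simpa [e] using hw
      rw [← hπ, this]
      exact pow_mem (mem_zpowers fQ) i
    · obtain ⟨i, rfl⟩ := hy
      obtain ⟨j, rfl⟩ := hq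
      exact ((Commute.refl fQ).zpow_zpow i j).eq
  -- invariant subgroups
  have hsig' : ∀ R : Subgroup K, R.Characteristic → (Nat.card R).Coprime 3 → R ≤ Z.subgroupOf K :=
    fun R hR hc r hr => hsig _ (map_subtype_le R) (by rwa [card_map_of_injective K.subtype_injective])
      (le_normalizer_map_char hAK R) ⟨r, hr, rfl⟩
  have hcore : ∀ N : Subgroup (K ⧸ Z.subgroupOf K), N.Normal → (Nat.card N).Coprime 3 → N = ⊥ := by
    intro N hN hc
    have h1 : Nat.card (N.comap π) = Nat.card (Z.subgroupOf K) * Nat.card N :=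
      SelfThree.card_comap_mk N
    have h2 : N.comap π ≤ Cfsg.pPrimeCore 3 K :=
      PLocal.Cores.le_pPrimeCore (by rw [h1]; exact Nat.Coprime.mul_left hZ3 hc)
    have h3 : Cfsg.pPrimeCore 3 K ≤ Z.subgroupOf K :=
      hsig' _ PLocal.Cores.pPrimeCore_characteristic PLocal.Cores.coprime_card_pPrimeCore
    rw [← map_comap_eq_self_of_surjective (QuotientGroup.mk'_surjective _) N, eq_bot_iff,
      map_le_iff_le_comap, MonoidHom.comap_bot, QuotientGroup.ker_mk']
    exact h2.trans h3
  -- no invariant Sylow subgroup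
  have hfix : ∀ p : ℕ, ∀ [Fact p.Prime], p ≠ 3 → ¬ 3 ∣ Nat.card (Sylow p K) →
      ∀ S : Sylow p K, (Nat.card (S : Subgroup K)) ∣ 2 := by
    intro p _ hp hn S
    let φ : A →* MulAut K := K.normalizerMonoidHom.comp (Subgroup.inclusion hAK)
    letI : MulAction A (Sylow p K) := MulAction.compHom _ φ
    obtain ⟨T, hT⟩ := hA.nonempty_fixed_point_of_prime_not_dvd_card (Sylow p K) hn
    have hTcop : (Nat.card (T : Subgroup K)).Coprime 3 := by
      obtain ⟨m, hm⟩ := IsPGroup.iff_card.1 T.2
      rw [hm]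
      exact ((Nat.coprime_primes Fact.out Nat.prime_three).2 hp).pow_left m
    have hTA : A ≤ normalizer ((T : Subgroup K).map K.subtype : Set G) := by
      intro a ha
      have key : ∀ b : A, ∀ k ∈ (T : Subgroup K).map K.subtype, (b : G) * k * (b : G)⁻¹ ∈ (T : Subgroup K).map K.subtype := by
        rintro b _ ⟨k, hk, rfl⟩
        have hb : φ b • T = T := hT b
        refine ⟨φ b k, ?_, rfl⟩
        rw [← hb]
        exact smul_mem_pointwise_smul k (φ b) _ hk
      refine mem_normalizer_iff.2 fun k => ⟨key ⟨a, ha⟩ k, fun hk => ?_⟩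
      simpa [mul_assoc] using key ⟨a⁻¹, inv_mem ha⟩ _ hk
    have h := card_le_of_le (hsig _ (map_subtype_le _) (by rwa [card_map_of_injective K.subtype_injective]) hTA)
    have hd := Subgroup.card_dvd_of_le (hsig _ (map_subtype_le _) (by rwa [card_map_of_injective K.subtype_injective]) hTA)
    rw [card_map_of_injective K.subtype_injective, ← Nat.card_congr (S.equiv T).toEquiv] at hd
    exact (hd.trans hZ2)
  intro g hg
  rcases S3331.result (zpowers fQ) hX hCX with ⟨N, hN, -, hNc, h36⟩ | ⟨N, hN, -, hN2, ⟨e⟩⟩ | ⟨⟨e⟩⟩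
  · have hN1 := hcore N hN hNc
    subst hN1
    have h36' : Nat.card (K ⧸ Z.subgroupOf K) ∣ 6 := by
      rw [Nat.card_congr (QuotientGroup.quotientBot (G := K ⧸ Z.subgroupOf K)).toEquiv.symm]
      rcases h36 with h | ⟨⟨e⟩⟩
      · rw [h]; norm_num
      · rw [Nat.card_congr e.toEquiv, Nat.card_perm, Nat.card_fin]; norm_num [Nat.factorial]
    haveI hXn : (zpowers fQ).Normal := by
      have hmul := card_mul_index (zpowers fQ)
      have hle := Nat.le_of_dvd (by norm_num) h36'
      rw [hX] at hmul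
      rcases (show (zpowers fQ).index = 1 ∨ (zpowers fQ).index = 2 by
        have := Nat.pos_of_ne_zero (zpowers fQ).index_ne_zero_of_finite
        omega) with h | h
      · rw [index_eq_one.1 h]; infer_instance
      · exact normal_of_index_eq_two h
    obtain ⟨i, hi⟩ := hXn.conj_mem fQ (mem_zpowers fQ) (π ⟨g, hg⟩)
    obtain ⟨n, hn⟩ : ∃ n : ℕ, fQ ^ n = fQ ^ i := by
      refine ⟨(i % 3).toNat, ?_⟩
      rw [← zpow_natCast, Int.toNat_of_nonneg (Int.emod_nonneg i (by norm_num)),
        zpow_eq_zpow_emod i (n := 3) (show fQ ^ (3 : ℤ) = 1 by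
          rw [show (3 : ℤ) = ((3 : ℕ) : ℤ) from rfl, zpow_natCast, ← hfQ3, pow_orderOf_eq_one])]
    have hi' : π (⟨g, hg⟩ * ⟨f, hfK⟩ * ⟨g, hg⟩⁻¹) = π (⟨f, hfK⟩ ^ n) := by
      rw [map_mul, map_mul, map_inv, map_pow, ← hfQ, hn]; exact hi.symm
    rw [hπ, QuotientGroup.mk'_apply, QuotientGroup.mk'_apply, eq_comm, QuotientGroup.eq, mem_subgroupOf] at hi'
    simp only [Subgroup.coe_mul, InvMemClass.coe_inv, SubmonoidClass.coe_pow] at hi'
    set z := (f ^ n)⁻¹ * (g * f * g⁻¹) with hz
    have he : g * f * g⁻¹ = f ^ n * z := by rw [hz]; group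
    have ho : orderOf (g * f * g⁻¹) = 3 :=
      (orderOf_injective (MulAut.conj g).toMonoidHom (MulEquiv.injective _) f).trans hf
    have hz1 : z = 1 := hfz z hi' n (by rw [← he, ho])
    rw [hz1, mul_one] at he
    rw [he, pow_eq_pow_mod n (show f ^ 3 = 1 by rw [← hf, pow_orderOf_eq_one])] at ho ⊢
    rcases (show n % 3 = 0 ∨ n % 3 = 1 ∨ n % 3 = 2 by omega) with h | h | h <;> rw [h] at ho ⊢
    · simp at ho
    · exact Or.inl (pow_one f)
    · exact Or.inr (eq_inv_of_mul_eq_one_left (by rw [← pow_succ, show 2 + 1 = orderOf f by omega, pow_orderOf_eq_one]))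
  · exfalso
    have hN1 : N = ⊥ := hcore N hN (by
      have hp : IsPGroup 2 N := fun x => ⟨1, Subtype.ext (by simpa using hN2 x x.2)⟩
      haveI : Fact (Nat.Prime 2) := ⟨Nat.prime_two⟩
      obtain ⟨m, hm⟩ := IsPGroup.iff_card.1 hp
      rw [hm]
      exact Nat.Coprime.pow_left m (by norm_num))
    subst hN1
    let e' := QuotientGroup.quotientBot.symm.trans e
    haveI : IsSimpleGroup (K ⧸ Z.subgroupOf K) := by
      haveI := alternatingGroup.isSimpleGroup (α := Fin 5) (by norm_num)
      haveI : Nontrivial (K ⧸ Z.subgroupOf K) := e'.toEquiv.nontrivial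
      exact IsSimpleGroup.isSimpleGroup_of_surjective e'.symm.toMonoidHom e'.symm.surjective
    have h60 : Nat.card (K ⧸ Z.subgroupOf K) = 60 := by
      rw [Nat.card_congr e'.toEquiv, nat_card_alternatingGroup, Nat.card_fin]; rfl
    haveI : Fact (Nat.Prime 2) := ⟨Nat.prime_two⟩
    have S : Sylow 2 K := default
    set T := S.mapSurjective (QuotientGroup.mk'_surjective (Z.subgroupOf K)) with hT
    have hTS : ((T : Subgroup (K ⧸ Z.subgroupOf K))).comap π = (S : Subgroup K) := by
      show ((S : Subgroup K).map π).comap π = _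
      rw [comap_map_eq, sup_eq_left, hπ, QuotientGroup.ker_mk']
      have hp : IsPGroup 2 (Z.subgroupOf K) := by
        rcases (Nat.dvd_prime Nat.prime_two).1 (hZcard ▸ hZ2) with h | h
        · exact IsPGroup.of_card (n := 0) (by rw [h, pow_zero])
        · exact IsPGroup.of_card (n := 1) (by rw [h, pow_one])
      exact (PLocal.Cores.le_pCore hp).trans (PLocal.Cores.pCore_le_sylow S)
    have hn : Nat.card (Sylow 2 K) = 5 := by
      rw [S.card_eq_index_normalizer]
      show (normalizer ((S : Subgroup K) : Set K)).index = 5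
      rw [← hTS, ← comap_normalizer_eq_of_surjective _ (QuotientGroup.mk'_surjective _),
        index_comap_of_surjective _ (QuotientGroup.mk'_surjective _)]
      show (normalizer (T : Set (K ⧸ Z.subgroupOf K))).index = 5
      rw [← T.card_eq_index_normalizer,
        sylow_two_five h60]
    have hd := hfix 2 (by norm_num) (by rw [hn]; norm_num) S
    have h1 := SelfThree.card_comap_mk (T : Subgroup (K ⧸ Z.subgroupOf K))
    rw [← hπ, hTS] at h1
    have h4 : Nat.card (T : Subgroup (K ⧸ Z.subgroupOf K)) = 4 := by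
      simpa using SmallSimple.Basic.card_sylow_eq_pow (p := 2) (a := 2) (m := 15) (by rw [h60]; norm_num) (by norm_num) T
    rw [h1, h4] at hd
    have := Nat.le_of_dvd (by norm_num) hd
    have := Nat.card_pos (α := Z.subgroupOf K)
    omega
  · exfalso
    haveI : Fact (Nat.Prime 7) := ⟨by norm_num⟩
    have h168 : Nat.card (K ⧸ Z.subgroupOf K) = 168 := by
      rw [Nat.card_congr e.toEquiv]
      have h : Nat.gcd 2 (Fintype.card (ZMod 7) - 1) *
          Nat.card (Matrix.ProjectiveSpecialLinearGroup (Fin 2) (ZMod 7)) =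
          Fintype.card (ZMod 7) * ((Fintype.card (ZMod 7) - 1) * (Fintype.card (ZMod 7) + 1)) :=
        PSLOrderSpectrum.card_psl_two
      rw [show Fintype.card (ZMod 7) = 7 from ZMod.card 7] at h
      norm_num [-Nat.card_eq_fintype_card] at h
      omega
    have hKc : Nat.card K = 168 * Nat.card Z := by
      rw [card_eq_card_quotient_mul_card_subgroup (Z.subgroupOf K), h168, hZcard]
    have S : Sylow 7 K := default
    have hZle := Nat.le_of_dvd (by norm_num) hZ2
    have hZpos := Nat.card_pos (α := Z)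
    obtain ⟨m, hm⟩ := IsPGroup.iff_card.1 S.2
    have hmul := (S : Subgroup K).card_mul_index
    have hnd := S.not_dvd_index
    have hm1 : m = 1 := by
      have hdvd : 7 ^ m ∣ 168 * Nat.card Z := by rw [← hKc, ← hm]; exact card_subgroup_dvd_card _
      rw [hKc, hm] at hmul
      have hm3 : m < 4 := by
        by_contra h
        have := Nat.pow_le_pow_right (show 1 ≤ 7 by norm_num) (le_of_not_gt h)
        have := Nat.le_of_dvd (by positivity) hdvd
        omega
      interval_cases hc : Nat.card Z <;> interval_cases m <;> omega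
    subst hm1
    have hn := Sylow.card_dvd_index S
    have hn1 := card_sylow_modEq_one 7 K
    rw [hKc, hm] at hmul
    have hidx : (S : Subgroup K).index = 24 * Nat.card Z := by omega
    rw [hidx] at hn
    have hn3 : ¬ 3 ∣ Nat.card (Sylow 7 K) := by
      have hle := Nat.le_of_dvd (by positivity) hn
      unfold Nat.ModEq at hn1
      generalize Nat.card (Sylow 7 K) = n at hn hn1 hle ⊢
      interval_cases hc : Nat.card Z <;> interval_cases n <;> omega
    have hd := hfix 7 (by norm_num) hn3 S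
    rw [hm] at hd
    norm_num at hd

end Cfsg.Agent.NineSym
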