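import Cfsg.Agent.Lib.NineSym.Facts
import Cfsg.Agent.Lib.NineSym.Small
import Cfsg.Agent.Lib.NineSym.Inverted

/-!
# Centralizers of subgroups of the elementary abelian group
-/

set_option autoImplicit false
set_option linter.style.haveILetI false
set_option linter.unusedSectionVars false
set_option maxRecDepth 100000
set_option synthInstance.maxSize 10000

namespace Cfsg.Agent.NineSym

open Subgroup

/-- The number of fixed vectors. -/
def fixCard (w : Wt) : ℕ := (Finset.univ.filter fun v : V3 => wact w v = v).card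

theorem reflection_table :
    (∀ w : Wt, 9 ≤ fixCard w → w ≠ 1 → fixCard w = 9 ∧ w * w = 1 ∧ ∃ f : V3, f ≠ 0 ∧ wact w f = -f ∧
      ∀ v, v + -wact w v = 0 ∨ v + -wact w v = f ∨ v + -wact w v = -f) ∧
    (∀ w u : Wt, 9 ≤ fixCard w → 9 ≤ fixCard u → w ≠ 1 → u ≠ 1 →
      9 ≤ ((Finset.univ.filter fun v : V3 => wact w v = v ∧ wact u v = v).card) → w = u) := by
  decide +kernel

theorem wact_sub (w : Wt) (u v : V3) : wact w (u + -v) = wact w u + -wact w v := by
  have h : wact w (-v) = -wact w v := by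
    refine eq_neg_of_add_eq_zero_left ?_
    rw [← wact_add, neg_add_cancel]
    exact (by decide +kernel : ∀ w, wact w 0 = 0) w
  rw [wact_add, h]

/-- Two independent vectors. -/
def Indep (u v : V3) : Prop := ∀ a b : ZMod 3,
  (a * u.1 + b * v.1, a * u.2.1 + b * v.2.1, a * u.2.2 + b * v.2.2) = (0 : V3) → a = 0 ∧ b = 0

instance (u v : V3) : Decidable (Indep u v) := inferInstanceAs (Decidable (∀ _ _, _))

/-- The combination. -/
def comb2 (u v : V3) (q : ZMod 3 × ZMod 3) : V3 :=
  (q.1 * u.1 + q.2 * v.1, q.1 * u.2.1 + q.2 * v.2.1, q.1 * u.2.2 + q.2 * v.2.2)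

theorem comb2_eq : ∀ (u v : V3) (q : ZMod 3 × ZMod 3), comb2 u v q = q.1.val • u + q.2.val • v := by
  decide +kernel

theorem neg_eq_self : ∀ f : V3, -f = f → f = 0 := by decide +kernel

theorem fix_card_of_indep {u v : V3} (h : Indep u v) {P : V3 → Prop} [DecidablePred P]
    (hP : ∀ q, P (comb2 u v q)) : 9 ≤ (Finset.univ.filter P).card := by
  have hinj : Function.Injective (comb2 u v) := by
    intro p q e
    have h0 : comb2 u v (p - q) = 0 := by
      obtain ⟨a, b⟩ := p
      obtain ⟨c, d⟩ := q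
      simp only [comb2, Prod.mk.injEq] at e
      simp only [comb2, Prod.mk_sub_mk]
      refine Prod.ext ?_ (Prod.ext ?_ ?_)
      · show (a - c) * u.1 + (b - d) * v.1 = 0
        linear_combination e.1
      · show (a - c) * u.2.1 + (b - d) * v.2.1 = 0
        linear_combination e.2.1
      · show (a - c) * u.2.2 + (b - d) * v.2.2 = 0
        linear_combination e.2.2
    obtain ⟨e1, e2⟩ := h _ _ h0
    exact Prod.ext (sub_eq_zero.1 e1) (sub_eq_zero.1 e2)
  have := Finset.card_le_card (s := Finset.univ.image (comb2 u v)) (t := Finset.univ.filter P) (fun x hx => by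
    obtain ⟨q, -, rfl⟩ := Finset.mem_image.1 hx
    exact Finset.mem_filter.2 ⟨Finset.mem_univ _, hP q⟩)
  rwa [Finset.card_image_of_injective _ hinj, Finset.card_univ] at this

variable {G : Type*} [Group G] [Finite G] {J : Subgroup G} {ci cd : Bool} {φ : Mn → G}

namespace Frame

variable (D : Frame J ci cd φ)
include D

theorem fix_of_comm {p : Mn} (hp : InL ci cd p) {v : V3} (h : φ p * φ (jM v) = φ (jM v) * φ p) :
    wact p.w v = v := D.jinj (by rw [← D.act' hp, h, mul_inv_cancel_right])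

theorem mem_of_w {p : Mn} (h : p.w = 1) : φ p ∈ J := by
  obtain ⟨v, w⟩ := p
  simp only at h
  subst h
  exact D.memj v

theorem sylow_at {C : Subgroup G} (hJC : J ≤ C)
    (h : ∀ p, InL ci cd p → φ p ∈ C → p.w * p.w = 1) : SylowAt C J := by
  refine .of_normalizer hJC D.J_isP fun g hg hgn ⟨k, hk⟩ => ?_
  obtain ⟨p, hp, rfl⟩ := D.norm g hgn
  have hk' : p ^ 3 ^ k = 1 := by
    have hpow : ∀ n : ℕ, InL ci cd (p ^ n) ∧ φ (p ^ n) = φ p ^ n := by
      intro n
      induction n with
      | zero => exact ⟨by rw [pow_zero]; exact (inL_facts ci cd).1, by rw [pow_zero, pow_zero, D.one]⟩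
      | succ n ih =>
        exact ⟨by rw [pow_succ]; exact (inL_facts ci cd).2.2.1 _ _ ih.1 hp,
          by rw [pow_succ, pow_succ, D.hom _ _ ih.1 hp, ih.2]⟩
    exact D.eq_one (hpow _).1 ((hpow _).2.trans hk)
  have hw : ∀ n : ℕ, (p ^ (2 * n)).w = 1 ∧ (p ^ (2 * n + 1)).w = p.w := by
    intro n
    induction n with
    | zero => exact ⟨by rw [Nat.mul_zero, pow_zero]; rfl, by rw [Nat.mul_zero, pow_one]⟩
    | succ n ih =>
      have h1 : (p ^ (2 * (n + 1))).w = 1 := by
        rw [show 2 * (n + 1) = 2 * n + 1 + 1 by ring, pow_succ]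
        show (p ^ (2 * n + 1)).w * p.w = 1
        rw [ih.2, h p hp hg]
      refine ⟨h1, ?_⟩
      rw [pow_succ]
      show (p ^ (2 * (n + 1))).w * p.w = p.w
      rw [h1, (by decide +kernel : ∀ w : Wt, 1 * w = w) p.w]
  obtain ⟨n, hn⟩ : Odd (3 ^ k) := Odd.pow ⟨1, rfl⟩
  have := (hw n).2
  rw [← hn, hk'] at this
  exact D.mem_of_w this.symm

theorem J_sup {C K : Subgroup G} (hdec : ∀ g ∈ C, ∃ k ∈ K, ∃ s ∈ J, g = k * s) (hK : K ≤ normalizer (J : Set G)) :
    C ≤ normalizer (J : Set G) := fun g hg => by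
  obtain ⟨k, hk, s, hs, rfl⟩ := hdec g hg
  exact mul_mem (hK hk) (le_normalizer hs)

/-- At most one reflection normalizing `J` in `C`, whose axis has centralizer in `N(J)`. -/
theorem cent_refl {C : Subgroup G} (hJC : J ≤ C)
    (hone : ∀ p q, InL ci cd p → InL ci cd q → φ p ∈ C → φ q ∈ C → p.w ≠ 1 → q.w ≠ 1 → p.w = q.w)
    (hfix : ∀ p, InL ci cd p → φ p ∈ C → 9 ≤ fixCard p.w)
    (hcf : ∀ p, InL ci cd p → φ p ∈ C → p.w ≠ 1 → ∀ f, f ≠ 0 → wact p.w f = -f →
      ∀ g ∈ C, g * φ (jM f) = φ (jM f) * g → g ∈ normalizer (J : Set G)) :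
    C ≤ normalizer (J : Set G) := by
  classical
  haveI : Fact (Nat.Prime 3) := ⟨Nat.prime_three⟩
  have hsq : ∀ p, InL ci cd p → φ p ∈ C → p.w * p.w = 1 := fun p hp hpC => by
    rcases eq_or_ne p.w 1 with e | e
    · rw [e]; rfl
    · exact (reflection_table.1 p.w (hfix p hp hpC) e).2.1
  have hS := D.sylow_at hJC hsq
  -- the axis
  obtain ⟨f, hf, hf0⟩ : ∃ f : V3, (∀ p, InL ci cd p → φ p ∈ C → p.w ≠ 1 → f ≠ 0 ∧ wact p.w f = -f ∧
      ∀ v, v + -wact p.w v = 0 ∨ v + -wact p.w v = f ∨ v + -wact p.w v = -f) ∧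
      (f ≠ 0 → ∃ p, InL ci cd p ∧ φ p ∈ C ∧ p.w ≠ 1) := by
    by_cases h : ∃ p, InL ci cd p ∧ φ p ∈ C ∧ p.w ≠ 1
    · obtain ⟨p, hp, hpC, hp1⟩ := h
      obtain ⟨-, -, f, h0, h1, h2⟩ := reflection_table.1 p.w (hfix p hp hpC) hp1
      exact ⟨f, fun q hq hqC hq1 => by rw [← hone p q hp hq hpC hqC hp1 hq1]; exact ⟨h0, h1, h2⟩,
        fun _ => ⟨p, hp, hpC, hp1⟩⟩
    · exact ⟨0, fun p hp hpC hp1 => absurd ⟨p, hp, hpC, hp1⟩ h, fun e => absurd rfl e⟩
  set F := zpowers (φ (jM f)) with hF
  obtain ⟨K, hKC, hCK, hKF, hcomK, hdec, -, hKS⟩ := hS.split (F := F) (fun x hx y hy => D.J_comm hx hy) (by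
    intro n hnC hn j hj
    obtain ⟨p, hp, rfl⟩ := D.norm n hn
    obtain ⟨v, rfl⟩ := (D.memJ j).1 hj
    have e : φ (jM v) * φ p * (φ (jM v))⁻¹ * (φ p)⁻¹ = φ (jM (v + -wact p.w v)) := by
      rw [show φ (jM v) * φ p * (φ (jM v))⁻¹ * (φ p)⁻¹ = φ (jM v) * (φ p * φ (jM v) * (φ p)⁻¹)⁻¹ by group,
        D.act' hp, ← D.inv' ((inL_facts ci cd).2.1 _)]
      rw [D.jadd]
      congr 1
    rw [e]
    rcases eq_or_ne p.w 1 with h | h
    · rw [h, wact_one, add_neg_cancel, D.jzero]; exact one_mem _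
    rcases (hf p hp hnC h).2.2 v with h' | h' | h' <;> rw [h']
    · rw [D.jzero]; exact one_mem _
    · exact mem_zpowers _
    · have : φ (jM (-f)) = (φ (jM f))⁻¹ := eq_inv_of_mul_eq_one_left (by rw [← D.jadd, neg_add_cancel, D.jzero])
      rw [this]; exact inv_mem (mem_zpowers _))
  have hJK : J ≤ normalizer (K : Set G) := hJC.trans hCK
  by_cases hfK : φ (jM f) ∈ K ∧ φ (jM f) ≠ 1
  · obtain ⟨hfK, hf1⟩ := hfK
    have hof : orderOf (φ (jM f)) = 3 := orderOf_eq_prime (D.jcube f) hf1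
    obtain ⟨p, hp, hpC, hp1⟩ := hf0 fun e => hf1 (by rw [e, D.jzero])
    obtain ⟨h0, h1, -⟩ := hf p hp hpC hp1
    have hCf : ∀ g ∈ C, g * φ (jM f) = φ (jM f) * g → g ∈ J := by
      intro g hg hgf
      obtain ⟨q, hq, rfl⟩ := D.norm g (hcf p hp hpC hp1 f h0 h1 g hg hgf)
      by_contra hgJ
      have hq1 : q.w ≠ 1 := fun e => hgJ (D.mem_of_w e)
      obtain ⟨h0', h1', -⟩ := hf q hq hg hq1
      have := D.fix_of_comm hq hgf
      rw [h1'] at this
      exact h0' (neg_eq_self f this)
    have hsmall := self_three_small K ⊥ J (φ (jM f)) hfK hof bot_le (by simp)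
      (fun z hz k _ => by rw [mem_bot.1 hz, one_mul, mul_one])
      (fun g hg hgf => by
        obtain ⟨k, hk⟩ := (mem_zpowers_iff.1 (hKF (mem_inf.2 ⟨hg, hCf g (hKC hg) hgf⟩)))
        refine ⟨(k % 3).toNat, 1, one_mem _, ?_⟩
        rw [mul_one, ← zpow_natCast, Int.toNat_of_nonneg (Int.emod_nonneg k (by norm_num)), ← hk]
        exact zpow_eq_zpow_emod k (by exact_mod_cast D.jcube f))
      D.J_isP hJK (fun R _ hR hJR => (D.sig R hR hJR).le)
    intro g hg
    obtain ⟨k, hk, s, hs, rfl⟩ := hdec g hg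
    refine mem_normalizer_iff_map_conj_eq.2 (eq_of_le_of_card_ge ?_ (by
      rw [card_map_of_injective (MulEquiv.injective _)]))
    rintro _ ⟨j, hj, rfl⟩
    show k * s * j * (k * s)⁻¹ ∈ J
    have e : k * s * j * (k * s)⁻¹ = k * j * k⁻¹ := by
      rw [show k * s * j * (k * s)⁻¹ = k * (s * j * s⁻¹) * k⁻¹ by group, D.J_comm hs hj, mul_inv_cancel_right]
    rw [e]
    refine hCf _ (mul_mem (mul_mem (hKC hk) (hJC hj)) (inv_mem (hKC hk))) ?_
    have hc : ∀ u, u * j = j * u → k * j * k⁻¹ * (k * u * k⁻¹) = k * u * k⁻¹ * (k * j * k⁻¹) := fun u hu => by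
      rw [show k * j * k⁻¹ * (k * u * k⁻¹) = k * (j * u) * k⁻¹ by group, ← hu]; group
    rcases hsmall k hk with e' | e'
    · have := hc _ (D.J_comm (D.memj f) hj)
      rwa [e'] at this
    · have := hc _ (D.J_comm (D.memj f) hj)
      rw [e'] at this
      have hc' : Commute (k * j * k⁻¹) (φ (jM f))⁻¹ := this
      exact (Commute.inv_right_iff.1 hc').eq
  · have hK1 : K = ⊥ := by
      have hbot : K ⊓ J = ⊥ := by
        rw [eq_bot_iff]
        intro y hy
        obtain ⟨k, hk⟩ := mem_zpowers_iff.1 (hKF hy)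
        rw [zpow_eq_zpow_emod k (n := 3) (by exact_mod_cast D.jcube f)] at hk
        have hh := Int.emod_nonneg k (show (3 : ℤ) ≠ 0 by norm_num)
        have hh' := Int.emod_lt_of_pos k (show (0 : ℤ) < 3 by norm_num)
        rcases (show k % 3 = 0 ∨ k % 3 = 1 ∨ k % 3 = 2 by omega) with e | e | e <;> rw [e] at hk
        · rw [zpow_zero] at hk; exact mem_bot.2 hk.symm
        · rw [zpow_one] at hk
          refine mem_bot.2 (hk ▸ by_contra fun hne => hfK ⟨hk ▸ (mem_inf.1 hy).1, hne⟩)
        · refine mem_bot.2 (by_contra fun hne => hfK ⟨?_, fun e1 => hne (by rw [← hk, e1, one_zpow])⟩)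
          have h4 : φ (jM f) = y ^ 2 := by
            rw [← hk, zpow_two, pow_two]
            calc φ (jM f) = φ (jM f) * φ (jM f) ^ 3 := by rw [D.jcube, mul_one]
              _ = φ (jM f) ^ 4 := (pow_succ' _ 3).symm
              _ = _ := by simp only [pow_succ, pow_zero, one_mul, mul_assoc]
          rw [h4]; exact pow_mem (mem_inf.1 hy).1 2
      refine D.sig K (Nat.Coprime.symm (Nat.prime_three.coprime_iff_not_dvd.2 fun hd => ?_)) hJK
      obtain ⟨⟨y, hy⟩, hyo⟩ := exists_prime_orderOf_dvd_card' (G := K) 3 hd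
      rw [orderOf_mk] at hyo
      have hp : IsPGroup 3 (zpowers y) := IsPGroup.of_card (n := 1) (by rw [Nat.card_zpowers, hyo, pow_one])
      have := hKS.maximal (zpowers y) (zpowers_le.2 hy) hp (by rw [hbot]; exact bot_le)
      rw [hbot, zpowers_eq_bot] at this
      rw [this, orderOf_one] at hyo
      norm_num at hyo
    exact D.J_sup hdec (hK1 ▸ bot_le)

theorem cent_pair {u v : V3} (huv : Indep u v) :
    centralizer ({φ (jM u), φ (jM v)} : Set G) ≤ normalizer (J : Set G) := by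
  have hfix : ∀ p, InL ci cd p → φ p ∈ centralizer ({φ (jM u), φ (jM v)} : Set G) →
      ∀ q, wact p.w (comb2 u v q) = comb2 u v q := by
    intro p hp hpC q
    have hu := D.fix_of_comm hp ((mem_centralizer_iff.1 hpC) _ (Set.mem_insert _ _)).symm
    have hv := D.fix_of_comm hp ((mem_centralizer_iff.1 hpC) _ (Set.mem_insert_of_mem _ rfl)).symm
    let F : V3 →+ V3 := AddMonoidHom.mk' (wact p.w) (wact_add p.w)
    show F (comb2 u v q) = comb2 u v q
    rw [comb2_eq, map_add, map_nsmul, map_nsmul]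
    show q.1.val • wact p.w u + q.2.val • wact p.w v = _
    rw [hu, hv]
  refine D.cent_refl (fun j hj => mem_centralizer_iff.2 ?_) (fun p q hp hq hpC hqC hp1 hq1 => ?_)
    (fun p hp hpC => fix_card_of_indep (P := fun x => wact p.w x = x) huv (hfix p hp hpC)) fun p hp hpC hp1 f hf0 hf g hg hgf => ?_
  · rintro y (rfl | rfl) <;> exact D.J_comm (D.memj _) hj
  · exact reflection_table.2 p.w q.w (fix_card_of_indep (P := fun x => wact p.w x = x) huv (hfix p hp hpC))
      (fix_card_of_indep (P := fun x => wact q.w x = x) huv (hfix q hq hqC))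
      hp1 hq1 (fix_card_of_indep (P := fun x => wact p.w x = x ∧ wact q.w x = x) huv fun r => ⟨hfix p hp hpC r, hfix q hq hqC r⟩)
  · refine le_normalizer (D.cJ fun j hj => ?_)
    obtain ⟨z, rfl⟩ := (D.memJ j).1 hj
    have hc : 9 ≤ fixCard p.w := fix_card_of_indep (P := fun x => wact p.w x = x) huv (hfix p hp hpC)
    obtain ⟨h9, -, f', -, -, -⟩ := reflection_table.1 p.w hc hp1
    have hcent : ∀ r, wact p.w r = r → Commute g (φ (jM r)) := by
      intro r hr
      have hall : ∃ q, comb2 u v q = r := by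
        by_contra hno
        push Not at hno
        have hinj : 9 + 1 ≤ fixCard p.w := by
          have h1 : 9 ≤ (Finset.univ.filter fun x : V3 => wact p.w x = x ∧ x ≠ r).card :=
            fix_card_of_indep huv fun q => ⟨hfix p hp hpC q, hno q⟩
          have h2 := Finset.card_lt_card (s := Finset.univ.filter fun x : V3 => wact p.w x = x ∧ x ≠ r)
            (t := Finset.univ.filter fun x : V3 => wact p.w x = x) ((Finset.ssubset_iff_of_subset (fun x hx => by
              simp only [Finset.mem_filter] at hx ⊢; exact ⟨hx.1, hx.2.1⟩)).2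
              ⟨r, by simp [hr], by simp⟩)
          show 10 ≤ (Finset.univ.filter fun x : V3 => wact p.w x = x).card
          omega
        omega
      obtain ⟨q, rfl⟩ := hall
      have hgu : Commute g (φ (jM u)) := (mem_centralizer_iff.1 hg _ (Set.mem_insert _ _)).symm
      have hgv : Commute g (φ (jM v)) := (mem_centralizer_iff.1 hg _ (Set.mem_insert_of_mem _ rfl)).symm
      have hn : ∀ (n : ℕ) (x : V3), φ (jM (n • x)) = φ (jM x) ^ n := fun n x => by
        induction n with
        | zero => rw [zero_smul, pow_zero, D.jzero]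
        | succ n ih => rw [succ_nsmul, D.jadd, ih, pow_succ]
      rw [comb2_eq, D.jadd, hn, hn]
      exact (hgu.pow_right _).mul_right (hgv.pow_right _)
    have hinvol : ∀ r, wact p.w (wact p.w r) = r := fun r => by
      rw [← wact_mul, (reflection_table.1 p.w hc hp1).2.1, wact_one]
    obtain ⟨-, -, f0, hf0', hf1', hf2'⟩ := reflection_table.1 p.w hc hp1
    have hff : f = f0 ∨ f = -f0 := by
      rcases hf2' f with e | e | e <;> rw [hf, neg_neg] at e
      · exact absurd ((by decide +kernel : ∀ f : V3, f + f = 0 → f = 0) f e) hf0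
      · exact Or.inr ((by decide +kernel : ∀ f g : V3, f + f = g → f = -g) _ _ e)
      · exact Or.inl ((by decide +kernel : ∀ f g : V3, f + f = -g → f = g) _ _ e)
    have hgf0 : Commute g (φ (jM f0)) := by
      have hgf' : Commute g (φ (jM f)) := hgf
      rcases hff with e | e
      · rwa [e] at hgf'
      · rw [show f0 = f + f by rw [e]; exact (by decide +kernel : ∀ g : V3, g = -g + -g) f0, D.jadd]
        exact hgf'.mul_right hgf'
    have hsplit : ∀ z w : V3, z = -(z + w) + -(z + -w) := by decide +kernel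
    have h1 : Commute g (φ (jM (-(z + wact p.w z)))) := hcent _ (by
      have hneg : ∀ x, wact p.w (-x) = -wact p.w x := fun x => by
        have := wact_sub p.w 0 x
        simpa [(by decide +kernel : ∀ w, wact w 0 = 0) p.w] using this
      rw [hneg, wact_add, hinvol, add_comm])
    have h2 : Commute g (φ (jM (-(z + -wact p.w z)))) := by
      rcases hf2' z with e | e | e <;> rw [e]
      · rw [neg_zero, D.jzero]; exact Commute.one_right _
      · rw [(by decide +kernel : ∀ f : V3, -f = f + f) f0, D.jadd]; exact hgf0.mul_right hgf0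
      · rw [neg_neg]; exact hgf0
    rw [hsplit z (wact p.w z), D.jadd]
    exact (h1.mul_right h2).eq

end Frame

end Cfsg.Agent.NineSym
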