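import Cfsg.Agent.Lib.NineSym.Cent
import Cfsg.Agent.Lib.SelfNine.Klein

/-!
# Centralizers of single elements of the elementary abelian group
-/

set_option autoImplicit false
set_option linter.style.haveILetI false
set_option linter.unusedSectionVars false
set_option maxRecDepth 100000
set_option synthInstance.maxSize 10000

namespace Cfsg.Agent.NineSym

open Subgroup

/-- At most one signed permutation fixes `u`, and it is a reflection. -/
def Simple (ci cd : Bool) (u : V3) : Prop :=
  u ≠ 0 ∧ ∀ w w' : Wt, Wok ci cd w → Wok ci cd w' → wact w u = u → wact w' u = u → w ≠ 1 → w' ≠ 1 →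
    w = w' ∧ 9 ≤ fixCard w

instance (ci cd : Bool) (u : V3) : Decidable (Simple ci cd u) := inferInstanceAs (Decidable (_ ∧ _))

theorem smul_facts : ∀ (a : ZMod 3) (u : V3), (a * u.1, a * u.2.1, a * u.2.2) = (0 : V3) → u ≠ 0 → a = 0 := by
  decide +kernel

theorem indep_of_refl {w : Wt} {u f : V3} (hu : u ≠ 0) (hf : f ≠ 0) (hwu : wact w u = u) (hwf : wact w f = -f) :
    Indep u f := by
  intro a b h
  let F : V3 →+ V3 := AddMonoidHom.mk' (wact w) (wact_add w)
  have h0 : comb2 u f (a, b) = 0 := h
  have h1 : a.val • u + b.val • f = 0 := (comb2_eq u f (a, b)).symm.trans h0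
  have h2 : a.val • u + -(b.val • f) = 0 := by
    have := congrArg F h1
    rw [map_add, map_nsmul, map_nsmul, map_zero] at this
    change a.val • wact w u + b.val • wact w f = 0 at this
    rwa [hwu, hwf, smul_neg] at this
  have hb : b.val • f = 0 := by
    refine neg_eq_self _ (neg_eq_of_add_eq_zero_left ?_)
    have h3 := congrArg₂ (fun x y : V3 => x - y) h1 h2
    simp only [sub_zero] at h3
    rw [add_sub_add_left_eq_sub, sub_neg_eq_add] at h3
    exact h3
  have ha : a.val • u = 0 := by rwa [hb, add_zero] at h1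
  refine ⟨smul_facts a u ?_ hu, smul_facts b f ?_ hf⟩
  · rw [← ha]; simp [ZMod.natCast_val, Prod.ext_iff]
  · rw [← hb]; simp [ZMod.natCast_val, Prod.ext_iff]

theorem signs_inj : ∀ a b a' b' : Bool,
    ((if a then -(1 : ZMod 3) else 1), (if b then -(1 : ZMod 3) else 1)) =
      ((if a' then -(1 : ZMod 3) else 1), (if b' then -(1 : ZMod 3) else 1)) → a = a' ∧ b = b' := by
  decide +kernel

theorem klein_normal {X : Type*} [Group X] [Finite X] {P : Sylow 3 X} {e1 e2 r s : X}
    (D : SelfNine.KleinData P e1 e2 r s) : (P : Subgroup X).Normal := by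
  classical
  haveI : Fact (Nat.Prime 3) := ⟨Nat.prime_three⟩
  set N := normalizer ((P : Subgroup X) : Set X)
  have hmem : ∀ k, (k = 1 ∨ k = r ∨ k = s ∨ k = r * s) → k ∈ N := by
    have hr : r ∈ N := by
      refine mem_normalizer_iff_map_conj_eq.2 (eq_of_le_of_card_ge ?_ (by
        rw [card_map_of_injective (MulEquiv.injective _)]))
      rintro _ ⟨a, ha, rfl⟩
      obtain ⟨q, rfl⟩ := D.coord_surj ha
      show r * SelfNine.coord e1 e2 q * r⁻¹ ∈ (P : Subgroup X)
      rw [inv_eq_of_mul_eq_one_left D.r2, D.conj_r]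
      exact D.coord_mem _
    have hs : s ∈ N := by
      refine mem_normalizer_iff_map_conj_eq.2 (eq_of_le_of_card_ge ?_ (by
        rw [card_map_of_injective (MulEquiv.injective _)]))
      rintro _ ⟨a, ha, rfl⟩
      obtain ⟨q, rfl⟩ := D.coord_surj ha
      show s * SelfNine.coord e1 e2 q * s⁻¹ ∈ (P : Subgroup X)
      rw [inv_eq_of_mul_eq_one_left D.s2, D.conj_s]
      exact D.coord_mem _
    rintro k (rfl | rfl | rfl | rfl)
    exacts [one_mem _, hr, hs, mul_mem hr hs]
  have hN : Nat.card N = 36 := by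
    let f : Bool × Bool × (P : Subgroup X) → N := fun q =>
      ⟨(if q.1 then r else 1) * (if q.2.1 then s else 1) * q.2.2, mul_mem (mul_mem
        (by split_ifs; exacts [hmem r (by simp), one_mem _])
        (by split_ifs; exacts [hmem s (by simp), one_mem _])) (le_normalizer q.2.2.2)⟩
    have hbij : Function.Bijective f := by
      constructor
      · rintro ⟨a, b, p⟩ ⟨a', b', p'⟩ e
        have e' := congrArg Subtype.val e
        simp only [f] at e'
        -- compare the actions on the two generators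
        have act : ∀ (a b : Bool) (q : (P : Subgroup X)) (c : ZMod 3 × ZMod 3),
            (if a then r else 1) * (if b then s else 1) * (q : X) * SelfNine.coord e1 e2 c *
              ((if a then r else 1) * (if b then s else 1) * (q : X))⁻¹ =
            SelfNine.coord e1 e2 ((if b then -c.1 else c.1), (if a then -c.2 else c.2)) := by
          intro a b q c
          rw [show (if a then r else 1) * (if b then s else 1) * (q : X) * SelfNine.coord e1 e2 c *
              ((if a then r else 1) * (if b then s else 1) * (q : X))⁻¹ =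
            (if a then r else 1) * ((if b then s else 1) * ((q : X) * SelfNine.coord e1 e2 c * (q : X)⁻¹) *
              (if b then s else 1)⁻¹) * (if a then r else 1)⁻¹ by group,
            D.ti.comm _ q.2 _ (D.coord_mem c), mul_inv_cancel_right]
          cases a <;> cases b <;>
            simp [inv_eq_of_mul_eq_one_left D.r2, inv_eq_of_mul_eq_one_left D.s2, D.conj_r, D.conj_s]
        have h := act a b p (1, 1)
        rw [e', act a' b' p' (1, 1)] at h
        have hc := D.coord_inj h
        obtain ⟨ha, hb⟩ : a = a' ∧ b = b' := by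
          obtain ⟨e1', e2'⟩ := signs_inj b' a' b a hc
          exact ⟨e2'.symm, e1'.symm⟩
        subst ha; subst hb
        exact Prod.ext rfl (Prod.ext rfl (Subtype.ext (mul_left_cancel e')))
      · intro g
        obtain ⟨k, hk, p, hp, e⟩ := D.nor g g.2
        rcases hk with rfl | rfl | rfl | rfl
        · exact ⟨(false, false, ⟨p, hp⟩), Subtype.ext (by simp [f, e])⟩
        · exact ⟨(true, false, ⟨p, hp⟩), Subtype.ext (by simp [f, e])⟩
        · exact ⟨(false, true, ⟨p, hp⟩), Subtype.ext (by simp [f, e])⟩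
        · exact ⟨(true, true, ⟨p, hp⟩), Subtype.ext (by simp [f, e])⟩
    rw [← Nat.card_eq_of_bijective f hbij, Nat.card_prod, Nat.card_prod, D.ti.card]
    simp
  have hle := D.card_le
  have hmul := N.card_mul_index
  have hmod : N.index ≡ 1 [MOD 3] := by
    show (normalizer (P : Set X)).index ≡ 1 [MOD 3]
    rw [← P.card_eq_index_normalizer]; exact card_sylow_modEq_one 3 X
  rw [hN] at hmul
  have h1 : N.index = 1 := by
    have h0 := Nat.pos_of_ne_zero N.index_ne_zero_of_finite
    unfold Nat.ModEq at hmod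
    omega
  exact normalizer_eq_top_iff.1 (index_eq_one.1 h1)

variable {G : Type*} [Group G] [Finite G] {J : Subgroup G} {ci cd : Bool} {φ : Mn → G}

namespace Frame

variable (D : Frame J ci cd φ)
include D

theorem J_le_cent (u : V3) : J ≤ centralizer ({φ (jM u)} : Set G) := fun _ hj =>
  mem_centralizer_singleton_iff.2 (D.J_comm hj (D.memj u))

theorem cent_pair' {u v : V3} (huv : Indep u v) {g : G} (hu : g * φ (jM u) = φ (jM u) * g)
    (hv : g * φ (jM v) = φ (jM v) * g) : g ∈ normalizer (J : Set G) :=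
  D.cent_pair huv (mem_centralizer_iff.2 (by
    rintro y (rfl | rfl)
    exacts [hu.symm, hv.symm]))

theorem cent_simple {u : V3} (hu : Simple ci cd u) :
    centralizer ({φ (jM u)} : Set G) ≤ normalizer (J : Set G) := by
  have hfix : ∀ p, InL ci cd p → φ p ∈ centralizer ({φ (jM u)} : Set G) → wact p.w u = u :=
    fun p hp hpC => D.fix_of_comm hp (mem_centralizer_singleton_iff.1 hpC)
  refine D.cent_refl (D.J_le_cent u)
    (fun p q hp hq hpC hqC hp1 hq1 => (hu.2 p.w q.w hp hq (hfix p hp hpC) (hfix q hq hqC) hp1 hq1).1)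
    (fun p hp hpC => ?_) fun p hp hpC hp1 f hf0 hf g hg hgf => ?_
  · rcases eq_or_ne p.w 1 with e | e
    · rw [e]; decide +kernel
    · exact (hu.2 p.w p.w hp hp (hfix p hp hpC) (hfix p hp hpC) e e).2
  · exact D.cent_pair' (indep_of_refl hu.1 hf0 (hfix p hp hpC) hf) (mem_centralizer_singleton_iff.1 hg) hgf

/-- The elements of a plane. -/
def planeSet (_D : Frame J ci cd φ) (u v : V3) : Set G := {g | ∃ q, φ (jM (comb2 u v q)) = g}

theorem norm_pair {u v : V3} (huv : Indep u v) {g : G}
    (hg : ∀ q, g * φ (jM (comb2 u v q)) * g⁻¹ ∈ D.planeSet u v) : g ∈ normalizer (J : Set G) := by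
  choose f hf using hg
  have hinjc : Function.Injective (comb2 u v) := by
    intro p q e
    have h0 : comb2 u v (p - q) = 0 := by
      obtain ⟨a, b⟩ := p
      obtain ⟨c, d⟩ := q
      simp only [comb2, Prod.mk.injEq] at e
      simp only [comb2, Prod.mk_sub_mk]
      refine Prod.ext ?_ (Prod.ext ?_ ?_)
      · show (a - c) * u.1 + (b - d) * v.1 = 0
        linear_combination e.1
      · show (a - c) * u.2.1 + (b - d) * v.2.1 = 0
        linear_combination e.2.1
      · show (a - c) * u.2.2 + (b - d) * v.2.2 = 0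
        linear_combination e.2.2
    obtain ⟨e1, e2⟩ := huv _ _ h0
    exact Prod.ext (sub_eq_zero.1 e1) (sub_eq_zero.1 e2)
  have hfinj : Function.Injective f := fun p q e => by
    refine hinjc (D.jinj ?_)
    have h := hf p
    rw [e, hf q] at h
    exact (mul_left_cancel (mul_right_cancel h)).symm
  have hall : ∀ q, ∀ j ∈ J, g * j * g⁻¹ * φ (jM (comb2 u v q)) = φ (jM (comb2 u v q)) * (g * j * g⁻¹) := by
    intro q j hj
    obtain ⟨p, rfl⟩ := Finite.surjective_of_injective hfinj q
    rw [hf p, show g * j * g⁻¹ * (g * φ (jM (comb2 u v p)) * g⁻¹) = g * (j * φ (jM (comb2 u v p))) * g⁻¹ by group,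
      D.J_comm hj (D.memj _)]
    group
  refine mem_normalizer_iff_map_conj_eq.2 (eq_of_le_of_card_ge ?_ (by
    rw [card_map_of_injective (MulEquiv.injective _)]))
  rintro _ ⟨j, hj, rfl⟩
  show g * j * g⁻¹ ∈ J
  have eu : comb2 u v (1, 0) = u := by simp [comb2]
  have ev : comb2 u v (0, 1) = v := by simp [comb2]
  have hu := hall (1, 0) j hj
  have hv := hall (0, 1) j hj
  rw [eu] at hu
  rw [ev] at hv
  obtain ⟨p, hp, e⟩ := D.norm _ (D.cent_pair' huv hu hv)
  rw [← e] at hu hv ⊢
  have h3 : φ p ^ 3 = 1 := by rw [e, conj_pow, D.J_cube hj, mul_one, mul_inv_cancel]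
  have hp3 : p * p * p = 1 := D.eq_one ((inL_facts ci cd).2.2.1 _ _ ((inL_facts ci cd).2.2.1 _ _ hp hp) hp) (by
    rw [D.hom _ _ ((inL_facts ci cd).2.2.1 _ _ hp hp) hp, D.hom _ _ hp hp]
    rw [pow_succ, pow_two] at h3
    exact h3)
  have hfx : 9 ≤ fixCard p.w := fix_card_of_indep (P := fun x => wact p.w x = x) huv fun q => by
    let F : V3 →+ V3 := AddMonoidHom.mk' (wact p.w) (wact_add p.w)
    show F (comb2 u v q) = comb2 u v q
    rw [comb2_eq, map_add, map_nsmul, map_nsmul]
    show q.1.val • wact p.w u + q.2.val • wact p.w v = _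
    rw [D.fix_of_comm hp hu, D.fix_of_comm hp hv]
  refine D.mem_of_w (by_contra fun hne => hne ?_)
  have hw : p.w * p.w * p.w = 1 := congrArg Mn.w hp3
  rwa [(reflection_table.1 p.w hfx hne).2.1, (by decide +kernel : ∀ w : Wt, 1 * w = w) p.w] at hw

end Frame

end Cfsg.Agent.NineSym
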