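import Cfsg.Agent.Lib.NineSym.Invol

/-!
# Centralizers of elements of order three and of elements of order two with a plane of fixed points
-/

set_option autoImplicit false
set_option linter.style.haveILetI false
set_option linter.unusedSectionVars false
set_option maxRecDepth 100000
set_option synthInstance.maxSize 10000

namespace Cfsg.Agent.NineSym

open Subgroup

theorem x_neg : ((2, 2, 2) : V3) = (1, 1, 1) + (1, 1, 1) ∧ ((1, 1, 1) : V3) = (2, 2, 2) + (2, 2, 2) := by
  decide +kernel

theorem wok_false : ∀ ci cd w, Wok false false w → Wok ci cd w := by decide +kernel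

/-- A vector whose centralizer lies in the normalizer by the hypotheses alone. -/
def Easy (ci cd : Bool) (v : V3) : Prop := v = (1, 1, 1) ∨ v = (2, 2, 2) ∨ Simple ci cd v

instance (ci cd : Bool) (v : V3) : Decidable (Easy ci cd v) := inferInstanceAs (Decidable (_ ∨ _ ∨ _))

variable {G : Type*} [Group G] [Finite G] {J : Subgroup G} {ci cd : Bool} {φ : Mn → G}

namespace Frame

variable (D : Frame J ci cd φ)
include D

theorem cent_x {g : G} (h : g * φ (jM (1, 1, 1)) = φ (jM (1, 1, 1)) * g) : g ∈ normalizer (J : Set G) := by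
  obtain ⟨p, hp, rfl⟩ := D.cent g h
  exact D.mem p (inL_mono hp)

theorem cent_easy {v : V3} (hv : Easy ci cd v) {g : G} (h : g * φ (jM v) = φ (jM v) * g) :
    g ∈ normalizer (J : Set G) := by
  rcases hv with rfl | rfl | hv
  · exact D.cent_x h
  · refine D.cent_x ?_
    rw [x_neg.2, D.jadd]
    exact ((show Commute g (φ (jM (2, 2, 2))) from h).mul_right h).eq
  · exact D.cent_simple hv (mem_centralizer_singleton_iff.2 h)

/-- A subgroup of `J` of order nine, given by two vectors. -/
theorem le_of_fixed_plane {u v : V3} (huv : Indep u v) {R M : Subgroup G} (hR : (Nat.card R).Coprime 3)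
    (hn : ∀ q, φ (jM (comb2 u v q)) ∈ normalizer (R : Set G))
    (h : ∀ q, q ≠ 0 → ∀ r ∈ R, r * φ (jM (comb2 u v q)) = φ (jM (comb2 u v q)) * r → r ∈ M) : R ≤ M := by
  have hadd : ∀ p q, comb2 u v (p + q) = comb2 u v p + comb2 u v q := fun p q => by
    obtain ⟨a, b⟩ := p; obtain ⟨c, d⟩ := q
    simp only [comb2, Prod.mk_add_mk, Prod.ext_iff]
    exact ⟨by ring, by ring, by ring⟩
  have hzero : comb2 u v 0 = 0 := by simp [comb2]
  let E : Subgroup G :=
    { carrier := Set.range fun q => φ (jM (comb2 u v q))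
      one_mem' := ⟨0, show φ (jM (comb2 u v 0)) = 1 by rw [hzero, D.jzero]⟩
      mul_mem' := by
        rintro _ _ ⟨p, rfl⟩ ⟨q, rfl⟩
        exact ⟨p + q, show φ (jM (comb2 u v (p + q))) = _ by rw [hadd, D.jadd]⟩
      inv_mem' := by
        rintro _ ⟨p, rfl⟩
        refine ⟨-p, eq_inv_of_mul_eq_one_left ?_⟩
        rw [← D.jadd, ← hadd, neg_add_cancel, hzero, D.jzero] }
  have hinj : Function.Injective fun q => φ (jM (comb2 u v q)) := fun p q e => by
    have h0 : comb2 u v (p + -q) = 0 := by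
      rw [hadd, D.jinj e, ← hadd, add_neg_cancel, hzero]
    obtain ⟨a, b⟩ := huv _ _ h0
    exact add_neg_eq_zero.1 (Prod.ext a b : p + -q = 0)
  have h9 : Nat.card E = 9 := by
    have := Nat.card_range_of_injective hinj
    simp at this
    exact this
  refine le_of_fixed (E := E) ?_ h9 ?_ ?_ hR ?_
  · rintro _ ⟨p, rfl⟩ _ ⟨q, rfl⟩; exact D.jcomm _ _
  · rintro _ ⟨p, rfl⟩; exact D.jcube _
  · rintro _ ⟨p, rfl⟩; exact hn p
  · rintro _ ⟨p, rfl⟩ hne r hr hc
    refine h p (fun e => hne ?_) r hr hc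
    show φ (jM (comb2 u v p)) = 1
    rw [e, hzero, D.jzero]

/-- An element of the normalizer with a plane of fixed points centralized by its whole centralizer
in the normalizer, and a transversal: the centralizer lies in the normalizer. -/
theorem cent_plane_trivial {p : Mn} (hp : InL ci cd p) {u v : V3} (huv : Indep u v)
    (hu : wact p.w u = u) (hv : wact p.w v = v)
    (hall : ∀ q, q ≠ 0 → Easy ci cd (comb2 u v q))
    (htab : ∀ w, Wok ci cd w → w * p.w = p.w * w → w ^ 3 = 1 → w ≠ 1 →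
      ∀ x : V3, x + wact w p.v ≠ p.v + wact p.w x)
    (hfix : ∀ w, Wok ci cd w → w * p.w = p.w * w → ∀ x, wact p.w x = x → wact w x = x) :
    centralizer ({φ p} : Set G) ≤ normalizer (J : Set G) := by
  have hS := D.sylow_plane hp huv hu hv htab
  obtain ⟨K, hKY, hYK, hKS, -, hdec, -, hKS'⟩ := hS.split (F := ⊥)
    (fun x hx y hy => D.J_comm (mem_inf.1 hx).1 (mem_inf.1 hy).1) (fun n hn hnn x hx => by
      obtain ⟨q, hq, rfl⟩ := D.norm n (D.norm_plane huv
        (mem_inf.1 ((mem_normalizer_iff.1 hnn _).1 ((D.mem_fix hp).2 ⟨u, rfl, hu⟩))).1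
        (mem_inf.1 ((mem_normalizer_iff.1 hnn _).1 ((D.mem_fix hp).2 ⟨v, rfl, hv⟩))).1)
      obtain ⟨y, rfl, hy⟩ := (D.mem_fix hp).1 hx
      have hw := hfix q.w hq (congrArg Mn.w (D.comm' hq hp (mem_centralizer_singleton_iff.1 hn))) y hy
      rw [mem_bot, ← (D.fix_iff hq y).2 hw]
      group)
  rw [le_bot_iff.1 hKS] at hKS'
  haveI : Fact (Nat.Prime 3) := ⟨Nat.prime_three⟩
  have hc : (Nat.card K).Coprime 3 := by
    refine Nat.Coprime.symm (Nat.prime_three.coprime_iff_not_dvd.2 fun hd => ?_)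
    obtain ⟨⟨y, hy⟩, hyo⟩ := exists_prime_orderOf_dvd_card' (G := K) 3 hd
    rw [orderOf_mk] at hyo
    have := hKS'.maximal (zpowers y) (zpowers_le.2 hy)
      (IsPGroup.of_card (n := 1) (by rw [Nat.card_zpowers, hyo, pow_one])) bot_le
    rw [zpowers_eq_bot] at this
    rw [this, orderOf_one] at hyo
    norm_num at hyo
  have hKN : K ≤ normalizer (J : Set G) := by
    refine D.le_of_fixed_plane huv hc (fun q => hYK ((D.mem_fix hp).2 ⟨_, rfl, ?_⟩).2) fun q hq r _ hr =>
      D.cent_easy (hall q hq) hr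
    let F : V3 →+ V3 := AddMonoidHom.mk' (wact p.w) (wact_add p.w)
    show F (comb2 u v q) = comb2 u v q
    rw [comb2_eq, map_add, map_nsmul, map_nsmul]
    show q.1.val • wact p.w u + q.2.val • wact p.w v = _
    rw [hu, hv]
  intro g hg
  obtain ⟨k, hk, s, hs, rfl⟩ := hdec g hg
  exact mul_mem (hKN hk) (le_normalizer (mem_inf.1 hs).1)

end Frame

end Cfsg.Agent.NineSym
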