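import Cfsg.Agent.Lib.SelfNine.KleinSearch

/-!
# The possible rows in the configuration with one large centralizer
-/

set_option autoImplicit false

namespace Cfsg.Agent.NineSym

open Cfsg.Agent.SelfNine

/-- The functional picking the row `(2, 2, -1)` or `(1, 1, -2)`. -/
def fatL1 (v : V5) : ℤ := v.z * (v.x * v.x + 3 * v.x * v.z - 2 * v.x * v.y - 2 * v.y * v.y)

/-- The functional picking the row `(2, -1, -1)`. -/
def fatL2 (v : V5) : ℤ := v.z * (v.y - v.x) * (v.y + 2 * v.x)

/-- The mirror image of `fatL2`. -/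
def fatL3 (v : V5) : ℤ := v.z * (v.y - v.x) * (v.x + 2 * v.y)

def fatIs (a b c : ℤ) (v : V5) : Bool := decide (v.x = a ∧ v.y = b ∧ v.z = c)

def fatGood (v : List V5) : Bool :=
  decide (v.countP (fun r => fatL2 r != 0) = 0) || decide (v.countP (fun r => fatL3 r != 0) = 0) ||
    decide (v.countP (fun r => fatL1 r != 0) = 1 ∧ v.countP (fatIs 2 2 (-1)) = 1) ||
    decide (v.countP (fun r => fatL1 r != 0) = 1 ∧ v.countP (fatIs 1 1 (-2)) = 1 ∧
      v.countP (fun r => fatL2 r != 0) = 1 ∧ v.countP (fatIs 2 (-1) (-1)) = 1)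

theorem fatSearch_eq : search fatGood 60 kleinCands kleinGram [] = true := by
  decide +kernel

/-- Every solution has one of four shapes. -/
theorem fat_rows {rows : List V5} (h : ∀ r ∈ rows, r ∈ kleinCands) (ht : total rows = kleinGram) :
    rows.countP (fun r => fatL2 r != 0) = 0 ∨ rows.countP (fun r => fatL3 r != 0) = 0 ∨
      (rows.countP (fun r => fatL1 r != 0) = 1 ∧ rows.countP (fatIs 2 2 (-1)) = 1) ∨
      (rows.countP (fun r => fatL1 r != 0) = 1 ∧ rows.countP (fatIs 1 1 (-2)) = 1 ∧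
        rows.countP (fun r => fatL2 r != 0) = 1 ∧ rows.countP (fatIs 2 (-1) (-1)) = 1) := by
  obtain ⟨l, hl, hfin⟩ := search_sound fatGood 60 kleinCands kleinGram [] rows h ht fatSearch_eq
  rw [List.append_nil] at hl
  simp only [fatGood, Bool.or_eq_true, decide_eq_true_eq, hl.countP_eq] at hfin
  tauto

end Cfsg.Agent.NineSym
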