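import Cfsg.Agent.Lib.NineSym.FatValues
import Cfsg.Agent.Lib.NineSym.FatSearch
import Cfsg.Agent.Lib.SelfNine.Klein

/-!
# The order of the group with one large centralizer is 144
-/

set_option autoImplicit false
set_option linter.style.haveILetI false
set_option linter.unusedSectionVars false

namespace Cfsg.Agent.NineSym

open Subgroup Cfsg.Agent.Characters Cfsg.Agent.SelfNine
open scoped ComplexConjugate

theorem cube_eq_one_zmod_eleven : ∀ k : ZMod 11, k * k * k = 1 → k = 1 := by decide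

variable {X : Type*} [Group X] [Finite X] {P : Sylow 3 X} {e1 e2 r s : X} {V : Subgroup X}
variable (D : FatData P e1 e2 r s V)
include D

theorem FatData.card_ne_792 : Nat.card X ≠ 792 := by
  intro hX
  haveI : Fact (Nat.Prime 11) := ⟨by norm_num⟩
  haveI : Fact (Nat.Prime 3) := ⟨Nat.prime_three⟩
  obtain ⟨Q⟩ := (inferInstance : Nonempty (Sylow 11 X))
  have hQ : Nat.card (Q : Subgroup X) = 11 := by
    rw [Q.card_eq_multiplicity, hX, show 792 = 11 ^ 1 * 72 from rfl,
      Nat.factorization_mul (by norm_num) (by norm_num), Finsupp.add_apply,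
      Nat.Prime.factorization_pow (Fact.out), Finsupp.single_eq_same,
      Nat.factorization_eq_zero_of_not_dvd (by norm_num)]
    norm_num
  have hmul : (Q : Subgroup X).index = 72 := by
    have := (Q : Subgroup X).card_mul_index
    rw [hX, hQ] at this
    omega
  set N := normalizer ((Q : Subgroup X) : Set X) with hN
  have h1 : N.index % 11 = 1 := by
    have := card_sylow_modEq_one 11 X
    rw [Q.card_eq_index_normalizer] at this
    exact this
  have h2 : N.index ∣ 72 := by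
    rw [← hmul]
    exact Subgroup.index_dvd_of_le le_normalizer
  have hN3 : 3 ∣ Nat.card N := by
    have hn := N.card_mul_index
    rw [hX] at hn
    generalize N.index = n at h1 h2 hn
    have := Nat.le_of_dvd (by norm_num) h2
    interval_cases n <;> omega
  obtain ⟨g, hg⟩ := exists_prime_orderOf_dvd_card' 3 hN3
  have hg3 : (g : X) ^ 3 = 1 := by
    have := pow_orderOf_eq_one g
    rw [hg] at this
    exact congrArg Subtype.val this
  have hg1 : (g : X) ≠ 1 := fun h => by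
    rw [show g = 1 from Subtype.ext h, orderOf_one] at hg
    exact absurd hg (by norm_num)
  haveI : IsCyclic (Q : Subgroup X) := isCyclic_of_prime_card hQ
  obtain ⟨q, hq⟩ := IsCyclic.exists_generator (α := (Q : Subgroup X))
  have hqo : orderOf (q : X) = 11 := by rw [orderOf_coe, orderOf_eq_card_of_forall_mem_zpowers hq, hQ]
  obtain ⟨k, hk⟩ : ∃ k : ℕ, (g : X) * q * (g : X)⁻¹ = (q : X) ^ k := by
    have hm : (g : X) * q * (g : X)⁻¹ ∈ (Q : Subgroup X) := (mem_normalizer_iff.1 g.2 _).1 q.2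
    obtain ⟨k, hk⟩ := mem_powers_iff_mem_zpowers.2 (hq ⟨_, hm⟩)
    exact ⟨k, (congrArg Subtype.val hk).symm⟩
  have hcp : ∀ n : ℕ, (g : X) * (q : X) ^ n * (g : X)⁻¹ = (q : X) ^ (k * n) := fun n => by
    rw [← conj_pow, hk, ← pow_mul]
  have hk3 : (q : X) ^ (k * k * k) = (q : X) ^ 1 := by
    rw [pow_one, mul_assoc, ← hcp, ← hcp, ← hk]
    calc (g : X) * ((g : X) * ((g : X) * q * (g : X)⁻¹) * (g : X)⁻¹) * (g : X)⁻¹
        = (g : X) ^ 3 * q * ((g : X) ^ 3)⁻¹ := by rw [pow_succ, pow_two]; group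
      _ = q := by rw [hg3, one_mul, inv_one, mul_one]
  rw [pow_eq_pow_iff_modEq, hqo, ← ZMod.natCast_eq_natCast_iff] at hk3
  push_cast at hk3
  have hk1 : (k : ZMod 11) = ((1 : ℕ) : ZMod 11) := by rw [Nat.cast_one]; exact cube_eq_one_zmod_eleven _ hk3
  rw [ZMod.natCast_eq_natCast_iff] at hk1
  rw [pow_eq_pow_iff_modEq.2 (hqo ▸ hk1), pow_one, mul_inv_eq_iff_eq_mul] at hk
  -- `g` commutes with `q`
  have hzp : IsPGroup 3 (zpowers (g : X)) :=
    IsPGroup.of_card (n := 1) (by rw [Nat.card_zpowers, orderOf_eq_prime hg3 hg1, pow_one])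
  obtain ⟨R, hR⟩ := hzp.exists_le_sylow
  obtain ⟨c, hc⟩ := MulAction.exists_smul_eq X R P
  have hm : c * (g : X) * c⁻¹ ∈ (P : Subgroup X) := by
    rw [← hc, Sylow.coe_subgroup_smul]
    exact smul_mem_pointwise_smul _ (MulAut.conj c) _ (hR (mem_zpowers _))
  obtain ⟨a, ha⟩ := D.coord_surj hm
  have ha0 : a ≠ 0 := fun h => hg1 (by
    rw [h, D.coord_zero] at ha
    exact conj_eq_one_iff.1 ha.symm)
  have hdvd : 11 ∣ Nat.card (centralizer ({coord e1 e2 a} : Set X)) := by
    rw [← card_centralizer_eq_of_isConj (isConj_iff.2 ⟨c, ha.symm⟩), ← hqo]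
    exact orderOf_dvd_natCard _ (mem_centralizer_singleton_iff.2 hk.symm)
  rw [D.card_cent_coord ha0, tCard] at hdvd
  split_ifs at hdvd <;> omega

omit D

variable {v0 : X} (B : FatBase P e1 e2 r s V v0)
include B

theorem FatBase.not_conj_pair : ¬ IsConj (e2 * s) (e2 * sFour e1 s v0) := fun h => by
  obtain ⟨c, hc⟩ := isConj_iff.1 h
  have hc3 := B.data.exp e2 B.data.m2
  have h6 : (e2 * s) ^ 6 = 1 := by
    rw [(show Commute e2 s from B.data.c_comm_s).mul_pow, show 6 = 3 * 2 from rfl, pow_mul e2, hc3, one_pow,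
      one_mul, show 3 * 2 = 2 * 3 from rfl, pow_mul, pow_two s, B.data.s2, one_pow]
  have h6' : (e2 * sFour e1 s v0) ^ 6 = 1 := by rw [← hc, conj_pow, h6, mul_one, mul_inv_cancel]
  rw [B.c_comm_s4.mul_pow, show 6 = 3 * 2 from rfl, pow_mul e2, hc3, one_pow, one_mul,
    show 3 * 2 = 4 + 2 from rfl, pow_add, B.s4_pow4, one_mul, B.s4_pow2] at h6'
  exact B.ne h6'

variable [Fintype X] [Fintype (Cfsg.IrrCharacter X)] {f : Cfsg.IrrCharacter X → ℕ}
  {v : Cfsg.IrrCharacter X → V5} {c0 c1 c2 c3 : Cfsg.IrrCharacter X → ℤ}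
  (hv : ∀ χ : Cfsg.IrrCharacter X,
    FatRow (χ : X → ℂ) e1 e2 r s v0 (f χ) (v χ) (c0 χ) (c1 χ) (c2 χ) (c3 χ))
include hv

/-- The structure constants. -/
theorem FatBase.sums :
    (∑ χ, (fatL1 (v χ) : ℂ) / (f χ : ℂ) = -648 / (Nat.card X : ℂ)) ∧
      (∑ χ, (fatL2 (v χ) : ℂ) / (f χ : ℂ) = 1296 / (Nat.card X : ℂ)) ∧
      (∑ χ, (fatL3 (v χ) : ℂ) / (f χ : ℂ) = -1296 / (Nat.card X : ℂ)) := by
  have D := B.data
  have hn : (Nat.card X : ℂ) ≠ 0 := natCard_ne_zero
  have hsize : ∀ g : X, ∀ c : ℕ, Nat.card (centralizer ({g} : Set X)) = c →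
      (BlocksChars.ClassAlg.classSize g : ℂ) * c = (Nat.card X : ℂ) := fun g c hc => by
    have h := BlocksChars.ClassAlg.classSize_mul_card_centralizer g
    rw [hc] at h
    exact_mod_cast h
  -- one constant
  have key : ∀ (a b : X) (ca cb n : ℕ) (A C : Cfsg.IrrCharacter X → ℤ),
      Nat.card (centralizer ({a} : Set X)) = ca → Nat.card (centralizer ({b} : Set X)) = cb →
      Nat.card {g : X // IsConj a g ∧ IsConj b (g⁻¹ * (e1 * e2))} = n →
      (∀ χ : Cfsg.IrrCharacter X, (χ : X → ℂ) a = (A χ : ℂ)) →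
      (∀ χ : Cfsg.IrrCharacter X, (χ : X → ℂ) b = (C χ : ℂ)) →
      ∑ χ, ((A χ * C χ * (v χ).z : ℤ) : ℂ) / (f χ : ℂ) = ((n * ca * cb : ℕ) : ℂ) / (Nat.card X : ℂ) := by
    intro a b ca cb n A C ha hb hcount hA hC
    have h := Recognition.SelfCentNine.card_mul_eq a b (e1 * e2)
    rw [hcount] at h
    simp only [hA, hC, fun χ => (hv χ).z, fun χ => (hv χ).one, map_intCast] at h
    have h1 := hsize a ca ha
    have h2 := hsize b cb hb
    rw [eq_div_iff hn]
    push_cast
    generalize (∑ χ, (A χ : ℂ) * (C χ : ℂ) * ((v χ).z : ℂ) / (f χ : ℂ)) = T at h ⊢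
    refine mul_left_cancel₀ hn ?_
    linear_combination
      (-(T * (BlocksChars.ClassAlg.classSize b : ℂ) * cb)) * h1 + (-(T * (Nat.card X : ℂ))) * h2 +
        (-((ca : ℂ) * cb)) * h
  have z1 := key e1 e1 _ _ _ _ _ D.card_cent_e1 D.card_cent_e1 D.count_aae (fun χ => (hv χ).x) fun χ => (hv χ).x
  have z2 := key e2 e2 _ _ _ _ _ D.card_cent_c D.card_cent_c D.count_cce (fun χ => (hv χ).k0) fun χ => (hv χ).k0
  have z3 := key e1 e2 _ _ _ _ _ D.card_cent_e1 D.card_cent_c D.count_ace (fun χ => (hv χ).x) fun χ => (hv χ).k0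
  have z4 := key e1 (e1 * e2) _ _ _ _ _ D.card_cent_e1 D.card_cent_e D.count_aee (fun χ => (hv χ).x) fun χ => (hv χ).z
  have z5 := key e2 (e1 * e2) _ _ _ _ _ D.card_cent_c D.card_cent_e D.count_cee (fun χ => (hv χ).k0) fun χ => (hv χ).z
  have hc : ∀ χ, (c0 χ) * (v χ).z = (v χ).y * (v χ).z := fun χ => by
    rcases eq_or_ne (v χ).z 0 with h | h
    · rw [h, mul_zero, mul_zero]
    · rw [(hv χ).hcz h]
  norm_num only [Nat.cast_ofNat, Nat.cast_zero, zero_div] at z1 z2 z3 z4 z5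
  have e2' : ∀ χ, c0 χ * c0 χ * (v χ).z = (v χ).y * (v χ).y * (v χ).z := fun χ => by
    linear_combination (c0 χ + (v χ).y) * hc χ
  have e3' : ∀ χ, (v χ).x * c0 χ * (v χ).z = (v χ).x * (v χ).y * (v χ).z := fun χ => by
    linear_combination (v χ).x * hc χ
  have e5' : ∀ χ, c0 χ * (v χ).z * (v χ).z = (v χ).y * (v χ).z * (v χ).z := fun χ => by
    linear_combination (v χ).z * hc χ
  simp only [e2'] at z2
  simp only [e3'] at z3
  simp only [e5'] at z5
  have split : ∀ (F : V5 → ℤ) (a b c d e : ℤ), (∀ w : V5, F w = a * (w.x * w.x * w.z) + b * (w.y * w.y * w.z) +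
        c * (w.x * w.y * w.z) + d * (w.x * w.z * w.z) + e * (w.y * w.z * w.z)) →
      ∑ χ, (F (v χ) : ℂ) / (f χ : ℂ) = ((1296 * c + 648 * d + 648 * e : ℤ) : ℂ) / (Nat.card X : ℂ) := by
    intro F a b c d e hF
    simp only [hF, Int.cast_add, Int.cast_mul (a : ℤ), Int.cast_mul (b : ℤ), Int.cast_mul (c : ℤ),
      Int.cast_mul (d : ℤ), Int.cast_mul (e : ℤ), add_div, mul_div_assoc, Finset.sum_add_distrib,
      ← Finset.mul_sum, z1, z2, z3, z4, z5]
    push_cast
    ring
  refine ⟨?_, ?_, ?_⟩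
  · rw [split fatL1 1 (-2) (-2) 3 0 fun w => by simp only [fatL1]; ring]; norm_num
  · rw [split fatL2 (-2) 1 1 0 0 fun w => by simp only [fatL2]; ring]; norm_num
  · rw [split fatL3 (-1) 2 (-1) 0 0 fun w => by simp only [fatL3]; ring]; norm_num

/-- The Gram matrix of the five columns. -/
theorem FatBase.gram :
    (∑ χ, (v χ).x * (v χ).x = 18) ∧ (∑ χ, (v χ).y * (v χ).y = 18) ∧ (∑ χ, (v χ).z * (v χ).z = 9) ∧
    (∑ χ, (v χ).w * (v χ).w = 6) ∧ (∑ χ, (v χ).u * (v χ).u = 6) ∧ (∑ χ, (v χ).x * (v χ).y = 0) ∧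
    (∑ χ, (v χ).x * (v χ).z = 0) ∧ (∑ χ, (v χ).x * (v χ).w = 0) ∧ (∑ χ, (v χ).x * (v χ).u = 0) ∧
    (∑ χ, (v χ).y * (v χ).z = 0) ∧ (∑ χ, (v χ).y * (v χ).w = 0) ∧ (∑ χ, (v χ).y * (v χ).u = 0) ∧
    (∑ χ, (v χ).z * (v χ).w = 0) ∧ (∑ χ, (v χ).z * (v χ).u = 0) ∧ (∑ χ, (v χ).w * (v χ).u = 0) := by
  have D := B.data
  have hX := fun χ => (hv χ).x
  have hZ := fun χ => (hv χ).z
  have hW := fun χ => (hv χ).w
  have h0 := fun χ => (hv χ).k0
  have h1 := fun χ => (hv χ).k1
  have h2 := fun χ => (hv χ).k2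
  have h3 := fun χ => (hv χ).k3
  have nc : ∀ {g h : X} {m n : ℕ}, Nat.card (centralizer ({g} : Set X)) = m →
      Nat.card (centralizer ({h} : Set X)) = n → m ≠ n → ¬ IsConj g h := fun hm hn hne hc =>
    hne (hm.symm.trans ((card_centralizer_eq_of_isConj hc).trans hn))
  have kx := D.card_cent_e1
  have kz := D.card_cent_e
  have kw := D.card_cent_six
  have q0 := D.card_cent_c
  have q1 := B.card_cent_cv
  have q2 := B.card_cent_cs
  have q3 := B.card_cent_cs4
  have xx := ((column_int _ _ _ _ hX hX).1 (IsConj.refl _)).trans (congrArg Nat.cast kx)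
  have zz := ((column_int _ _ _ _ hZ hZ).1 (IsConj.refl _)).trans (congrArg Nat.cast kz)
  have ww := ((column_int _ _ _ _ hW hW).1 (IsConj.refl _)).trans (congrArg Nat.cast kw)
  have a00 := ((column_int _ _ _ _ h0 h0).1 (IsConj.refl _)).trans (congrArg Nat.cast q0)
  have a11 := ((column_int _ _ _ _ h1 h1).1 (IsConj.refl _)).trans (congrArg Nat.cast q1)
  have a22 := ((column_int _ _ _ _ h2 h2).1 (IsConj.refl _)).trans (congrArg Nat.cast q2)
  have a33 := ((column_int _ _ _ _ h3 h3).1 (IsConj.refl _)).trans (congrArg Nat.cast q3)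
  have xz := (column_int _ _ _ _ hX hZ).2 (nc kx kz (by norm_num))
  have xw := (column_int _ _ _ _ hX hW).2 (nc kx kw (by norm_num))
  have x0 := (column_int _ _ _ _ hX h0).2 (nc kx q0 (by norm_num))
  have x1 := (column_int _ _ _ _ hX h1).2 (nc kx q1 (by norm_num))
  have x2 := (column_int _ _ _ _ hX h2).2 (nc kx q2 (by norm_num))
  have x3 := (column_int _ _ _ _ hX h3).2 (nc kx q3 (by norm_num))
  have zw := (column_int _ _ _ _ hZ hW).2 (nc kz kw (by norm_num))
  have z0 := (column_int _ _ _ _ hZ h0).2 (nc kz q0 (by norm_num))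
  have z1 := (column_int _ _ _ _ hZ h1).2 (nc kz q1 (by norm_num))
  have z2 := (column_int _ _ _ _ hZ h2).2 (nc kz q2 (by norm_num))
  have z3 := (column_int _ _ _ _ hZ h3).2 (nc kz q3 (by norm_num))
  have w0 := (column_int _ _ _ _ hW h0).2 (nc kw q0 (by norm_num))
  have w1 := (column_int _ _ _ _ hW h1).2 (nc kw q1 (by norm_num))
  have w2 := (column_int _ _ _ _ hW h2).2 (nc kw q2 (by norm_num))
  have w3 := (column_int _ _ _ _ hW h3).2 (nc kw q3 (by norm_num))
  have a01 := (column_int _ _ _ _ h0 h1).2 (nc q0 q1 (by norm_num))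
  have a02 := (column_int _ _ _ _ h0 h2).2 (nc q0 q2 (by norm_num))
  have a03 := (column_int _ _ _ _ h0 h3).2 (nc q0 q3 (by norm_num))
  have a12 := (column_int _ _ _ _ h1 h2).2 (nc q1 q2 (by norm_num))
  have a13 := (column_int _ _ _ _ h1 h3).2 (nc q1 q3 (by norm_num))
  have a23 := (column_int _ _ _ _ h2 h3).2 B.not_conj_pair
  have hY : ∀ a : Cfsg.IrrCharacter X → ℤ,
      4 * ∑ χ, a χ * (v χ).y = ∑ χ, a χ * c0 χ + 3 * ∑ χ, a χ * c1 χ := fun a => by
    simp only [Finset.mul_sum, ← Finset.sum_add_distrib]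
    exact Finset.sum_congr rfl fun χ _ => by linear_combination a χ * (hv χ).hy
  have hU : ∀ a : Cfsg.IrrCharacter X → ℤ,
      2 * ∑ χ, a χ * (v χ).u = ∑ χ, a χ * c2 χ + ∑ χ, a χ * c3 χ := fun a => by
    simp only [Finset.mul_sum, ← Finset.sum_add_distrib]
    exact Finset.sum_congr rfl fun χ _ => by linear_combination a χ * (hv χ).hu
  have comm : ∀ a b : Cfsg.IrrCharacter X → ℤ, ∑ χ, a χ * b χ = ∑ χ, b χ * a χ := fun a b =>
    Finset.sum_congr rfl fun χ _ => mul_comm _ _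
  have xy := hY fun χ => (v χ).x
  have zy := hY fun χ => (v χ).z
  have wy := hY fun χ => (v χ).w
  have y0 := hY c0
  have y1 := hY c1
  have yy := hY fun χ => (v χ).y
  have xu := hU fun χ => (v χ).x
  have zu := hU fun χ => (v χ).z
  have wu := hU fun χ => (v χ).w
  have u0 := hU c0
  have u1 := hU c1
  have u2 := hU c2
  have u3 := hU c3
  have uu := hU fun χ => (v χ).u
  have uy := hY fun χ => (v χ).u
  simp only [comm (fun χ => (v χ).y) c0, comm (fun χ => (v χ).y) c1, comm (fun χ => (v χ).u) c0,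
    comm (fun χ => (v χ).u) c1, comm (fun χ => (v χ).u) c2, comm (fun χ => (v χ).u) c3,
    comm c1 c0, comm c3 c2] at *
  rw [comm (fun χ => (v χ).y) fun χ => (v χ).z, comm (fun χ => (v χ).y) fun χ => (v χ).w,
    comm (fun χ => (v χ).y) fun χ => (v χ).u]
  push_cast at xx zz ww a00 a11 a22 a33
  exact ⟨xx, by omega, zz, ww, by omega, by omega, xz, xw, by omega, by omega, by omega, by omega, zw,
    by omega, by omega⟩

omit B hv

/-- The order of the group. -/
theorem FatData.card_eq {X : Type*} [Group X] [Finite X] {P : Sylow 3 X} {e1 e2 r s : X} {V : Subgroup X}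
    (D : FatData P e1 e2 r s V) : Nat.card X = 144 := by
  classical
  haveI := Fintype.ofFinite X
  haveI := Fintype.ofFinite (Cfsg.IrrCharacter X)
  obtain ⟨v0, B⟩ := D.exists_base
  choose f v c0 c1 c2 c3 hv using B.exists_row
  set triv := trivIrr X with htriv
  obtain ⟨S1, S2, S3⟩ := B.sums hv
  obtain ⟨gxx, gyy, gzz, gww, guu, gxy, gxz, gxw, gxu, gyz, gyw, gyu, gzw, gzu, gwu⟩ := B.gram hv
  have hone : v triv = ⟨1, 1, 1, 1, 1⟩ ∧ f triv = 1 := by
    obtain ⟨t1, t2, t3, t4, t5, t6, t7, t8, ty, tu, -⟩ := hv triv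
    simp only [htriv, trivIrr_coe] at t1 t2 t3 t4 t5 t6 t7 t8 ty tu
    have a : (v (trivIrr X)).x = 1 := by exact_mod_cast t2.symm
    have c : (v (trivIrr X)).z = 1 := by exact_mod_cast t3.symm
    have d : (v (trivIrr X)).w = 1 := by exact_mod_cast t4.symm
    have k0 : c0 (trivIrr X) = 1 := by exact_mod_cast t5.symm
    have k1 : c1 (trivIrr X) = 1 := by exact_mod_cast t6.symm
    have k2 : c2 (trivIrr X) = 1 := by exact_mod_cast t7.symm
    have k3 : c3 (trivIrr X) = 1 := by exact_mod_cast t8.symm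
    have b : (v (trivIrr X)).y = 1 := by omega
    have e : (v (trivIrr X)).u = 1 := by omega
    refine ⟨?_, by rw [htriv]; exact_mod_cast t1.symm⟩
    rw [htriv]
    generalize v (trivIrr X) = T at a b c d e
    obtain ⟨_, _, _, _, _⟩ := T
    simp only at a b c d e
    subst a b c d e
    rfl
  set zero : V5 := ⟨0, 0, 0, 0, 0⟩ with hzero
  set S := (Finset.univ.erase triv).filter fun χ => v χ ≠ zero with hS
  set neg : V5 → V5 := fun a => ⟨-a.x, -a.y, -a.z, -a.w, -a.u⟩ with hneg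
  set can : Cfsg.IrrCharacter X → V5 := fun χ => if v χ ∈ kleinCands then v χ else neg (v χ) with hcan
  have hsplit : ∀ p : V5 → ℤ, p zero = 0 →
      ∑ χ, p (v χ) = p ⟨1, 1, 1, 1, 1⟩ + ∑ χ ∈ S, p (v χ) := fun p hp => by
    rw [← Finset.add_sum_erase _ _ (Finset.mem_univ triv), hone.1, hS]
    congr 1
    symm
    refine Finset.sum_filter_of_ne (p := fun χ => v χ ≠ zero) fun χ _ h e => h ?_
    rw [e, hp]
  have gram : ∀ (p q : V5 → ℤ) (k : ℤ), (∀ a, p (neg a) = - p a) → (∀ a, q (neg a) = - q a) →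
      p zero = 0 → p ⟨1, 1, 1, 1, 1⟩ = 1 → q ⟨1, 1, 1, 1, 1⟩ = 1 → (∑ χ, p (v χ) * q (v χ)) = k →
      ∑ χ ∈ S, p (can χ) * q (can χ) = k - 1 := fun p q k hp hq hp0 hp1 hq1 hk => by
    rw [hsplit (fun a => p a * q a) (by simp only [hp0, zero_mul])] at hk
    simp only [hp1, hq1, one_mul] at hk
    rw [Finset.sum_congr rfl fun χ _ => show p (can χ) * q (can χ) = p (v χ) * q (v χ) by
      simp only [hcan]; split_ifs
      · rfl
      · rw [hp, hq]; ring]
    linarith
  set rows := S.toList.map can with hrows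
  have htot : total rows = kleinGram := by
    rw [hrows, total_toList,
      gram (·.x) (·.x) _ (fun a => rfl) (fun a => rfl) rfl rfl rfl gxx,
      gram (·.y) (·.y) _ (fun a => rfl) (fun a => rfl) rfl rfl rfl gyy,
      gram (·.z) (·.z) _ (fun a => rfl) (fun a => rfl) rfl rfl rfl gzz,
      gram (·.w) (·.w) _ (fun a => rfl) (fun a => rfl) rfl rfl rfl gww,
      gram (·.u) (·.u) _ (fun a => rfl) (fun a => rfl) rfl rfl rfl guu,
      gram (·.x) (·.y) _ (fun a => rfl) (fun a => rfl) rfl rfl rfl gxy,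
      gram (·.x) (·.z) _ (fun a => rfl) (fun a => rfl) rfl rfl rfl gxz,
      gram (·.x) (·.w) _ (fun a => rfl) (fun a => rfl) rfl rfl rfl gxw,
      gram (·.x) (·.u) _ (fun a => rfl) (fun a => rfl) rfl rfl rfl gxu,
      gram (·.y) (·.z) _ (fun a => rfl) (fun a => rfl) rfl rfl rfl gyz,
      gram (·.y) (·.w) _ (fun a => rfl) (fun a => rfl) rfl rfl rfl gyw,
      gram (·.y) (·.u) _ (fun a => rfl) (fun a => rfl) rfl rfl rfl gyu,
      gram (·.z) (·.w) _ (fun a => rfl) (fun a => rfl) rfl rfl rfl gzw,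
      gram (·.z) (·.u) _ (fun a => rfl) (fun a => rfl) rfl rfl rfl gzu,
      gram (·.w) (·.u) _ (fun a => rfl) (fun a => rfl) rfl rfl rfl gwu]
    rfl
  have hmemS : ∀ χ ∈ S, can χ ∈ kleinCands := by
    intro χ hχ
    have hbox : (kleinGram.subSq (v χ)).Ok = true := by
      have hr : can χ ∈ rows := List.mem_map.2 ⟨χ, Finset.mem_toList.2 hχ, rfl⟩
      have ht : total (rows.erase (can χ)) = kleinGram.subSq (can χ) := by
        rw [← htot, total_perm (List.perm_cons_erase hr), total, subSq_addSq]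
      have hok := ok_total (rows.erase (can χ))
      rw [ht] at hok
      have e : kleinGram.subSq (can χ) = kleinGram.subSq (v χ) := by
        simp only [hcan]
        split_ifs
        · rfl
        · simp only [hneg, M5.subSq, neg_mul_neg]
      rwa [e] at hok
    have hb := hbox
    simp only [M5.Ok, decide_eq_true_eq] at hb
    simp only [M5.subSq, kleinGram] at hb
    obtain ⟨bx, by', bz, bw, bu, -⟩ := hb
    obtain ⟨i, hi⟩ := natCast_five_cases (x := (v χ).x) (c := 17) (b := 4) (by push_cast; linarith) (by norm_num)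
    obtain ⟨j, hj⟩ := natCast_five_cases (x := (v χ).y) (c := 17) (b := 4) (by push_cast; linarith) (by norm_num)
    obtain ⟨k, hk⟩ := natCast_five_cases (x := (v χ).z) (c := 8) (b := 2) (by push_cast; linarith) (by norm_num)
    obtain ⟨a, ha⟩ := natCast_five_cases (x := (v χ).w) (c := 5) (b := 2) (by push_cast; linarith) (by norm_num)
    obtain ⟨b, hb'⟩ := natCast_five_cases (x := (v χ).u) (c := 5) (b := 2) (by push_cast; linarith) (by norm_num)
    have hc := kleinCands_cover i j k a b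
    have hv5 : v χ = ⟨((i : ℕ) : ℤ) - 4, ((j : ℕ) : ℤ) - 4, ((k : ℕ) : ℤ) - 2, ((a : ℕ) : ℤ) - 2, ((b : ℕ) : ℤ) - 2⟩ := by
      push_cast at hi hj hk ha hb'
      rw [← hi, ← hj, ← hk, ← ha, ← hb']
    rw [← hv5] at hc
    simp only [coverTest, hbox, (hv χ).mxy, (hv χ).mxz, (hv χ).mwx, (hv χ).muy, beq_self_eq_true,
      Bool.and_self, Bool.not_true, Bool.false_or, decide_eq_true_eq] at hc
    rcases hc with h | h | h
    · exact absurd h (Finset.mem_filter.1 hχ).2
    · simp only [hcan, if_pos h]; exact h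
    · simp only [hcan]
      split_ifs with h'
      · exact h'
      · exact h
  -- a functional that vanishes outside one character
  have hcount : ∀ F : V5 → ℤ, (∀ a, F (neg a) = - F a) → F zero = 0 → F ⟨1, 1, 1, 1, 1⟩ = 0 →
      (Finset.univ.filter fun χ => F (v χ) ≠ 0).card = rows.countP (fun a => F a != 0) := by
    intro F hF h0 h1
    rw [hrows, countP_toList]
    congr 1
    ext χ
    simp only [Finset.mem_filter, Finset.mem_univ, true_and, hS, Finset.mem_erase, and_true, bne_iff_ne]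
    have hs : F (can χ) ≠ 0 ↔ F (v χ) ≠ 0 := by
      simp only [hcan]; split_ifs
      · rfl
      · rw [hF, neg_ne_zero]
    rw [hs]
    exact ⟨fun h => ⟨⟨fun e => h (by rw [e, hone.1, h1]), fun e => h (by rw [e, h0])⟩, h⟩, fun h => h.2⟩
  have hfind : ∀ p : V5 → Bool, rows.countP p = 1 → ∃ χ ∈ S, p (can χ) = true := by
    intro p hp
    rw [hrows, countP_toList] at hp
    obtain ⟨χ, hχ⟩ := Finset.card_pos.1 (hp ▸ Nat.one_pos)
    exact ⟨χ, (Finset.mem_filter.1 hχ).1, (Finset.mem_filter.1 hχ).2⟩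
  have hsingle : ∀ (F : V5 → ℤ), (∀ a, F (neg a) = - F a) → F zero = 0 → F ⟨1, 1, 1, 1, 1⟩ = 0 →
      rows.countP (fun a => F a != 0) = 1 → ∀ χ, F (v χ) ≠ 0 →
      ∑ ψ, (F (v ψ) : ℂ) / (f ψ : ℂ) = (F (v χ) : ℂ) / (f χ : ℂ) := by
    intro F hF h0 h1 hc χ hχ
    refine Finset.sum_eq_single χ (fun ψ _ hne => ?_) fun h => absurd (Finset.mem_univ χ) h
    have : F (v ψ) = 0 := by
      by_contra hψ
      exact hne (Finset.card_le_one.1 ((hcount F hF h0 h1).trans hc).le _ (by simp [hψ]) _ (by simp [hχ]))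
    simp [this]
  have hnone : ∀ (F : V5 → ℤ), (∀ a, F (neg a) = - F a) → F zero = 0 → F ⟨1, 1, 1, 1, 1⟩ = 0 →
      rows.countP (fun a => F a != 0) = 0 → ∑ ψ, (F (v ψ) : ℂ) / (f ψ : ℂ) = 0 := by
    intro F hF h0 h1 hc
    refine Finset.sum_eq_zero fun ψ _ => ?_
    have : F (v ψ) = 0 := by
      by_contra hψ
      have h := (hcount F hF h0 h1).trans hc
      exact absurd (Finset.card_eq_zero.1 h ▸ (by simp [hψ] : ψ ∈ Finset.univ.filter fun χ => F (v χ) ≠ 0))
        (Finset.notMem_empty _)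
    simp [this]
  have hodd1 : ∀ a, fatL1 (neg a) = - fatL1 a := fun a => by simp only [fatL1, hneg]; ring
  have hodd2 : ∀ a, fatL2 (neg a) = - fatL2 a := fun a => by simp only [fatL2, hneg]; ring
  have hodd3 : ∀ a, fatL3 (neg a) = - fatL3 a := fun a => by simp only [fatL3, hneg]; ring
  have hn : (Nat.card X : ℂ) ≠ 0 := natCard_ne_zero
  have hpos : 0 < Nat.card X := Nat.card_pos
  have hint : ∀ (χ : Cfsg.IrrCharacter X) (L k : ℤ), (L : ℂ) / (f χ : ℂ) = (k : ℂ) / (Nat.card X : ℂ) →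
      L * (Nat.card X : ℤ) = k * (f χ : ℤ) := fun χ L k h => by
    have hf0 : (f χ : ℂ) ≠ 0 := (hv χ).one ▸ irr_one_ne_zero χ.2
    rw [div_eq_div_iff hf0 hn] at h
    exact_mod_cast h
  have hxyz : ∀ χ (a b c : ℤ), fatIs a b c (can χ) = true →
      ((v χ).x = a ∧ (v χ).y = b ∧ (v χ).z = c) ∨ ((v χ).x = -a ∧ (v χ).y = -b ∧ (v χ).z = -c) := by
    intro χ a b c h
    simp only [fatIs, decide_eq_true_eq, hcan] at h
    split_ifs at h
    · exact Or.inl h
    · simp only [hneg] at h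
      exact Or.inr (by omega)
  rcases fat_rows (fun a ha => by
      obtain ⟨χ, hχ, rfl⟩ := List.mem_map.1 ha
      exact hmemS χ (Finset.mem_toList.1 hχ)) htot with h | h | ⟨h1, h2⟩ | ⟨h1, h2, h3, h4⟩
  · rw [hnone fatL2 hodd2 rfl rfl h, eq_comm, div_eq_zero_iff] at S2
    exact absurd (S2.resolve_right hn) (by norm_num)
  · rw [hnone fatL3 hodd3 rfl rfl h, eq_comm, div_eq_zero_iff] at S3
    exact absurd (S3.resolve_right hn) (by norm_num)
  · obtain ⟨χ, hχ, hE⟩ := hfind _ h2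
    have hf1 : 1 ≤ f χ := Nat.one_le_iff_ne_zero.2 fun h0 => by
      have := irr_one_ne_zero χ.2
      rw [(hv χ).one, h0, Nat.cast_zero] at this
      exact this rfl
    have h9 := (hv χ).nine
    have hy := (hv χ).hcz
    have hN : Nat.card X = 36 * f χ ∧ f χ % 9 = 4 := by
      rcases hxyz χ _ _ _ hE with ⟨hx, hy', hz⟩ | ⟨hx, hy', hz⟩
      · have hL : fatL1 (v χ) = 18 := by simp only [fatL1, hx, hy', hz]; norm_num
        rw [hsingle fatL1 hodd1 rfl rfl h1 χ (by omega), hL] at S1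
        have := hint χ 18 (-648) (by exact_mod_cast S1)
        omega
      · have hL : fatL1 (v χ) = -18 := by simp only [fatL1, hx, hy', hz]; norm_num
        rw [hsingle fatL1 hodd1 rfl rfl h1 χ (by omega), hL] at S1
        have := hint χ (-18) (-648) (by exact_mod_cast S1)
        rw [hx, hz, hy (by omega), hy'] at h9
        omega
    have hne : χ ≠ triv := (Finset.mem_erase.1 (Finset.mem_filter.1 hχ).1).1
    have hsq := sum_degree_sq (G := X)
    simp only [(hv _).one] at hsq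
    have hsq' : ∑ ψ, f ψ * f ψ = Nat.card X := by
      have : ((∑ ψ, f ψ * f ψ : ℕ) : ℂ) = (Nat.card X : ℂ) := by
        push_cast; rw [← hsq]; exact Finset.sum_congr rfl fun ψ _ => by ring
      exact_mod_cast this
    have hle : f χ * f χ + f triv * f triv ≤ ∑ ψ, f ψ * f ψ := by
      rw [← Finset.sum_pair (f := fun ψ => f ψ * f ψ) hne]
      exact Finset.sum_le_sum_of_subset (Finset.subset_univ _)
    rw [hsq', hone.2, hN.1] at hle
    have h72 : 72 ∣ Nat.card X := D.card_cent_c ▸ card_subgroup_dvd_card _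
    have h35 : f χ < 36 := by
      by_contra hh
      have : 36 * f χ ≤ f χ * f χ := Nat.mul_le_mul_right _ (by omega)
      omega
    have h792 := D.card_ne_792
    rw [hN.1] at h72 h792 ⊢
    omega
  · exfalso
    obtain ⟨χ, hχ, hA⟩ := hfind _ h2
    obtain ⟨ψ, hψ, hB⟩ := hfind _ h4
    have hNA : Nat.card X = 36 * f χ ∧ f χ % 9 = 5 := by
      have h9 := (hv χ).nine
      rcases hxyz χ _ _ _ hA with ⟨hx, hy', hz⟩ | ⟨hx, hy', hz⟩
      · have hL : fatL1 (v χ) = 18 := by simp only [fatL1, hx, hy', hz]; norm_num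
        rw [hsingle fatL1 hodd1 rfl rfl h1 χ (by omega), hL] at S1
        have := hint χ 18 (-648) (by exact_mod_cast S1)
        omega
      · have hL : fatL1 (v χ) = -18 := by simp only [fatL1, hx, hy', hz]; norm_num
        rw [hsingle fatL1 hodd1 rfl rfl h1 χ (by omega), hL] at S1
        have := hint χ (-18) (-648) (by exact_mod_cast S1)
        rw [hx, hz, (hv χ).hcz (by omega), hy'] at h9
        omega
    have hNB : Nat.card X = 144 * f ψ ∧ f ψ % 9 = 2 := by
      have h9 := (hv ψ).nine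
      rcases hxyz ψ _ _ _ hB with ⟨hx, hy', hz⟩ | ⟨hx, hy', hz⟩
      · have hL : fatL2 (v ψ) = 9 := by simp only [fatL2, hx, hy', hz]; norm_num
        rw [hsingle fatL2 hodd2 rfl rfl h3 ψ (by omega), hL] at S2
        have := hint ψ 9 1296 (by push_cast at S2 ⊢; exact S2)
        rw [hx, hz, (hv ψ).hcz (by omega), hy'] at h9
        omega
      · have hL : fatL2 (v ψ) = -9 := by simp only [fatL2, hx, hy', hz]; norm_num
        rw [hsingle fatL2 hodd2 rfl rfl h3 ψ (by omega), hL] at S2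
        have := hint ψ (-9) 1296 (by push_cast at S2 ⊢; exact S2)
        omega
    omega

end Cfsg.Agent.NineSym
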