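import Cfsg.Agent.Lib.NineSym.Local

/-!
# The quotient of the centralizer of an involution by that involution
-/

set_option autoImplicit false
set_option linter.style.haveILetI false
set_option linter.unusedSectionVars false
set_option maxRecDepth 100000
set_option synthInstance.maxSize 10000

namespace Cfsg.Agent.NineSym

open Subgroup

variable {G : Type*} [Group G] [Finite G]

/-- The subgroup generated by `z` in its centralizer. -/
def centZ (z : G) : Subgroup (centralizer ({z} : Set G)) := (zpowers z).subgroupOf _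

instance centZ_normal (z : G) : (centZ z).Normal := by
  refine ⟨fun a ha g => ?_⟩
  rw [centZ, mem_subgroupOf] at ha ⊢
  obtain ⟨k, hk⟩ := mem_zpowers_iff.1 ha
  have hc : Commute (g : G) z := mem_centralizer_singleton_iff.1 g.2
  have h : (g : G) * a * (g : G)⁻¹ = a := by
    rw [← hk, (hc.zpow_right k).eq, mul_inv_cancel_right]
  simpa only [Subgroup.coe_mul, InvMemClass.coe_inv, h] using ha

/-- The centralizer of `z` modulo `⟨z⟩`. -/
abbrev CentQuot (z : G) : Type _ := centralizer ({z} : Set G) ⧸ centZ z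

/-- The projection. -/
def centMk (z : G) : centralizer ({z} : Set G) →* CentQuot z := QuotientGroup.mk' _

theorem centMk_surjective (z : G) : Function.Surjective (centMk z) := QuotientGroup.mk'_surjective _

variable {z : G}

theorem zpowers_two (hz : z * z = 1) {g : G} (hg : g ∈ zpowers z) : g = 1 ∨ g = z := by
  obtain ⟨k, rfl⟩ := mem_zpowers_iff.1 hg
  rcases Int.even_or_odd k with ⟨j, rfl⟩ | ⟨j, rfl⟩
  · left; rw [zpow_add, ← (Commute.refl z).mul_zpow, hz, one_zpow]
  · right; rw [zpow_add, zpow_mul, zpow_two, hz, one_zpow, one_mul, zpow_one]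

theorem centMk_eq (hz : z * z = 1) {a b : centralizer ({z} : Set G)} (h : centMk z a = centMk z b) :
    (a : G) = b ∨ (a : G) = b * z := by
  have h' := QuotientGroup.eq.1 h.symm
  rw [centZ, mem_subgroupOf] at h'
  simp only [Subgroup.coe_mul, InvMemClass.coe_inv] at h'
  rcases zpowers_two hz h' with e | e
  · exact Or.inl (inv_mul_eq_one.1 e).symm
  · exact Or.inr (inv_mul_eq_iff_eq_mul.1 e)

/-- Elements of order three commuting modulo `z` commute. -/
theorem centMk_comm (hz : z * z = 1) {g v : centralizer ({z} : Set G)} (hv : (v : G) ^ 3 = 1)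
    (h : centMk z g * centMk z v = centMk z v * centMk z g) : (g : G) * v = v * g := by
  have h' : centMk z (g * v * g⁻¹) = centMk z v := by
    rw [map_mul, map_mul, map_inv, h, mul_inv_cancel_right]
  have hvz : (v : G) * z = z * v := mem_centralizer_singleton_iff.1 v.2
  refine mul_inv_eq_iff_eq_mul.1 (eq_of_mul_central hz hvz ?_ hv (centMk_eq hz h'))
  rw [conj_pow, hv, mul_one, mul_inv_cancel]

/-- The image of a subgroup of the centralizer. -/
def centImg (z : G) (S : Subgroup G) : Subgroup (CentQuot z) :=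
  (S.subgroupOf (centralizer ({z} : Set G))).map (centMk z)

theorem mem_centImg {S : Subgroup G} {q : CentQuot z} :
    q ∈ centImg z S ↔ ∃ a : centralizer ({z} : Set G), (a : G) ∈ S ∧ centMk z a = q := by
  simp only [centImg, Subgroup.mem_map, mem_subgroupOf]

variable {S : Subgroup G}

theorem centImg_card (hz : z * z = 1) (hS : S ≤ centralizer ({z} : Set G)) (hexp : ∀ a ∈ S, a ^ 3 = 1) :
    Nat.card (centImg z S) = Nat.card S := by
  rw [← Nat.card_congr (subgroupOfEquivOfLe hS).toEquiv]
  refine (Nat.card_eq_of_bijective (fun a => (⟨centMk z a.1, mem_centImg.2 ⟨a.1, mem_subgroupOf.1 a.2, rfl⟩⟩ :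
    centImg z S)) ⟨fun a b e => ?_, fun q => ?_⟩).symm
  · refine Subtype.ext (Subtype.ext (eq_of_mul_central hz (mem_centralizer_singleton_iff.1 b.1.2)
      (hexp _ a.2) (hexp _ b.2) (centMk_eq hz (congrArg Subtype.val e))))
  · obtain ⟨a, ha, e⟩ := mem_centImg.1 q.2
    exact ⟨⟨a, ha⟩, Subtype.ext e⟩

theorem centImg_normalizer (hz : z * z = 1) (hS : S ≤ centralizer ({z} : Set G)) (hexp : ∀ a ∈ S, a ^ 3 = 1)
    {g : centralizer ({z} : Set G)} :
    centMk z g ∈ normalizer ((centImg z S : Subgroup (CentQuot z)) : Set (CentQuot z)) ↔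
      (g : G) ∈ normalizer (S : Set G) := by
  constructor
  · intro h
    refine mem_normalizer_iff_map_conj_eq.2 (eq_of_le_of_card_ge ?_
      (le_of_eq (card_map_of_injective (MulEquiv.injective (MulAut.conj (g : G)))).symm))
    rintro _ ⟨a, ha, rfl⟩
    have hm := (mem_normalizer_iff.1 h (centMk z ⟨a, hS ha⟩)).1 (mem_centImg.2 ⟨_, ha, rfl⟩)
    rw [← map_inv, ← map_mul, ← map_mul] at hm
    obtain ⟨b, hb, e⟩ := mem_centImg.1 hm
    show (g : G) * a * (g : G)⁻¹ ∈ S
    have := eq_of_mul_central hz (mem_centralizer_singleton_iff.1 b.2)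
      (show ((g : G) * a * (g : G)⁻¹) ^ 3 = 1 by rw [conj_pow, hexp a ha, mul_one, mul_inv_cancel])
      (hexp _ hb) (centMk_eq hz e.symm)
    rwa [this]
  · intro h
    refine mem_normalizer_iff_map_conj_eq.2 (eq_of_le_of_card_ge ?_
      (le_of_eq (card_map_of_injective (MulEquiv.injective (MulAut.conj (centMk z g)))).symm))
    rintro _ ⟨q, hq, rfl⟩
    obtain ⟨a, ha, rfl⟩ := mem_centImg.1 hq
    refine mem_centImg.2 ⟨g * a * g⁻¹, ?_, by simp⟩
    exact (mem_normalizer_iff.1 h a).1 ha

theorem centImg_sylow (hz : z * z = 1) (hz1 : z ≠ 1) (h : SylowAt (centralizer ({z} : Set G)) S)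
    (hexp : ∀ a ∈ S, a ^ 3 = 1) :
    ∃ P : Sylow 3 (CentQuot z), (P : Subgroup (CentQuot z)) = centImg z S := by
  haveI : Fact (Nat.Prime 3) := ⟨Nat.prime_three⟩
  obtain ⟨P, hP⟩ := h.exists_sylow
  have hc : IsPGroup 3 (centImg z S) := by
    rintro ⟨q, hq⟩
    obtain ⟨a, ha, rfl⟩ := mem_centImg.1 hq
    refine ⟨1, Subtype.ext ?_⟩
    show centMk z a ^ 3 ^ 1 = 1
    rw [pow_one, ← map_pow, show a ^ 3 = 1 from Subtype.ext (hexp _ ha), map_one]
  refine ⟨hc.toSylow fun hd => ?_, rfl⟩
  have hdvd : (centImg z S).index ∣ (P : Subgroup (centralizer ({z} : Set G))).index := by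
    rw [hP]
    exact index_map_dvd _ (centMk_surjective z)
  exact P.not_dvd_index (hd.trans hdvd)

end Cfsg.Agent.NineSym
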