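import Cfsg.Agent.Lib.NineSym.Six
import Cfsg.Agent.Lib.NineSym.Quot
import Cfsg.Agent.Lib.NineSym.FatOrder

/-!
# The centralizer of `(03)(14)(25)` has order 288
-/

set_option autoImplicit false
set_option linter.style.haveILetI false
set_option linter.unusedSectionVars false
set_option maxRecDepth 100000
set_option synthInstance.maxSize 10000

namespace Cfsg.Agent.NineSym

open Subgroup
open Cfsg.Agent.ExtraTwoNine.CoordPerm (P6)
open SymSix (cb cc cw)

/-- The product `(12)(45)`. -/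
def dMw : Wt := ⟨false, 3, 0⟩

/-- The product `(12)(45)` in degree six. -/
def d6 : P6 := Equiv.swap 1 2 * Equiv.swap 4 5

/-- Representatives of the four-group. -/
def v4 : Fin 4 → P6 := ![1, Equiv.swap 0 3, Equiv.swap 1 4, Equiv.swap 2 5]

theorem v4_facts : (∀ i, v4 i * cw = cw * v4 i) ∧
    (∀ i j, ∃ k, v4 i * v4 j = v4 k ∨ v4 i * v4 j = v4 k * cw) ∧
    (∀ i, v4 i * v4 i = 1) ∧ (∀ i j, v4 i = v4 j ∨ v4 i = v4 j * cw → i = j) ∧
    (∀ i, ∃ k, cb * cc * v4 i * (cb * cc)⁻¹ = v4 k ∨ cb * cc * v4 i * (cb * cc)⁻¹ = v4 k * cw) ∧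
    (∀ i, ∃ k, d6 * v4 i * d6 = v4 k ∨ d6 * v4 i * d6 = v4 k * cw) ∧
    (∀ i, cb * cc * v4 i = v4 i * (cb * cc) → i = 0) := by
  decide +kernel

theorem rho_cent6 : ∀ π : P6, π * cw = cw * π → ∃ i : Fin 4, ∃ e : Bool, ∃ j : Fin 3,
    π = v4 i * (if e then d6 else 1) * (cb * cc) ^ j.val ∨
      π = v4 i * cw * (if e then d6 else 1) * (cb * cc) ^ j.val := by
  decide +kernel

theorem rho6_facts : cb * cc * cw = cw * (cb * cc) ∧ d6 * cw = cw * d6 ∧
    (∃ q, word6 q = cw ∧ wordM q = wM rhoW) ∧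
    (∃ q, word6 q = d6 ∧ wordM q = wM dMw) ∧
    ∃ q, word6 q = cb * cc ∧ wordM q = jM (1, 1, 0) := by
  decide +kernel

theorem rhoM_facts :
    (wM rhoW * wM rhoW = 1 ∧ wM rhoW ≠ 1) ∧
    (jM (1, 1, 0) * wM rhoW = wM rhoW * jM (1, 1, 0) ∧ jM (0, 0, 1) * wM rhoW = wM rhoW * jM (0, 0, 1) ∧
      wM nCw * wM rhoW = wM rhoW * wM nCw ∧ wM dMw * wM rhoW = wM rhoW * wM dMw) ∧
    (wM nCw * wM nCw = 1 ∧ wM dMw * wM dMw = 1 ∧ wM nCw * wM dMw = wM dMw * wM nCw ∧
      wM nCw * jM (1, 1, 0) * wM nCw = jM (1, 1, 0) ∧ wM nCw * jM (0, 0, 1) * wM nCw = (jM (0, 0, 1))⁻¹ ∧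
      wM dMw * jM (1, 1, 0) * wM dMw = (jM (1, 1, 0))⁻¹ ∧ wM dMw * jM (0, 0, 1) * wM dMw = jM (0, 0, 1)) ∧
    Indep ((1, 1, 0) : V3) ((0, 0, 1) : V3) ∧
    wact rhoW (1, 1, 0) = (1, 1, 0) ∧ wact rhoW (0, 0, 1) = (0, 0, 1) ∧
    (∀ v : V3, wact rhoW v = v → v = (v.1, v.1, v.2.2)) ∧
    (∀ a b : ZMod 3, jM (a, a, b) = jM (1, 1, 0) ^ a.val * jM (0, 0, 1) ^ b.val) ∧
    (∀ a b : ZMod 3, a ≠ 0 → ∃ w : Wt, wact w (1, 1, 1) = (a, a, b) ∨ wact w (1, 1, 0) = (a, a, b)) ∧
    (∀ w : Wt, w * rhoW = rhoW * w → w ^ 3 = 1 → w = 1) ∧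
    ∀ p : Mn, p * wM rhoW = wM rhoW * p → ∃ e f : Bool, ∃ a b : ZMod 3,
      p = (if e then wM nCw else 1) * (if f then wM dMw else 1) * jM (a, a, b) ∨
      p = (if e then wM nCw else 1) * (if f then wM dMw else 1) * jM (a, a, b) * wM rhoW := by
  decide +kernel

variable {G : Type*} [Group G] [Finite G] {J : Subgroup G} {φ : Mn → G}

namespace Frame

variable (D : Frame J true true φ)
include D

theorem card_cent_rho {K : Subgroup G} (S6 : SixData J φ K) {f : P6 →* G} (F : SixMap φ K f) :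
    Nat.card (centralizer ({φ (wM rhoW)} : Set G)) = 288 := by
  classical
  haveI : Fact (Nat.Prime 3) := ⟨Nat.prime_three⟩
  obtain ⟨⟨hr2, hr1⟩, ⟨ce1, ce2, cr, cs⟩, ⟨r2, s2, rs, r1, r1', s1, s1'⟩, hind, hf1, hf2, hfixv, hgen, hwt,
    hno3, hnor⟩ := rhoM_facts
  obtain ⟨hvc, hvv, hv2, hvinj, hv1, hvd, hvfpf⟩ := v4_facts
  obtain ⟨hbc, hdc, ⟨qw, hqw, hqw'⟩, ⟨qd, hqd, hqd'⟩, ⟨qb, hqb, hqb'⟩⟩ := rho6_facts
  have hL := inL_all
  have hmul : ∀ p q : Mn, φ (p * q) = φ p * φ q := fun p q => D.hom _ _ (hL p) (hL q)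
  set z := φ (wM rhoW) with hz
  have hfw : f cw = z := by rw [← hqw, F.agree, hqw']
  have hz2 : z * z = 1 := by rw [hz, ← hmul, hr2, D.one]
  have hz1 : z ≠ 1 := fun e => hr1 (D.eq_one (hL _) e)
  let φH : Mn →* G := MonoidHom.mk' φ hmul
  -- the two maps into the quotient
  let μ : centralizer ({wM rhoW} : Set Mn) →* CentQuot z := (centMk z).comp
    (MonoidHom.codRestrict (φH.comp (Subgroup.subtype _)) _ fun p => mem_centralizer_singleton_iff.2 (by
      show φ p.1 * z = z * φ p.1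
      rw [hz, ← hmul, ← hmul, mem_centralizer_singleton_iff.1 p.2]))
  let ν : centralizer ({cw} : Set P6) →* CentQuot z := (centMk z).comp
    (MonoidHom.codRestrict (f.comp (Subgroup.subtype _)) _ fun p => mem_centralizer_singleton_iff.2 (by
      show f p.1 * z = z * f p.1
      rw [← hfw, ← map_mul, ← map_mul, mem_centralizer_singleton_iff.1 p.2]))
  let mM : ∀ p : Mn, p * wM rhoW = wM rhoW * p → centralizer ({wM rhoW} : Set Mn) :=
    fun p h => ⟨p, mem_centralizer_singleton_iff.2 h⟩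
  let m6 : ∀ p : P6, p * cw = cw * p → centralizer ({cw} : Set P6) :=
    fun p h => ⟨p, mem_centralizer_singleton_iff.2 h⟩
  have hμν : ∀ (p : P6) (m : Mn) (h : p * cw = cw * p) (h' : m * wM rhoW = wM rhoW * m),
      f p = φ m → ν (m6 p h) = μ (mM m h') := fun p m h h' e => congrArg (centMk z) (Subtype.ext e)
  let e1 := μ (mM _ ce1)
  let e2 := μ (mM _ ce2)
  let r := μ (mM _ cr)
  let s := μ (mM _ cs)
  have he1 : ν (m6 _ hbc) = e1 := hμν _ _ hbc ce1 (by rw [← hqb, F.agree, hqb'])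
  have hs6 : ν (m6 _ hdc) = s := hμν _ _ hdc cs (by rw [← hqd, F.agree, hqd'])
  have hνw : ν (m6 cw rfl) = 1 := by
    show centMk z _ = 1
    refine (QuotientGroup.eq_one_iff _).2 (mem_subgroupOf.2 ?_)
    show f cw ∈ zpowers z
    rw [hfw]; exact mem_zpowers z
  let w4 : Fin 4 → centralizer ({cw} : Set P6) := fun i => m6 (v4 i) (hvc i)
  let V : Subgroup (CentQuot z) :=
    { carrier := Set.range fun i => ν (w4 i)
      one_mem' := ⟨0, by
        show ν (w4 0) = 1
        rw [show w4 0 = 1 from Subtype.ext rfl, map_one]⟩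
      mul_mem' := by
        rintro _ _ ⟨i, rfl⟩ ⟨j, rfl⟩
        obtain ⟨k, h | h⟩ := hvv i j
        · exact ⟨k, by show ν _ = ν _ * ν _; rw [← map_mul, show w4 i * w4 j = w4 k from Subtype.ext h]⟩
        · refine ⟨k, ?_⟩
          show ν _ = ν _ * ν _
          rw [← map_mul, show w4 i * w4 j = w4 k * m6 cw rfl from Subtype.ext h, map_mul, hνw, mul_one]
      inv_mem' := by
        rintro _ ⟨i, rfl⟩
        refine ⟨i, eq_inv_of_mul_eq_one_left ?_⟩
        show ν _ * ν _ = 1
        rw [← map_mul, show w4 i * w4 i = 1 from Subtype.ext (hv2 i), map_one] }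
  -- the Sylow subgroup
  set S := J ⊓ centralizer ({z} : Set G) with hSdef
  have hSA : SylowAt (centralizer ({z} : Set G)) S :=
    D.sylow_plane (hL _) hind hf1 hf2 (fun w _ hw h3 hne => absurd (hno3 w hw h3) hne)
  have hSexp : ∀ a ∈ S, a ^ 3 = 1 := fun a ha => D.J_cube (mem_inf.1 ha).1
  obtain ⟨P, hP⟩ := centImg_sylow hz2 hz1 hSA hSexp
  have hSm : ∀ g, g ∈ S ↔ ∃ a b : ZMod 3, φ (jM (a, a, b)) = g := fun g => by
    rw [hSdef, hz, D.mem_fix (hL _)]
    constructor
    · rintro ⟨v, rfl, hv⟩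
      exact ⟨v.1, v.2.2, by rw [← hfixv v hv]⟩
    · rintro ⟨a, b, rfl⟩
      exact ⟨_, rfl, (by decide +kernel : ∀ a b : ZMod 3, wact rhoW (a, a, b) = (a, a, b)) a b⟩
  have hjab : ∀ a b : ZMod 3, jM (a, a, b) * wM rhoW = wM rhoW * jM (a, a, b) := by decide +kernel
  let pe : ZMod 3 → ZMod 3 → CentQuot z := fun a b => μ (mM _ (hjab a b))
  have hPm : ∀ q, q ∈ (P : Subgroup (CentQuot z)) ↔ ∃ a b, pe a b = q := fun q => by
    rw [hP, mem_centImg]
    constructor
    · rintro ⟨g, hg, rfl⟩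
      obtain ⟨a, b, e⟩ := (hSm _).1 hg
      exact ⟨a, b, congrArg (centMk z) (Subtype.ext e)⟩
    · rintro ⟨a, b, rfl⟩
      exact ⟨_, (hSm _).2 ⟨a, b, rfl⟩, rfl⟩
  have hpe : ∀ a b, pe a b = e1 ^ a.val * e2 ^ b.val := fun a b => by
    rw [← _root_.map_pow, ← _root_.map_pow, ← map_mul]
    exact congrArg μ (Subtype.ext (hgen a b))
  have rel : ∀ {a b : centralizer ({wM rhoW} : Set Mn)}, (a : Mn) = b → μ a = μ b :=
    fun h => congrArg μ (Subtype.ext h)
  have he2c : ∀ (π : P6) (h : π * cw = cw * π), e2 * ν (m6 π h) = ν (m6 π h) * e2 := fun π h => by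
    show centMk z _ * centMk z _ = centMk z _ * centMk z _
    rw [← map_mul, ← map_mul]
    exact congrArg (centMk z) (Subtype.ext (F.c π))
  have hX : Nat.card (CentQuot z) = 144 := FatData.card_eq (P := P) (e1 := e1) (e2 := e2) (r := r) (s := s) (V := V)
    { card := by
        rw [hP, centImg_card hz2 inf_le_right hSexp, ← Nat.card_eq_of_bijective
          (fun q : ZMod 3 × ZMod 3 => (⟨_, (hSm _).2 ⟨q.1, q.2, rfl⟩⟩ : S))
          ⟨fun p q e => by
            have h := D.jinj (congrArg Subtype.val e)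
            exact Prod.ext (congrArg (fun v : V3 => v.1) h :) (congrArg (fun v : V3 => v.2.2) h :),
          fun g => by obtain ⟨a, b, e⟩ := (hSm _).1 g.2; exact ⟨(a, b), Subtype.ext e⟩⟩]
        simp
      exp := fun q hq => by
        obtain ⟨a, b, rfl⟩ := (hPm q).1 hq
        rw [← _root_.map_pow, ← map_one μ]
        exact rel ((by decide +kernel : ∀ a b : ZMod 3, jM (a, a, b) ^ 3 = 1) a b)
      comm := fun q hq q' hq' => by
        obtain ⟨a, b, rfl⟩ := (hPm q).1 hq
        obtain ⟨c, d, rfl⟩ := (hPm q').1 hq'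
        rw [← map_mul, ← map_mul]
        exact rel ((by decide +kernel : ∀ a b c d : ZMod 3,
          jM (a, a, b) * jM (c, c, d) = jM (c, c, d) * jM (a, a, b)) a b c d)
      m1 := (hPm _).2 ⟨1, 0, rfl⟩
      m2 := (hPm _).2 ⟨0, 1, rfl⟩
      gen := fun q hq => by
        obtain ⟨a, b, rfl⟩ := (hPm q).1 hq
        exact ⟨_, _, hpe a b⟩
      r2 := by rw [← map_mul, ← map_one μ]; exact rel r2
      s2 := by rw [← map_mul, ← map_one μ]; exact rel s2
      rs := by rw [← map_mul, ← map_mul]; exact rel rs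
      r1 := by rw [← map_mul, ← map_mul]; exact rel r1
      r1' := by rw [← map_mul, ← map_mul, ← map_inv]; exact rel r1'
      s1 := by rw [← map_mul, ← map_mul, ← map_inv]; exact rel s1
      s1' := by rw [← map_mul, ← map_mul]; exact rel s1'
      nor := fun q hq => by
        obtain ⟨g, rfl⟩ := centMk_surjective z q
        rw [hP, centImg_normalizer hz2 inf_le_right hSexp] at hq
        have hgJ := D.norm_plane hind
          (mem_inf.1 ((mem_normalizer_iff.1 hq _).1 ((D.mem_fix (hL _)).2 ⟨_, rfl, hf1⟩))).1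
          (mem_inf.1 ((mem_normalizer_iff.1 hq _).1 ((D.mem_fix (hL _)).2 ⟨_, rfl, hf2⟩))).1
        obtain ⟨p, hp, e⟩ := D.norm _ hgJ
        have hpc : p * wM rhoW = wM rhoW * p := D.comm' hp (hL _) (by rw [e]; exact mem_centralizer_singleton_iff.1 g.2)
        have hg' : centMk z g = μ (mM p hpc) := congrArg (centMk z) (Subtype.ext e.symm)
        have hμw : μ (mM _ rfl) = 1 := (hμν cw (wM rhoW) rfl rfl hfw).symm.trans hνw
        obtain ⟨x, y, a, b, h⟩ := hnor p hpc
        let k : centralizer ({wM rhoW} : Set Mn) := (if x then mM _ cr else 1) * (if y then mM _ cs else 1)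
        have hk : μ k = 1 ∨ μ k = r ∨ μ k = s ∨ μ k = r * s := by
          cases x <;> cases y <;> simp [k, r, s]
        have hkv : (k : Mn) = (if x then wM nCw else 1) * (if y then wM dMw else 1) := by
          cases x <;> cases y <;> rfl
        refine ⟨μ k, hk, pe a b, (hPm _).2 ⟨a, b, rfl⟩, ?_⟩
        rw [hg', ← map_mul]
        rcases h with h | h
        · exact rel (by rw [Subgroup.coe_mul, hkv]; exact h)
        · rw [← mul_one (μ (k * _)), ← hμw, ← map_mul]
          exact rel (by rw [Subgroup.coe_mul, Subgroup.coe_mul, hkv]; exact h)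
      cent := fun q hq hq2 x hx => by
        obtain ⟨a, b, rfl⟩ := (hPm q).1 hq
        obtain ⟨g, rfl⟩ := centMk_surjective z x
        have ha : a ≠ 0 := by
          rintro rfl
          refine hq2 ?_
          rw [hpe, ZMod.val_zero, pow_zero, one_mul]
          exact pow_mem (mem_zpowers _) _
        have hc := centMk_comm hz2 (v := ⟨φ (jM (a, a, b)),
          mem_centralizer_singleton_iff.2 (by rw [hz, ← hmul, ← hmul, hjab])⟩) (D.jcube _)
          (mem_centralizer_singleton_iff.1 hx)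
        obtain ⟨w, hw⟩ := hwt a b ha
        have hgN := D.good_of_weight w hw hc
        rw [hP, centImg_normalizer hz2 inf_le_right hSexp]
        refine mem_normalizer_iff_map_conj_eq.2 (eq_of_le_of_card_ge ?_ (by
          rw [card_map_of_injective (MulEquiv.injective _)]))
        rintro _ ⟨j, hj, rfl⟩
        exact mem_inf.2 ⟨(mem_normalizer_iff.1 hgN j).1 (mem_inf.1 hj).1,
          mul_mem (mul_mem g.2 (mem_inf.1 hj).2) (inv_mem g.2)⟩
      cardV := by
        rw [← Nat.card_eq_of_bijective (fun i : Fin 4 => (⟨ν (w4 i), i, rfl⟩ : V))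
          ⟨fun i j e => hvinj i j ?_, fun q => by obtain ⟨i, hi⟩ := q.2; exact ⟨i, Subtype.ext hi⟩⟩]
        · simp
        · rcases centMk_eq hz2 (congrArg Subtype.val e) with h | h
          · exact Or.inl (F.inj h)
          · exact Or.inr (F.inj (by rw [map_mul, hfw]; exact h))
      sqV := by
        rintro _ ⟨i, rfl⟩
        show ν _ * ν _ = 1
        rw [← map_mul, show w4 i * w4 i = 1 from Subtype.ext (hv2 i), map_one]
      e2V := by
        rintro _ ⟨i, rfl⟩
        exact he2c (v4 i) (hvc i)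
      rV := by
        rintro _ ⟨i, rfl⟩
        show centMk z _ * centMk z _ = centMk z _ * centMk z _
        rw [← map_mul, ← map_mul]
        exact congrArg (centMk z) (Subtype.ext (F.nC _))
      e1V := by
        rintro _ ⟨i, rfl⟩
        obtain ⟨k, h | h⟩ := hv1 i
        · refine ⟨k, ?_⟩
          show ν _ = e1 * ν _ * e1⁻¹
          rw [← he1, ← map_mul, ← map_inv, ← map_mul]
          exact congrArg ν (Subtype.ext h.symm)
        · refine ⟨k, ?_⟩
          show ν _ = e1 * ν _ * e1⁻¹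
          rw [← mul_one (ν _), ← hνw, ← he1, ← map_mul, ← map_mul, ← map_inv, ← map_mul]
          exact congrArg ν (Subtype.ext h.symm)
      sV := by
        rintro _ ⟨i, rfl⟩
        obtain ⟨k, h | h⟩ := hvd i
        · refine ⟨k, ?_⟩
          show ν _ = s * ν _ * s
          rw [← hs6, ← map_mul, ← map_mul]
          exact congrArg ν (Subtype.ext h.symm)
        · refine ⟨k, ?_⟩
          show ν _ = s * ν _ * s
          rw [← mul_one (ν _), ← hνw, ← hs6, ← map_mul, ← map_mul, ← map_mul]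
          exact congrArg ν (Subtype.ext h.symm)
      fpf := by
        rintro _ ⟨i, rfl⟩ h
        have h' : ν (w4 i) * ν (m6 _ hbc) = ν (m6 _ hbc) * ν (w4 i) := by rw [he1]; exact h.symm
        have h3 : f (cb * cc) ^ 3 = 1 := by rw [← hqb, F.agree, hqb', D.jcube]
        have := centMk_comm hz2 (v := ⟨f (cb * cc), _⟩) h3 h'
        have h0 : i = 0 := hvfpf i (F.inj (by
          simp only [map_mul] at this ⊢
          exact this.symm))
        subst h0
        show ν _ = 1
        rw [show w4 0 = 1 from Subtype.ext rfl, map_one]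
      cent2 := fun x hx => by
        obtain ⟨g, rfl⟩ := centMk_surjective z x
        have hc := centMk_comm hz2 (v := ⟨φ (jM (0, 0, 1)),
          mem_centralizer_singleton_iff.2 (by rw [hz, ← hmul, ← hmul, ce2])⟩) (D.jcube _) hx
        obtain ⟨k, hk, j, hj, e⟩ := S6.hdec _ (mem_centralizer_singleton_iff.2 hc)
        obtain ⟨v, rfl⟩ := (D.memJ j).1 hj
        have hvs : v = (v.1, v.2.1, 0) + (0, 0, v.2.2) := by
          refine Prod.ext ?_ (Prod.ext ?_ ?_) <;> simp
        rw [hvs, D.jadd, ← mul_assoc] at e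
        obtain ⟨π, hπ⟩ := (F.range _).1 (mul_mem hk ((S6.mem_plane (v.1, v.2.1, 0)).2 rfl))
        rw [← hπ] at e
        have hcu : φ (jM (0, 0, v.2.2)) * z = z * φ (jM (0, 0, v.2.2)) := by
          rw [hz, ← hmul, ← hmul]; exact congrArg φ (hjab 0 v.2.2)
        have hπc : π * cw = cw * π := F.inj (by
          have := mem_centralizer_singleton_iff.1 g.2
          rw [e] at this
          rw [map_mul, map_mul, hfw]
          calc f π * z = f π * φ (jM (0, 0, v.2.2)) * z * (φ (jM (0, 0, v.2.2)))⁻¹ := by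
                rw [mul_assoc (f π), hcu]; group
            _ = z * f π := by rw [this]; group)
        have hg' : centMk z g = ν (m6 π hπc) * pe 0 v.2.2 := by
          show centMk z g = centMk z _ * centMk z _
          rw [← map_mul]
          exact congrArg (centMk z) (Subtype.ext e)
        obtain ⟨i, b, j', h⟩ := rho_cent6 π hπc
        let k6 : centralizer ({cw} : Set P6) := if b then m6 _ hdc else 1
        have hk6 : (k6 : P6) = if b then d6 else 1 := by cases b <;> rfl
        have hk' : ν k6 = 1 ∨ ν k6 = s := by cases b <;> simp [k6, hs6]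
        refine ⟨ν (w4 i), ⟨i, rfl⟩, ν k6, hk', e1 ^ j'.val * pe 0 v.2.2,
          mul_mem (pow_mem ((hPm _).2 ⟨1, 0, rfl⟩) _) ((hPm _).2 ⟨0, _, rfl⟩), ?_⟩
        rw [hg', ← mul_assoc, ← he1, ← _root_.map_pow, ← map_mul, ← map_mul]
        congr 1
        rcases h with h | h
        · exact congrArg ν (Subtype.ext (by rw [Subgroup.coe_mul, Subgroup.coe_mul, hk6, SubgroupClass.coe_pow]; exact h))
        · calc ν (m6 π hπc) = ν (w4 i * m6 cw rfl * k6 * m6 _ hbc ^ j'.val) :=
                congrArg ν (Subtype.ext (by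
                  rw [Subgroup.coe_mul, Subgroup.coe_mul, Subgroup.coe_mul, hk6, SubgroupClass.coe_pow]; exact h))
            _ = ν (w4 i * k6 * m6 _ hbc ^ j'.val) := by simp only [map_mul, hνw, mul_one] }
  have hZ : Nat.card (centZ z) = 2 := by
    rw [centZ, Nat.card_congr (subgroupOfEquivOfLe (zpowers_le.2 (mem_centralizer_singleton_iff.2 rfl))).toEquiv,
      Nat.card_zpowers]
    exact orderOf_eq_prime (by rw [pow_two, hz2]) hz1
  rw [card_eq_card_quotient_mul_card_subgroup (centZ z), hZ]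
  exact (congrArg (· * 2) hX).trans (by norm_num)

end Frame

end Cfsg.Agent.NineSym
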