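import Cfsg.Agent.Lib.NineSym.Lin

/-!
# Certificates that most orbits of the fixed vector are impossible
-/

set_option autoImplicit false
set_option maxRecDepth 100000

namespace Cfsg.Agent.NineSym

/-- Certificates, part 0. -/
def certs0 : List Cert :=
  [(2, (0, 0, 1), (0, 0, 1), (0, 1, 0), [(1, 2, 2)]),
   (3, (0, 0, 1), (0, 0, 1), (0, 1, 0), [(2, 0, 0)]),
   (5, (0, 0, 2), (0, 0, 2), (0, 2, 0), [(2, 0, 0)]),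
   (6, (0, 0, 2), (0, 0, 1), (0, 1, 0), [(1, 2, 2), (0, 1, 1), (1, 0, 2), (1, 2, 0)]),
   (9, (0, 1, 1), (0, 1, 1), (1, 0, 1), [(2, 0, 0)]),
   (10, (0, 0, 1), (0, 0, 1), (0, 1, 0), [(1, 0, 2)]),
   (11, (0, 0, 1), (0, 0, 1), (0, 1, 0), [(1, 0, 2)]),
   (12, (0, 1, 1), (0, 0, 2), (0, 1, 1), [(1, 1, 0)]),
   (13, (0, 0, 2), (0, 0, 2), (0, 1, 1), [(2, 0, 0)]),
   (14, (0, 0, 2), (0, 0, 1), (0, 1, 0), [(1, 0, 2), (1, 0, 1)]),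
   (15, (0, 1, 1), (0, 0, 1), (0, 1, 0), [(2, 0, 0)]),
   (16, (0, 2, 2), (0, 2, 2), (2, 0, 2), [(1, 2, 2)]),
   (17, (0, 2, 2), (0, 2, 2), (2, 0, 2), [(2, 0, 0)]),
   (18, (0, 0, 1), (0, 0, 1), (0, 1, 0), [(1, 2, 2)]),
   (19, (0, 0, 1), (0, 0, 1), (0, 1, 0), [(2, 0, 0)])]

theorem certs0_ok : certs0.all certOK = true := by decide +kernel

/-- Certificates, part 1. -/
def certs1 : List Cert :=
  [(20, (0, 0, 2), (0, 0, 2), (0, 2, 0), [(0, 1, 1), (2, 0, 2), (1, 0, 2)]),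
   (21, (0, 0, 2), (0, 0, 2), (0, 2, 0), [(2, 0, 0)]),
   (22, (0, 0, 2), (0, 0, 1), (0, 2, 0), [(0, 2, 1), (2, 0, 2), (2, 1, 2)]),
   (23, (0, 2, 2), (0, 0, 1), (0, 1, 0), [(2, 0, 0)]),
   (24, (0, 2, 2), (0, 1, 1), (1, 0, 1), [(2, 2, 2), (0, 1, 1), (1, 0, 1), (1, 1, 0)]),
   (26, (0, 2, 2), (0, 0, 1), (0, 1, 0), [(1, 0, 2), (1, 0, 1)]),
   (27, (0, 0, 1), (0, 0, 1), (0, 1, 0), [(2, 0, 0)]),
   (28, (0, 1, 1), (0, 0, 2), (0, 1, 1), [(1, 1, 0), (1, 2, 0)]),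
   (29, (0, 0, 2), (0, 0, 2), (0, 1, 1), [(2, 0, 0)]),
   (30, (0, 2, 2), (0, 0, 1), (0, 1, 0), [(1, 0, 2), (1, 2, 0), (1, 2, 2)]),
   (31, (0, 1, 1), (0, 0, 1), (0, 1, 0), [(1, 0, 2), (1, 2, 0), (1, 2, 2), (0, 1, 1)]),
   (32, (1, 1, 2), (1, 1, 2), (1, 2, 1), [(1, 2, 2)]),
   (33, (1, 1, 2), (1, 1, 2), (1, 2, 1), [(2, 0, 0)]),
   (34, (1, 1, 2), (0, 0, 1), (0, 1, 0), [(1, 0, 1)]),
   (35, (0, 0, 1), (0, 0, 1), (0, 1, 0), [(2, 0, 0)])]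

theorem certs1_ok : certs1.all certOK = true := by decide +kernel

/-- Certificates, part 2. -/
def certs2 : List Cert :=
  [(36, (1, 1, 2), (0, 0, 2), (0, 2, 0), [(1, 0, 2)]),
   (37, (0, 0, 2), (0, 0, 2), (0, 2, 0), [(2, 0, 0)]),
   (38, (0, 0, 1), (0, 0, 1), (0, 2, 0), [(1, 0, 2), (1, 0, 1)]),
   (39, (1, 1, 2), (0, 0, 1), (0, 1, 0), [(2, 0, 0)]),
   (40, (0, 1, 1), (0, 1, 1), (1, 0, 1), [(0, 1, 1), (2, 0, 2), (1, 0, 2)]),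
   (41, (0, 1, 1), (0, 1, 1), (1, 0, 1), [(2, 0, 0)]),
   (42, (0, 0, 1), (0, 0, 1), (0, 1, 0), [(1, 0, 2)]),
   (43, (0, 0, 1), (0, 0, 1), (0, 1, 0), [(2, 0, 0)]),
   (44, (0, 0, 2), (0, 0, 2), (0, 1, 1), [(1, 2, 0), (1, 1, 0)]),
   (45, (0, 0, 2), (0, 0, 2), (0, 1, 1), [(2, 0, 0)]),
   (46, (0, 0, 2), (0, 0, 1), (0, 1, 0), [(1, 0, 2), (1, 0, 1)]),
   (47, (0, 1, 1), (0, 0, 1), (0, 1, 0), [(2, 0, 0)]),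
   (48, (0, 2, 2), (0, 2, 2), (1, 1, 2), [(1, 0, 1)]),
   (49, (0, 2, 2), (0, 2, 2), (1, 1, 2), [(2, 0, 0)]),
   (50, (0, 0, 1), (0, 0, 1), (0, 1, 0), [(1, 2, 2), (0, 2, 2), (0, 1, 2)])]

theorem certs2_ok : certs2.all certOK = true := by decide +kernel

/-- Certificates, part 3. -/
def certs3 : List Cert :=
  [(51, (0, 0, 1), (0, 0, 1), (0, 1, 0), [(2, 0, 0)]),
   (52, (1, 1, 2), (0, 0, 2), (0, 2, 0), [(1, 0, 2)]),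
   (53, (0, 0, 2), (0, 0, 2), (0, 2, 0), [(2, 0, 0)]),
   (54, (1, 1, 2), (0, 0, 1), (1, 2, 1), [(1, 0, 2), (1, 1, 1), (0, 2, 2), (0, 1, 2)]),
   (55, (0, 2, 2), (0, 0, 1), (0, 1, 0), [(2, 0, 0)]),
   (56, (0, 1, 1), (0, 1, 1), (1, 0, 1), [(0, 1, 1), (2, 2, 2), (2, 0, 2)]),
   (57, (1, 1, 2), (0, 1, 1), (1, 0, 1), [(2, 0, 0)]),
   (58, (0, 0, 1), (0, 0, 1), (0, 1, 0), [(1, 0, 2), (1, 2, 0), (1, 2, 2), (0, 1, 1)]),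
   (59, (0, 0, 1), (0, 0, 1), (0, 1, 0), [(2, 0, 0)]),
   (60, (0, 0, 2), (0, 0, 2), (0, 1, 1), [(1, 2, 0), (1, 1, 0), (2, 2, 0)]),
   (61, (0, 0, 2), (0, 0, 2), (0, 1, 1), [(2, 0, 0)]),
   (62, (0, 1, 1), (0, 0, 1), (0, 1, 0), [(1, 0, 1), (2, 0, 1)]),
   (63, (1, 1, 2), (0, 0, 1), (0, 1, 0), [(2, 0, 0)]),
   (65, (1, 2, 2), (1, 2, 2), (2, 1, 2), [(2, 0, 0)]),
   (66, (0, 0, 1), (0, 0, 1), (0, 1, 0), [(1, 2, 2), (1, 1, 1), (2, 0, 2)])]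

theorem certs3_ok : certs3.all certOK = true := by decide +kernel

/-- Certificates, part 4. -/
def certs4 : List Cert :=
  [(67, (0, 0, 1), (0, 0, 1), (0, 1, 0), [(2, 0, 0)]),
   (68, (0, 0, 2), (0, 0, 2), (0, 2, 0), [(1, 2, 2)]),
   (69, (0, 0, 2), (0, 0, 2), (0, 2, 0), [(2, 0, 0)]),
   (70, (0, 0, 1), (0, 0, 1), (0, 2, 0), [(2, 0, 1), (1, 0, 1)]),
   (71, (1, 2, 2), (0, 0, 1), (0, 1, 0), [(2, 0, 0)]),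
   (72, (1, 2, 2), (0, 1, 1), (1, 0, 1), [(1, 0, 1)]),
   (73, (0, 1, 1), (0, 1, 1), (1, 0, 1), [(2, 0, 0)]),
   (74, (0, 1, 1), (0, 0, 1), (0, 1, 0), [(1, 0, 2), (2, 0, 2)]),
   (75, (0, 0, 1), (0, 0, 1), (0, 1, 0), [(2, 0, 0)]),
   (76, (0, 0, 2), (0, 0, 2), (0, 1, 1), [(1, 2, 2), (0, 2, 2), (0, 1, 2)]),
   (77, (0, 0, 2), (0, 0, 2), (0, 1, 1), [(2, 0, 0)]),
   (78, (1, 2, 2), (0, 0, 1), (0, 1, 0), [(1, 0, 2), (0, 0, 2)]),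
   (79, (0, 1, 1), (0, 0, 1), (0, 1, 0), [(2, 0, 0)]),
   (80, (0, 2, 2), (0, 2, 2), (2, 0, 2), [(1, 0, 2)]),
   (81, (0, 2, 2), (0, 2, 2), (2, 0, 2), [(1, 0, 2)])]

theorem certs4_ok : certs4.all certOK = true := by decide +kernel

/-- Certificates, part 5. -/
def certs5 : List Cert :=
  [(82, (0, 2, 2), (0, 0, 1), (0, 2, 2), [(1, 0, 2)]),
   (83, (0, 0, 1), (0, 0, 1), (0, 1, 0), [(2, 0, 0)]),
   (84, (1, 2, 2), (0, 0, 2), (0, 2, 2), [(1, 0, 2), (2, 0, 2)]),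
   (85, (0, 0, 2), (0, 0, 2), (0, 2, 0), [(2, 0, 0)]),
   (86, (0, 0, 1), (0, 0, 1), (0, 1, 0), [(2, 0, 1), (2, 0, 2), (0, 0, 2)]),
   (87, (0, 2, 2), (0, 0, 1), (0, 1, 0), [(2, 0, 0)]),
   (88, (0, 1, 1), (0, 1, 1), (2, 0, 2), [(1, 0, 2), (1, 0, 1)]),
   (89, (1, 2, 2), (0, 1, 1), (1, 0, 1), [(2, 0, 0)]),
   (90, (0, 1, 1), (0, 0, 1), (0, 1, 0), [(1, 0, 2), (2, 0, 2)]),
   (91, (0, 0, 1), (0, 0, 1), (0, 1, 0), [(2, 0, 0)]),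
   (92, (0, 0, 2), (0, 0, 2), (0, 2, 2), [(1, 0, 2), (0, 0, 2)]),
   (93, (0, 0, 2), (0, 0, 2), (0, 1, 1), [(2, 0, 0)]),
   (94, (0, 1, 1), (0, 0, 1), (0, 1, 0), [(1, 0, 2), (2, 0, 2), (2, 0, 1)]),
   (95, (1, 2, 2), (0, 0, 1), (0, 1, 0), [(2, 0, 0)]),
   (96, (1, 2, 2), (1, 1, 2), (1, 2, 1), [(1, 2, 2), (0, 1, 1), (1, 0, 2), (1, 2, 0)])]

theorem certs5_ok : certs5.all certOK = true := by decide +kernel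

/-- Certificates, part 6. -/
def certs6 : List Cert :=
  [(98, (1, 2, 2), (0, 0, 1), (1, 2, 1), [(0, 1, 1), (2, 2, 2), (2, 2, 0)]),
   (99, (0, 0, 1), (0, 0, 1), (0, 1, 0), [(2, 0, 0)]),
   (100, (1, 2, 2), (0, 0, 2), (0, 2, 0), [(1, 0, 2), (1, 0, 1)]),
   (101, (0, 0, 2), (0, 0, 2), (0, 2, 0), [(2, 0, 0)]),
   (102, (0, 0, 2), (0, 0, 1), (0, 1, 0), [(2, 0, 2), (2, 2, 0), (1, 1, 1)]),
   (103, (0, 0, 1), (0, 0, 1), (0, 1, 0), [(1, 0, 1), (1, 1, 0), (1, 1, 1), (1, 2, 2)]),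
   (104, (1, 1, 2), (0, 1, 1), (1, 0, 1), [(1, 0, 1), (1, 0, 2)]),
   (105, (0, 1, 1), (0, 1, 1), (1, 0, 1), [(2, 0, 0)]),
   (106, (0, 0, 1), (0, 0, 1), (0, 1, 0), [(1, 0, 2), (1, 0, 1), (2, 0, 2)]),
   (107, (0, 0, 1), (0, 0, 1), (0, 1, 0), [(2, 0, 0)]),
   (108, (0, 1, 1), (0, 0, 2), (0, 1, 1), [(1, 2, 0), (2, 1, 0)]),
   (109, (0, 0, 2), (0, 0, 2), (0, 1, 1), [(2, 0, 0)]),
   (110, (0, 0, 1), (0, 0, 1), (0, 1, 0), [(2, 0, 2), (1, 0, 2), (1, 0, 1)]),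
   (111, (0, 1, 1), (0, 0, 1), (0, 1, 0), [(2, 0, 0)]),
   (112, (1, 1, 2), (0, 2, 2), (1, 1, 2), [(1, 2, 0), (1, 1, 0)])]

theorem certs6_ok : certs6.all certOK = true := by decide +kernel

/-- Certificates, part 7. -/
def certs7 : List Cert :=
  [(113, (0, 2, 2), (0, 2, 2), (1, 1, 2), [(2, 0, 0)]),
   (114, (0, 2, 2), (0, 0, 1), (0, 2, 2), [(1, 0, 2), (1, 2, 2), (1, 0, 1), (2, 1, 1), (1, 1, 2)]),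
   (115, (0, 0, 1), (0, 0, 1), (0, 1, 0), [(2, 0, 0)]),
   (116, (1, 1, 2), (0, 0, 2), (0, 2, 0), [(2, 0, 2), (1, 0, 2)]),
   (117, (0, 0, 2), (0, 0, 2), (0, 2, 0), [(2, 0, 0)]),
   (118, (0, 0, 1), (0, 0, 1), (0, 1, 0), [(1, 0, 1), (2, 0, 1)]),
   (119, (0, 2, 2), (0, 0, 1), (0, 1, 0), [(2, 0, 0)]),
   (120, (1, 2, 2), (0, 1, 1), (1, 0, 1), [(2, 0, 2), (2, 2, 0), (1, 1, 1)]),
   (121, (1, 1, 2), (0, 1, 1), (1, 0, 1), [(1, 0, 1), (1, 1, 0), (1, 1, 1), (0, 1, 1)]),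
   (122, (1, 2, 2), (0, 0, 1), (0, 2, 2), [(2, 2, 0), (1, 2, 0), (1, 1, 0)]),
   (123, (0, 0, 1), (0, 0, 1), (0, 1, 0), [(2, 0, 0)]),
   (124, (1, 1, 2), (0, 0, 2), (0, 1, 1), [(2, 0, 2), (2, 0, 1), (0, 0, 2)]),
   (125, (0, 0, 2), (0, 0, 2), (0, 1, 1), [(2, 0, 0)]),
   (126, (0, 0, 1), (0, 0, 1), (0, 1, 0), [(1, 0, 1), (1, 0, 2), (1, 1, 0), (1, 2, 0), (0, 0, 2), (2, 0, 1), (2, 0, 2)]),
   (127, (0, 0, 1), (0, 0, 1), (0, 1, 0), [(1, 0, 1), (1, 0, 2), (1, 1, 0), (1, 2, 0), (0, 1, 1), (0, 1, 2), (1, 1, 1), (1, 1, 2), (1, 2, 1), (1, 2, 2)])]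

theorem certs7_ok : certs7.all certOK = true := by decide +kernel

/-- All the certificates. -/
def certs : List Cert := certs0 ++ certs1 ++ certs2 ++ certs3 ++ certs4 ++ certs5 ++ certs6 ++ certs7

theorem certs_ok : certs.all certOK = true := by
  simp only [certs, List.all_append, certs0_ok, certs1_ok, certs2_ok, certs3_ok, certs4_ok, certs5_ok, certs6_ok, certs7_ok, Bool.and_self]

theorem certs_cover : ∀ m : Fin 128, (m : ℕ) ∈ [0, 1, 64, 97, 8, 25, 4, 7] ∨ (m : ℕ) ∈ certs.map (·.1) := by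
  decide +kernel

end Cfsg.Agent.NineSym
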