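import Cfsg.Agent.Lib.NineSym.EndgameStage

/-!
# The endgame: a copy of `S₉` with the centralizers of the elements of order three and of `(03)(14)(25)` is all

In six steps the centralizers of `{(56),(78)}`, of `(78)`, of two fours groups, of `(56)(78)` and of `1`
are shown to lie in the copy.
-/

set_option autoImplicit false
set_option linter.style.haveILetI false
set_option linter.unusedSectionVars false
set_option maxRecDepth 100000
set_option synthInstance.maxSize 10000

namespace Cfsg.Agent.NineSym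

namespace Endgame

open Equiv Subgroup

theorem all_of {p : S9 → Prop} [DecidablePred p] {V : List S9}
    (h : (V.all fun s => decide (p s)) = true) : ∀ s ∈ V, p s := fun s hs =>
  of_decide_eq_true (List.all_eq_true.1 h s hs)

variable {G : Type*} [Group G] [Finite G] {f : S9 →* G}

theorem ClosedList.gens {V K : List S9} (h : ClosedList f V)
    (hK : (V.all fun u => decide (u = 1) || decide (u ∈ K) ||
      K.any fun a => K.any fun b => decide (u = a * b)) = true) : ClosedList f K := by
  intro g hg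
  refine h g fun u hu => ?_
  simp only [List.all_eq_true, List.any_eq_true, Bool.or_eq_true, decide_eq_true_eq] at hK
  rcases hK u hu with (rfl | hu) | ⟨a, ha, b, hb, rfl⟩
  · simp
  · exact hg u hu
  · rw [map_mul, ← mul_assoc, hg a ha, mul_assoc, hg b hb, ← mul_assoc]

theorem ClosedList.closed {u : S9} (h : ClosedList f [1, u]) : Closed f u := fun g hg => h g fun s hs => by
  rcases List.mem_pair.1 hs with rfl | rfl
  · simp
  · exact hg

variable (D : Hyp f)
include D

theorem moved {cnt : List ℕ} {Kn : List (List S9)} {V : List S9} {w1 w2 : S9}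
    (hcert : cert cnt Kn V w1 w2 = true) (hcnt : ∀ σ : S9, σ * σ = 1 → mv σ ∈ cnt → Closed f σ)
    (hKn : ∀ K ∈ Kn, ClosedList f K) (h2 : w2 * w2 = 1) (hwV : ∀ s ∈ V, w2 * s = s * w2)
    {g : G} (hg : ∀ s ∈ V, g * f s = f s * g) {c : S9} (hc : ∀ s ∈ V, c * s = s * c) :
    g * f (c * w2 * c⁻¹) * g⁻¹ ∈ f.range := by
  have hgc : ∀ s ∈ V, Commute (g * f c) (f s) := fun s hs =>
    (show Commute g (f s) from hg s hs).mul_left ((show Commute c s from hc s hs).map f)
  have e : g * f (c * w2 * c⁻¹) * g⁻¹ = g * f c * f w2 * (g * f c)⁻¹ := by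
    simp only [map_mul, map_inv]; group
  rw [e]
  refine stage D hcert hcnt hKn (fun s hs => ?_) ?_ ?_
  · exact (((hgc s hs).mul_left ((show Commute w2 s from hwV s hs).map f)).mul_left (hgc s hs).inv_left).eq
  · rw [show g * f c * f w2 * (g * f c)⁻¹ * (g * f c * f w2 * (g * f c)⁻¹) =
      g * f c * (f w2 * f w2) * (g * f c)⁻¹ by group, ← map_mul, h2, map_one, mul_one, mul_inv_cancel]
  · refine List.map_congr_left fun s hs => ConjClasses.mk_eq_mk_iff_isConj.2
      (isConj_iff.2 ⟨(g * f c)⁻¹, ?_⟩)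
    rw [inv_inv]
    calc (g * f c)⁻¹ * (g * f c * f w2 * (g * f c)⁻¹ * f s) * (g * f c)
        = f w2 * ((g * f c)⁻¹ * (f s * (g * f c))) := by group
      _ = f w2 * f s := by rw [← (hgc s hs).eq]; group

theorem list_of_closed {cnt : List ℕ} {Kn : List (List S9)} {V : List S9} {w1 w2 u : S9}
    (hcert : cert cnt Kn V w1 w2 = true) (hcnt : ∀ σ : S9, σ * σ = 1 → mv σ ∈ cnt → Closed f σ)
    (hKn : ∀ K ∈ Kn, ClosedList f K)
    (h : w2 * w2 = 1 ∧ (V.all fun s => decide (w2 * s = s * w2)) = true ∧ u ∈ V ∧ w2 * u * (w2 * u) = 1 ∧ mv (w2 * u : S9) ∈ cnt) :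
    ClosedList f V := by
  obtain ⟨h2, hwV, hu, hsq, hm⟩ := h
  replace hwV := all_of hwV
  intro g hg
  have h1 := moved D hcert hcnt hKn h2 hwV hg (c := 1) (by simp)
  rw [one_mul, inv_one, mul_one] at h1
  refine conj_closed D hsq (hcnt _ hsq hm) ?_
  have e : g * f (w2 * u) * g⁻¹ = g * f w2 * g⁻¹ * f u := by
    calc g * f (w2 * u) * g⁻¹ = g * f w2 * g⁻¹ * (g * f u * g⁻¹) := by rw [map_mul]; group
      _ = g * f w2 * g⁻¹ * f u := by rw [hg u hu, mul_inv_cancel_right]
  rw [e]
  exact mul_mem h1 ⟨u, rfl⟩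

theorem list_of_three {cnt : List ℕ} {Kn : List (List S9)} {V : List S9} {w1 w2 : S9}
    (hcert : cert cnt Kn V w1 w2 = true) (hcnt : ∀ σ : S9, σ * σ = 1 → mv σ ∈ cnt → Closed f σ)
    (hKn : ∀ K ∈ Kn, ClosedList f K) {c d σ : S9}
    (h : w2 * w2 = 1 ∧ (V.all fun s => decide (w2 * s = s * w2)) = true ∧
      (V.all fun s => decide (c * s = s * c)) = true ∧ (V.all fun s => decide (d * s = s * d)) = true ∧
      c * w2 * c⁻¹ * (d * w2 * d⁻¹) = σ ∧ σ ^ 3 = 1 ∧ σ ≠ 1) :
    ClosedList f V := by
  obtain ⟨h2, hwV, hc, hd, rfl, h3, h1⟩ := h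
  replace hwV := all_of hwV
  replace hc := all_of hc
  replace hd := all_of hd
  intro g hg
  refine conj_three D h3 h1 ?_
  rw [map_mul, show g * (f (c * w2 * c⁻¹) * f (d * w2 * d⁻¹)) * g⁻¹ =
    g * f (c * w2 * c⁻¹) * g⁻¹ * (g * f (d * w2 * d⁻¹) * g⁻¹) by group]
  exact mul_mem (moved D hcert hcnt hKn h2 hwV hg hc) (moved D hcert hcnt hKn h2 hwV hg hd)

theorem closed_of_mv {τ : S9} (hτ : Closed f τ) (hτ2 : τ * τ = 1) {σ : S9} (hσ : σ * σ = 1)
    (h : mv τ = mv σ) : Closed f σ := by
  obtain ⟨c, rfl⟩ := isConj_iff.1 (conj_of_mv hτ2 hσ h)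
  exact hτ.conj c

theorem cnt_six : ∀ σ : S9, σ * σ = 1 → mv σ ∈ [6] → Closed f σ := fun σ hσ h =>
  closed_of_mv D D.rho (by decide +kernel) hσ
    (by rw [List.mem_singleton.1 h]; decide +kernel)

/-- Step one. -/
theorem list_pair : ClosedList f [swap 5 6, swap 7 8] := by
  have h : ClosedList f [1, swap 5 6, swap 7 8, swap 5 6 * swap 7 8] :=
    list_of_closed D (cnt := [6]) (Kn := []) (w1 := swap 3 4) (w2 := swap 1 2 * swap 3 4) (u := swap 5 6)
      (by decide +kernel) (cnt_six D) (by simp) (by decide +kernel)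
  exact h.gens (by decide +kernel)

/-- The pairs used in step two. -/
def pairs : List (List S9) :=
  (List.finRange 9).flatMap fun a => ((List.finRange 9).filter fun b =>
    decide (a < b) && decide (b.val < 7)).map fun b => [swap 7 8, swap a b]

theorem pairs_closed : ∀ K ∈ pairs, ClosedList f K := by
  intro K hK
  simp only [pairs, List.mem_flatMap, List.mem_map, List.mem_filter, Bool.and_eq_true,
    decide_eq_true_eq] at hK
  obtain ⟨a, -, b, ⟨-, hab, hb⟩, rfl⟩ := hK
  have key : ∀ a b : Fin 9, a < b → b.val < 7 →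
      (([swap 5 6, swap 7 8] : List S9).all fun s =>
        decide ((swap 5 a * swap 6 (swap 5 a b)) * s * (swap 5 a * swap 6 (swap 5 a b))⁻¹ ∈
          ([swap 7 8, swap a b] : List S9))) = true := by decide +kernel
  exact (list_pair D).conj _ (all_of (key a b hab hb))

/-- Step two. -/
theorem closed_swap : Closed f (swap 7 8) :=
  ClosedList.closed (list_of_three D (cnt := [6]) (Kn := pairs) (V := [1, swap 7 8])
    (w1 := swap 3 4 * swap 5 6) (w2 := swap 5 6)
    (c := swap 0 5 * swap 1 6) (d := swap 1 5 * swap 2 6) (σ := swap 0 1 * swap 1 2)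
    (by decide +kernel) (cnt_six D) (pairs_closed D) (by decide +kernel))

theorem cnt_two_six : ∀ σ : S9, σ * σ = 1 → mv σ ∈ [2, 6] → Closed f σ := fun σ hσ h => by
  rcases List.mem_pair.1 h with h | h
  · exact closed_of_mv D (closed_swap D) (by decide +kernel) hσ (by rw [h]; decide +kernel)
  · exact cnt_six D σ hσ (by simp [h])

/-- Step three. -/
theorem list_w : ClosedList f [swap 5 6 * swap 7 8, swap 5 6 * swap 0 1] := by
  have h : ClosedList f [1, swap 5 6 * swap 7 8, swap 5 6 * swap 0 1, swap 7 8 * swap 0 1] :=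
    list_of_three D (cnt := [2, 6]) (Kn := []) (w1 := swap 2 3) (w2 := swap 5 6 * swap 2 3)
      (c := 1) (d := swap 2 4) (σ := swap 2 3 * swap 3 4)
      (by decide +kernel) (cnt_two_six D) (by simp) (by decide +kernel)
  exact h.gens (by decide +kernel)

/-- Step four. -/
theorem list_four : ClosedList f [swap 5 6 * swap 7 8, swap 0 1 * swap 2 3] := by
  have h : ClosedList f
      [1, swap 5 6 * swap 7 8, swap 0 1 * swap 2 3, swap 5 6 * swap 7 8 * (swap 0 1 * swap 2 3)] :=
    list_of_closed D (cnt := [2, 6])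
      (Kn := [[swap 5 6 * swap 7 8, swap 5 6 * swap 0 1], [swap 5 6 * swap 7 8, swap 5 6 * swap 2 3]])
      (w1 := swap 5 6) (w2 := swap 0 1) (u := 1)
      (by decide +kernel) (cnt_two_six D) (by
        intro K hK
        rcases List.mem_pair.1 hK with rfl | rfl
        · exact list_w D
        · exact (list_w D).conj (swap 0 2 * swap 1 3) (all_of (by decide +kernel)))
      (by decide +kernel)
  exact h.gens (by decide +kernel)

/-- Step five. -/
theorem closed_double : Closed f (swap 5 6 * swap 7 8) :=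
  ClosedList.closed (list_of_closed D (cnt := [2, 6])
    (Kn := [[swap 5 6 * swap 7 8, swap 5 6 * swap 0 1], [swap 5 6 * swap 7 8, swap 0 1 * swap 2 3],
      [swap 5 6 * swap 7 8, swap 0 1 * swap 2 4], [swap 5 6 * swap 7 8, swap 0 1 * swap 3 4]])
    (V := [1, swap 5 6 * swap 7 8]) (w1 := swap 0 1) (w2 := swap 5 6) (u := 1)
    (by decide +kernel) (cnt_two_six D) (by
      intro K hK
      simp only [List.mem_cons, List.not_mem_nil, or_false] at hK
      rcases hK with rfl | rfl | rfl | rfl
      · exact list_w D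
      · exact list_four D
      · exact (list_four D).conj (swap 3 4) (all_of (by decide +kernel))
      · exact (list_four D).conj (swap 2 4) (all_of (by decide +kernel)))
    (by decide +kernel))

omit D in
set_option maxHeartbeats 0 in
theorem cert_six :
    cert [2, 4, 6] [] [1] (swap 7 8) (swap 5 6 * swap 7 8) = true := by decide +kernel

/-- Step six. -/
theorem list_one : ClosedList f [1] :=
  list_of_closed D (cnt := [2, 4, 6]) (Kn := []) (w1 := swap 7 8) (w2 := swap 5 6 * swap 7 8) (u := 1)
    cert_six (fun σ hσ h => by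
      simp only [List.mem_cons, List.not_mem_nil, or_false] at h
      rcases h with h | h | h
      · exact cnt_two_six D σ hσ (by simp [h])
      · exact closed_of_mv D (closed_double D) (by decide +kernel) hσ (by rw [h]; decide +kernel)
      · exact cnt_six D σ hσ (by simp [h]))
    (by simp) (by decide +kernel)

end Endgame

/-- A copy of `S₉` containing the centralizers of its elements of order three and of `(03)(14)(25)` is all. -/
theorem endgame {G : Type*} [Group G] [Finite G] (f : S9 →* G) (hf : Function.Injective f)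
    (ha : ∀ g : G, g * f aP = f aP * g → g ∈ f.range)
    (hab : ∀ g : G, g * f (aP * bP) = f (aP * bP) * g → g ∈ f.range)
    (hx : ∀ g : G, g * f (jP (1, 1, 1)) = f (jP (1, 1, 1)) * g → g ∈ f.range)
    (hρ : ∀ g : G, g * f rhoP = f rhoP * g → g ∈ f.range) : Function.Surjective f := fun g =>
  MonoidHom.mem_range.1 (Endgame.list_one ⟨hf, ha, hab, hx, hρ⟩ g fun s hs => by
    rw [List.mem_singleton.1 hs]; simp)

end Cfsg.Agent.NineSym
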