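import Cfsg.Agent.Lib.NineSym.Model
import Cfsg.Agent.Lib.NineSym.Tools

/-!
# Fusion of a copy of `S₉` containing the centralizers of its elements of order three
-/

set_option autoImplicit false
set_option linter.style.haveILetI false
set_option linter.unusedSectionVars false
set_option maxRecDepth 100000
set_option synthInstance.maxSize 10000

namespace Cfsg.Agent.NineSym.Endgame

open Equiv Subgroup

/-- The number of moved points. -/
def mv (φ : Fin 9 → Fin 9) : ℕ := ((List.finRange 9).filter fun i => decide (φ i ≠ i)).length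

theorem mv_eq_card (σ : S9) : mv σ = σ.support.card := by
  rw [mv, ← List.toFinset_card_of_nodup ((List.nodup_finRange 9).filter _)]
  congr 1
  ext i
  simp [Equiv.Perm.mem_support]

theorem mv_one : mv ⇑(1 : S9) = 0 := by decide +kernel

theorem type_two (σ : S9) (h2 : σ * σ = 1) (h1 : σ ≠ 1) :
    ∃ n, σ.cycleType = Multiset.replicate n 2 ∧ mv σ = n * 2 ∧ 1 ≤ n ∧ n ≤ 4 := by
  haveI : Fact (Nat.Prime 2) := ⟨Nat.prime_two⟩
  have ho : orderOf σ = 2 := orderOf_eq_prime (by rw [pow_two, h2]) h1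
  obtain ⟨n, hn⟩ := Equiv.Perm.cycleType_prime_order (σ := σ) (by rw [ho]; exact Nat.prime_two)
  rw [ho] at hn
  have h := Equiv.Perm.sum_cycleType σ
  have h9 := Finset.card_le_univ σ.support
  rw [hn, Multiset.sum_replicate, smul_eq_mul] at h
  rw [Fintype.card_fin] at h9
  exact ⟨n + 1, hn, by rw [mv_eq_card]; exact h.symm, by omega, by omega⟩

theorem conj_of_mv {σ τ : S9} (hσ : σ * σ = 1) (hτ : τ * τ = 1) (h : mv σ = mv τ) : IsConj σ τ := by
  by_cases h1 : σ = 1
  · subst h1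
    by_cases h2 : τ = 1
    · subst h2; exact IsConj.refl _
    · obtain ⟨n, -, hn, hn1, -⟩ := type_two τ hτ h2
      rw [mv_one] at h
      omega
  · obtain ⟨n, hn, hmn, hn1, -⟩ := type_two σ hσ h1
    have h2 : τ ≠ 1 := fun e => by
      rw [e, mv_one] at h
      omega
    obtain ⟨m, hm, hmm, -, -⟩ := type_two τ hτ h2
    refine Equiv.Perm.isConj_of_cycleType_eq ?_
    rw [hn, hm]
    congr 1
    omega

theorem type_three (σ : S9) (h3 : σ ^ 3 = 1) (h1 : σ ≠ 1) :
    ∃ n, σ.cycleType = Multiset.replicate n 3 ∧ 1 ≤ n ∧ n ≤ 3 := by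
  haveI : Fact (Nat.Prime 3) := ⟨Nat.prime_three⟩
  have ho : orderOf σ = 3 := orderOf_eq_prime h3 h1
  obtain ⟨n, hn⟩ := Equiv.Perm.cycleType_prime_order (σ := σ) (by rw [ho]; exact Nat.prime_three)
  rw [ho] at hn
  have h := Equiv.Perm.sum_cycleType σ
  have h9 := Finset.card_le_univ σ.support
  rw [hn, Multiset.sum_replicate, smul_eq_mul] at h
  rw [Fintype.card_fin] at h9
  exact ⟨n + 1, hn, by omega, by omega⟩

/-- The order of the centralizer of `n` three-cycles. -/
theorem card_cent_three (σ : S9) (n : ℕ) (hn : 1 ≤ n) (h : σ.cycleType = Multiset.replicate n 3) :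
    Nat.card (centralizer ({σ} : Set S9)) = (9 - n * 3).factorial * 3 ^ n * n.factorial := by
  rw [Equiv.Perm.nat_card_centralizer, h, Fintype.card_fin, Multiset.sum_replicate, smul_eq_mul,
    Multiset.prod_replicate]
  congr 1
  have : (Multiset.replicate n 3).toFinset = {3} := by
    ext x
    simp [show n ≠ 0 by omega]
  rw [this, Finset.prod_singleton, Multiset.count_replicate_self]

theorem three_commuting (σ : S9) (h2 : σ * σ = 1) : ∃ d : S9, d ^ 3 = 1 ∧ d ≠ 1 ∧ d * σ = σ * d := by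
  by_cases h1 : σ = 1
  · subst h1
    exact ⟨aP, by decide +kernel, by decide +kernel, by simp⟩
  · have reps : ∀ n : Fin 5, 1 ≤ n.val → ∃ τ d : S9, τ * τ = 1 ∧ mv τ = n.val * 2 ∧
        d ^ 3 = 1 ∧ d ≠ 1 ∧ d * τ = τ * d := by
      intro n hn
      fin_cases n
      · simp at hn
      · exact ⟨swap 7 8, aP, by decide +kernel⟩
      · exact ⟨swap 5 6 * swap 7 8, aP, by decide +kernel⟩
      · exact ⟨rhoP, aP * bP, by decide +kernel⟩
      · exact ⟨swap 1 2 * swap 3 4 * swap 5 6 * swap 7 8,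
          swap 1 3 * swap 3 5 * (swap 2 4 * swap 4 6), by decide +kernel⟩
    obtain ⟨n, -, hmv, hn1, hn4⟩ := type_two σ h2 h1
    obtain ⟨τ, d, hτ, hτn, d3, d1, dc⟩ := reps ⟨n, by omega⟩ hn1
    obtain ⟨c, rfl⟩ := isConj_iff.1 (conj_of_mv hτ h2 (by rw [hτn, hmv]))
    refine ⟨c * d * c⁻¹, by rw [conj_pow, d3, mul_one, mul_inv_cancel],
      fun e => d1 (conj_eq_one_iff.1 e), ?_⟩
    calc c * d * c⁻¹ * (c * τ * c⁻¹) = c * (d * τ) * c⁻¹ := by group
      _ = c * (τ * d) * c⁻¹ := by rw [dc]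
      _ = _ := by group

/-- The hypotheses of the endgame. -/
structure Hyp {G : Type*} [Group G] (f : S9 →* G) : Prop where
  inj : Function.Injective f
  a : ∀ g : G, g * f aP = f aP * g → g ∈ f.range
  ab : ∀ g : G, g * f (aP * bP) = f (aP * bP) * g → g ∈ f.range
  x : ∀ g : G, g * f (jP (1, 1, 1)) = f (jP (1, 1, 1)) * g → g ∈ f.range
  rho : ∀ g : G, g * f rhoP = f rhoP * g → g ∈ f.range

variable {G : Type*} [Group G] [Finite G] {f : S9 →* G}

/-- The centralizer of the image of a perm is inside the copy. -/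
def Closed (f : S9 →* G) (σ : S9) : Prop := ∀ g : G, g * f σ = f σ * g → g ∈ f.range

theorem Closed.conj {σ : S9} (h : Closed f σ) (c : S9) : Closed f (c * σ * c⁻¹) := by
  intro g hg
  have h1 : (f c)⁻¹ * g * f c ∈ f.range := by
    refine h _ ?_
    calc (f c)⁻¹ * g * f c * f σ = (f c)⁻¹ * (g * f (c * σ * c⁻¹)) * f c := by
          simp only [map_mul, map_inv]; group
      _ = (f c)⁻¹ * (f (c * σ * c⁻¹) * g) * f c := by rw [hg]
      _ = f σ * ((f c)⁻¹ * g * f c) := by simp only [map_mul, map_inv]; group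
  have := mul_mem (mul_mem (⟨c, rfl⟩ : f c ∈ f.range) h1) (inv_mem (⟨c, rfl⟩ : f c ∈ f.range))
  simpa [mul_assoc] using this

theorem Closed.card_eq (hf : Function.Injective f) {σ : S9} (h : Closed f σ) :
    Nat.card (centralizer ({f σ} : Set G)) = Nat.card (centralizer ({σ} : Set S9)) := by
  let j : centralizer ({σ} : Set S9) →* centralizer ({f σ} : Set G) :=
    (f.comp (Subgroup.subtype _)).codRestrict _ fun x => mem_centralizer_singleton_iff.2 (by
      rw [MonoidHom.comp_apply, Subgroup.coe_subtype, ← map_mul, ← map_mul,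
        mem_centralizer_singleton_iff.1 x.2])
  refine (Nat.card_eq_of_bijective j ⟨fun x y e => Subtype.ext (hf (congrArg Subtype.val e)), fun g => ?_⟩).symm
  obtain ⟨τ, hτ⟩ := h g (mem_centralizer_singleton_iff.1 g.2)
  refine ⟨⟨τ, mem_centralizer_singleton_iff.2 (hf ?_)⟩, Subtype.ext hτ⟩
  rw [map_mul, map_mul, hτ]
  exact mem_centralizer_singleton_iff.1 g.2

variable (D : Hyp f)
include D

theorem closed_three {σ : S9} (h3 : σ ^ 3 = 1) (h1 : σ ≠ 1) : Closed f σ := by
  obtain ⟨n, hn, hn1, hn3⟩ := type_three σ h3 h1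
  have reps : ∃ τ : S9, Closed f τ ∧ τ ^ 3 = 1 ∧ τ ≠ 1 ∧ τ.support.card = n * 3 := by
    interval_cases n
    · exact ⟨aP, D.a, by decide +kernel⟩
    · exact ⟨aP * bP, D.ab, by decide +kernel⟩
    · exact ⟨jP (1, 1, 1), D.x, by decide +kernel⟩
  obtain ⟨τ, hτ, τ3, τ1, τc⟩ := reps
  obtain ⟨m, hm, -, -⟩ := type_three τ τ3 τ1
  have hs := Equiv.Perm.sum_cycleType τ
  rw [hm, Multiset.sum_replicate, smul_eq_mul, τc] at hs
  obtain ⟨c, rfl⟩ := isConj_iff.1 (Equiv.Perm.isConj_of_cycleType_eq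
    (show τ.cycleType = σ.cycleType by rw [hm, hn]; congr 1; omega))
  exact hτ.conj c

/-- An element moving an element of order three of the copy into the copy lies in the copy. -/
theorem conj_three {σ : S9} (h3 : σ ^ 3 = 1) (h1 : σ ≠ 1) {g : G} (hg : g * f σ * g⁻¹ ∈ f.range) :
    g ∈ f.range := by
  obtain ⟨τ, hτ⟩ := hg
  have τ3 : τ ^ 3 = 1 := D.inj (by rw [map_pow, hτ, conj_pow, ← map_pow, h3, map_one, mul_one, mul_inv_cancel])
  have τ1 : τ ≠ 1 := fun e => h1 (D.inj (by
    rw [map_one]; rw [e, map_one] at hτ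
    exact conj_eq_one_iff.1 hτ.symm))
  obtain ⟨n, hn, hn1, hn3⟩ := type_three σ h3 h1
  obtain ⟨m, hm, hm1, hm3⟩ := type_three τ τ3 τ1
  have hmap : (centralizer ({f σ} : Set G)).map (MulAut.conj g).toMonoidHom = centralizer ({f τ} : Set G) := by
    ext y
    rw [mem_map_equiv, mem_centralizer_singleton_iff, mem_centralizer_singleton_iff,
      ← (MulAut.conj g).injective.eq_iff, map_mul, map_mul, MulEquiv.apply_symm_apply, MulAut.conj_apply, ← hτ]
  have hcard := Subgroup.card_map_of_injective (K := centralizer ({f σ} : Set G))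
    (f := (MulAut.conj g).toMonoidHom) (MulAut.conj g).injective
  rw [hmap, (closed_three D h3 h1).card_eq D.inj, (closed_three D τ3 τ1).card_eq D.inj,
    card_cent_three σ n hn1 hn, card_cent_three τ m hm1 hm] at hcard
  have hnm : n = m := by
    interval_cases n <;> interval_cases m <;> first | rfl | (norm_num [Nat.factorial] at hcard)
  obtain ⟨c, hc⟩ := isConj_iff.1 (Equiv.Perm.isConj_of_cycleType_eq
    (show σ.cycleType = τ.cycleType by rw [hn, hm, hnm]))
  have h : (f c)⁻¹ * g ∈ f.range := by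
    refine closed_three D h3 h1 _ ?_
    calc (f c)⁻¹ * g * f σ = (f c)⁻¹ * (g * f σ * g⁻¹) * g := by group
      _ = (f c)⁻¹ * f (c * σ * c⁻¹) * g := by rw [← hτ, hc]
      _ = f σ * ((f c)⁻¹ * g) := by simp only [map_mul, map_inv]; group
  have := mul_mem (⟨c, rfl⟩ : f c ∈ f.range) h
  rwa [mul_inv_cancel_left] at this

/-- Involutions of the copy fused in the group are conjugate in the copy. -/
theorem mv_of_conj {σ τ : S9} (hσ : σ * σ = 1) {g : G} (hg : g * f σ * g⁻¹ = f τ) : mv σ = mv τ := by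
  haveI : Fact (Nat.Prime 3) := ⟨Nat.prime_three⟩
  have hτ : τ * τ = 1 := D.inj (by
    rw [map_mul, ← hg, show g * f σ * g⁻¹ * (g * f σ * g⁻¹) = g * (f σ * f σ) * g⁻¹ by group,
      ← map_mul, hσ, map_one, mul_one, mul_inv_cancel])
  -- a Sylow subgroup of the centralizer of `τ`
  obtain ⟨P⟩ : Nonempty (Sylow 3 (centralizer ({τ} : Set S9))) := inferInstance
  set S := ((P : Subgroup (centralizer ({τ} : Set S9))).map (Subgroup.subtype _)).map f with hS
  have hne : ∃ s ∈ (P : Subgroup (centralizer ({τ} : Set S9))), orderOf s = 3 := by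
    obtain ⟨d, d3, d1, dc⟩ := three_commuting τ hτ
    have hd : orderOf (⟨d, mem_centralizer_singleton_iff.2 dc⟩ : centralizer ({τ} : Set S9)) = 3 := by
      rw [Subgroup.orderOf_mk]; exact orderOf_eq_prime d3 d1
    have h3 : 3 ∣ Nat.card (centralizer ({τ} : Set S9)) := hd ▸ orderOf_dvd_natCard _
    obtain ⟨s, hs⟩ := exists_prime_orderOf_dvd_card' 3 (P.dvd_card_of_dvd_card h3)
    exact ⟨s, s.2, by rw [Subgroup.orderOf_coe]; exact hs⟩
  obtain ⟨s0, hs0, ho0⟩ := hne
  have hS3 : SylowAt (centralizer ({f τ} : Set G)) S := by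
    refine SylowAt.of_normalizer ?_ ((P.2.map _).map _) ?_
    · rintro _ ⟨y, ⟨s, -, rfl⟩, rfl⟩
      refine mem_centralizer_singleton_iff.2 ?_
      rw [Subgroup.coe_subtype, ← map_mul, ← map_mul, mem_centralizer_singleton_iff.1 s.2]
    · intro y hy hyN hyk
      have h1 : y ∈ f.range := by
        refine conj_three D (σ := (s0 : S9)) ?_ ?_ ?_
        · have := pow_orderOf_eq_one s0
          rw [ho0] at this
          simpa using congrArg Subtype.val this
        · intro e
          rw [show s0 = 1 from Subtype.ext e, orderOf_one] at ho0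
          omega
        · obtain ⟨z, ⟨w, -, rfl⟩, e⟩ := (mem_normalizer_iff.1 hyN (f (s0 : S9))).1 ⟨_, ⟨s0, hs0, rfl⟩, rfl⟩
          exact ⟨_, e⟩
      obtain ⟨κ, rfl⟩ := h1
      have hκ : κ ∈ centralizer ({τ} : Set S9) := mem_centralizer_singleton_iff.2 (D.inj (by
        rw [map_mul, map_mul]; exact mem_centralizer_singleton_iff.1 hy))
      refine ⟨κ, ⟨⟨κ, hκ⟩, ?_, rfl⟩, rfl⟩
      obtain ⟨k, hk⟩ := hyk
      have hk' : (⟨κ, hκ⟩ : centralizer ({τ} : Set S9)) ^ 3 ^ k = 1 :=
        Subtype.ext (D.inj (by simpa using hk))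
      have hz : IsPGroup 3 (zpowers (⟨κ, hκ⟩ : centralizer ({τ} : Set S9))) := by
        obtain ⟨j, -, hj⟩ := (Nat.dvd_prime_pow Nat.prime_three).1 (orderOf_dvd_of_pow_eq_one hk')
        exact IsPGroup.of_card (n := j) (by rw [Nat.card_zpowers, hj])
      have hnorm : zpowers (⟨κ, hκ⟩ : centralizer ({τ} : Set S9)) ≤
          normalizer ((P : Subgroup (centralizer ({τ} : Set S9))) : Set _) := by
        rw [zpowers_le, mem_normalizer_iff]
        intro x
        have key : ∀ z : centralizer ({τ} : Set S9),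
            f (z : S9) ∈ S ↔ z ∈ (P : Subgroup (centralizer ({τ} : Set S9))) := fun z =>
          ⟨fun ⟨_, ⟨w, hw, rfl⟩, e⟩ => (Subtype.ext (D.inj e) : w = z) ▸ hw, fun hz => ⟨_, ⟨z, hz, rfl⟩, rfl⟩⟩
        rw [← key, ← key, mem_normalizer_iff.1 hyN]
        simp [mul_assoc]
      have hsup := IsPGroup.to_sup_of_normal_left' P.2 hz hnorm
      have := P.3 hsup le_sup_left
      exact this ▸ Subgroup.mem_sup_right (mem_zpowers _)
  -- move an element of order three commuting with `σ`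
  obtain ⟨d, d3, d1, dc⟩ := three_commuting σ hσ
  obtain ⟨P', hP'⟩ := hS3.exists_sylow
  have hd' : g * f d * g⁻¹ ∈ centralizer ({f τ} : Set G) := by
    refine mem_centralizer_singleton_iff.2 ?_
    rw [← hg]
    calc g * f d * g⁻¹ * (g * f σ * g⁻¹) = g * f (d * σ) * g⁻¹ := by rw [map_mul]; group
      _ = g * f (σ * d) * g⁻¹ := by rw [dc]
      _ = _ := by rw [map_mul]; group
  set e : centralizer ({f τ} : Set G) := ⟨_, hd'⟩ with he
  have hep : IsPGroup 3 (zpowers e) := by
    obtain ⟨j, -, hj⟩ := (Nat.dvd_prime_pow Nat.prime_three (m := 1)).1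
      (orderOf_dvd_of_pow_eq_one (x := e) (n := 3 ^ 1) (Subtype.ext (by
        simp only [he, pow_one, SubmonoidClass.mk_pow, OneMemClass.coe_one]
        rw [conj_pow, ← map_pow, d3, map_one, mul_one, mul_inv_cancel])))
    exact IsPGroup.of_card (n := j) (by rw [Nat.card_zpowers, hj])
  obtain ⟨Q, hQ⟩ := hep.exists_le_sylow
  obtain ⟨c, hc⟩ := MulAction.exists_smul_eq (centralizer ({f τ} : Set G)) Q P'
  have hce : c * e * c⁻¹ ∈ (P' : Subgroup (centralizer ({f τ} : Set G))) := by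
    rw [← hc, Sylow.coe_subgroup_smul]
    exact smul_mem_pointwise_smul e (MulAut.conj c) _ (hQ (mem_zpowers e))
  rw [hP', mem_subgroupOf] at hce
  obtain ⟨z, ⟨w, -, rfl⟩, hz⟩ := hce
  have hin : (c : G) * g ∈ f.range := by
    refine conj_three D d3 d1 ⟨_, hz.trans ?_⟩
    simp only [he, Subgroup.coe_mul, InvMemClass.coe_inv]
    group
  obtain ⟨κ, hκ⟩ := hin
  have hκσ : κ * σ * κ⁻¹ = τ := D.inj (by
    rw [map_mul, map_mul, map_inv, hκ,
      show (c : G) * g * f σ * ((c : G) * g)⁻¹ = c * (g * f σ * g⁻¹) * (c : G)⁻¹ by group, hg,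
      mem_centralizer_singleton_iff.1 c.2, mul_inv_cancel_right])
  rw [mv_eq_card, mv_eq_card, ← hκσ, Equiv.Perm.card_support_conj]

/-- An element moving a closed involution of the copy into the copy lies in the copy. -/
theorem conj_closed {σ : S9} (hσ : σ * σ = 1) (hc : Closed f σ) {g : G} (hg : g * f σ * g⁻¹ ∈ f.range) :
    g ∈ f.range := by
  obtain ⟨τ, hτ⟩ := hg
  have hτ2 : τ * τ = 1 := D.inj (by
    rw [map_mul, hτ, show g * f σ * g⁻¹ * (g * f σ * g⁻¹) = g * (f σ * f σ) * g⁻¹ by group,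
      ← map_mul, hσ, map_one, mul_one, mul_inv_cancel])
  obtain ⟨c, hc'⟩ := isConj_iff.1 (conj_of_mv hσ hτ2 (mv_of_conj D hσ hτ.symm))
  have h : (f c)⁻¹ * g ∈ f.range := by
    refine hc _ ?_
    calc (f c)⁻¹ * g * f σ = (f c)⁻¹ * (g * f σ * g⁻¹) * g := by group
      _ = (f c)⁻¹ * f (c * σ * c⁻¹) * g := by rw [← hτ, hc']
      _ = f σ * ((f c)⁻¹ * g) := by simp only [map_mul, map_inv]; group
  have := mul_mem (⟨c, rfl⟩ : f c ∈ f.range) h
  rwa [mul_inv_cancel_left] at this

end Cfsg.Agent.NineSym.Endgame
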