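import Cfsg.Agent.Lib.NineSym.EndgameClasses

/-!
# One step of the endgame: the centralizer of a few involutions lies in the copy

A certificate checked on the symmetric group for the dihedral argument with patterns of classes.
-/

set_option autoImplicit false
set_option linter.style.haveILetI false
set_option linter.unusedSectionVars false
set_option maxRecDepth 100000
set_option synthInstance.maxSize 10000

namespace Cfsg.Agent.NineSym.Endgame

open Equiv Subgroup

/-- The lists of images of length `k` compatible with commuting with `V` and being an involution. -/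
def okList (V : List S9) (l : List (Fin 9)) : Bool :=
  decide l.Nodup && (List.finRange 9).all fun i => decide (l.length ≤ i.val) ||
    ((decide (l.length ≤ (l.getD i.val 0).val) || l.getD (l.getD i.val 0).val 0 == i) &&
      V.all fun s => decide (l.length ≤ (s i).val) || l.getD (s i).val 0 == s (l.getD i.val 0))

/-- All candidates of length `k`. -/
def enum (V : List S9) : ℕ → List (List (Fin 9))
  | 0 => [[]]
  | k + 1 => ((enum V k).flatMap fun l => (List.finRange 9).map fun x => l ++ [x]).filter (okList V)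

/-- The function of a list of images. -/
def toFun' (l : List (Fin 9)) : Fin 9 → Fin 9 := fun i => l.getD i.val 0

theorem getD_take (τ : S9) {k : ℕ} (i : Fin 9) (hi : i.val < k) :
    (((List.finRange 9).map τ).take k).getD i.val 0 = τ i := by
  rw [List.getD_eq_getElem _ _ (by simp; omega)]
  simp

theorem enum_sound (V : List S9) {τ : S9} (h2 : τ * τ = 1) (hV : ∀ s ∈ V, τ * s = s * τ) :
    ∀ k ≤ 9, ((List.finRange 9).map τ).take k ∈ enum V k := by
  intro k
  induction k with
  | zero => intro _; simp [enum]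
  | succ k ih =>
    intro hk
    rw [enum, List.mem_filter]
    refine ⟨List.mem_flatMap.2 ⟨_, ih (by omega), List.mem_map.2 ⟨τ ⟨k, by omega⟩, List.mem_finRange _, ?_⟩⟩, ?_⟩
    · rw [List.take_succ_eq_append_getElem (by simp; omega)]
      simp
    · have hlen : (((List.finRange 9).map τ).take (k + 1)).length = k + 1 := by simp; omega
      simp only [okList, Bool.and_eq_true, decide_eq_true_eq, List.all_eq_true, Bool.or_eq_true, hlen]
      refine ⟨((List.nodup_finRange 9).map τ.injective).sublist (List.take_sublist _ _), fun i _ => ?_⟩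
      by_cases hi : k + 1 ≤ i.val
      · exact Or.inl hi
      right
      rw [getD_take τ i (by omega)]
      have h2' : τ (τ i) = i := by
        have := congrArg (fun φ : S9 => φ i) h2
        simpa using this
      refine ⟨?_, fun s hs => ?_⟩
      · by_cases hti : k + 1 ≤ (τ i).val
        · exact Or.inl hti
        · exact Or.inr (by rw [getD_take τ (τ i) (by omega), h2', beq_self_eq_true])
      · by_cases hsi : k + 1 ≤ (s i).val
        · exact Or.inl hsi
        · refine Or.inr ?_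
          have := congrArg (fun φ : S9 => φ i) (hV s hs)
          rw [getD_take τ (s i) (by omega)]
          simpa using this

/-- The numbers of moved points on the coset `σV`. -/
def pat (V : List S9) (φ : Fin 9 → Fin 9) : List ℕ := V.map fun (u : S9) => mv (φ ∘ ⇑u)

/-- A sufficient condition for the centralizer of `V` and `φ` to lie in the copy. -/
def closedB (cnt : List ℕ) (Kn : List (List S9)) (V : List S9) (φ : Fin 9 → Fin 9) : Bool :=
  (pat V φ).any (fun n => cnt.contains n) ||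
    Kn.any fun K => K.all fun s => V.any fun u => decide (⇑s = ⇑u) || decide (⇑s = φ ∘ ⇑u)

/-- The condition on a possible central involution. -/
def badOK (V : List S9) (w1 w2 : S9) (φ : Fin 9 → Fin 9) : Bool :=
  decide (pat V (φ ∘ ⇑w1) ≠ pat V w2) &&
    (decide (pat V (φ ∘ ⇑w1) ≠ pat V w1) ||
      (V.any (fun u => decide (φ = ⇑u)) && decide (pat V (⇑w2 ∘ φ) ≠ pat V w2)))

/-- The certificate of a step. -/
def cert (cnt : List ℕ) (Kn : List (List S9)) (V : List S9) (w1 w2 : S9) : Bool :=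
  (V.all fun u => V.all fun v => decide (⇑u ∘ ⇑v = ⇑v ∘ ⇑u) && V.any fun w => decide (⇑u ∘ ⇑v = ⇑w)) &&
  (V.all fun u => decide (⇑u ∘ ⇑u = id)) &&
  (V.all fun u => decide (⇑w1 ∘ ⇑u = ⇑u ∘ ⇑w1) && decide (⇑w2 ∘ ⇑u = ⇑u ∘ ⇑w2)) &&
  decide (⇑w1 ∘ ⇑w1 = id) && decide (⇑w2 ∘ ⇑w2 = id) && decide (pat V w1 ≠ pat V w2) &&
  closedB cnt Kn V w1 &&
  ((enum (w1 :: V) 9).all fun l => decide (toFun' l = id) || closedB cnt Kn V (toFun' l) ||
    badOK V w1 w2 (toFun' l))

theorem coe_inj {a b : S9} (h : ⇑a = ⇑b) : a = b := DFunLike.coe_injective h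

variable {G : Type*} [Group G] [Finite G] {f : S9 →* G}

/-- The centralizer of a list of elements lies in the copy. -/
def ClosedList (f : S9 →* G) (K : List S9) : Prop :=
  ∀ g : G, (∀ s ∈ K, g * f s = f s * g) → g ∈ f.range

theorem ClosedList.conj {K K' : List S9} (h : ClosedList f K) (c : S9)
    (hK : ∀ s ∈ K, c * s * c⁻¹ ∈ K') : ClosedList f K' := by
  intro g hg
  have h1 : (f c)⁻¹ * g * f c ∈ f.range := by
    refine h _ fun s hs => ?_
    have := hg _ (hK s hs)
    calc (f c)⁻¹ * g * f c * f s = (f c)⁻¹ * (g * f (c * s * c⁻¹)) * f c := by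
          simp only [map_mul, map_inv]; group
      _ = (f c)⁻¹ * (f (c * s * c⁻¹) * g) * f c := by rw [this]
      _ = f s * ((f c)⁻¹ * g * f c) := by simp only [map_mul, map_inv]; group
  have := mul_mem (mul_mem (⟨c, rfl⟩ : f c ∈ f.range) h1) (inv_mem (⟨c, rfl⟩ : f c ∈ f.range))
  simpa [mul_assoc] using this

variable (D : Hyp f)
include D

theorem closed_of_closedB {cnt : List ℕ} {Kn : List (List S9)} {V : List S9} {τ : S9}
    (hcnt : ∀ σ : S9, σ * σ = 1 → mv σ ∈ cnt → Closed f σ) (hKn : ∀ K ∈ Kn, ClosedList f K)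
    (hinv : ∀ u ∈ V, τ * u * (τ * u) = 1) (hb : closedB cnt Kn V τ = true) {g : G}
    (hg : ∀ s ∈ V, g * f s = f s * g) (hgτ : g * f τ = f τ * g) : g ∈ f.range := by
  have hmul : ∀ u ∈ V, g * f (τ * u) = f (τ * u) * g := fun u hu => by
    rw [map_mul, ← mul_assoc, hgτ, mul_assoc, hg u hu, ← mul_assoc]
  simp only [closedB, Bool.or_eq_true, List.any_eq_true, List.all_eq_true, List.contains_iff_mem,
    decide_eq_true_eq, pat, List.mem_map] at hb
  rcases hb with ⟨_, ⟨u, hu, rfl⟩, hn⟩ | ⟨K, hK, hs⟩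
  · exact hcnt (τ * u) (hinv u hu) (by rw [Equiv.Perm.coe_mul]; exact hn) g (hmul u hu)
  · refine hKn K hK g fun s hsK => ?_
    obtain ⟨u, hu, e | e⟩ := hs s hsK
    · rw [coe_inj e]; exact hg u hu
    · rw [show s = τ * u from coe_inj (by rw [e, Equiv.Perm.coe_mul])]; exact hmul u hu

theorem pat_eq {V : List S9} {σ σ' : S9} (h : ∀ u ∈ V, σ * u * (σ * u) = 1)
    (e : V.map (fun u => ConjClasses.mk (f σ * f u)) = V.map (fun u => ConjClasses.mk (f σ' * f u))) :
    pat V σ = pat V σ' := by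
  refine List.map_congr_left fun u hu => ?_
  obtain ⟨g, hg⟩ := isConj_iff.1 (ConjClasses.mk_eq_mk_iff_isConj.1 (List.map_inj_left.1 e u hu))
  rw [← map_mul, ← map_mul] at hg
  rw [← Equiv.Perm.coe_mul, ← Equiv.Perm.coe_mul]
  exact mv_of_conj D (h u hu) hg

/-- One step: the involutions of `C(V)` with the pattern of `w2` lie in the copy. -/
theorem stage {cnt : List ℕ} {Kn : List (List S9)} {V : List S9} {w1 w2 : S9}
    (hcert : cert cnt Kn V w1 w2 = true) (hcnt : ∀ σ : S9, σ * σ = 1 → mv σ ∈ cnt → Closed f σ)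
    (hKn : ∀ K ∈ Kn, ClosedList f K) {v : G} (hvV : ∀ s ∈ V, v * f s = f s * v) (hv : v * v = 1)
    (hpat : V.map (fun u => ConjClasses.mk (v * f u)) = V.map (fun u => ConjClasses.mk (f w2 * f u))) :
    v ∈ f.range := by
  simp only [cert, Bool.and_eq_true, Bool.or_eq_true, List.all_eq_true, List.any_eq_true,
    decide_eq_true_eq] at hcert
  obtain ⟨⟨⟨⟨⟨⟨⟨hVc, hV2⟩, hwc⟩, hw1⟩, hw2⟩, hne⟩, hcl⟩, hall⟩ := hcert
  have toP : ∀ {a b c d : S9}, ⇑a ∘ ⇑b = ⇑c ∘ ⇑d → a * b = c * d := fun {a b c d} e =>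
    coe_inj (by rw [Equiv.Perm.coe_mul, Equiv.Perm.coe_mul]; exact e)
  have to1 : ∀ {a : S9}, ⇑a ∘ ⇑a = id → a * a = 1 := fun {a} e =>
    coe_inj (by rw [Equiv.Perm.coe_mul, Equiv.Perm.coe_one]; exact e)
  have sq_mul : ∀ {a b : S9}, a * a = 1 → b * b = 1 → a * b = b * a → a * b * (a * b) = 1 :=
    fun {a b} ha hb hc => by
      calc a * b * (a * b) = a * (b * a) * b := by group
        _ = a * (a * b) * b := by rw [hc]
        _ = (a * a) * (b * b) := by group
        _ = 1 := by rw [ha, hb, one_mul]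
  have hVsq : ∀ u ∈ V, u * u = 1 := fun u hu => to1 (hV2 u hu)
  have hVcm : ∀ a ∈ V, ∀ b ∈ V, a * b = b * a := fun a ha b hb => toP (hVc a ha b hb).1
  have hw1V : ∀ u ∈ V, w1 * u = u * w1 := fun u hu => toP (hwc u hu).1
  have hw2V : ∀ u ∈ V, w2 * u = u * w2 := fun u hu => toP (hwc u hu).2
  have h1sq := to1 hw1
  have h2sq := to1 hw2
  set P : G → List (ConjClasses G) := fun g => V.map (fun u => ConjClasses.mk (g * f u)) with hP
  have hpt : ∀ g : G, (∀ s ∈ V, g * f s = f s * g) → ∀ w : G, P (g * w * g⁻¹) = P w := fun g hg w => by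
    refine List.map_congr_left fun u hu => ConjClasses.mk_eq_mk_iff_isConj.2 (isConj_iff.2 ⟨g⁻¹, ?_⟩)
    rw [inv_inv]
    calc g⁻¹ * (g * w * g⁻¹ * f u) * g = w * (g⁻¹ * (f u * g)) := by group
      _ = w * (g⁻¹ * (g * f u)) := by rw [hg u hu]
      _ = w * f u := by group
  have hpV : P v = P (f w2) := hpat
  have hw1G : f w1 * f w1 = 1 := by rw [← map_mul, h1sq, map_one]
  have hw1i : (f w1)⁻¹ = f w1 := inv_eq_of_mul_eq_one_left hw1G
  have hvi : v⁻¹ = v := inv_eq_of_mul_eq_one_left hv
  have hne' : P (f w1) ≠ P (f w2) := fun e =>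
    hne (pat_eq D (fun u hu => sq_mul h1sq (hVsq u hu) (hw1V u hu)) e)
  set r := f w1 * v with hr
  have hrV : ∀ k : ℕ, ∀ s ∈ V, r ^ k * f s = f s * r ^ k := fun k s hs => by
    have h1 : Commute (f w1) (f s) := by
      show _ * _ = _ * _
      rw [← map_mul, ← map_mul, hw1V s hs]
    exact ((h1.mul_left (hvV s hs)).pow_left k).eq
  have hwr : ∀ k : ℕ, f w1 * r ^ k = (r ^ k)⁻¹ * f w1 := fun k => by
    have hs : SemiconjBy (f w1) r r⁻¹ := by
      show f w1 * r = r⁻¹ * f w1
      rw [hr, mul_inv_rev, hvi, hw1i, ← mul_assoc, hw1G, one_mul, mul_assoc, hw1G, mul_one]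
    rw [← inv_pow]
    exact (hs.pow_right k).eq
  have hconj : ∀ j : ℕ, (r ^ j)⁻¹ * f w1 * r ^ j = (r ^ (2 * j))⁻¹ * f w1 := fun j => by
    rw [mul_assoc, hwr, ← mul_assoc, ← mul_inv_rev, ← pow_add, two_mul]
  have hvw : v = f w1 * r := by rw [hr, ← mul_assoc, hw1G, one_mul]
  have hconjv : ∀ j : ℕ, (r ^ j)⁻¹ * v * r ^ j = (r ^ (2 * j))⁻¹ * v := fun j => by
    calc (r ^ j)⁻¹ * v * r ^ j = (r ^ j)⁻¹ * f w1 * (r * r ^ j) := by rw [hvw]; group
      _ = (r ^ j)⁻¹ * f w1 * r ^ j * r := by rw [← pow_succ', pow_succ]; group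
      _ = (r ^ (2 * j))⁻¹ * f w1 * r := by rw [hconj]
      _ = _ := by rw [hvw]; group
  rcases Nat.even_or_odd (orderOf r) with ⟨k, hk⟩ | ⟨k, hk⟩
  swap
  · refine absurd ?_ hne'
    rw [← hpV]
    have e : (r ^ (k + 1))⁻¹ * f w1 * r ^ (k + 1) = v := by
      have h1 : r ^ (2 * (k + 1)) = r := by
        rw [show 2 * (k + 1) = orderOf r + 1 by omega, pow_succ, pow_orderOf_eq_one, one_mul]
      rw [hconj, h1, hr, mul_inv_rev, hvi, hw1i, mul_assoc, hw1G, mul_one]
    rw [← e]
    have := (hpt ((r ^ (k + 1))⁻¹) (fun s hs =>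
      ((show Commute (r ^ (k + 1)) (f s) from hrV _ s hs).inv_left).eq) (f w1)).symm
    rwa [inv_inv] at this
  have hz2 : r ^ k * r ^ k = 1 := by rw [← pow_add, ← hk, pow_orderOf_eq_one]
  have hzi : (r ^ k)⁻¹ = r ^ k := inv_eq_of_mul_eq_one_left hz2
  have hz1 : r ^ k ≠ 1 := fun e => by
    have h0 := orderOf_pos r
    have := Nat.le_of_dvd (by omega) (orderOf_dvd_of_pow_eq_one e)
    omega
  have hzw : r ^ k * f w1 = f w1 * r ^ k := by rw [hwr, hzi]
  have hzv : v * r ^ k = r ^ k * v := by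
    calc v * r ^ k = f w1 * (r * r ^ k) := by rw [← mul_assoc, ← hvw]
      _ = f w1 * (r ^ k * r) := by rw [(Commute.self_pow r k).eq]
      _ = r ^ k * (f w1 * r) := by rw [← mul_assoc, ← hzw, mul_assoc]
      _ = r ^ k * v := by rw [← hvw]
  obtain ⟨τ, hτ⟩ : r ^ k ∈ f.range := closed_of_closedB D hcnt hKn
    (fun u hu => sq_mul h1sq (hVsq u hu) (hw1V u hu)) hcl (hrV k) hzw
  have hτ2 : τ * τ = 1 := D.inj (by rw [map_mul, hτ, map_one]; exact hz2)
  have hτV : ∀ s ∈ w1 :: V, τ * s = s * τ := by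
    intro s hs
    refine D.inj ?_
    rw [map_mul, map_mul, hτ]
    rcases List.mem_cons.1 hs with rfl | hs
    exacts [hzw, hrV k s hs]
  have hmem := enum_sound (w1 :: V) hτ2 hτV 9 le_rfl
  rw [List.take_of_length_le (by simp)] at hmem
  have hfun : toFun' ((List.finRange 9).map τ) = ⇑τ := funext fun i => by
    rw [toFun', List.getD_eq_getElem _ _ (by simp)]
    simp
  have hcase := hall _ hmem
  rw [hfun] at hcase
  rcases hcase with (h | h) | h
  · exact absurd (by rw [← hτ, show τ = 1 from coe_inj h, map_one]) hz1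
  · exact closed_of_closedB D hcnt hKn
      (fun u hu => sq_mul hτ2 (hVsq u hu) (hτV u (List.mem_cons_of_mem _ hu))) h hvV (by rw [hτ]; exact hzv)
  · simp only [badOK, Bool.and_eq_true, Bool.or_eq_true, decide_eq_true_eq, List.any_eq_true] at h
    obtain ⟨hn2, hn1⟩ := h
    have hsq' : ∀ u ∈ V, τ * w1 * u * (τ * w1 * u) = 1 := fun u hu => by
      have hc1 := hτV w1 (List.mem_cons_self ..)
      refine sq_mul (sq_mul hτ2 h1sq hc1) (hVsq u hu) ?_
      rw [mul_assoc, hw1V u hu, ← mul_assoc, hτV u (List.mem_cons_of_mem _ hu), mul_assoc]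
    have n2 : P (r ^ k * f w1) ≠ P (f w2) := fun e => hn2 (by
      rw [← Equiv.Perm.coe_mul]
      refine pat_eq D hsq' ?_
      rw [map_mul, hτ]; exact e)
    rcases Nat.even_or_odd k with ⟨j, hj⟩ | ⟨j, hj⟩
    · -- both generators are conjugate to their product with the central involution
      have hcm : ∀ s ∈ V, (r ^ j)⁻¹ * f s = f s * (r ^ j)⁻¹ := fun s hs =>
        ((show Commute (r ^ j) (f s) from hrV j s hs).inv_left).eq
      rcases hn1 with hn1 | ⟨⟨u, hu, hτu⟩, hn1⟩
      · refine absurd ?_ hn1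
        rw [← Equiv.Perm.coe_mul]
        refine pat_eq D hsq' ?_
        rw [map_mul, hτ]
        have := hpt _ hcm (f w1)
        rwa [inv_inv, hconj, show 2 * j = k by omega, hzi] at this
      · have hτu' : τ = u := coe_inj hτu
        refine absurd ?_ hn1
        rw [← Equiv.Perm.coe_mul]
        refine pat_eq D (fun s hs => ?_) ?_
        · have hc2 : w2 * τ = τ * w2 := by rw [hτu']; exact hw2V u hu
          refine sq_mul (sq_mul h2sq hτ2 hc2) (hVsq s hs) ?_
          rw [mul_assoc, hτu', hVcm u hu s hs, ← mul_assoc, hw2V s hs, mul_assoc]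
        · show P (f (w2 * τ)) = P (f w2)
          -- the pattern of `v` is the pattern of `w2`
          have hidx : ∀ s ∈ V, ∃ t ∈ V, τ * s = t := fun s hs => by
            obtain ⟨t, ht, e⟩ := (hVc u hu s hs).2
            exact ⟨t, ht, coe_inj (by rw [Equiv.Perm.coe_mul, hτu']; exact e)⟩
          have e1 : P (r ^ k * v) = P (f (w2 * τ)) := by
            refine List.map_congr_left fun s hs => ?_
            obtain ⟨t, ht, e⟩ := hidx s hs
            rw [← hzv, ← hτ, mul_assoc v, ← map_mul, map_mul f w2, mul_assoc (f w2), ← map_mul f τ, e]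
            exact List.map_inj_left.1 hpV t ht
          have := hpt _ hcm v
          rw [inv_inv, hconjv, show 2 * j = k by omega, hzi] at this
          rw [← e1, this, hpV]
    · refine absurd ?_ n2
      rw [← hpV]
      have e : (r ^ (j + 1))⁻¹ * f w1 * r ^ (j + 1) = r ^ k * v := by
        rw [hconj, show 2 * (j + 1) = k + 1 by omega, pow_succ', mul_inv_rev, hzi, mul_assoc, hr,
          mul_inv_rev, hvi, hw1i, mul_assoc v, hw1G, mul_one]
      have h1 : P (r ^ k * v) = P (f w1) := by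
        rw [← e]
        have := hpt ((r ^ (j + 1))⁻¹) (fun s hs =>
          ((show Commute (r ^ (j + 1)) (f s) from hrV _ s hs).inv_left).eq) (f w1)
        rwa [inv_inv] at this
      -- transfer along the central involution
      have hzs : ∀ s ∈ V, ConjClasses.mk (r ^ k * f w1 * f s) = ConjClasses.mk (v * f s) := by
        intro s hs
        refine ConjClasses.mk_eq_mk_iff_isConj.2 (isConj_iff.2 ⟨(r ^ (j + 1))⁻¹, ?_⟩)
        have c1 : Commute (r ^ (j + 1)) (f s) := hrV _ s hs
        have c2 : Commute (r ^ (j + 1)) (r ^ k) := Commute.pow_pow_self r _ _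
        have hd : (r ^ (j + 1))⁻¹ * f w1 = r ^ k * v * (r ^ (j + 1))⁻¹ := by
          rw [← e]; group
        rw [inv_inv]
        calc (r ^ (j + 1))⁻¹ * (r ^ k * f w1 * f s) * r ^ (j + 1)
            = (r ^ (j + 1))⁻¹ * r ^ k * f w1 * (f s * r ^ (j + 1)) := by group
          _ = r ^ k * ((r ^ (j + 1))⁻¹ * f w1) * (r ^ (j + 1) * f s) := by
            rw [c2.inv_left.eq, c1.eq]; group
          _ = (r ^ k * r ^ k) * v * f s := by rw [hd]; group
          _ = v * f s := by rw [hz2, one_mul]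
      exact List.map_congr_left fun s hs => hzs s hs

end Cfsg.Agent.NineSym.Endgame
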