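import Cfsg.Agent.Lib.NineSym.Frame

/-!
# Consequences of the coordinates
-/

set_option autoImplicit false
set_option linter.style.haveILetI false
set_option linter.unusedSectionVars false
set_option maxRecDepth 100000
set_option synthInstance.maxSize 10000

namespace Cfsg.Agent.NineSym

open Subgroup

theorem inL_facts (ci cd : Bool) : InL ci cd 1 ∧ (∀ v, InL ci cd (jM v)) ∧
    (∀ p q, InL ci cd p → InL ci cd q → InL ci cd (p * q)) ∧ (∀ p, InL ci cd p → InL ci cd p⁻¹) := by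
  have hinv : ∀ ci cd : Bool, ∀ w : Wt, Wok ci cd w → Wok ci cd w⁻¹ := by decide +kernel
  exact ⟨⟨fun h => Bool.noConfusion h, fun h => absurd rfl h⟩,
    fun v => ⟨fun h => Bool.noConfusion h, fun h => absurd rfl h⟩,
    fun p q hp hq => wok_mul ci cd p.w q.w hp hq, fun p hp => hinv ci cd p.w hp⟩

theorem inL_mono {ci cd : Bool} {p : Mn} (h : InL false false p) : InL ci cd p :=
  ⟨fun he => absurd (h.1 he) (by decide), fun hk => absurd (h.2 hk) (by decide)⟩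

theorem conj_jM (p : Mn) (v : V3) : p * jM v * p⁻¹ = jM (wact p.w v) := by
  rw [mul_inv_eq_iff_eq_mul]
  obtain ⟨u, w⟩ := p
  show (⟨u + wact w v, w * 1⟩ : Mn) = ⟨wact w v + wact 1 u, 1 * w⟩
  rw [wact_one, add_comm, (by decide +kernel : ∀ w : Wt, w * 1 = w ∧ 1 * w = w) w |>.1,
    ((by decide +kernel : ∀ w : Wt, w * 1 = w ∧ 1 * w = w) w).2]

variable {G : Type*} [Group G] [Finite G] {J : Subgroup G} {ci cd : Bool} {φ : Mn → G}

namespace Frame

variable (D : Frame J ci cd φ)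
include D

theorem one : φ 1 = 1 := by
  have h := D.hom 1 1 (inL_facts ci cd).1 (inL_facts ci cd).1
  rw [mul_one] at h
  exact mul_eq_left.1 h.symm

theorem inv' {p : Mn} (hp : InL ci cd p) : φ p⁻¹ = (φ p)⁻¹ := by
  refine eq_inv_of_mul_eq_one_left ?_
  rw [← D.hom _ _ ((inL_facts ci cd).2.2.2 p hp) hp, inv_mul_cancel, D.one]

theorem conj' {p q : Mn} (hp : InL ci cd p) (hq : InL ci cd q) : φ (p * q * p⁻¹) = φ p * φ q * (φ p)⁻¹ := by
  rw [D.hom _ _ ((inL_facts ci cd).2.2.1 _ _ hp hq) ((inL_facts ci cd).2.2.2 p hp), D.hom _ _ hp hq, D.inv' hp]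

theorem act' {p : Mn} (hp : InL ci cd p) (v : V3) : φ p * φ (jM v) * (φ p)⁻¹ = φ (jM (wact p.w v)) := by
  rw [← D.conj' hp ((inL_facts ci cd).2.1 v), conj_jM]

theorem eq_one {p : Mn} (hp : InL ci cd p) (h : φ p = 1) : p = 1 :=
  D.inj p 1 hp (inL_facts ci cd).1 (h.trans D.one.symm)

theorem comm' {p q : Mn} (hp : InL ci cd p) (hq : InL ci cd q) (h : φ p * φ q = φ q * φ p) : p * q = q * p :=
  D.inj _ _ ((inL_facts ci cd).2.2.1 _ _ hp hq) ((inL_facts ci cd).2.2.1 _ _ hq hp)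
    (by rw [D.hom _ _ hp hq, D.hom _ _ hq hp, h])

theorem map_comm {p q : Mn} (hp : InL ci cd p) (hq : InL ci cd q) (h : p * q = q * p) :
    φ p * φ q = φ q * φ p := by rw [← D.hom _ _ hp hq, h, D.hom _ _ hq hp]

theorem memj (v : V3) : φ (jM v) ∈ J := (D.memJ _).2 ⟨v, rfl⟩

theorem jadd (u v : V3) : φ (jM (u + v)) = φ (jM u) * φ (jM v) := by
  rw [jM_add, D.hom _ _ ((inL_facts ci cd).2.1 u) ((inL_facts ci cd).2.1 v)]

theorem jinj {u v : V3} (h : φ (jM u) = φ (jM v)) : u = v :=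
  congrArg Mn.v (D.inj _ _ ((inL_facts ci cd).2.1 u) ((inL_facts ci cd).2.1 v) h)

theorem jzero : φ (jM 0) = 1 := D.one

theorem jcube (v : V3) : φ (jM v) ^ 3 = 1 := by
  rw [pow_succ, pow_two, ← D.jadd, ← D.jadd,
    (by decide +kernel : ∀ v : V3, v + v + v = 0) v, D.jzero]

theorem jcomm (u v : V3) : φ (jM u) * φ (jM v) = φ (jM v) * φ (jM u) := by
  rw [← D.jadd, ← D.jadd, add_comm]

theorem J_cube {g : G} (hg : g ∈ J) : g ^ 3 = 1 := by
  obtain ⟨v, rfl⟩ := (D.memJ g).1 hg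
  exact D.jcube v

theorem J_comm {g h : G} (hg : g ∈ J) (hh : h ∈ J) : g * h = h * g := by
  obtain ⟨u, rfl⟩ := (D.memJ g).1 hg
  obtain ⟨v, rfl⟩ := (D.memJ h).1 hh
  exact D.jcomm u v

theorem J_isP : IsPGroup 3 J := fun g => ⟨1, Subtype.ext (by simpa using D.J_cube g.2)⟩

theorem J_card : Nat.card J = 27 := by
  rw [← Nat.card_eq_of_bijective (fun v => (⟨φ (jM v), D.memj v⟩ : J))
    ⟨fun u v e => D.jinj (congrArg Subtype.val e),
      fun g => by obtain ⟨v, hv⟩ := (D.memJ _).1 g.2; exact ⟨v, Subtype.ext hv⟩⟩]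
  simp

theorem cJ {g : G} (h : ∀ j ∈ J, g * j = j * g) : g ∈ J := by
  obtain ⟨p, hp, rfl⟩ := D.cent g (h _ (D.memj _))
  have hp' : InL ci cd p := inL_mono hp
  have hw : p.w = 1 := wact_faithful p.w fun v => D.jinj (by
    rw [← D.act' hp' v, h _ (D.memj v), mul_inv_cancel_right])
  obtain ⟨u, w⟩ := p
  simp only at hw
  subst hw
  exact D.memj u

end Frame

end Cfsg.Agent.NineSym
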