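import Cfsg.Agent.Lib.NineSym.FatCoord

/-!
# Centralizers in the configuration with one large centralizer
-/

set_option autoImplicit false
set_option linter.style.haveILetI false
set_option linter.unusedSectionVars false

namespace Cfsg.Agent.NineSym

open Subgroup Cfsg.Agent.SelfNine

variable {X : Type*} [Group X] [Finite X] {P : Sylow 3 X} {e1 e2 r s : X} {V : Subgroup X}

/-- An involution fixed by `s` in the four-group. -/
structure FatBase (P : Sylow 3 X) (e1 e2 r s : X) (V : Subgroup X) (v0 : X) : Prop where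
  data : FatData P e1 e2 r s V
  mem : v0 ∈ V
  ne : v0 ≠ 1
  sv : s * v0 * s = v0

theorem FatData.exists_base (D : FatData P e1 e2 r s V) : ∃ v0, FatBase P e1 e2 r s V v0 := by
  obtain ⟨v, h1, h2, h3⟩ := D.exists_v0
  exact ⟨v, D, h1, h2, h3⟩

variable {v0 : X} (B : FatBase P e1 e2 r s V v0)

/-- The second involution. -/
def vOne (e1 v0 : X) : X := e1 * v0 * e1⁻¹

/-- The third involution. -/
def vTwo (e1 v0 : X) : X := e1 * vOne e1 v0 * e1⁻¹

/-- An element of order four. -/
def sFour (e1 s v0 : X) : X := vOne e1 v0 * s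

include B

theorem FatBase.mem1 : vOne e1 v0 ∈ V := B.data.e1V _ B.mem
theorem FatBase.mem2 : vTwo e1 v0 ∈ V := B.data.e1V _ B.mem1

theorem FatBase.e1_cube : e1 * e1 * e1 = 1 := by
  rw [← pow_two, ← pow_succ]; exact B.data.exp e1 B.data.m1

theorem FatBase.ne1 : vOne e1 v0 ≠ 1 := fun h => B.ne (by simpa [vOne] using h)
theorem FatBase.ne2 : vTwo e1 v0 ≠ 1 := fun h => B.ne1 (by simpa [vTwo] using h)

theorem FatBase.ne01 : vOne e1 v0 ≠ v0 := fun h =>
  B.ne (B.data.fpf _ B.mem (mul_inv_eq_iff_eq_mul.1 h))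

theorem FatBase.ne12 : vTwo e1 v0 ≠ vOne e1 v0 := fun h => B.ne01 (by
  have h' : vTwo e1 v0 = e1 * vOne e1 v0 * e1⁻¹ := rfl
  rw [h] at h'
  exact mul_left_cancel (mul_right_cancel h'.symm))

theorem FatBase.conj_two : e1 * vTwo e1 v0 * e1⁻¹ = v0 := by
  calc e1 * vTwo e1 v0 * e1⁻¹ = e1 * e1 * e1 * v0 * (e1 * e1 * e1)⁻¹ := by simp only [vTwo, vOne]; group
    _ = v0 := by rw [B.e1_cube]; group

theorem FatBase.ne02 : vTwo e1 v0 ≠ v0 := fun h => B.ne01 (by
  have h' := B.conj_two
  rw [h] at h'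
  exact h')

theorem FatBase.cases_mem {v : X} (hv : v ∈ V) : v = 1 ∨ v = v0 ∨ v = vOne e1 v0 ∨ v = vTwo e1 v0 := by
  classical
  let f : Fin 4 → V := ![1, ⟨v0, B.mem⟩, ⟨_, B.mem1⟩, ⟨_, B.mem2⟩]
  have hinj : Function.Injective f := by
    intro i j h
    have h' := congrArg Subtype.val h
    fin_cases i <;> fin_cases j <;> first
      | rfl
      | exact absurd h' (by simpa [f] using B.ne)
      | exact absurd h'.symm (by simpa [f] using B.ne)
      | exact absurd h' (by simpa [f] using B.ne1)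
      | exact absurd h'.symm (by simpa [f] using B.ne1)
      | exact absurd h' (by simpa [f] using B.ne2)
      | exact absurd h'.symm (by simpa [f] using B.ne2)
      | exact absurd h' (by simpa [f] using B.ne01)
      | exact absurd h'.symm (by simpa [f] using B.ne01)
      | exact absurd h' (by simpa [f] using B.ne02)
      | exact absurd h'.symm (by simpa [f] using B.ne02)
      | exact absurd h' (by simpa [f] using B.ne12)
      | exact absurd h'.symm (by simpa [f] using B.ne12)
  obtain ⟨i, hi⟩ := ((Nat.bijective_iff_injective_and_card f).2 ⟨hinj, by simp [B.data.cardV]⟩).2 ⟨v, hv⟩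
  have h' : ((f i : V) : X) = v := congrArg Subtype.val hi
  fin_cases i <;> simp [f] at h' <;> tauto

theorem FatBase.v01 : v0 * vOne e1 v0 = vTwo e1 v0 := by
  rcases B.cases_mem (mul_mem B.mem B.mem1) with h | h | h | h
  · refine absurd ?_ B.ne01
    calc vOne e1 v0 = v0 * v0 * vOne e1 v0 := by rw [B.data.sqV _ B.mem, one_mul]
      _ = v0 := by rw [mul_assoc, h, mul_one]
  · exact absurd (mul_left_cancel (h.trans (mul_one v0).symm)) B.ne1
  · exact absurd (mul_right_cancel (h.trans (one_mul _).symm)) B.ne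
  · exact h

theorem FatBase.v12 : vOne e1 v0 * vTwo e1 v0 = v0 := by
  rw [← B.v01, B.data.V_comm B.mem B.mem1, ← mul_assoc, B.data.sqV _ B.mem1, one_mul]

theorem FatBase.s1 : s * vOne e1 v0 * s = vTwo e1 v0 := by
  have he : s * e1 = e1⁻¹ * s := by
    calc s * e1 = s * e1 * s * s := by rw [mul_assoc _ s s, B.data.s2, mul_one]
      _ = e1⁻¹ * s := by rw [B.data.s1]
  calc s * vOne e1 v0 * s = (s * e1) * v0 * (s * e1)⁻¹ := by
        simp only [vOne]; rw [mul_inv_rev, inv_eq_of_mul_eq_one_left B.data.s2]; group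
    _ = e1⁻¹ * (s * v0 * s) * e1 := by
        rw [he, mul_inv_rev, inv_inv, inv_eq_of_mul_eq_one_left B.data.s2]; group
    _ = e1⁻¹ * (e1 * vTwo e1 v0 * e1⁻¹) * e1 := by rw [B.sv, B.conj_two]
    _ = vTwo e1 v0 := by group

theorem FatBase.s2' : s * vTwo e1 v0 * s = vOne e1 v0 := by
  rw [← B.s1]
  calc s * (s * vOne e1 v0 * s) * s = s * s * vOne e1 v0 * (s * s) := by group
    _ = vOne e1 v0 := by rw [B.data.s2, one_mul, mul_one]

theorem FatBase.s4_sq : sFour e1 s v0 * sFour e1 s v0 = v0 := by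
  calc sFour e1 s v0 * sFour e1 s v0 = vOne e1 v0 * (s * vOne e1 v0 * s) := by simp only [sFour]; group
    _ = v0 := by rw [B.s1, B.v12]

theorem FatBase.s4_pow2 : sFour e1 s v0 ^ 2 = v0 := by rw [pow_two, B.s4_sq]

theorem FatBase.s4_pow4 : sFour e1 s v0 ^ 4 = 1 := by
  rw [show 4 = 2 * 2 from rfl, pow_mul, B.s4_pow2, pow_two, B.data.sqV _ B.mem]

omit B in
theorem FatData.c_comm_s (D : FatData P e1 e2 r s V) : e2 * s = s * e2 := by
  calc e2 * s = s * e2 * s * s := by rw [D.s1']
    _ = s * e2 := by rw [mul_assoc _ s s, D.s2, mul_one]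

theorem FatBase.c_comm_s4 : Commute e2 (sFour e1 s v0) :=
  (show Commute e2 (vOne e1 v0) from B.data.e2V _ B.mem1).mul_right B.data.c_comm_s

end Cfsg.Agent.NineSym

namespace Cfsg.Agent.NineSym

open Subgroup Cfsg.Agent.SelfNine

variable {X : Type*} [Group X] [Finite X] {P : Sylow 3 X} {e1 e2 r s : X} {V : Subgroup X}

/-- `1` or `s`. -/
def sPow (s : X) (b : Bool) : X := if b then s else 1

variable (D : FatData P e1 e2 r s V)
include D

theorem FatData.s_normalizes : s ∈ normalizer ((P : Subgroup X) : Set X) := by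
  have hi : s⁻¹ = s := inv_eq_of_mul_eq_one_left D.s2
  refine mem_normalizer_iff.2 fun p => ⟨fun hp => ?_, fun hp => ?_⟩
  · obtain ⟨a, rfl⟩ := D.coord_surj hp
    rw [hi, D.conj_s]; exact D.coord_mem _
  · obtain ⟨a, ha⟩ := D.coord_surj hp
    have : p = s * coord e1 e2 a * s := by
      rw [ha, hi]
      calc p = s * s * p * (s * s) := by rw [D.s2, one_mul, mul_one]
        _ = s * (s * p * s) * s := by group
    rw [this, D.conj_s]; exact D.coord_mem _

theorem FatData.sPow_mem (b : Bool) : sPow s b ∈ normalizer ((P : Subgroup X) : Set X) := by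
  unfold sPow; split_ifs
  · exact D.s_normalizes
  · exact one_mem _

theorem FatData.nf_inj {v v' : X} (hv : v ∈ V) (hv' : v' ∈ V) {b b' : Bool} {a a' : ZMod 3 × ZMod 3}
    (h : v * sPow s b * coord e1 e2 a = v' * sPow s b' * coord e1 e2 a') :
    v = v' ∧ b = b' ∧ a = a' := by
  have hle := le_normalizer (H := (P : Subgroup X))
  have hu : v'⁻¹ * v ∈ normalizer ((P : Subgroup X) : Set X) := by
    have he : v'⁻¹ * v = sPow s b' * coord e1 e2 a' * (sPow s b * coord e1 e2 a)⁻¹ := by
      calc v'⁻¹ * v = v'⁻¹ * (v * sPow s b * coord e1 e2 a) * (sPow s b * coord e1 e2 a)⁻¹ := by group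
        _ = _ := by rw [h]; group
    rw [he]
    exact mul_mem (mul_mem (D.sPow_mem b') (hle (D.coord_mem a')))
      (inv_mem (mul_mem (D.sPow_mem b) (hle (D.coord_mem a))))
  have huV : v'⁻¹ * v ∈ V := mul_mem (inv_mem hv') hv
  have hu1 : v'⁻¹ * v = 1 := by
    refine D.fpf _ huV ?_
    have hcV : e1 * (v'⁻¹ * v) * e1⁻¹ * (v'⁻¹ * v)⁻¹ ∈ V := mul_mem (D.e1V _ huV) (inv_mem huV)
    have hcP : e1 * (v'⁻¹ * v) * e1⁻¹ * (v'⁻¹ * v)⁻¹ ∈ (P : Subgroup X) := by
      rw [show e1 * (v'⁻¹ * v) * e1⁻¹ * (v'⁻¹ * v)⁻¹ = e1 * ((v'⁻¹ * v) * e1⁻¹ * (v'⁻¹ * v)⁻¹) by group]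
      exact mul_mem D.m1 ((mem_normalizer_iff.1 hu _).1 (inv_mem D.m1))
    have := D.V_inf_P hcV hcP
    rwa [mul_inv_eq_one, mul_inv_eq_iff_eq_mul] at this
  obtain rfl : v' = v := inv_mul_eq_one.1 hu1
  rw [mul_assoc, mul_assoc] at h
  have h' := mul_left_cancel h
  have hb : b = b' := by
    unfold sPow at h'
    by_contra hne
    refine D.s_notMem ?_
    cases b <;> cases b' <;> simp at h' hne ⊢
    · exact (eq_mul_inv_of_mul_eq h'.symm) ▸ mul_mem (D.coord_mem a) (inv_mem (D.coord_mem a'))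
    · exact (eq_mul_inv_of_mul_eq h') ▸ mul_mem (D.coord_mem a') (inv_mem (D.coord_mem a))
  subst hb
  exact ⟨rfl, rfl, D.coord_inj (mul_left_cancel h')⟩

theorem FatData.mem_cent2 {v : X} (hv : v ∈ V) (b : Bool) (a : ZMod 3 × ZMod 3) :
    v * sPow s b * coord e1 e2 a ∈ centralizer ({e2} : Set X) := by
  refine mul_mem (mul_mem ?_ ?_) ?_ <;> rw [mem_centralizer_singleton_iff]
  · exact (D.e2V v hv).symm
  · unfold sPow; split_ifs
    · exact D.c_comm_s.symm
    · simp
  · exact D.comm _ (D.coord_mem a) _ D.m2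

theorem FatData.cent2_form {g : X} (hg : g ∈ centralizer ({e2} : Set X)) :
    ∃ v ∈ V, ∃ (b : Bool) (a : ZMod 3 × ZMod 3), g = v * sPow s b * coord e1 e2 a := by
  obtain ⟨v, hv, k, hk, p, hp, rfl⟩ := D.cent2 g (mem_centralizer_singleton_iff.1 hg)
  obtain ⟨a, rfl⟩ := D.coord_surj hp
  rcases hk with rfl | rfl
  · exact ⟨v, hv, false, a, by simp [sPow]⟩
  · exact ⟨v, hv, true, a, by simp [sPow]⟩

theorem FatData.card_cent_c : Nat.card (centralizer ({e2} : Set X)) = 72 := by
  let f : V × Bool × (ZMod 3 × ZMod 3) → centralizer ({e2} : Set X) := fun x =>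
    ⟨(x.1 : X) * sPow s x.2.1 * coord e1 e2 x.2.2, D.mem_cent2 x.1.2 _ _⟩
  have hf : Function.Bijective f := by
    refine ⟨fun x y h => ?_, fun g => ?_⟩
    · obtain ⟨h1, h2, h3⟩ := D.nf_inj x.1.2 y.1.2 (congrArg Subtype.val h)
      exact Prod.ext (Subtype.ext h1) (Prod.ext h2 h3)
    · obtain ⟨v, hv, b, a, e⟩ := D.cent2_form g.2
      exact ⟨(⟨v, hv⟩, b, a), Subtype.ext e.symm⟩
  rw [← Nat.card_eq_of_bijective f hf]
  simp [Nat.card_prod, D.cardV]

theorem FatData.cent_form {a : ZMod 3 × ZMod 3} (ha : a.1 ≠ 0) {g : X}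
    (hg : g ∈ centralizer ({coord e1 e2 a} : Set X)) :
    ∃ k, (k = 1 ∨ (k = r ∧ a.2 = 0)) ∧ ∃ p ∈ (P : Subgroup X), g = k * p := by
  obtain ⟨k, hk, p, hp, rfl⟩ := D.nor g (D.cent _ (D.coord_mem a) (D.notMem_zpowers ha) hg)
  refine ⟨k, ?_, p, hp, rfl⟩
  have hc : k * coord e1 e2 a = coord e1 e2 a * k := by
    have h1 := mem_centralizer_singleton_iff.1 hg
    rw [mul_assoc k p, D.coord_comm a hp, ← mul_assoc, ← mul_assoc] at h1
    exact mul_right_cancel h1
  have hneg : ∀ z : ZMod 3, -z = z → z = 0 := by decide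
  rcases hk with rfl | rfl | rfl | rfl
  · simp
  · have := D.conj_r a
    rw [hc, mul_assoc, D.r2, mul_one] at this
    exact Or.inr ⟨rfl, hneg _ (congrArg Prod.snd (D.coord_inj this)).symm⟩
  · have := D.conj_s a
    rw [hc, mul_assoc, D.s2, mul_one] at this
    exact absurd (hneg _ (congrArg Prod.fst (D.coord_inj this)).symm) ha
  · have h2 : r * (s * coord e1 e2 a * s) * r = coord e1 e2 a := by
      calc r * (s * coord e1 e2 a * s) * r = r * s * coord e1 e2 a * (s * r) := by group
        _ = coord e1 e2 a * (r * ((s * s) * r)) := by rw [hc]; group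
        _ = coord e1 e2 a := by rw [D.s2, one_mul, D.r2, mul_one]
    rw [D.conj_s, D.conj_r] at h2
    exact absurd (hneg _ (congrArg Prod.fst (D.coord_inj h2))) ha

theorem FatData.r_comm_e1 : r * e1 = e1 * r := by
  calc r * e1 = r * e1 * r * r := by rw [mul_assoc _ r r, D.r2, mul_one]
    _ = e1 * r := by rw [D.r1]

theorem FatData.card_cent_a {a : ZMod 3 × ZMod 3} (ha : a.1 ≠ 0) :
    Nat.card (centralizer ({coord e1 e2 a} : Set X)) = if a.2 = 0 then 18 else 9 := by
  classical
  split_ifs with h0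
  · have hr : Commute r (coord e1 e2 a) := by
      simp only [coord, h0, ZMod.val_zero, pow_zero, mul_one]
      exact (show Commute r e1 from D.r_comm_e1).pow_right _
    let f : Bool × (P : Subgroup X) → centralizer ({coord e1 e2 a} : Set X) := fun bp =>
      ⟨(if bp.1 then r else 1) * bp.2, mul_mem
        (by rw [mem_centralizer_singleton_iff]; split_ifs <;> simp [hr.eq])
        (mem_centralizer_singleton_iff.2 (D.coord_comm a bp.2.2))⟩
    have hf : Function.Bijective f := by
      constructor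
      · rintro ⟨a, p⟩ ⟨b, q⟩ h
        have h' := congrArg Subtype.val h
        simp only [f] at h'
        cases a <;> cases b <;> simp only [Bool.false_eq_true, if_false, if_true, one_mul] at h'
        · exact Prod.ext rfl (Subtype.ext h')
        · exact absurd (eq_mul_inv_of_mul_eq h'.symm ▸ mul_mem p.2 (inv_mem q.2)) D.r_notMem
        · exact absurd (eq_mul_inv_of_mul_eq h' ▸ mul_mem q.2 (inv_mem p.2)) D.r_notMem
        · exact Prod.ext rfl (Subtype.ext (mul_left_cancel h'))
      · intro g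
        obtain ⟨k, hk, p, hp, e⟩ := D.cent_form ha g.2
        rcases hk with rfl | ⟨rfl, -⟩
        · exact ⟨(false, ⟨p, hp⟩), Subtype.ext (by simp [f, e])⟩
        · exact ⟨(true, ⟨p, hp⟩), Subtype.ext (by simp [f, e])⟩
    rw [← Nat.card_eq_of_bijective f hf, Nat.card_prod, D.card]
    simp
  · have h : centralizer ({coord e1 e2 a} : Set X) = (P : Subgroup X) := by
      refine le_antisymm (fun g hg => ?_) fun g hg => mem_centralizer_singleton_iff.2 (D.coord_comm a hg)
      obtain ⟨k, hk, p, hp, rfl⟩ := D.cent_form ha hg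
      rcases hk with rfl | ⟨-, h⟩
      · rw [one_mul]; exact hp
      · exact absurd h h0
    rw [h, D.card]

/-- The type of an element of order three. -/
def tCard (a : ZMod 3 × ZMod 3) : ℕ := if a.1 = 0 then 72 else if a.2 = 0 then 18 else 9

theorem FatData.card_cent_coord {a : ZMod 3 × ZMod 3} (ha : a ≠ 0) :
    Nat.card (centralizer ({coord e1 e2 a} : Set X)) = tCard a := by
  rw [tCard]
  split_ifs with h h'
  · have hcases : ∀ z : ZMod 3, z = 0 ∨ z = 1 ∨ z = -1 := by decide
    obtain ⟨i, j⟩ := a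
    simp only at h
    subst h
    rcases hcases j with rfl | rfl | rfl
    · exact absurd rfl ha
    · rw [D.e2_eq, D.card_cent_c]
    · rw [show ((0 : ZMod 3), (-1 : ZMod 3)) = -(0, 1) by simp,
        ← card_centralizer_eq_of_isConj (D.isConj_neg _), D.e2_eq, D.card_cent_c]
  · rw [D.card_cent_a h, if_pos h']
  · rw [D.card_cent_a h, if_neg h']

theorem FatData.six_pow : (e1 * r) ^ 2 = e1⁻¹ ∧ (e1 * r) ^ 3 = r ∧ (e1 * r) ^ 4 = e1 := by
  have hr : Commute e1 r := D.r_comm_e1.symm
  have hr2 : r ^ 2 = 1 := by rw [pow_two, D.r2]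
  have h3 := D.exp e1 D.m1
  have he : e1⁻¹ = e1 ^ 2 := inv_eq_of_mul_eq_one_right (by rw [← pow_succ', h3])
  refine ⟨by rw [hr.mul_pow, hr2, mul_one, he], ?_, ?_⟩
  · rw [hr.mul_pow, h3, one_mul, pow_succ, hr2, one_mul]
  · rw [hr.mul_pow, show 4 = 2 * 2 from rfl, pow_mul r, hr2, one_pow, mul_one, show 2 * 2 = 3 + 1 from rfl,
      pow_succ, h3, one_mul]

theorem FatData.card_cent_six : Nat.card (centralizer ({e1 * r} : Set X)) = 6 := by
  obtain ⟨-, k3, k4⟩ := D.six_pow
  have ho : orderOf (e1 * r) = 6 := by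
    haveI : Fact (Nat.Prime 3) := ⟨Nat.prime_three⟩
    haveI : Fact (Nat.Prime 2) := ⟨Nat.prime_two⟩
    have hc : Commute e1 r := D.r_comm_e1.symm
    rw [hc.orderOf_mul_eq_mul_orderOf_of_coprime, orderOf_eq_prime (D.exp e1 D.m1)
      (D.e1_eq ▸ D.coord_ne_one (by decide)), orderOf_eq_prime (by rw [pow_two, D.r2]) D.ne_one_r]
    rw [orderOf_eq_prime (D.exp e1 D.m1) (D.e1_eq ▸ D.coord_ne_one (by decide)),
      orderOf_eq_prime (by rw [pow_two, D.r2]) D.ne_one_r]
    norm_num
  have h : centralizer ({e1 * r} : Set X) = zpowers (e1 * r) := by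
    refine le_antisymm (fun g hg => ?_) (zpowers_le.2 (mem_centralizer_singleton_iff.2 rfl))
    have hc : Commute g (e1 * r) := mem_centralizer_singleton_iff.1 hg
    have hg1 : g ∈ centralizer ({coord e1 e2 (1, 0)} : Set X) :=
      mem_centralizer_singleton_iff.2 (by rw [D.e1_eq, ← k4]; exact hc.pow_right 4)
    obtain ⟨k, hk, p, hp, rfl⟩ := D.cent_form (by decide) hg1
    have hrz : r ∈ zpowers (e1 * r) := by
      have := pow_mem (mem_zpowers (e1 * r)) 3
      rwa [k3] at this
    have hez : e1 ∈ zpowers (e1 * r) := by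
      have := pow_mem (mem_zpowers (e1 * r)) 4
      rwa [k4] at this
    have hkr : k ∈ zpowers (e1 * r) ∧ Commute k r := by
      rcases hk with rfl | ⟨rfl, -⟩
      · exact ⟨one_mem _, Commute.one_left r⟩
      · exact ⟨hrz, Commute.refl _⟩
    refine mul_mem hkr.1 ?_
    have hpr : Commute (k * p) r := by have := hc.pow_right 3; rwa [k3] at this
    have hpr' : Commute p r := by simpa using (hkr.2.inv_left).mul_left hpr
    obtain ⟨a, rfl⟩ := D.coord_surj hp
    have h2 := D.conj_r a
    rw [mul_assoc, hpr'.eq, ← mul_assoc, D.r2, one_mul] at h2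
    have h3 := congrArg Prod.snd (D.coord_inj h2)
    simp only at h3
    rw [show a = (a.1, 0) from Prod.ext rfl ((by decide : ∀ z : ZMod 3, z = -z → z = 0) _ h3)]
    simp only [coord, ZMod.val_zero, pow_zero, mul_one]
    exact pow_mem hez _
  rw [h, Nat.card_zpowers, ho]

omit D

variable {v0 : X} (B : FatBase P e1 e2 r s V v0)
include B

/-- An element of `C(e2)` commuting with `v0`. -/
theorem FatBase.cent2_v0 {g : X} (hg : g ∈ centralizer ({e2} : Set X)) (h0 : g * v0 = v0 * g) :
    ∃ v ∈ V, ∃ (b : Bool) (j : ZMod 3), g = v * sPow s b * coord e1 e2 (0, j) := by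
  obtain ⟨v, hv, b, a, rfl⟩ := B.data.cent2_form hg
  refine ⟨v, hv, b, a.2, ?_⟩
  suffices ha : a.1 = 0 by rw [show ((0 : ZMod 3), a.2) = a from Prod.ext ha.symm rfl]
  have hvs : Commute (v * sPow s b) v0 := by
    refine Commute.mul_left (B.data.V_comm hv B.mem) ?_
    unfold sPow; split_ifs
    · show s * v0 = v0 * s
      calc s * v0 = s * v0 * s * s := by rw [mul_assoc _ s s, B.data.s2, mul_one]
        _ = v0 * s := by rw [B.sv]
    · exact Commute.one_left _
  have hp : Commute (coord e1 e2 a) v0 := by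
    have := hvs.inv_left.mul_left (show Commute (v * sPow s b * coord e1 e2 a) v0 from h0)
    rwa [inv_mul_cancel_left] at this
  refine (B.data.e1_pow_fpf B.mem ?_).resolve_left B.ne
  have h2 : Commute (e2 ^ a.2.val) v0 := (show Commute e2 v0 from B.data.e2V _ B.mem).pow_left _
  have := hp.mul_left h2.inv_left
  simp only [coord, mul_inv_cancel_right] at this
  exact this

theorem FatBase.coord0_comm {w : X} (hw : Commute e2 w) (j : ZMod 3) :
    Commute (coord e1 e2 (0, j)) w := by
  simp only [coord, ZMod.val_zero, pow_zero, one_mul]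
  exact hw.pow_left _

theorem FatBase.card_cent_cv : Nat.card (centralizer ({e2 * v0} : Set X)) = 24 := by
  have hcomm : Commute e2 v0 := B.data.e2V _ B.mem
  have hv2 : v0 ^ 2 = 1 := by rw [pow_two, B.data.sqV _ B.mem]
  have hc3 := B.data.exp e2 B.data.m2
  have k4 : (e2 * v0) ^ 4 = e2 := by
    rw [hcomm.mul_pow, show 4 = 2 * 2 from rfl, pow_mul v0, hv2, one_pow, mul_one,
      show 2 * 2 = 3 + 1 from rfl, pow_succ, hc3, one_mul]
  have k3 : (e2 * v0) ^ 3 = v0 := by rw [hcomm.mul_pow, hc3, one_mul, pow_succ, hv2, one_mul]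
  have hsv : s * v0 = v0 * s := by
    calc s * v0 = s * v0 * s * s := by rw [mul_assoc _ s s, B.data.s2, mul_one]
      _ = v0 * s := by rw [B.sv]
  let f : V × Bool × ZMod 3 → centralizer ({e2 * v0} : Set X) := fun x =>
    ⟨(x.1 : X) * sPow s x.2.1 * coord e1 e2 (0, x.2.2), by
      refine mem_centralizer_singleton_iff.2 (Commute.mul_right
        (mem_centralizer_singleton_iff.1 (B.data.mem_cent2 x.1.2 x.2.1 (0, x.2.2))) ?_)
      refine Commute.mul_left (Commute.mul_left (B.data.V_comm x.1.2 B.mem) ?_) (B.coord0_comm hcomm _)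
      unfold sPow; split_ifs
      · exact hsv
      · exact Commute.one_left _⟩
  have hf : Function.Bijective f := by
    refine ⟨fun x y h => ?_, fun g => ?_⟩
    · obtain ⟨h1, h2, h3⟩ := B.data.nf_inj x.1.2 y.1.2 (congrArg Subtype.val h)
      exact Prod.ext (Subtype.ext h1) (Prod.ext h2 (congrArg Prod.snd h3 :))
    · have hc : Commute (g : X) (e2 * v0) := mem_centralizer_singleton_iff.1 g.2
      have hc4 := hc.pow_right 4
      have hc3' := hc.pow_right 3
      rw [k4] at hc4
      rw [k3] at hc3'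
      obtain ⟨v, hv, b, j, e⟩ := B.cent2_v0 (mem_centralizer_singleton_iff.2 hc4) hc3'
      exact ⟨(⟨v, hv⟩, b, j), Subtype.ext e.symm⟩
  rw [← Nat.card_eq_of_bijective f hf]
  simp [Nat.card_prod, B.data.cardV]

theorem FatBase.card_cent_cs : Nat.card (centralizer ({e2 * s} : Set X)) = 12 := by
  have hcomm : Commute e2 s := B.data.c_comm_s
  have hs2 : s ^ 2 = 1 := by rw [pow_two, B.data.s2]
  have hc3 := B.data.exp e2 B.data.m2
  have k4 : (e2 * s) ^ 4 = e2 := by
    rw [hcomm.mul_pow, show 4 = 2 * 2 from rfl, pow_mul s, hs2, one_pow, mul_one,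
      show 2 * 2 = 3 + 1 from rfl, pow_succ, hc3, one_mul]
  have k3 : (e2 * s) ^ 3 = s := by rw [hcomm.mul_pow, hc3, one_mul, pow_succ, hs2, one_mul]
  have hsi : s⁻¹ = s := inv_eq_of_mul_eq_one_left B.data.s2
  let f : Bool × Bool × ZMod 3 → centralizer ({e2 * s} : Set X) := fun x =>
    ⟨(if x.1 then v0 else 1) * sPow s x.2.1 * coord e1 e2 (0, x.2.2), by
      refine mem_centralizer_singleton_iff.2 (Commute.mul_right (mem_centralizer_singleton_iff.1
        (B.data.mem_cent2 (by split_ifs; exacts [B.mem, one_mem _]) x.2.1 (0, x.2.2))) ?_)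
      refine Commute.mul_left (Commute.mul_left ?_ ?_) (B.coord0_comm hcomm _)
      · split_ifs
        · show v0 * s = s * v0
          conv_lhs => rw [← B.sv]
          rw [mul_assoc _ s s, B.data.s2, mul_one]
        · exact Commute.one_left _
      · unfold sPow; split_ifs
        · exact Commute.refl _
        · exact Commute.one_left _⟩
  have hf : Function.Bijective f := by
    refine ⟨fun x y h => ?_, fun g => ?_⟩
    · obtain ⟨h1, h2, h3⟩ := B.data.nf_inj (by split_ifs; exacts [B.mem, one_mem _])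
        (by split_ifs; exacts [B.mem, one_mem _]) (congrArg Subtype.val h)
      refine Prod.ext ?_ (Prod.ext h2 (congrArg Prod.snd h3 :))
      revert h1
      cases x.1 <;> cases y.1 <;> simp [B.ne, B.ne.symm]
    · have hc : Commute (g : X) (e2 * s) := mem_centralizer_singleton_iff.1 g.2
      have hc4 := hc.pow_right 4
      have hc3' := hc.pow_right 3
      rw [k4] at hc4
      rw [k3] at hc3'
      obtain ⟨v, hv, b, a, e⟩ := B.data.cent2_form (mem_centralizer_singleton_iff.2 hc4)
      have he : s * (g : X) * s = s * v * s * sPow s b * coord e1 e2 (-a.1, a.2) := by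
        rw [← B.data.conj_s, e]
        have hbs : sPow s b * s = s * sPow s b := by unfold sPow; split_ifs <;> simp
        calc s * (v * sPow s b * coord e1 e2 a) * s
            = s * v * sPow s b * (coord e1 e2 a * s) := by group
          _ = s * v * s * (s * sPow s b) * (coord e1 e2 a * s) := by
              rw [show s * v * s * (s * sPow s b) = s * v * (s * s) * sPow s b by group, B.data.s2, mul_one]
          _ = _ := by rw [← hbs]; group
      rw [show s * (g : X) * s = g by rw [← hc3'.eq, mul_assoc, B.data.s2, mul_one], e] at he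
      obtain ⟨h1, -, h3⟩ := B.data.nf_inj hv (B.data.sV v hv) he
      have ha : a.1 = 0 :=
        (by decide : ∀ z : ZMod 3, z = -z → z = 0) _ (congrArg Prod.fst h3)
      rw [show a = (0, a.2) from Prod.ext ha rfl] at e
      rcases B.cases_mem hv with hve | hve | hve | hve <;> subst v
      · exact ⟨(false, b, a.2), Subtype.ext (by simp [f, e])⟩
      · exact ⟨(true, b, a.2), Subtype.ext (by simp [f, e])⟩
      · exact absurd (h1.trans B.s1).symm B.ne12
      · exact absurd (h1.trans B.s2') B.ne12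
  rw [← Nat.card_eq_of_bijective f hf]
  simp

theorem FatBase.orderOf_s4 : orderOf (sFour e1 s v0) = 4 := by
  haveI : Fact (Nat.Prime 2) := ⟨Nat.prime_two⟩
  exact orderOf_eq_prime_pow (p := 2) (n := 1) (by rw [pow_one, B.s4_pow2]; exact B.ne)
    (by simpa using B.s4_pow4)

theorem FatBase.card_cent_cs4 : Nat.card (centralizer ({e2 * sFour e1 s v0} : Set X)) = 12 := by
  have hcomm := B.c_comm_s4
  have h4 := B.s4_pow4
  have hc3 := B.data.exp e2 B.data.m2
  have k4 : (e2 * sFour e1 s v0) ^ 4 = e2 := by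
    rw [hcomm.mul_pow, h4, mul_one, show 4 = 3 + 1 from rfl, pow_succ, hc3, one_mul]
  have k9 : (e2 * sFour e1 s v0) ^ 9 = sFour e1 s v0 := by
    rw [hcomm.mul_pow, show 9 = 3 * 3 from rfl, pow_mul e2, hc3, one_pow, one_mul,
      show 3 * 3 = 4 * 2 + 1 from rfl, pow_succ, pow_mul, h4, one_pow, one_mul]
  have ho : orderOf (e2 * sFour e1 s v0) = 12 := by
    haveI : Fact (Nat.Prime 3) := ⟨Nat.prime_three⟩
    have o3 : orderOf e2 = 3 :=
      orderOf_eq_prime hc3 (B.data.e2_eq ▸ B.data.coord_ne_one (by decide))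
    rw [hcomm.orderOf_mul_eq_mul_orderOf_of_coprime (by rw [o3, B.orderOf_s4]; norm_num), o3, B.orderOf_s4]
  have h : centralizer ({e2 * sFour e1 s v0} : Set X) = zpowers (e2 * sFour e1 s v0) := by
    refine le_antisymm (fun g hg => ?_) (zpowers_le.2 (mem_centralizer_singleton_iff.2 rfl))
    have hc : Commute g (e2 * sFour e1 s v0) := mem_centralizer_singleton_iff.1 hg
    have hc4 := hc.pow_right 4
    rw [k4] at hc4
    have hc9 := hc.pow_right 9
    rw [k9] at hc9
    have hcv := hc9.pow_right 2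
    rw [B.s4_pow2] at hcv
    obtain ⟨v, hv, b, j, e⟩ := B.cent2_v0 (mem_centralizer_singleton_iff.2 hc4) hcv
    have hzc : e2 ∈ zpowers (e2 * sFour e1 s v0) := by
      have := pow_mem (mem_zpowers (e2 * sFour e1 s v0)) 4
      rwa [k4] at this
    have hz4 : sFour e1 s v0 ∈ zpowers (e2 * sFour e1 s v0) := by
      have := pow_mem (mem_zpowers (e2 * sFour e1 s v0)) 9
      rwa [k9] at this
    have hvb : Commute (v * sPow s b) (sFour e1 s v0) := by
      have hj : Commute (coord e1 e2 (0, j)) (sFour e1 s v0) := B.coord0_comm hcomm j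
      have := hc9.mul_left hj.inv_left
      rwa [e, mul_inv_cancel_right] at this
    rw [e]
    refine mul_mem ?_ ?_
    · have hz0 : v0 ∈ zpowers (e2 * sFour e1 s v0) := by
        have := mul_mem hz4 hz4
        rwa [B.s4_sq] at this
      have hev := hvb.eq
      rcases B.cases_mem hv with hve | hve | hve | hve <;> subst v <;> cases b <;>
        simp only [sPow, Bool.false_eq_true, if_false, if_true, mul_one, one_mul] at hev ⊢
      · exact one_mem _
      · exfalso
        apply B.ne12
        simp only [sFour] at hev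
        calc vTwo e1 v0 = s * (vOne e1 v0 * s) := by rw [← B.s1, mul_assoc]
          _ = vOne e1 v0 := by rw [hev, mul_assoc, B.data.s2, mul_one]
      · exact hz0
      · exfalso
        apply B.ne12
        simp only [sFour] at hev
        calc vTwo e1 v0 = v0 * vOne e1 v0 := B.v01.symm
          _ = vOne e1 v0 * (s * v0 * s) := by rw [B.sv, B.data.V_comm B.mem B.mem1]
          _ = vOne e1 v0 * s * (v0 * s) := by group
          _ = v0 * s * (vOne e1 v0 * s) := hev.symm
          _ = v0 * (s * vOne e1 v0 * s) := by group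
          _ = vOne e1 v0 := by
              rw [B.s1, ← B.v01, ← mul_assoc, B.data.sqV _ B.mem, one_mul]
      · exfalso
        apply B.ne
        simp only [sFour] at hev
        rw [← mul_assoc, B.data.sqV _ B.mem1, one_mul] at hev
        calc v0 = vOne e1 v0 * (s * vOne e1 v0 * s) := by rw [B.s1, B.v12]
          _ = (vOne e1 v0 * s * vOne e1 v0) * s := by group
          _ = 1 := by rw [← hev, B.data.s2]
      · exact hz4
      · exfalso
        apply B.ne
        simp only [sFour] at hev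
        have : vTwo e1 v0 * vOne e1 v0 = v0 := by rw [← B.data.V_comm B.mem1 B.mem2, B.v12]
        rw [← mul_assoc, this] at hev
        calc v0 = v0 * s * s := by rw [mul_assoc, B.data.s2, mul_one]
          _ = vOne e1 v0 * s * vTwo e1 v0 * s := by rw [hev]
          _ = vOne e1 v0 * (s * vTwo e1 v0 * s) := by group
          _ = 1 := by rw [B.s2', B.data.sqV _ B.mem1]
      · rw [← B.v01, mul_assoc]
        exact mul_mem hz0 hz4
    · simp only [coord, ZMod.val_zero, pow_zero, one_mul]
      exact pow_mem hzc _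
  rw [h, Nat.card_zpowers, ho]

end Cfsg.Agent.NineSym
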