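import Cfsg.Agent.Lib.NineSym.FatData
import Cfsg.Agent.Lib.SelfNine.KleinData

/-!
# Coordinates in the configuration with one large centralizer
-/

set_option autoImplicit false
set_option linter.style.haveILetI false
set_option linter.unusedSectionVars false

namespace Cfsg.Agent.NineSym

open Subgroup Cfsg.Agent.SelfNine

variable {X : Type*} [Group X] [Finite X] {P : Sylow 3 X} {e1 e2 r s : X} {V : Subgroup X}

/-- Conjugate elements have centralizers of the same order. -/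
theorem card_centralizer_eq_of_isConj {g h : X} (hc : IsConj g h) :
    Nat.card (centralizer ({g} : Set X)) = Nat.card (centralizer ({h} : Set X)) := by
  obtain ⟨c, rfl⟩ := isConj_iff.1 hc
  refine Nat.card_congr ((MulAut.conj c).toEquiv.subtypeEquiv fun y => ?_)
  simp only [mem_centralizer_singleton_iff, MulEquiv.toEquiv_eq_coe, MulEquiv.coe_toEquiv,
    MulAut.conj_apply]
  constructor
  · intro h
    calc c * y * c⁻¹ * (c * g * c⁻¹) = c * (y * g) * c⁻¹ := by group
      _ = c * g * c⁻¹ * (c * y * c⁻¹) := by rw [h]; group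
  · intro h
    calc y * g = c⁻¹ * (c * y * c⁻¹ * (c * g * c⁻¹)) * c := by group
      _ = g * y := by rw [h]; group

variable (D : FatData P e1 e2 r s V)
include D

theorem FatData.coord_mem (a : ZMod 3 × ZMod 3) : coord e1 e2 a ∈ (P : Subgroup X) :=
  mul_mem (pow_mem D.m1 _) (pow_mem D.m2 _)

theorem FatData.coord_comm (a : ZMod 3 × ZMod 3) {g : X} (hg : g ∈ (P : Subgroup X)) :
    g * coord e1 e2 a = coord e1 e2 a * g := D.comm g hg _ (D.coord_mem a)

theorem FatData.pow_mod {a : X} (ha : a ∈ (P : Subgroup X)) (i : ℕ) : a ^ i = a ^ ((i : ZMod 3).val) := by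
  rw [ZMod.val_natCast]; exact pow_eq_pow_mod i (D.exp a ha)

theorem FatData.coord_add (a b : ZMod 3 × ZMod 3) :
    coord e1 e2 (a + b) = coord e1 e2 a * coord e1 e2 b := by
  have h1 : e1 ^ (a.1 + b.1).val = e1 ^ a.1.val * e1 ^ b.1.val := by
    rw [← pow_add, D.pow_mod D.m1 (a.1.val + b.1.val)]; simp
  have h2 : e2 ^ (a.2 + b.2).val = e2 ^ a.2.val * e2 ^ b.2.val := by
    rw [← pow_add, D.pow_mod D.m2 (a.2.val + b.2.val)]; simp
  have hc := D.comm _ (pow_mem D.m1 b.1.val) _ (pow_mem D.m2 a.2.val)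
  simp only [coord, Prod.fst_add, Prod.snd_add, h1, h2]
  rw [mul_assoc (e1 ^ a.1.val), ← mul_assoc (e1 ^ b.1.val), hc]
  group

theorem FatData.coord_zero : coord e1 e2 0 = 1 := by simp [coord]

theorem FatData.coord_neg (a : ZMod 3 × ZMod 3) : coord e1 e2 (-a) = (coord e1 e2 a)⁻¹ := by
  refine eq_inv_of_mul_eq_one_left ?_
  rw [← D.coord_add, neg_add_cancel, D.coord_zero]

theorem FatData.coord_surj {g : X} (hg : g ∈ (P : Subgroup X)) : ∃ a, coord e1 e2 a = g := by
  obtain ⟨i, j, rfl⟩ := D.gen g hg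
  exact ⟨((i : ZMod 3), (j : ZMod 3)), by simp only [coord]; rw [← D.pow_mod D.m1, ← D.pow_mod D.m2]⟩

theorem FatData.coord_bij :
    Function.Bijective fun a : ZMod 3 × ZMod 3 => (⟨coord e1 e2 a, D.coord_mem a⟩ : (P : Subgroup X)) := by
  refine (Nat.bijective_iff_surjective_and_card _).2 ⟨fun g => ?_, by simp [D.card]⟩
  obtain ⟨a, ha⟩ := D.coord_surj g.2
  exact ⟨a, Subtype.ext ha⟩

theorem FatData.coord_inj {a b : ZMod 3 × ZMod 3} (h : coord e1 e2 a = coord e1 e2 b) : a = b :=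
  D.coord_bij.1 (Subtype.ext h)

theorem FatData.e1_eq : coord e1 e2 (1, 0) = e1 := by simp [coord, show (1 : ZMod 3).val = 1 from rfl]
theorem FatData.e2_eq : coord e1 e2 (0, 1) = e2 := by simp [coord, show (1 : ZMod 3).val = 1 from rfl]
theorem FatData.d_eq : coord e1 e2 (1, 1) = e1 * e2 := by simp [coord, show (1 : ZMod 3).val = 1 from rfl]

theorem FatData.coord_ne_one {a : ZMod 3 × ZMod 3} (ha : a ≠ 0) : coord e1 e2 a ≠ 1 :=
  fun h => ha (D.coord_inj (h.trans D.coord_zero.symm))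

theorem FatData.conj_k {k : X} (hk : k * k = 1) {b1 b2 : ZMod 3 × ZMod 3} (h1 : k * e1 * k = coord e1 e2 b1)
    (h2 : k * e2 * k = coord e1 e2 b2) (a : ZMod 3 × ZMod 3) :
    k * coord e1 e2 a * k = coord e1 e2 (a.1.val • b1 + a.2.val • b2) := by
  have hi : k⁻¹ = k := inv_eq_of_mul_eq_one_left hk
  have hn : ∀ (n : ℕ) (b : ZMod 3 × ZMod 3), coord e1 e2 (n • b) = coord e1 e2 b ^ n := by
    intro n b
    induction n with
    | zero => simp [D.coord_zero]
    | succ n ih => rw [succ_nsmul, D.coord_add, ih, pow_succ]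
  rw [D.coord_add, hn, hn, ← h1, ← h2]
  simp only [coord]
  calc k * (e1 ^ a.1.val * e2 ^ a.2.val) * k
      = k * e1 ^ a.1.val * k⁻¹ * (k * e2 ^ a.2.val * k⁻¹) := by
        conv_lhs => arg 2; rw [← hi]
        group
    _ = _ := by rw [← conj_pow, ← conj_pow, hi]

theorem FatData.conj_r (a : ZMod 3 × ZMod 3) : r * coord e1 e2 a * r = coord e1 e2 (a.1, -a.2) := by
  rw [D.conj_k D.r2 (b1 := (1, 0)) (b2 := -(0, 1)) (by rw [D.r1, D.e1_eq])
    (by rw [D.r1', D.coord_neg, D.e2_eq])]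
  congr 1
  revert a
  decide

theorem FatData.conj_s (a : ZMod 3 × ZMod 3) : s * coord e1 e2 a * s = coord e1 e2 (-a.1, a.2) := by
  rw [D.conj_k D.s2 (b1 := -(1, 0)) (b2 := (0, 1)) (by rw [D.s1, D.coord_neg, D.e1_eq])
    (by rw [D.s1', D.e2_eq])]
  congr 1
  revert a
  decide

theorem FatData.isConj_neg (a : ZMod 3 × ZMod 3) : IsConj (coord e1 e2 a) (coord e1 e2 (-a)) := by
  refine isConj_iff.2 ⟨r * s, ?_⟩
  rw [mul_inv_rev, inv_eq_of_mul_eq_one_left D.r2, inv_eq_of_mul_eq_one_left D.s2,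
    show r * s * coord e1 e2 a * (s * r) = r * (s * coord e1 e2 a * s) * r by group, D.conj_s, D.conj_r]
  rfl

theorem FatData.ne_one_s : s ≠ 1 := fun h => by
  have h2 := D.conj_s (1, 0)
  rw [h, one_mul, mul_one] at h2
  exact absurd (D.coord_inj h2) (by decide)

theorem FatData.ne_one_r : r ≠ 1 := fun h => by
  have h2 := D.conj_r (0, 1)
  rw [h, one_mul, mul_one] at h2
  exact absurd (D.coord_inj h2) (by decide)

theorem FatData.notMem_of_sq {t : X} (h2 : t * t = 1) (h1 : t ≠ 1) : t ∉ (P : Subgroup X) := fun h => h1 (by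
  have h3 := D.exp t h
  rwa [pow_succ, pow_two, h2, one_mul] at h3)

theorem FatData.s_notMem : s ∉ (P : Subgroup X) := D.notMem_of_sq D.s2 D.ne_one_s
theorem FatData.r_notMem : r ∉ (P : Subgroup X) := D.notMem_of_sq D.r2 D.ne_one_r

theorem FatData.notMem_zpowers {a : ZMod 3 × ZMod 3} (ha : a.1 ≠ 0) :
    coord e1 e2 a ∉ zpowers e2 := fun h => by
  obtain ⟨n, hn⟩ := mem_zpowers_iff.1 h
  have hc : e2 ^ n = coord e1 e2 (0, (n : ZMod 3)) := by
    have hdvd : orderOf e2 ∣ 3 := orderOf_dvd_of_pow_eq_one (D.exp e2 D.m2)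
    simp only [coord, ZMod.val_zero, pow_zero, one_mul]
    rw [← zpow_natCast, zpow_eq_zpow_iff_modEq]
    refine Int.ModEq.of_dvd (Int.natCast_dvd_natCast.2 hdvd) ?_
    rw [ZMod.val_intCast]
    exact (Int.mod_modEq n 3).symm
  exact ha (congrArg Prod.fst (D.coord_inj (hn.symm.trans hc)))

theorem FatData.P_le_normalizer : (P : Subgroup X) ≤ normalizer (V : Set X) := by
  intro g hg
  obtain ⟨i, j, rfl⟩ := D.gen g hg
  refine mul_mem (pow_mem ?_ i) (pow_mem ?_ j)
  · refine mem_normalizer_iff.2 fun v => ⟨D.e1V v, fun h => ?_⟩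
    have h3 : e1 * e1 * e1 = 1 := by rw [← pow_two, ← pow_succ]; exact D.exp e1 D.m1
    have := D.e1V _ (D.e1V _ h)
    rwa [show e1 * (e1 * (e1 * v * e1⁻¹) * e1⁻¹) * e1⁻¹ = e1 * e1 * e1 * v * (e1 * e1 * e1)⁻¹ by group, h3,
      one_mul, inv_one, mul_one] at this
  · refine mem_normalizer_iff.2 fun v => ⟨fun h => by rw [D.e2V v h]; simpa using h, fun h => ?_⟩
    have h' := D.e2V _ h
    have : e2 * v * e2⁻¹ = v := by
      calc e2 * v * e2⁻¹ = e2⁻¹ * (e2 * (e2 * v * e2⁻¹)) := by group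
        _ = e2⁻¹ * ((e2 * v * e2⁻¹) * e2) := by rw [h']
        _ = v := by group
    rwa [this] at h

theorem FatData.conjV (a : ZMod 3 × ZMod 3) {v : X} (hv : v ∈ V) :
    coord e1 e2 a * v * (coord e1 e2 a)⁻¹ ∈ V :=
  (mem_normalizer_iff.1 (D.P_le_normalizer (D.coord_mem a)) v).1 hv

theorem FatData.V_inv {v : X} (hv : v ∈ V) : v⁻¹ = v := inv_eq_of_mul_eq_one_left (D.sqV v hv)

theorem FatData.V_comm {u v : X} (hu : u ∈ V) (hv : v ∈ V) : u * v = v * u := by
  have h := D.V_inv (mul_mem hu hv)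
  rwa [mul_inv_rev, D.V_inv hu, D.V_inv hv, eq_comm] at h

theorem FatData.V_inf_P {v : X} (hv : v ∈ V) (hp : v ∈ (P : Subgroup X)) : v = 1 := by
  by_contra h
  exact D.notMem_of_sq (D.sqV v hv) h hp

theorem FatData.e1_pow_fpf {i : ZMod 3} {v : X} (hv : v ∈ V) (h : e1 ^ i.val * v = v * e1 ^ i.val) :
    v = 1 ∨ i = 0 := by
  have h' : ∀ j : ℕ, e1 ^ (j * i.val) * v = v * e1 ^ (j * i.val) := fun j => by
    rw [mul_comm j, pow_mul]; exact (show Commute (e1 ^ i.val) v from h).pow_left j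
  rcases eq_or_ne i 0 with hi | hi
  · exact Or.inr hi
  · refine Or.inl (D.fpf v hv ?_)
    have hh : ((i.val * i.val : ℕ) : ZMod 3) = 1 := by
      rw [Nat.cast_mul, ZMod.natCast_zmod_val]; clear h' h; revert hi; revert i; decide
    have := h' i.val
    rw [D.pow_mod D.m1 (i.val * i.val), hh, show (1 : ZMod 3).val = 1 from rfl, pow_one] at this
    exact this

/-- A basis of the four-group. -/
theorem FatData.exists_v0 : ∃ v ∈ V, v ≠ 1 ∧ s * v * s = v := by
  obtain ⟨u, hu, hu1⟩ : ∃ u ∈ V, u ≠ 1 := by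
    by_contra hcon
    push Not at hcon
    have hb : V = ⊥ := (eq_bot_iff_forall V).2 hcon
    have := D.cardV
    rw [hb, card_bot] at this
    omega
  by_cases h : s * u * s = u
  · exact ⟨u, hu, hu1, h⟩
  · refine ⟨u * (s * u * s), mul_mem hu (D.sV u hu), fun e => h ?_, ?_⟩
    · rw [eq_inv_of_mul_eq_one_right e, D.V_inv hu]
    · calc s * (u * (s * u * s)) * s = s * u * s * u * (s * s) := by group
        _ = u * (s * u * s) := by rw [D.s2, mul_one, D.V_comm hu (D.sV u hu)]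

end Cfsg.Agent.NineSym
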