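import Cfsg.Agent.Lib.SelfNine.Triangle

/-!
# A Klein four-group of automorphisms with one large centralizer

The configuration of the centralizer of an involution of type `2^3` in the symmetric group of degree
nine, modulo its centre: `S = ⟨e₁, e₂⟩` of order nine, `C(e₁)` of order 18, `C(e₂)` the product of
`⟨e₂⟩` with a symmetric group of degree four.
-/

set_option autoImplicit false

namespace Cfsg.Agent.NineSym

open Subgroup

/-- `r` fixes `e₁` and inverts `e₂`, `s` the other way round; `V` is the four-group of `C(e₂)`. -/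
structure FatData {X : Type*} [Group X] (P : Sylow 3 X) (e1 e2 r s : X) (V : Subgroup X) : Prop where
  card : Nat.card (P : Subgroup X) = 9
  exp : ∀ a ∈ (P : Subgroup X), a ^ 3 = 1
  comm : ∀ a ∈ (P : Subgroup X), ∀ b ∈ (P : Subgroup X), a * b = b * a
  m1 : e1 ∈ (P : Subgroup X)
  m2 : e2 ∈ (P : Subgroup X)
  gen : ∀ a ∈ (P : Subgroup X), ∃ i j : ℕ, a = e1 ^ i * e2 ^ j
  r2 : r * r = 1
  s2 : s * s = 1
  rs : r * s = s * r
  r1 : r * e1 * r = e1
  r1' : r * e2 * r = e2⁻¹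
  s1 : s * e1 * s = e1⁻¹
  s1' : s * e2 * s = e2
  nor : ∀ g ∈ normalizer ((P : Subgroup X) : Set X),
    ∃ k, (k = 1 ∨ k = r ∨ k = s ∨ k = r * s) ∧ ∃ p ∈ (P : Subgroup X), g = k * p
  cent : ∀ a ∈ (P : Subgroup X), a ∉ zpowers e2 →
    centralizer ({a} : Set X) ≤ normalizer ((P : Subgroup X) : Set X)
  cardV : Nat.card V = 4
  sqV : ∀ v ∈ V, v * v = 1
  e2V : ∀ v ∈ V, e2 * v = v * e2
  rV : ∀ v ∈ V, r * v = v * r
  e1V : ∀ v ∈ V, e1 * v * e1⁻¹ ∈ V
  sV : ∀ v ∈ V, s * v * s ∈ V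
  fpf : ∀ v ∈ V, e1 * v = v * e1 → v = 1
  cent2 : ∀ g : X, g * e2 = e2 * g →
    ∃ v ∈ V, ∃ k, (k = 1 ∨ k = s) ∧ ∃ p ∈ (P : Subgroup X), g = v * k * p

end Cfsg.Agent.NineSym
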