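import Cfsg.Agent.Lib.NineSym.FatCent

/-!
# Factorisations of `e₁ e₂` as products of elements of order three
-/

set_option autoImplicit false
set_option linter.style.haveILetI false
set_option linter.unusedSectionVars false

namespace Cfsg.Agent.NineSym

open Subgroup Cfsg.Agent.SelfNine

theorem zmod_three_sq : ∀ {z : ZMod 3}, z ≠ 0 → z * z = 1 := by decide

variable {X : Type*} [Group X] [Finite X] {P : Sylow 3 X} {e1 e2 r s : X} {V : Subgroup X}
variable (D : FatData P e1 e2 r s V)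
include D

theorem FatData.comm_of_isPGroup {Q : Subgroup X} (hQ : IsPGroup 3 Q) {a b : X}
    (ha : a ∈ Q) (hb : b ∈ Q) : a * b = b * a := by
  haveI : Fact (Nat.Prime 3) := ⟨Nat.prime_three⟩
  obtain ⟨R, hR⟩ := hQ.exists_le_sylow
  obtain ⟨c, hc⟩ := MulAction.exists_smul_eq X R P
  have hm : ∀ g : X, g ∈ Q → c * g * c⁻¹ ∈ (P : Subgroup X) := fun g hg => by
    rw [← hc, Sylow.coe_subgroup_smul]
    exact smul_mem_pointwise_smul g (MulAut.conj c) _ (hR hg)
  have := D.comm _ (hm a ha) _ (hm b hb)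
  rw [show c * a * c⁻¹ * (c * b * c⁻¹) = c * (a * b) * c⁻¹ by group,
    show c * b * c⁻¹ * (c * a * c⁻¹) = c * (b * a) * c⁻¹ by group] at this
  exact mul_left_cancel (mul_right_cancel this)

theorem FatData.mem_cent_c_of_mem {g : X} (hg : g ∈ (P : Subgroup X)) :
    g ∈ centralizer ({e2} : Set X) :=
  mem_centralizer_singleton_iff.2 (D.comm g hg _ D.m2)

/-- Two elements of order three with product of order three, one of them with centralizer inside
the normalizer of `P`. -/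
theorem FatData.triangle {a : ZMod 3 × ZMod 3} (ha : a.1 ≠ 0) {y : X}
    (hy : y ^ 3 = 1) (hxy : (coord e1 e2 a * y) ^ 3 = 1) :
    y ∈ centralizer ({e2} : Set X) ∨
      (IsConj (coord e1 e2 a) y ∧ IsConj (coord e1 e2 a) (coord e1 e2 a * y)⁻¹) := by
  classical
  have hxP := D.coord_mem a
  have hx1 : coord e1 e2 a ≠ 1 := D.coord_ne_one (fun h => ha (by rw [h]; rfl))
  have hxz := D.notMem_zpowers ha
  generalize coord e1 e2 a = x at hxy hxP hx1 hxz ⊢
  haveI : Fact (Nat.Prime 3) := ⟨Nat.prime_three⟩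
  have hx' : x * x * x = 1 := by rw [← pow_two, ← pow_succ]; exact D.exp x hxP
  have hy' : y * y * y = 1 := by rw [← hy, pow_succ, pow_two]
  have hxy' : x * y * (x * y) * (x * y) = 1 := by rw [← hxy, pow_succ, pow_two]
  set u := x * y⁻¹ with hu
  set v := y⁻¹ * x with hv
  have hinvx : x⁻¹ = x * x := inv_eq_of_mul_eq_one_right (by rw [← mul_assoc]; exact hx')
  have hinvy : y⁻¹ = y * y := inv_eq_of_mul_eq_one_right (by rw [← mul_assoc]; exact hy')
  have huv : u * v = x * y * x := by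
    calc u * v = x * (y⁻¹ * y⁻¹) * x := by simp only [hu, hv]; group
      _ = x * (y * y * (y * y)) * x := by rw [hinvy]
      _ = x * (y * y * y) * y * x := by group
      _ = x * y * x := by rw [hy', mul_one]
  have hvu : v * u = x * y * x := by
    calc v * u = y⁻¹ * (x * x) * y⁻¹ := by simp only [hu, hv]; group
      _ = y⁻¹ * x⁻¹ * y⁻¹ := by rw [hinvx]
      _ = (x * y * (x * y) * (x * y)) * (y⁻¹ * x⁻¹ * y⁻¹) := by rw [hxy', one_mul]
      _ = x * y * x := by group
  have hcuv : u * v = v * u := huv.trans hvu.symm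
  set M := Subgroup.closure ({u, v} : Set X) with hM
  have huM : u ∈ M := Subgroup.subset_closure (Set.mem_insert _ _)
  have hvM : v ∈ M := Subgroup.subset_closure (Set.mem_insert_of_mem _ rfl)
  have hMcomm : ∀ g ∈ M, ∀ k ∈ M, g * k = k * g := by
    have hle : M ≤ Subgroup.centralizer (M : Set X) := by
      rw [hM, Subgroup.centralizer_closure, Subgroup.closure_le]
      rintro g (rfl | rfl) k (rfl | rfl)
      · rfl
      · exact hcuv.symm
      · exact hcuv
      · rfl
    intro g hg k hk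
    exact (hle hg k hk).symm
  have hxu : x * u * x⁻¹ = (u * v)⁻¹ := by
    rw [huv]
    calc x * u * x⁻¹ = (x * x) * y⁻¹ * x⁻¹ := by simp only [hu]; group
      _ = (x * y * x)⁻¹ := by rw [← hinvx]; group
  have hxv : x * v * x⁻¹ = u := by simp only [hu, hv]; group
  have hxM : ∀ m ∈ M, x * m * x⁻¹ ∈ M := by
    intro m hm
    rw [hM] at hm
    induction hm using Subgroup.closure_induction with
    | mem g hg =>
      rcases hg with rfl | rfl
      · rw [hxu]; exact M.inv_mem (M.mul_mem huM hvM)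
      · rw [hxv]; exact huM
    | one => simp
    | mul g k _ _ hg hk =>
      rw [show x * (g * k) * x⁻¹ = (x * g * x⁻¹) * (x * k * x⁻¹) by group]; exact M.mul_mem hg hk
    | inv g _ hg => rw [show x * g⁻¹ * x⁻¹ = (x * g * x⁻¹)⁻¹ by group]; exact M.inv_mem hg
  have hyx : y = u⁻¹ * x := by simp only [hu]; group
  by_cases h3 : ∀ m ∈ M, m ^ 3 = 1 → m = 1
  · right
    refine ⟨?_, ?_⟩
    · rw [hyx]
      exact isConj_coset hMcomm h3 hx' hxM (M.inv_mem huM) (by rw [← hyx]; exact hy')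
    · have e : (x * y)⁻¹ = x * (x * u * x⁻¹) * x⁻¹ * x := by
        calc (x * y)⁻¹ = y⁻¹ * x⁻¹ := mul_inv_rev x y
          _ = x⁻¹ * u * x⁻¹ := by simp only [hu]; group
          _ = x * x * u * x⁻¹ := by rw [← hinvx]
          _ = x * (x * u * x⁻¹) * x⁻¹ * x := by group
      rw [e]
      refine isConj_coset hMcomm h3 hx' hxM (hxM _ (hxM _ huM)) ?_
      rw [← e, ← pow_two, ← pow_succ, inv_pow, hxy, inv_one]
  · left
    push Not at h3
    obtain ⟨m, hm, hm3, hm1⟩ := h3
    let T : Subgroup X :=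
      { carrier := {g | g ∈ M ∧ g ^ 3 = 1}
        one_mem' := ⟨M.one_mem, one_pow 3⟩
        mul_mem' := fun {a b} ha hb => ⟨M.mul_mem ha.1 hb.1, by
          rw [Commute.mul_pow (hMcomm a ha.1 b hb.1), ha.2, hb.2, one_mul]⟩
        inv_mem' := fun {a} ha => ⟨M.inv_mem ha.1, by rw [inv_pow, ha.2, inv_one]⟩ }
    have hT : IsPGroup 3 T := fun g => ⟨1, Subtype.ext (by rw [pow_one]; exact g.2.2)⟩
    have hxT : ∀ g ∈ T, x * g * x⁻¹ ∈ T := fun g hg =>
      ⟨hxM g hg.1, by rw [conj_pow, hg.2, mul_one, mul_inv_cancel]⟩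
    have hzN : Subgroup.zpowers x ≤ Subgroup.normalizer (T : Set X) := by
      rw [Subgroup.zpowers_le, Subgroup.mem_normalizer_iff]
      intro g
      refine ⟨hxT g, fun hg => ?_⟩
      have h2 := hxT _ (hxT _ hg)
      have he : x * (x * (x * g * x⁻¹) * x⁻¹) * x⁻¹ = g := by
        calc x * (x * (x * g * x⁻¹) * x⁻¹) * x⁻¹ = (x * x * x) * g * (x * x * x)⁻¹ := by group
          _ = g := by rw [hx']; group
      rwa [he] at h2
    have hzp : IsPGroup 3 (Subgroup.zpowers x) :=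
      IsPGroup.of_card (n := 1) (by rw [Nat.card_zpowers, orderOf_eq_prime (D.exp x hxP) hx1, pow_one])
    have hc : m * x = x * m := (D.comm_of_isPGroup (hT.to_sup_of_normal_left' hzp hzN)
      (Subgroup.mem_sup_right (Subgroup.mem_zpowers x))
      (Subgroup.mem_sup_left (show m ∈ T from ⟨hm, hm3⟩))).symm
    have hmP : m ∈ (P : Subgroup X) := mem_of_mem_normalizer
      (D.cent x hxP hxz (mem_centralizer_singleton_iff.2 hc)) hm3
    have hum : u ∈ centralizer ({m} : Set X) := mem_centralizer_singleton_iff.2 (hMcomm u huM m hm)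
    by_cases hmc : m ∈ zpowers e2
    · have huc : u ∈ centralizer ({e2} : Set X) := by
        obtain ⟨b, rfl⟩ := D.coord_surj hmP
        have hb : b.1 = 0 := by
          by_contra hb
          exact D.notMem_zpowers hb hmc
        have hb2 : b.2 ≠ 0 := fun h => hm1 (by
          rw [show b = 0 from Prod.ext hb h, D.coord_zero])
        have hcu : Commute u (coord e1 e2 b) := mem_centralizer_singleton_iff.1 hum
        have h2 := hcu.pow_right b.2.val
        have he : coord e1 e2 b ^ b.2.val = e2 := by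
          simp only [coord, hb, ZMod.val_zero, pow_zero, one_mul]
          rw [← pow_mul, D.pow_mod D.m2, Nat.cast_mul, ZMod.natCast_zmod_val,
            zmod_three_sq hb2]
          simp [show (1 : ZMod 3).val = 1 from rfl]
        rw [he] at h2
        exact mem_centralizer_singleton_iff.2 h2
      rw [hyx]
      exact mul_mem (inv_mem huc) (D.mem_cent_c_of_mem hxP)
    · have huN : u ∈ normalizer ((P : Subgroup X) : Set X) := D.cent m hmP hmc hum
      refine D.mem_cent_c_of_mem (mem_of_mem_normalizer ?_ hy)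
      rw [hyx]
      exact mul_mem (inv_mem huN) (le_normalizer hxP)

/-- The coset of an element outside `⟨e₂⟩` modulo the four-group is one class. -/
theorem FatData.isConj_mul_coord (a : ZMod 3 × ZMod 3) (ha : a.1 ≠ 0) (v : X) (hv : v ∈ V) :
    IsConj (coord e1 e2 a) (v * coord e1 e2 a) := by
  set x := coord e1 e2 a with hx
  have hfix : ∀ w ∈ V, Commute x w → w = 1 := fun w hw h => by
    have h2 : Commute (e2 ^ a.2.val) w := (show Commute e2 w from D.e2V _ hw).pow_left _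
    have := h.mul_left h2.inv_left
    simp only [hx, coord, mul_inv_cancel_right] at this
    exact (D.e1_pow_fpf hw this).resolve_right ha
  let f : V → V := fun w => ⟨(w : X) * (x * w * x⁻¹), mul_mem w.2 (D.conjV a w.2)⟩
  have hf : Function.Injective f := by
    intro u w h
    have h' : (u : X) * (x * u * x⁻¹) = w * (x * w * x⁻¹) := congrArg Subtype.val h
    have key : x * ((w : X) * u) * x⁻¹ = (w : X) * u := by
      calc x * ((w : X) * u) * x⁻¹ = (x * w * x⁻¹) * (x * u * x⁻¹) := by group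
        _ = (x * w * x⁻¹) * ((u : X) * ((u : X) * (x * u * x⁻¹))) := by
            rw [← mul_assoc (u : X) (u : X), D.sqV _ u.2, one_mul]
        _ = (x * w * x⁻¹) * (u : X) * ((w : X) * (x * w * x⁻¹)) := by rw [h']; group
        _ = ((w : X) * u) * ((x * w * x⁻¹) * (x * w * x⁻¹)) := by
            rw [D.V_comm (D.conjV a w.2) u.2, mul_assoc (u : X), ← mul_assoc (x * (w : X) * x⁻¹) (w : X),
              D.V_comm (D.conjV a w.2) w.2, mul_assoc (w : X) (x * (w : X) * x⁻¹), ← mul_assoc (u : X),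
              D.V_comm u.2 w.2]
        _ = (w : X) * u := by rw [D.sqV _ (D.conjV a w.2), mul_one]
    have h1 := hfix _ (mul_mem w.2 u.2) (mul_inv_eq_iff_eq_mul.1 key)
    exact Subtype.ext (by rw [← D.V_inv w.2]; exact (inv_eq_of_mul_eq_one_right h1).symm)
  obtain ⟨w, hw⟩ := (Finite.injective_iff_surjective.1 hf) ⟨v, hv⟩
  refine isConj_iff.2 ⟨w, ?_⟩
  have hw' : (w : X) * (x * w * x⁻¹) = v := congrArg Subtype.val hw
  rw [← hw', D.V_inv w.2]
  group

/-- An element of order three in `C(e₂)`. -/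
theorem FatData.cube_form {g : X} (hg : g ∈ centralizer ({e2} : Set X)) (h3 : g ^ 3 = 1) :
    ∃ v ∈ V, ∃ a, g = v * coord e1 e2 a ∧ (a.1 = 0 → v = 1) ∧
      (g ≠ 1 → a ≠ 0 ∧ Nat.card (centralizer ({g} : Set X)) = tCard a) := by
  classical
  obtain ⟨v, hv, b, a, e⟩ := D.cent2_form hg
  have hVn : ∀ w ∈ V, ∀ b', sPow s b' * w * (sPow s b')⁻¹ ∈ V := fun w hw b' => by
    unfold sPow; split_ifs
    · rw [inv_eq_of_mul_eq_one_left D.s2]; exact D.sV w hw
    · simpa using hw
  cases b with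
  | true =>
    exfalso
    have hN : s ∈ normalizer (V : Set X) := mem_normalizer_iff.2 fun w => ⟨fun hw => by
        rw [inv_eq_of_mul_eq_one_left D.s2]; exact D.sV w hw, fun hw => by
      rw [inv_eq_of_mul_eq_one_left D.s2] at hw
      have := D.sV _ hw
      rwa [show s * (s * w * s) * s = s * s * w * (s * s) by group, D.s2, one_mul, mul_one] at this⟩
    -- compute modulo `V`
    have hg' : g = v * (s * coord e1 e2 a) := by rw [e, sPow, if_pos rfl, mul_assoc]
    set p := s * coord e1 e2 a with hp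
    have hpN : p ∈ normalizer (V : Set X) := mul_mem hN (D.P_le_normalizer (D.coord_mem a))
    have hc1 : p * v * p⁻¹ ∈ V := (mem_normalizer_iff.1 hpN v).1 hv
    have hc2 : p * (p * v * p⁻¹) * p⁻¹ ∈ V := (mem_normalizer_iff.1 hpN _).1 hc1
    have hw : v * (p * v * p⁻¹) * (p * (p * v * p⁻¹) * p⁻¹) ∈ V := mul_mem (mul_mem hv hc1) hc2
    have hg3 : g ^ 3 = (v * (p * v * p⁻¹) * (p * (p * v * p⁻¹) * p⁻¹)) * (p * p * p) := by
      rw [hg', pow_succ, pow_two]; group
    have hpp : p * p * p = s * coord e1 e2 (a.1, 0) := by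
      have h1 : p * p = coord e1 e2 (-a.1, a.2) * coord e1 e2 a := by
        rw [← D.conj_s, hp]; group
      rw [h1, ← D.coord_add, hp, ← mul_assoc]
      have hs : coord e1 e2 ((-a.1, a.2) + a) * s = s * coord e1 e2 ((-a.1, a.2) + a) := by
        have h0 := D.conj_s ((-a.1, a.2) + a)
        rw [show (-((-a.1, a.2) + a).1, ((-a.1, a.2) + a).2) = (-a.1, a.2) + a from
          Prod.ext (by simp) rfl] at h0
        conv_lhs => rw [← h0]
        rw [mul_assoc, D.s2, mul_one]
      rw [hs, mul_assoc, ← D.coord_add]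
      congr 2
      exact (by decide : ∀ b : ZMod 3 × ZMod 3, (-b.1, b.2) + b + b = (b.1, 0)) a
    rw [h3, hpp] at hg3
    have := (D.nf_inj (v := 1) (v' := v * (p * v * p⁻¹) * (p * (p * v * p⁻¹) * p⁻¹)) (b := false)
      (b' := true) (a := 0) (a' := (a.1, 0)) (one_mem _) hw (by
        simp only [sPow, Bool.false_eq_true, if_false, if_true, mul_one, D.coord_zero]
        rw [mul_assoc _ s]; exact hg3)).2.1
    exact Bool.false_ne_true this
  | false =>
    simp only [sPow, Bool.false_eq_true, if_false, mul_one] at e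
    have hz : a.1 = 0 → v = 1 := fun ha => by
      have hc : Commute v (coord e1 e2 a) := by
        simp only [coord, ha, ZMod.val_zero, pow_zero, one_mul]
        exact (show Commute v e2 from (D.e2V v hv).symm).pow_right _
      rw [e, hc.mul_pow, D.exp _ (D.coord_mem a), mul_one] at h3
      rwa [pow_succ, pow_two, D.sqV v hv, one_mul] at h3
    refine ⟨v, hv, a, e, hz, fun hg1 => ?_⟩
    have ha0 : a ≠ 0 := fun h => hg1 (by rw [e, hz (by rw [h]; rfl), h, D.coord_zero, mul_one])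
    refine ⟨ha0, ?_⟩
    suffices hconj : IsConj (coord e1 e2 a) g by
      rw [← card_centralizer_eq_of_isConj hconj, D.card_cent_coord ha0]
    rw [e]
    rcases eq_or_ne a.1 0 with ha | ha
    · rw [hz ha, one_mul]
    · exact D.isConj_mul_coord a ha v hv

/-- The factorisations with prescribed classes. -/
theorem FatData.product_form {x y g : X} (hx : x ^ 3 = 1) (hx1 : x ≠ 1) (hy : y ^ 3 = 1) (hy1 : y ≠ 1)
    (hne : ¬ (Nat.card (centralizer ({x} : Set X)) = 9 ∧ Nat.card (centralizer ({y} : Set X)) = 9))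
    (hxg : IsConj x g) (hyg : IsConj y (g⁻¹ * (e1 * e2))) :
    ∃ v ∈ V, ∃ a, g = v * coord e1 e2 a ∧ a ≠ 0 ∧ (1, 1) - a ≠ 0 ∧
      Nat.card (centralizer ({x} : Set X)) = tCard a ∧
      Nat.card (centralizer ({y} : Set X)) = tCard ((1, 1) - a) ∧
      (a.1 = 0 ∨ ((1, 1) - a).1 = 0 → v = 1) := by
  obtain ⟨c, hc⟩ := isConj_iff.1 hxg
  obtain ⟨d, hd⟩ := isConj_iff.1 hyg
  have hg3 : g ^ 3 = 1 := by rw [← hc, conj_pow, hx, mul_one, mul_inv_cancel]
  have hg1 : g ≠ 1 := fun h => hx1 (conj_eq_one_iff.1 (hc.trans h))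
  have hq3 : (g⁻¹ * (e1 * e2)) ^ 3 = 1 := by rw [← hd, conj_pow, hy, mul_one, mul_inv_cancel]
  have hq1 : g⁻¹ * (e1 * e2) ≠ 1 := fun h => hy1 (conj_eq_one_iff.1 (hd.trans h))
  have hzc : coord e1 e2 (2, 2) = (e1 * e2)⁻¹ := by
    rw [← D.d_eq, ← D.coord_neg]; congr 1
  have hgC : g ∈ centralizer ({e2} : Set X) := by
    rcases D.triangle (a := (2, 2)) (by decide) hg3 (by
      rw [hzc, show (e1 * e2)⁻¹ * g = (g⁻¹ * (e1 * e2))⁻¹ by group, inv_pow, hq3, inv_one]) with h | ⟨h1, h2⟩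
    · exact h
    · rw [hzc, show ((e1 * e2)⁻¹ * g)⁻¹ = g⁻¹ * (e1 * e2) by group, ← hzc] at h2
      refine absurd ⟨?_, ?_⟩ hne
      · rw [card_centralizer_eq_of_isConj (hxg.trans h1.symm), D.card_cent_coord (by decide)]; rfl
      · rw [card_centralizer_eq_of_isConj (hyg.trans h2.symm), D.card_cent_coord (by decide)]; rfl
  obtain ⟨v, hv, a, e, hz, hcard⟩ := D.cube_form hgC hg3
  obtain ⟨ha0, hca⟩ := hcard hg1
  have hqC : g⁻¹ * (e1 * e2) ∈ centralizer ({e2} : Set X) :=
    mul_mem (inv_mem hgC) (D.mem_cent_c_of_mem (mul_mem D.m1 D.m2))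
  obtain ⟨v', hv', b, e', hz', hcard'⟩ := D.cube_form hqC hq3
  obtain ⟨hb0, hcb⟩ := hcard' hq1
  have heq : coord e1 e2 (-a) * v * (coord e1 e2 (-a))⁻¹ * coord e1 e2 ((1, 1) - a) = v' * coord e1 e2 b := by
    rw [← e', e, sub_eq_neg_add, D.coord_add, D.coord_neg, D.d_eq, mul_inv_rev, D.V_inv hv]
    group
  obtain ⟨h1, -, h3⟩ := D.nf_inj (D.conjV (-a) hv) hv' (b := false) (b' := false) (by simpa [sPow] using heq)
  subst h3
  refine ⟨v, hv, a, e, ha0, hb0, ?_, ?_, ?_⟩
  · rw [card_centralizer_eq_of_isConj hxg, hca]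
  · rw [card_centralizer_eq_of_isConj hyg, hcb]
  · rintro (h | h)
    · exact hz h
    · have := hz' h
      rw [← h1] at this
      exact conj_eq_one_iff.1 this

theorem FatData.card_cent_e1 : Nat.card (centralizer ({e1} : Set X)) = 18 := by
  rw [← D.e1_eq, D.card_cent_coord (by decide)]; rfl

theorem FatData.card_cent_e : Nat.card (centralizer ({e1 * e2} : Set X)) = 9 := by
  rw [← D.d_eq, D.card_cent_coord (by decide)]; rfl

theorem FatData.three_facts : e1 ^ 3 = 1 ∧ e1 ≠ 1 ∧ e2 ^ 3 = 1 ∧ e2 ≠ 1 ∧ (e1 * e2) ^ 3 = 1 ∧ e1 * e2 ≠ 1 :=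
  ⟨D.exp _ D.m1, D.e1_eq ▸ D.coord_ne_one (by decide), D.exp _ D.m2, D.e2_eq ▸ D.coord_ne_one (by decide),
    D.exp _ (mul_mem D.m1 D.m2), D.d_eq ▸ D.coord_ne_one (by decide)⟩

theorem FatData.count_aae :
    Nat.card {g : X // IsConj e1 g ∧ IsConj e1 (g⁻¹ * (e1 * e2))} = 0 := by
  obtain ⟨a3, a1, -⟩ := D.three_facts
  rw [Nat.card_eq_zero]
  refine Or.inl ⟨fun ⟨g, hxg, hyg⟩ => ?_⟩
  obtain ⟨v, -, a, -, ha, hb, hca, hcb, -⟩ :=
    D.product_form a3 a1 a3 a1 (by rw [D.card_cent_e1]; omega) hxg hyg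
  rw [D.card_cent_e1] at hca hcb
  clear * - ha hb hca hcb
  revert ha hb hca hcb
  revert a
  decide

theorem FatData.count_cce :
    Nat.card {g : X // IsConj e2 g ∧ IsConj e2 (g⁻¹ * (e1 * e2))} = 0 := by
  obtain ⟨-, -, c3, c1, -⟩ := D.three_facts
  rw [Nat.card_eq_zero]
  refine Or.inl ⟨fun ⟨g, hxg, hyg⟩ => ?_⟩
  obtain ⟨v, -, a, -, ha, hb, hca, hcb, -⟩ :=
    D.product_form c3 c1 c3 c1 (by rw [D.card_cent_c]; omega) hxg hyg
  rw [D.card_cent_c] at hca hcb
  clear * - ha hb hca hcb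
  revert ha hb hca hcb
  revert a
  decide

theorem FatData.count_ace :
    Nat.card {g : X // IsConj e1 g ∧ IsConj e2 (g⁻¹ * (e1 * e2))} = 1 := by
  obtain ⟨a3, a1, c3, c1, -⟩ := D.three_facts
  rw [Nat.card_eq_one_iff_unique]
  refine ⟨⟨fun ⟨g, hg1, hg2⟩ ⟨g', hg1', hg2'⟩ => Subtype.ext ?_⟩,
    ⟨⟨e1, IsConj.refl _, by rw [inv_mul_cancel_left]⟩⟩⟩
  have key : ∀ g, IsConj e1 g → IsConj e2 (g⁻¹ * (e1 * e2)) → g = e1 := by
    intro g h1 h2
    obtain ⟨v, -, a, e, ha, hb, hca, hcb, hv⟩ :=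
      D.product_form a3 a1 c3 c1 (by rw [D.card_cent_e1]; omega) h1 h2
    rw [D.card_cent_e1] at hca
    rw [D.card_cent_c] at hcb
    have hax : a = (1, 0) := by
      clear * - ha hb hca hcb
      revert ha hb hca hcb
      revert a
      decide
    subst hax
    rw [e, hv (Or.inr (by decide)), one_mul, D.e1_eq]
  exact (key g hg1 hg2).trans (key g' hg1' hg2').symm

theorem FatData.count_cee :
    Nat.card {g : X // IsConj e2 g ∧ IsConj (e1 * e2) (g⁻¹ * (e1 * e2))} = 1 := by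
  obtain ⟨-, -, c3, c1, d3, d1⟩ := D.three_facts
  rw [Nat.card_eq_one_iff_unique]
  refine ⟨⟨fun ⟨g, hg1, hg2⟩ ⟨g', hg1', hg2'⟩ => Subtype.ext ?_⟩,
    ⟨⟨coord e1 e2 (0, 2), ?_, ?_⟩⟩⟩
  · have key : ∀ g, IsConj e2 g → IsConj (e1 * e2) (g⁻¹ * (e1 * e2)) → g = coord e1 e2 (0, 2) := by
      intro g h1 h2
      obtain ⟨v, -, a, e, ha, hb, hca, hcb, hv⟩ :=
        D.product_form c3 c1 d3 d1 (by rw [D.card_cent_c]; omega) h1 h2
      rw [D.card_cent_c] at hca
      rw [D.card_cent_e] at hcb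
      have hax : a = (0, 2) := by
        clear * - ha hb hca hcb
        revert ha hb hca hcb
        revert a
        decide
      subst hax
      rw [e, hv (Or.inl rfl), one_mul]
    exact (key g hg1 hg2).trans (key g' hg1' hg2').symm
  · have := D.isConj_neg (0, 1)
    rw [D.e2_eq] at this
    rwa [show -((0 : ZMod 3), (1 : ZMod 3)) = (0, 2) from by decide] at this
  · refine isConj_iff.2 ⟨r, ?_⟩
    rw [inv_eq_of_mul_eq_one_left D.r2, ← D.d_eq, D.conj_r, ← D.coord_neg, ← D.coord_add]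
    congr 1

theorem FatData.count_aee :
    Nat.card {g : X // IsConj e1 g ∧ IsConj (e1 * e2) (g⁻¹ * (e1 * e2))} = 4 := by
  obtain ⟨a3, a1, -, -, d3, d1⟩ := D.three_facts
  let p := coord e1 e2 (2, 0)
  have hp : IsConj e1 p := by
    have := D.isConj_neg (1, 0)
    rwa [D.e1_eq, show -((1 : ZMod 3), (0 : ZMod 3)) = (2, 0) from by decide] at this
  have hnv := D.isConj_mul_coord
  have h5 : ∀ v ∈ V, IsConj (e1 * e2) ((v * p)⁻¹ * (e1 * e2)) := by
    intro v hv
    have e : (v * p)⁻¹ * (e1 * e2) = p⁻¹ * v * p⁻¹⁻¹ * coord e1 e2 ((1, 1) - (2, 0)) := by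
      rw [sub_eq_neg_add, D.coord_add, D.coord_neg, D.d_eq, mul_inv_rev, D.V_inv hv]
      simp only [p]
      group
    rw [e]
    refine IsConj.trans ?_ (hnv _ (by decide) _ (by rw [← D.coord_neg]; exact D.conjV _ hv))
    refine isConj_iff.2 ⟨s, ?_⟩
    rw [inv_eq_of_mul_eq_one_left D.s2, ← D.d_eq, D.conj_s]
    congr 1
  let f : V → {g : X // IsConj e1 g ∧ IsConj (e1 * e2) (g⁻¹ * (e1 * e2))} := fun v =>
    ⟨(v : X) * p, hp.trans (hnv _ (by decide) _ v.2), h5 _ v.2⟩
  have hf : Function.Bijective f := by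
    refine ⟨fun x y h => Subtype.ext (mul_right_cancel (congrArg Subtype.val h)), ?_⟩
    rintro ⟨g, hg1, hg2⟩
    obtain ⟨v, hv, a, e, ha, hb, hca, hcb, -⟩ :=
      D.product_form a3 a1 d3 d1 (by rw [D.card_cent_e1]; omega) hg1 hg2
    rw [D.card_cent_e1] at hca
    rw [D.card_cent_e] at hcb
    have hax : a = (2, 0) := by
      clear * - ha hb hca hcb
      revert ha hb hca hcb
      revert a
      decide
    subst hax
    exact ⟨⟨v, hv⟩, Subtype.ext e.symm⟩
  rw [← Nat.card_eq_of_bijective f hf, D.cardV]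

end Cfsg.Agent.NineSym
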