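import Cfsg.Agent.Lib.NineSym.FatTriangle
import Cfsg.Agent.Lib.SelfNine.Values
import Cfsg.Agent.Lib.SelfNine.KleinSearch
import Cfsg.Agent.Recognition.SelfCentNine
import Cfsg.Agent.Lib.Components.PairCount.Section
import Cfsg.Agent.Lib.Blocks.ThirdMainCor
import Cfsg.Agent.BlockCharsA.DefectZeroVanish

/-!
# Values of the characters in the configuration with one large centralizer
-/

set_option autoImplicit false
set_option linter.style.haveILetI false
set_option linter.unusedSectionVars false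

namespace Cfsg.Agent.NineSym

open Subgroup Cfsg.Agent.Characters Cfsg.Agent.SelfNine
open scoped ComplexConjugate

variable {X : Type*} [Group X] [Finite X]

/-- The homomorphism from a group of order three. -/
def threeHom {M : Type*} [Monoid M] (x : M) (hx : x ^ 3 = 1) : Multiplicative (ZMod 3) →* M where
  toFun a := x ^ a.toAdd.val
  map_one' := by simp
  map_mul' a b := by
    rw [← pow_add, toAdd_mul, ZMod.val_add]
    exact (pow_eq_pow_mod _ hx).symm

theorem threeHom_apply {M : Type*} [Monoid M] (x : M) (hx : x ^ 3 = 1) (a : ZMod 3) :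
    threeHom x hx (Multiplicative.ofAdd a) = x ^ a.val := rfl

/-- The homomorphism from a group of order two. -/
def twoHom {M : Type*} [Monoid M] (x : M) (hx : x ^ 2 = 1) : Multiplicative (ZMod 2) →* M where
  toFun a := x ^ a.toAdd.val
  map_one' := by simp
  map_mul' a b := by
    rw [← pow_add, toAdd_mul, ZMod.val_add]
    exact (pow_eq_pow_mod _ hx).symm

theorem sum_mult3 {A : Type*} [AddCommMonoid A] (g : Multiplicative (ZMod 3) → A) :
    ∑ a, g a = g (Multiplicative.ofAdd 0) + g (Multiplicative.ofAdd 1) + g (Multiplicative.ofAdd 2) := by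
  rw [← (Multiplicative.ofAdd (α := ZMod 3)).sum_comp g]
  exact Fin.sum_univ_three fun i : Fin 3 => g (Multiplicative.ofAdd (i : ZMod 3))

theorem sum_mult2 {A : Type*} [AddCommMonoid A] (g : Multiplicative (ZMod 2) → A) :
    ∑ a, g a = g (Multiplicative.ofAdd 0) + g (Multiplicative.ofAdd 1) := by
  rw [← (Multiplicative.ofAdd (α := ZMod 2)).sum_comp g]
  exact Fin.sum_univ_two fun i : Fin 2 => g (Multiplicative.ofAdd (i : ZMod 2))

/-- The values on the coset of a real element of order three average to an integer. -/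
theorem average_int {χ : X → ℂ} (h : Cfsg.IsCharacter X χ) {K : Type*} [Group K] [Fintype K]
    (φ : K →* X) {x : X} (hx : x ^ 3 = 1) (hc : ∀ k, Commute x (φ k))
    (hr : ∀ k, χ (x ^ 2 * φ k) = χ (x * φ k)) :
    ∃ m : ℤ, ∑ k, χ (x * φ k) = (Fintype.card K : ℂ) * m := by
  obtain ⟨hw, hwi, hs⟩ := omega3_facts
  let ψ : Multiplicative (ZMod 3) × K →* X :=
    (threeHom x hx).noncommCoprod φ fun a k => (hc k).pow_left _
  let lam : Multiplicative (ZMod 3) × K →* ℂ :=
    (threeHom omega3 hw).comp (MonoidHom.fst _ _)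
  have hψ := isCharacter_comp ψ h
  obtain ⟨n0, h0⟩ := classInner_char_nat hψ (isCharacter_one (G := Multiplicative (ZMod 3) × K))
  obtain ⟨n1, h1⟩ := classInner_char_nat hψ (isCharacter_of_isIrr (isIrrCharacter_monoidHom lam))
  rw [classInner_def, inv_mul_eq_iff_eq_mul₀ natCard_ne_zero] at h0 h1
  have hval : ∀ a k, ψ (a, k) = threeHom x hx a * φ k := fun a k => rfl
  have hlam : ∀ a k, lam (a, k) = threeHom omega3 hw a := fun a k => rfl
  have hcard : (Nat.card (Multiplicative (ZMod 3) × K) : ℂ) = 3 * (Fintype.card K : ℂ) := by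
    rw [Nat.card_prod, Nat.card_eq_fintype_card, Nat.card_eq_fintype_card (α := K)]
    simp
  have hv1 : (1 : ZMod 3).val = 1 := rfl
  have hv2 : (2 : ZMod 3).val = 2 := rfl
  have hcw : conj omega3 = omega3 ^ 2 := by
    rw [← hwi, Complex.inv_eq_conj (Complex.norm_eq_one_of_pow_eq_one hw (by norm_num))]
  simp only [Function.comp, Fintype.sum_prod_type, sum_mult3, hval, hlam, threeHom_apply, ZMod.val_zero, hv1,
    hv2, pow_zero, pow_one, one_mul, hr, map_one, map_pow, hcw, mul_one, ← Finset.sum_mul, hcard] at h0 h1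
  refine ⟨(n0 : ℤ) - n1, ?_⟩
  push_cast
  have h4 : (omega3 ^ 2) ^ 2 = omega3 := by linear_combination omega3 * hw
  rw [h4] at h1
  linear_combination (h0 - h1) / 3 + (∑ k, χ (x * φ k)) / 3 * hs

/-- The dihedral group of order eight on `s` and an element of order four. -/
theorem exists_dihedralHom {t u : X} (ht : t * t = 1) (hu : u ^ 4 = 1) (htu : t * u * t = u⁻¹) :
    ∃ φ : DihedralGroup 4 →* X, ∀ i : ZMod 4,
      φ (DihedralGroup.r i) = u ^ i.val ∧ φ (DihedralGroup.sr i) = t * u ^ i.val := by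
  have hadd : ∀ a b : ZMod 4, u ^ (a + b).val = u ^ a.val * u ^ b.val := fun a b => by
    rw [← pow_add, ZMod.val_add]; exact (pow_eq_pow_mod _ hu).symm
  have hneg : ∀ a : ZMod 4, u ^ (-a).val = (u ^ a.val)⁻¹ := fun a =>
    eq_inv_of_mul_eq_one_left (by rw [← hadd, neg_add_cancel, ZMod.val_zero, pow_zero])
  have hti : t⁻¹ = t := inv_eq_of_mul_eq_one_left ht
  have hconj : ∀ a : ZMod 4, t * u ^ a.val * t = u ^ (-a).val := fun a => by
    calc t * u ^ a.val * t = (t * u * t⁻¹) ^ a.val := by rw [conj_pow, hti]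
      _ = u ^ (-a).val := by rw [hti, htu, inv_pow, hneg]
  have hmove : ∀ a : ZMod 4, u ^ a.val * t = t * u ^ (-a).val := fun a => by
    rw [← hconj, ← mul_assoc, ← mul_assoc, ht, one_mul]
  refine ⟨{ toFun := fun g => match g with
              | DihedralGroup.r i => u ^ i.val
              | DihedralGroup.sr i => t * u ^ i.val
            map_one' := by
              show u ^ (0 : ZMod 4).val = 1
              simp
            map_mul' := ?_ }, fun i => ⟨rfl, rfl⟩⟩
  rintro (i | i) (j | j)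
  · show u ^ (i + j).val = u ^ i.val * u ^ j.val
    exact hadd i j
  · show t * u ^ (j - i).val = u ^ i.val * (t * u ^ j.val)
    rw [← mul_assoc, hmove, mul_assoc, ← hadd, neg_add_eq_sub]
  · show t * u ^ (i + j).val = t * u ^ i.val * u ^ j.val
    rw [hadd, mul_assoc]
  · show u ^ (j - i).val = t * u ^ i.val * (t * u ^ j.val)
    rw [← mul_assoc, hconj, ← hadd, neg_add_eq_sub]

variable {P : Sylow 3 X} {e1 e2 r s : X} {V : Subgroup X}

theorem FatData.real_c (D : FatData P e1 e2 r s V) {k : X} (hk : Commute r k) (χ : Cfsg.IrrCharacter X) :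
    (χ : X → ℂ) (e2 ^ 2 * k) = (χ : X → ℂ) (e2 * k) := by
  rw [← irr_isClassFunction χ (e2 * k) r]
  refine congrArg _ ?_
  rw [inv_eq_of_mul_eq_one_left D.r2, show e2 ^ 2 = e2⁻¹ from
    (inv_eq_of_mul_eq_one_right (by rw [← pow_succ', D.exp e2 D.m2])).symm, ← D.r1']
  calc r * e2 * r * k = r * (e2 * (r * k)) := by group
    _ = r * (e2 * k) * r := by rw [hk.eq]; group

theorem FatData.real_a (D : FatData P e1 e2 r s V) {k : X} (hk : Commute s k) (χ : Cfsg.IrrCharacter X) :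
    (χ : X → ℂ) (e1 ^ 2 * k) = (χ : X → ℂ) (e1 * k) := by
  rw [← irr_isClassFunction χ (e1 * k) s]
  refine congrArg _ ?_
  rw [inv_eq_of_mul_eq_one_left D.s2, show e1 ^ 2 = e1⁻¹ from
    (inv_eq_of_mul_eq_one_right (by rw [← pow_succ', D.exp e1 D.m1])).symm, ← D.s1]
  calc s * e1 * s * k = s * (e1 * (s * k)) := by group
    _ = s * (e1 * k) * s := by rw [hk.eq]; group

/-- The values of one character. -/
structure FatRow (χ : X → ℂ) (e1 e2 r s v0 : X) (f : ℕ) (v : V5) (c0 c1 c2 c3 : ℤ) : Prop where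
  one : χ 1 = (f : ℂ)
  x : χ e1 = (v.x : ℂ)
  z : χ (e1 * e2) = (v.z : ℂ)
  w : χ (e1 * r) = (v.w : ℂ)
  k0 : χ e2 = (c0 : ℂ)
  k1 : χ (e2 * v0) = (c1 : ℂ)
  k2 : χ (e2 * s) = (c2 : ℂ)
  k3 : χ (e2 * sFour e1 s v0) = (c3 : ℂ)
  hy : 4 * v.y = c0 + 3 * c1
  hu : 2 * v.u = c2 + c3
  hcz : v.z ≠ 0 → c0 = v.y
  nine : (9 : ℤ) ∣ f + 2 * v.x + 2 * c0 + 4 * v.z
  mxy : (v.x - v.y) % 3 = 0
  mxz : (v.x - v.z) % 3 = 0
  mwx : (v.w - v.x) % 2 = 0
  muy : (v.u - v.y) % 2 = 0

variable {v0 : X} (B : FatBase P e1 e2 r s V v0)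
include B

theorem FatBase.section_facts (χ : Cfsg.IrrCharacter X) (h : (χ : X → ℂ) (e1 * e2) ≠ 0) :
    (χ : X → ℂ) (e2 * v0) = (χ : X → ℂ) e2 := by
  classical
  obtain ⟨M, hM⟩ := BlockCharsA.DefectZeroVanish.exists_modular Nat.prime_three
  haveI : Fact (Nat.Prime 3) := ⟨Nat.prime_three⟩
  have D := B.data
  obtain ⟨-, -, c3, c1, d3, d1⟩ := D.three_facts
  have hχ : χ ∈ Cfsg.principalBlock M X := by
    by_contra hno
    have hbot : ¬ 3 ∣ Nat.card (⊥ : Subgroup (centralizer ({e1 * e2} : Set X))) := by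
      rw [card_bot]; norm_num
    haveI := Fintype.ofFinite (⊥ : Subgroup (centralizer ({e1 * e2} : Set X)))
    have hs := Components.PairCount.section_value hM (x := e1 * e2)
      ⟨1, by rw [orderOf_eq_prime d3 d1, pow_one]⟩ hbot
      ⟨2, by rw [index_bot, D.card_cent_e]; norm_num⟩ χ
    rw [if_neg hno, Fintype.sum_unique] at hs
    refine h ?_
    rw [← hs, show (default : (⊥ : Subgroup (centralizer ({e1 * e2} : Set X)))) = 1 from Subsingleton.elim _ _]
    simp
  have hV : V ≤ centralizer ({e2} : Set X) := fun v hv => mem_centralizer_singleton_iff.2 (D.e2V v hv).symm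
  haveI : (V.subgroupOf (centralizer ({e2} : Set X))).Normal := by
    refine ⟨fun v hv g => ?_⟩
    rw [mem_subgroupOf] at hv ⊢
    obtain ⟨u, hu, b, a, e⟩ := D.cent2_form g.2
    simp only [Subgroup.coe_mul, Subgroup.coe_inv, e]
    have h1 := D.conjV a hv
    have h2 : sPow s b * (coord e1 e2 a * v * (coord e1 e2 a)⁻¹) * (sPow s b)⁻¹ ∈ V := by
      unfold sPow; split_ifs
      · rw [inv_eq_of_mul_eq_one_left D.s2]; exact D.sV _ h1
      · simpa using h1
    have := mul_mem (mul_mem hu h2) (inv_mem hu)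
    convert this using 1
    group
  have hK : ¬ 3 ∣ Nat.card (V.subgroupOf (centralizer ({e2} : Set X))) := by
    rw [Nat.card_congr (subgroupOfEquivOfLe hV).toEquiv, D.cardV]; norm_num
  exact Blocks.value_mul_core hM ⟨1, by rw [orderOf_eq_prime c3 c1, pow_one]⟩ hχ hK
    (v := ⟨v0, hV B.mem⟩) (mem_subgroupOf.2 B.mem)

theorem FatBase.exists_row (χ : Cfsg.IrrCharacter X) : ∃ (f : ℕ) (v : V5) (c0 c1 c2 c3 : ℤ),
    FatRow (χ : X → ℂ) e1 e2 r s v0 f v c0 c1 c2 c3 := by
  classical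
  have D := B.data
  have hch := irr_isCharacter χ
  have hcl := irr_isClassFunction χ
  obtain ⟨a3, -, c3', -, d3, -⟩ := D.three_facts
  have hr0 : Commute r v0 := D.rV _ B.mem
  have hrs : Commute r s := D.rs
  have hc0 : Commute e2 v0 := D.e2V _ B.mem
  have hcs : Commute e2 s := D.c_comm_s
  -- degree and congruences modulo three
  obtain ⟨f, x, hf, hx, dx⟩ := three_value hch a3 (by
    simpa using D.real_a (Commute.one_right s) χ)
  obtain ⟨f', c0, hf', hk0, d0⟩ := three_value hch c3' (by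
    simpa using D.real_c (Commute.one_right r) χ)
  obtain ⟨f'', z, hf'', hz, dz⟩ := three_value hch d3 (by
    rw [pow_two, ← D.d_eq, ← D.coord_add, show ((1 : ZMod 3), (1 : ZMod 3)) + (1, 1) = -(1, 1) by decide]
    exact (BlocksChars.ClassAlg.classFun_eq_of_isConj hcl (D.isConj_neg (1, 1))).symm)
  obtain rfl : f' = f := by exact_mod_cast hf'.symm.trans hf
  obtain rfl : f'' = f' := by exact_mod_cast hf''.symm.trans hf
  -- `e1 r`
  obtain ⟨mw, hmw⟩ := average_int hch (twoHom r (by rw [pow_two, D.r2])) a3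
    (fun k => (show Commute e1 r from D.r_comm_e1.symm).pow_right _)
    (fun k => D.real_a (hrs.symm.pow_right _) χ)
  -- the centre of the dihedral group and `s`
  obtain ⟨m1, hm1⟩ := average_int hch (twoHom v0 (by rw [pow_two, D.sqV _ B.mem])) c3'
    (fun k => hc0.pow_right _) (fun k => D.real_c (hr0.pow_right _) χ)
  obtain ⟨m2, hm2⟩ := average_int hch (twoHom s (by rw [pow_two, D.s2])) c3'
    (fun k => hcs.pow_right _) (fun k => D.real_c (hrs.pow_right _) χ)
  simp only [sum_mult2, twoHom, MonoidHom.coe_mk, OneHom.coe_mk, toAdd_ofAdd, ZMod.val_zero, pow_zero,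
    mul_one, show (1 : ZMod 2).val = 1 from rfl, pow_one, Fintype.card_multiplicative, ZMod.card,
    hx, hk0] at hmw hm1 hm2
  have hw : (χ : X → ℂ) (e1 * r) = ((2 * mw - x : ℤ) : ℂ) := by
    push_cast at hmw ⊢; linear_combination hmw
  have hk1 : (χ : X → ℂ) (e2 * v0) = ((2 * m1 - c0 : ℤ) : ℂ) := by
    push_cast at hm1 ⊢; linear_combination hm1
  have hk2 : (χ : X → ℂ) (e2 * s) = ((2 * m2 - c0 : ℤ) : ℂ) := by
    push_cast at hm2 ⊢; linear_combination hm2
  set c1 : ℤ := 2 * m1 - c0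
  set c2 : ℤ := 2 * m2 - c0
  -- conjugates
  have hce1 : Commute e1 e2 := D.comm _ D.m1 _ D.m2
  have hconj1 : ∀ v, (χ : X → ℂ) (e2 * (e1 * v * e1⁻¹)) = (χ : X → ℂ) (e2 * v) := fun v => by
    rw [← hcl (e2 * v) e1]
    refine congrArg _ ?_
    calc e2 * (e1 * v * e1⁻¹) = (e2 * e1) * v * e1⁻¹ := by group
      _ = e1 * (e2 * v) * e1⁻¹ := by rw [← hce1.eq]; group
  have hkv1 : (χ : X → ℂ) (e2 * vOne e1 v0) = (c1 : ℂ) := (hconj1 v0).trans hk1
  have hkv2 : (χ : X → ℂ) (e2 * vTwo e1 v0) = (c1 : ℂ) := (hconj1 _).trans hkv1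
  -- the four-group
  have hvc : ∀ m n, Commute (twoHom v0 (by rw [pow_two, D.sqV _ B.mem]) m)
      (twoHom (vOne e1 v0) (by rw [pow_two, D.sqV _ B.mem1]) n) := fun m n =>
    (show Commute v0 (vOne e1 v0) from D.V_comm B.mem B.mem1).pow_pow _ _
  obtain ⟨mV, hmV⟩ := average_int hch ((twoHom v0 (by rw [pow_two, D.sqV _ B.mem])).noncommCoprod
      (twoHom (vOne e1 v0) (by rw [pow_two, D.sqV _ B.mem1])) hvc) c3'
    (fun k => (hc0.pow_right _).mul_right
      ((show Commute e2 (vOne e1 v0) from D.e2V _ B.mem1).pow_right _))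
    (fun k => D.real_c ((hr0.pow_right _).mul_right
      ((show Commute r (vOne e1 v0) from D.rV _ B.mem1).pow_right _)) χ)
  simp only [Fintype.sum_prod_type, sum_mult2, MonoidHom.noncommCoprod_apply, twoHom, MonoidHom.coe_mk,
    OneHom.coe_mk, toAdd_ofAdd, ZMod.val_zero, pow_zero, mul_one, one_mul,
    show (1 : ZMod 2).val = 1 from rfl, pow_one, Fintype.card_prod, Fintype.card_multiplicative, ZMod.card,
    B.v01, hk0, hk1, hkv1, hkv2] at hmV
  -- the dihedral group
  have hst : s * sFour e1 s v0 * s = (sFour e1 s v0)⁻¹ := by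
    calc s * sFour e1 s v0 * s = s * vOne e1 v0 * (s * s) := by simp only [sFour]; group
      _ = (sFour e1 s v0)⁻¹ := by
        rw [D.s2, mul_one, sFour, mul_inv_rev, D.V_inv B.mem1, inv_eq_of_mul_eq_one_left D.s2]
  obtain ⟨φ, hφ⟩ := exists_dihedralHom D.s2 B.s4_pow4 hst
  have hr4 : Commute r (sFour e1 s v0) :=
    (show Commute r (vOne e1 v0) from D.rV _ B.mem1).mul_right hrs
  obtain ⟨mD, hmD⟩ := average_int hch φ c3'
    (by rintro (i | i)
        · rw [(hφ i).1]; exact B.c_comm_s4.pow_right _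
        · rw [(hφ i).2]; exact hcs.mul_right (B.c_comm_s4.pow_right _))
    (by rintro (i | i)
        · rw [(hφ i).1]; exact D.real_c (hr4.pow_right _) χ
        · rw [(hφ i).2]; exact D.real_c (hrs.mul_right (hr4.pow_right _)) χ)
  have huniv : (Finset.univ : Finset (DihedralGroup 4)) =
      {DihedralGroup.r 0, DihedralGroup.r 1, DihedralGroup.r 2, DihedralGroup.r 3,
        DihedralGroup.sr 0, DihedralGroup.sr 1, DihedralGroup.sr 2, DihedralGroup.sr 3} := by decide
  rw [huniv] at hmD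
  repeat rw [Finset.sum_insert (by decide)] at hmD
  rw [Finset.sum_singleton] at hmD
  have hp3 : sFour e1 s v0 ^ 3 = (sFour e1 s v0)⁻¹ :=
    eq_inv_of_mul_eq_one_left (by rw [← pow_succ, B.s4_pow4])
  have hrot : (χ : X → ℂ) (e2 * (sFour e1 s v0)⁻¹) = (χ : X → ℂ) (e2 * sFour e1 s v0) := by
    rw [← hcl (e2 * sFour e1 s v0) s, ← hst, inv_eq_of_mul_eq_one_left D.s2]
    refine congrArg _ ?_
    calc e2 * (s * sFour e1 s v0 * s) = e2 * s * sFour e1 s v0 * s := by group
      _ = s * (e2 * sFour e1 s v0) * s := by rw [hcs.eq]; group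
  have hsv0 : (χ : X → ℂ) (e2 * (s * v0)) = (c2 : ℂ) := by
    rw [← hk2, ← hcl (e2 * s) (vOne e1 v0)]
    refine congrArg _ ?_
    rw [D.V_inv B.mem1]
    symm
    calc vOne e1 v0 * (e2 * s) * vOne e1 v0
        = (vOne e1 v0 * e2) * (s * vOne e1 v0 * s) * s := by
          rw [mul_assoc _ (s * vOne e1 v0 * s) s, mul_assoc _ s s, D.s2, mul_one]; group
      _ = e2 * (vOne e1 v0 * vTwo e1 v0) * s := by rw [← D.e2V _ B.mem1, B.s1]; group
      _ = e2 * (s * v0) := by
          rw [B.v12, mul_assoc]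
          congr 1
          conv_lhs => rw [← B.sv]
          rw [mul_assoc _ s s, D.s2, mul_one]
  have hs1 : s * sFour e1 s v0 = vTwo e1 v0 := by rw [sFour, ← mul_assoc, B.s1]
  have hs3 : s * (sFour e1 s v0)⁻¹ = vOne e1 v0 := by
    rw [← hst, ← mul_assoc, ← mul_assoc, D.s2, one_mul, sFour, mul_assoc, D.s2, mul_one]
  simp only [(hφ _).1, (hφ _).2, ZMod.val_zero, show (1 : ZMod 4).val = 1 from rfl,
    show (2 : ZMod 4).val = 2 from rfl, show (3 : ZMod 4).val = 3 from rfl, pow_zero, pow_one, mul_one,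
    B.s4_pow2, hp3, hs1, hs3, hrot, hsv0, hk0, hk1, hk2, hkv1, hkv2, DihedralGroup.card] at hmD
  set u : ℤ := 2 * mD - mV with hu
  have hk3 : (χ : X → ℂ) (e2 * sFour e1 s v0) = ((2 * u - c2 : ℤ) : ℂ) := by
    rw [hu]
    push_cast at hmD hmV ⊢
    linear_combination hmD / 2 - hmV / 2
  have e4 : c0 + 3 * c1 = 4 * mV := by
    have : ((c0 + 3 * c1 : ℤ) : ℂ) = ((4 * mV : ℤ) : ℂ) := by
      push_cast at hmV ⊢; linear_combination hmV
    exact_mod_cast this
  -- the Sylow subgroup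
  let ψ : Multiplicative (ZMod 3) × Multiplicative (ZMod 3) →* X :=
    (threeHom e1 a3).noncommCoprod (threeHom e2 c3') fun m n => hce1.pow_pow _ _
  obtain ⟨n, hn⟩ := classInner_char_nat (isCharacter_comp ψ hch)
    (isCharacter_one (G := Multiplicative (ZMod 3) × Multiplicative (ZMod 3)))
  have hreal : ∀ a b, (χ : X → ℂ) (coord e1 e2 a) = b → (χ : X → ℂ) (coord e1 e2 (-a)) = b := fun a b h =>
    h ▸ (BlocksChars.ClassAlg.classFun_eq_of_isConj hcl (D.isConj_neg a)).symm
  have hsw : ∀ a b, (χ : X → ℂ) (coord e1 e2 a) = b → (χ : X → ℂ) (coord e1 e2 (a.1, -a.2)) = b := fun a b h => by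
    rw [← h, ← D.conj_r]
    conv_lhs => arg 2; arg 2; rw [← inv_eq_of_mul_eq_one_left D.r2]
    exact hcl _ _
  have g10 := hx
  rw [← D.e1_eq] at g10
  have g01 := hk0
  rw [← D.e2_eq] at g01
  have g11 := hz
  rw [← D.d_eq] at g11
  have g20 : (χ : X → ℂ) (coord e1 e2 (2, 0)) = (x : ℂ) := hreal _ _ g10
  have g02 : (χ : X → ℂ) (coord e1 e2 (0, 2)) = (c0 : ℂ) := hreal _ _ g01
  have g22 : (χ : X → ℂ) (coord e1 e2 (2, 2)) = (z : ℂ) := hreal _ _ g11
  have g12 : (χ : X → ℂ) (coord e1 e2 (1, 2)) = (z : ℂ) := hsw _ _ g11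
  have g21 : (χ : X → ℂ) (coord e1 e2 (2, 1)) = (z : ℂ) := hreal _ _ g12
  have g00 : (χ : X → ℂ) (coord e1 e2 (0, 0)) = (f'' : ℂ) := by
    rw [show ((0 : ZMod 3), (0 : ZMod 3)) = 0 from rfl, D.coord_zero]; exact hf''
  have hco : ∀ i j, ψ (Multiplicative.ofAdd i, Multiplicative.ofAdd j) = coord e1 e2 (i, j) := fun i j => rfl
  rw [classInner_def, inv_mul_eq_iff_eq_mul₀ natCard_ne_zero] at hn
  simp only [Function.comp, Fintype.sum_prod_type, sum_mult3, hco, map_one, mul_one, g00, g10, g01, g11,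
    g20, g02, g22, g12, g21, Nat.card_eq_fintype_card, Fintype.card_prod, Fintype.card_multiplicative,
    ZMod.card] at hn
  have e9 : ((f'' : ℤ) + 2 * x + 2 * c0 + 4 * z) = 9 * n := by
    have : (((f'' : ℤ) + 2 * x + 2 * c0 + 4 * z : ℤ) : ℂ) = ((9 * n : ℤ) : ℂ) := by
      push_cast at hn ⊢; linear_combination hn
    exact_mod_cast this
  refine ⟨f'', ⟨x, mV, z, 2 * mw - x, u⟩, c0, c1, c2, 2 * u - c2,
    ⟨hf'', hx, hz, hw, hk0, hk1, hk2, hk3, e4.symm, by ring, fun hz0 => ?_, ⟨n, e9⟩, ?_, ?_, ?_, ?_⟩⟩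
  · have hne : (χ : X → ℂ) (e1 * e2) ≠ 0 := by rw [hz]; exact_mod_cast hz0
    have h := B.section_facts χ hne
    rw [hk1, hk0] at h
    have : c1 = c0 := by exact_mod_cast h
    show c0 = mV
    omega
  all_goals simp only [hu]; omega

end Cfsg.Agent.NineSym
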