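import Cfsg.Agent.Lib.NineSym.Base

/-!
# The normalizer as the image of a part of the model
-/

set_option autoImplicit false
set_option linter.style.haveILetI false
set_option linter.unusedSectionVars false
set_option maxRecDepth 100000
set_option synthInstance.maxSize 10000

namespace Cfsg.Agent.NineSym

open Subgroup

/-- The elements with the allowed components. -/
def InL (ci cd : Bool) (g : Mn) : Prop := Wok ci cd g.w

instance (ci cd : Bool) (g : Mn) : Decidable (InL ci cd g) := inferInstanceAs (Decidable (Wok _ _ _))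

theorem wok_mul : ∀ ci cd : Bool, ∀ u w : Wt, Wok ci cd u → Wok ci cd w → Wok ci cd (u * w) := by
  decide +kernel

variable {G : Type*} [Group G] [Finite G] {J : Subgroup G}

/-- The normalizer is the image of a part of the model. -/
structure Frame (J : Subgroup G) (ci cd : Bool) (φ : Mn → G) : Prop where
  hom : ∀ p q, InL ci cd p → InL ci cd q → φ (p * q) = φ p * φ q
  inj : ∀ p q, InL ci cd p → InL ci cd q → φ p = φ q → p = q
  memJ : ∀ g, g ∈ J ↔ ∃ v, φ (jM v) = g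
  mem : ∀ p, InL ci cd p → φ p ∈ normalizer (J : Set G)
  norm : ∀ g ∈ normalizer (J : Set G), ∃ p, InL ci cd p ∧ φ p = g
  cent : ∀ g, g * φ (jM (1, 1, 1)) = φ (jM (1, 1, 1)) * g → ∃ p, InL false false p ∧ φ p = g
  sig : ∀ R : Subgroup G, (Nat.card R).Coprime 3 → J ≤ normalizer (R : Set G) → R = ⊥
  fus : ∀ (u v : V3) (g : G), g * φ (jM u) * g⁻¹ = φ (jM v) →
    ∃ p, InL ci cd p ∧ wact p.w u = v
  weak : ∀ (R : Subgroup G), IsPGroup 3 R → J ≤ R → ∀ g : G, (∀ j ∈ J, g * j * g⁻¹ ∈ R) →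
    g ∈ normalizer (J : Set G)

theorem wact_simple : (∀ v, wact ⟨true, 0, 0⟩ v = -v) ∧ (∀ k v, wact ⟨false, k, 0⟩ v = dact k v) ∧
    ∀ p v, wact ⟨false, 0, p⟩ v = pact p v := by
  decide +kernel

theorem iota_sig : ∀ u : V3, pact 1 (pact 1 u + u) + u = 0 → ∃ v, pact 1 v + u = v := by decide +kernel

theorem iota_rho : ∀ u : V3, pact 3 u + u = 0 → pact 3 (pact 1 u) + u = 0 → u = 0 := by decide +kernel

theorem d_square : ∀ u : V3, dact 3 u = u → u + dact 3 u + u = 0 := by decide +kernel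

theorem d_rho : ∀ u : V3, u + dact 3 u = 0 → pact 3 u + u = 0 →
    ∃ v, v + dact 3 v = 0 ∧ pact 3 v + u = v := by decide +kernel

theorem d_iota : ∀ u : V3, u + dact 3 u = 0 → pact 3 u = u →
    ∃ v, v + dact 3 v = 0 ∧ pact 3 v = v ∧ -v + u = v := by decide +kernel

theorem d_triple : ∀ u : V3, u + pact 3 u = 0 → pact 2 u = dact 1 (-pact 3 u) → u = 0 := by decide +kernel

theorem act_facts : (∀ (p : Fin 6) (k : Fin 4) (v : V3), pact p (dact k v) = dact (kact p k) (pact p v)) ∧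
    (∀ u : V3, u = -u → u = 0) ∧ (∀ k, ∀ v : V3, dact k (dact k v) = v ∧ dact k (-v) = -dact k v ∧ dact 0 v = v) := by
  decide +kernel

namespace Base

variable {θ : V3 → G} {sp : Fin 6 → G} (B : Base J θ sp)
include B

theorem eq_theta_mul {g h : G} {f : V3 → V3} (hg : ∀ v, g * θ v * g⁻¹ = θ (f v))
    (hh : ∀ v, h * θ v * h⁻¹ = θ (f v)) : ∃ u, g = θ u * h := by
  obtain ⟨u, hu⟩ := B.eq_theta_of_comm (g := g * h⁻¹) fun v => by
    obtain ⟨w, hw⟩ := (B.memJ (h⁻¹ * θ v * h)).1 (by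
      have hsur : ∀ g' : G, (∀ v, g' * θ v * g'⁻¹ ∈ J) → ∀ v, g'⁻¹ * θ v * g' ∈ J := fun g' h' v => by
        have := (mem_normalizer_iff.1 (inv_mem (B.mem_normalizer_of h')) _).1 (B.th_mem v)
        simpa using this
      exact hsur h (fun v => by rw [hh]; exact B.th_mem _) v)
    calc g * h⁻¹ * θ v = g * (h⁻¹ * θ v * h) * g⁻¹ * (g * h⁻¹) := by group
      _ = θ (f w) * (g * h⁻¹) := by rw [← hw, hg]
      _ = h * (h⁻¹ * θ v * h) * h⁻¹ * (g * h⁻¹) := by rw [← hw, hh]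
      _ = θ v * (g * h⁻¹) := by group
  exact ⟨u, by rw [hu, inv_mul_cancel_right]⟩

theorem conj_th {g : G} {f : V3 → V3} (hg : ∀ v, g * θ v * g⁻¹ = θ (f v)) (v : V3) :
    g * θ v = θ (f v) * g := mul_inv_eq_iff_eq_mul.1 (hg v)

theorem sp_th (p : Fin 6) (v : V3) : sp p * θ v = θ (pact p v) * sp p := B.conj_th (B.act p) v

theorem conj_step {g : G} {p : Fin 6} {u : V3} (h : sp p * g * (sp p)⁻¹ = θ u * g) (w : V3) :
    sp p * (θ w * g) * (sp p)⁻¹ = θ (pact p w + u) * g := by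
  rw [show sp p * (θ w * g) * (sp p)⁻¹ = sp p * θ w * (sp p)⁻¹ * (sp p * g * (sp p)⁻¹) by group, h, B.act,
    ← mul_assoc, ← B.tadd]

theorem sq_step {g : G} {f : V3 → V3} (hg : ∀ v, g * θ v * g⁻¹ = θ (f v)) (hg2 : g * g = 1) (u : V3) :
    θ u * g * (θ u * g) = θ (u + f u) := by
  rw [show θ u * g * (θ u * g) = θ u * (g * θ u) * g by group, B.conj_th hg, mul_assoc, mul_assoc, hg2,
    mul_one, B.tadd]

theorem act_left {g : G} {f : V3 → V3} (hg : ∀ v, g * θ v * g⁻¹ = θ (f v)) (s v : V3) :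
    θ s * g * θ v * (θ s * g)⁻¹ = θ (f v) := by
  rw [show θ s * g * θ v * (θ s * g)⁻¹ = θ s * (g * θ v * g⁻¹) * (θ s)⁻¹ by group, hg, B.th_comm,
    mul_inv_cancel_right]

theorem sp_gen {g : G} (h1 : sp 1 * g = g * sp 1) (h3 : sp 3 * g = g * sp 3) (p : Fin 6) :
    sp p * g = g * sp p := by
  have c1 : Commute (sp 1) g := h1
  have c3 : Commute (sp 3) g := h3
  have c2 : Commute (sp 2) g := by rw [show (2 : Fin 6) = pmul 1 1 from rfl, B.smul]; exact c1.mul_left c1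
  fin_cases p
  · show sp 0 * g = g * sp 0
    rw [B.sp_zero, one_mul, mul_one]
  · exact c1
  · exact c2
  · exact c3
  · show Commute (sp 4) g
    rw [show (4 : Fin 6) = pmul 1 3 from rfl, B.smul]; exact c1.mul_left c3
  · show Commute (sp 5) g
    rw [show (5 : Fin 6) = pmul 2 3 from rfl, B.smul]; exact c2.mul_left c3

theorem exists_iota {g : G} (hg : ∀ v, g * θ v * g⁻¹ = θ (-v)) :
    ∃ i : G, i * i = 1 ∧ (∀ v, i * θ v * i⁻¹ = θ (-v)) ∧ ∀ p, sp p * i = i * sp p := by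
  obtain ⟨-, h6, -⟩ := act_facts
  have hinv : ∀ g' : G, (∀ v, g' * θ v * g'⁻¹ = θ (-v)) → g' * g' = 1 := by
    intro g' h'
    obtain ⟨u, hu⟩ := B.eq_theta_of_comm (g := g' * g') fun v => by
      rw [mul_assoc, B.conj_th h', ← mul_assoc, B.conj_th h', neg_neg, mul_assoc]
    have : θ u = θ (-u) := by
      rw [← h' u, hu]; group
    rw [← hu, h6 u (B.tinj this), B.th_zero]
  have hact : ∀ (g : G) (p : Fin 6), (∀ v, g * θ v * g⁻¹ = θ (-v)) →
      ∀ v, sp p * g * (sp p)⁻¹ * θ v * (sp p * g * (sp p)⁻¹)⁻¹ = θ (-v) := by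
    intro g p hg v
    obtain ⟨w, rfl⟩ : ∃ w, pact p w = v := (by decide +kernel : ∀ p v, ∃ w, pact p w = v) p v
    calc sp p * g * (sp p)⁻¹ * θ (pact p w) * (sp p * g * (sp p)⁻¹)⁻¹
        = sp p * g * (sp p)⁻¹ * (sp p * θ w * (sp p)⁻¹) * (sp p * g * (sp p)⁻¹)⁻¹ := by rw [B.act]
      _ = sp p * (g * θ w * g⁻¹) * (sp p)⁻¹ := by group
      _ = θ (-pact p w) := by rw [hg, B.th_neg, ← conj_inv, B.act, B.th_neg]
  obtain ⟨u, hu⟩ := B.eq_theta_mul (hact g 1 hg) hg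
  have h3 : sp 1 * (sp 1 * (sp 1 * g * (sp 1)⁻¹) * (sp 1)⁻¹) * (sp 1)⁻¹ = g := by
    calc _ = sp 1 * sp 1 * sp 1 * g * (sp 1 * sp 1 * sp 1)⁻¹ := by group
      _ = g := by
        rw [show sp 1 * sp 1 * sp 1 = 1 by
          rw [← B.smul, ← B.smul, show pmul (pmul 1 1) 1 = 0 from rfl, B.sp_zero]]
        group
  rw [hu, B.conj_step hu, B.conj_step hu, mul_eq_right, ← B.th_zero] at h3
  obtain ⟨v, hv⟩ := iota_sig u (B.tinj h3)
  have hi := fun w => B.act_left hg v w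
  have hi2 := hinv _ hi
  have c1 : sp 1 * (θ v * g) = θ v * g * sp 1 := mul_inv_eq_iff_eq_mul.1 (by rw [B.conj_step hu, hv])
  obtain ⟨u', hu'⟩ := B.eq_theta_mul (hact _ 3 hi) hi
  have hs33 : sp 3 * sp 3 = 1 := by rw [← B.smul, show pmul 3 3 = 0 from rfl, B.sp_zero]
  have e1 : pact 3 u' + u' = 0 := by
    refine B.tinj (mul_right_cancel (b := θ v * g) ?_)
    rw [← B.conj_step hu', B.th_zero, one_mul, ← hu']
    calc _ = sp 3 * sp 3 * (θ v * g) * (sp 3 * sp 3)⁻¹ := by group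
      _ = θ v * g := by rw [hs33]; group
  have e2 : pact 3 (pact 1 u') + u' = 0 := by
    refine B.tinj (mul_right_cancel (b := θ v * g) ?_)
    have h1 : sp 1 * (θ v * g) * (sp 1)⁻¹ = θ 0 * (θ v * g) := by
      rw [c1, mul_inv_cancel_right, B.th_zero, one_mul]
    rw [← B.conj_step hu', show pact 1 u' = pact 1 u' + 0 by rw [add_zero], ← B.conj_step h1, ← hu',
      B.th_zero, one_mul]
    calc _ = sp 3 * sp 1 * sp 3 * (θ v * g) * (sp 3 * sp 1 * sp 3)⁻¹ := by group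
      _ = θ v * g := by
        rw [show sp 3 * sp 1 * sp 3 = sp 1 * sp 1 by rw [← B.smul, ← B.smul, ← B.smul]; rfl,
          mul_assoc (sp 1) (sp 1), c1, ← mul_assoc (sp 1) (θ v * g), c1]
        group
  have c3 : sp 3 * (θ v * g) = θ v * g * sp 3 := by
    rw [mul_inv_eq_iff_eq_mul.1 hu', iota_rho u' e1 e2, B.th_zero, one_mul]
  exact ⟨θ v * g, hi2, hi, B.sp_gen c1 c3⟩

theorem exists_d {g i : G} (hg : ∀ v, g * θ v * g⁻¹ = θ (dact 3 v))
    (hi : (∀ v, i * θ v * i⁻¹ = θ (-v)) ∧ (∀ p, sp p * i = i * sp p) ∧ i * i = 1 ∨ i = 1) :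
    ∃ d : G, d * d = 1 ∧ (∀ v, d * θ v * d⁻¹ = θ (dact 3 v)) ∧ sp 3 * d = d * sp 3 ∧ i * d = d * i := by
  obtain ⟨u0, hu0⟩ := B.eq_theta_of_comm (g := g * g) fun v => by
    rw [mul_assoc, B.conj_th hg, ← mul_assoc, B.conj_th hg, (act_facts.2.2 3 v).1, mul_assoc]
  have hfix : dact 3 u0 = u0 := B.tinj (by rw [← hg u0, hu0]; group)
  set g0 := θ u0 * g with hg0
  have ha0 := fun w => B.act_left hg u0 w
  have h0 : g0 * g0 = 1 := by
    rw [hg0, show θ u0 * g * (θ u0 * g) = θ u0 * (g * θ u0) * g by group, B.conj_th hg, mul_assoc, mul_assoc,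
      ← hu0, ← B.tadd, ← B.tadd, ← add_assoc, d_square u0 hfix, B.th_zero]
  have hact : ∀ (h : G), (∀ v, h * θ v * h⁻¹ = θ (dact 3 v)) →
      ∀ v, sp 3 * h * (sp 3)⁻¹ * θ v * (sp 3 * h * (sp 3)⁻¹)⁻¹ = θ (dact 3 v) := by
    intro h hh v
    obtain ⟨w, rfl⟩ : ∃ w, pact 3 w = v := (by decide +kernel : ∀ v, ∃ w, pact 3 w = v) v
    calc sp 3 * h * (sp 3)⁻¹ * θ (pact 3 w) * (sp 3 * h * (sp 3)⁻¹)⁻¹
        = sp 3 * h * (sp 3)⁻¹ * (sp 3 * θ w * (sp 3)⁻¹) * (sp 3 * h * (sp 3)⁻¹)⁻¹ := by rw [B.act]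
      _ = sp 3 * (h * θ w * h⁻¹) * (sp 3)⁻¹ := by group
      _ = θ (dact 3 (pact 3 w)) := by rw [hh, B.act, act_facts.1]; rfl
  have hinvol : ∀ (h : G) (u : V3), (∀ v, h * θ v * h⁻¹ = θ (dact 3 v)) → h * h = 1 →
      θ u * h * (θ u * h) = 1 → u + dact 3 u = 0 := by
    intro h u hh h2 h2'
    rw [B.sq_step hh h2, ← B.th_zero] at h2'
    exact B.tinj h2'
  obtain ⟨u, hu⟩ := B.eq_theta_mul (hact g0 ha0) ha0
  have hs33 : sp 3 * sp 3 = 1 := by rw [← B.smul, show pmul 3 3 = 0 from rfl, B.sp_zero]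
  have e1 := hinvol g0 u ha0 h0 (by
    rw [← hu]
    calc _ = sp 3 * (g0 * g0) * (sp 3)⁻¹ := by group
      _ = 1 := by rw [h0]; group)
  have e2 : pact 3 u + u = 0 := by
    refine B.tinj (mul_right_cancel (b := g0) ?_)
    rw [← B.conj_step hu, B.th_zero, one_mul, ← hu]
    calc _ = sp 3 * sp 3 * g0 * (sp 3 * sp 3)⁻¹ := by group
      _ = g0 := by rw [hs33]; group
  obtain ⟨v, hv1, hv2⟩ := d_rho u e1 e2
  set g1 := θ v * g0 with hg1
  have ha1 := fun w => B.act_left ha0 v w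
  have h1 : g1 * g1 = 1 := by rw [hg1, B.sq_step ha0 h0, hv1, B.th_zero]
  have c3 : sp 3 * g1 * (sp 3)⁻¹ = g1 := by rw [hg1, B.conj_step hu, hv2]
  rcases hi with ⟨hi, hsp, hi2⟩ | rfl
  · have hiact : ∀ w, i * g1 * i⁻¹ * θ w * (i * g1 * i⁻¹)⁻¹ = θ (dact 3 w) := by
      intro w
      calc i * g1 * i⁻¹ * θ w * (i * g1 * i⁻¹)⁻¹ = i * g1 * i⁻¹ * (i * θ (-w) * i⁻¹) * (i * g1 * i⁻¹)⁻¹ := by
            rw [hi, neg_neg]
        _ = i * (g1 * θ (-w) * g1⁻¹) * i⁻¹ := by group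
        _ = θ (dact 3 w) := by rw [ha1, hi, (act_facts.2.2 3 w).2.1, neg_neg]
    obtain ⟨u', hu'⟩ := B.eq_theta_mul hiact ha1
    have f1 := hinvol g1 u' ha1 h1 (by
      rw [← hu']
      calc _ = i * (g1 * g1) * i⁻¹ := by group
        _ = 1 := by rw [h1]; group)
    have f2 : pact 3 u' = u' := by
      refine B.tinj (mul_right_cancel (b := g1) ?_)
      have e : sp 3 * g1 * (sp 3)⁻¹ = θ 0 * g1 := by rw [B.th_zero, one_mul, c3]
      rw [← add_zero (pact 3 u'), ← B.conj_step e, ← hu']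
      calc _ = sp 3 * i * g1 * (sp 3 * i)⁻¹ := by group
        _ = i * sp 3 * g1 * (i * sp 3)⁻¹ := by rw [hsp]
        _ = i * (sp 3 * g1 * (sp 3)⁻¹) * i⁻¹ := by group
        _ = i * g1 * i⁻¹ := by rw [c3]
    obtain ⟨w, hw1, hw2, hw3⟩ := d_iota u' f1 f2
    refine ⟨θ w * g1, by rw [B.sq_step ha1 h1, hw1, B.th_zero], fun z => B.act_left ha1 w z,
      mul_inv_eq_iff_eq_mul.1 ?_, mul_inv_eq_iff_eq_mul.1 ?_⟩
    · have e : sp 3 * g1 * (sp 3)⁻¹ = θ 0 * g1 := by rw [B.th_zero, one_mul, c3]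
      rw [B.conj_step e, add_zero, hw2]
    · rw [show i * (θ w * g1) * i⁻¹ = i * θ w * i⁻¹ * (i * g1 * i⁻¹) by group, hi, hu', ← mul_assoc,
        ← B.tadd, hw3]
  · exact ⟨g1, h1, ha1, mul_inv_eq_iff_eq_mul.1 c3, by rw [one_mul, mul_one]⟩

theorem exists_frame : ∃ (ci cd : Bool) (φ : Mn → G), Frame J ci cd φ := by
  classical
  obtain ⟨k0, ci, cd, hW⟩ := B.wset.classify
  obtain ⟨hinv, -, -, -, -, -⟩ := shiftV_facts
  have B' := B.shiftB k0
  set th : V3 → G := fun v => θ (shiftV k0 v) with hth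
  have hi0 : ∀ v, shiftV k0 (shiftV (-k0) v) = v := fun v => by simpa using hinv (-k0) v
  have hlift : ∀ w, Wok ci cd w → ∃ g ∈ normalizer (J : Set G), ∀ v, g * th v * g⁻¹ = th (wact w v) := by
    intro w hw
    obtain ⟨g, hg, h⟩ := (hW (shiftV k0 ∘ wact w ∘ shiftV (-k0))).2 ⟨w, hw, rfl⟩
    refine ⟨g, hg, fun v => ?_⟩
    simp only [hth, h, Function.comp_apply, hinv]
  obtain ⟨i, hi2, hiact, hisp⟩ : ∃ i : G, i * i = 1 ∧
      (∀ v, i * th v * i⁻¹ = th (eact ci v)) ∧ ∀ p, sp p * i = i * sp p := by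
    cases hci : ci
    · exact ⟨1, one_mul 1, fun v => by simp [eact], fun p => by rw [one_mul, mul_one]⟩
    · obtain ⟨g, -, hg⟩ := hlift ⟨true, 0, 0⟩ ⟨fun _ => hci, fun h => absurd rfl h⟩
      obtain ⟨i, a, b, c⟩ := B'.exists_iota (g := g) fun v => (hg v).trans (congrArg th (wact_simple.1 v))
      exact ⟨i, a, fun v => (b v).trans (congrArg th (by simp [eact])), c⟩
  obtain ⟨d, hd2, hdact, hdsp, hid⟩ : ∃ d : G, d * d = 1 ∧
      (∀ v, d * th v * d⁻¹ = th (if cd then dact 3 v else v)) ∧ sp 3 * d = d * sp 3 ∧ i * d = d * i := by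
    cases hcd : cd
    · exact ⟨1, one_mul 1, fun v => by simp, by rw [one_mul, mul_one], by rw [one_mul, mul_one]⟩
    · obtain ⟨g, -, hg⟩ := hlift ⟨false, 3, 0⟩ ⟨fun h => absurd h (by decide), fun _ => hcd⟩
      have hi' : (∀ v, i * th v * i⁻¹ = th (-v)) ∧ (∀ p, sp p * i = i * sp p) ∧ i * i = 1 ∨ i = 1 := by
        cases hci : ci
        · right
          have hii : ∀ v, i * th v * i⁻¹ = th v := fun v => by rw [hiact, hci]; simp [eact]
          obtain ⟨u, hu⟩ := B'.eq_theta_of_comm fun v => mul_inv_eq_iff_eq_mul.1 (hii v)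
          have h2 : th (u + u) = th 0 := by rw [B'.tadd, hu, hi2, B'.th_zero]
          rw [← hu, (by decide +kernel : ∀ u : V3, u + u = 0 → u = 0) u (B'.tinj h2), B'.th_zero]
        · exact Or.inl ⟨fun v => by rw [hiact, hci]; simp [eact], hisp, hi2⟩
      obtain ⟨d, a, b, c, e⟩ := B'.exists_d (g := g) (fun v => (hg v).trans (congrArg th (wact_simple.2.1 3 v))) hi'
      exact ⟨d, a, fun v => (b v).trans (congrArg th (by simp)), c, e⟩
  -- the three conjugates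
  let D : Fin 4 → G := ![1, sp 1 * d * (sp 1)⁻¹, sp 2 * d * (sp 2)⁻¹, d]
  have hspd : ∀ p, ∃ k, kact p 3 = k ∧ sp p * d * (sp p)⁻¹ = D k := by
    have c3 : sp 3 * d * (sp 3)⁻¹ = d := mul_inv_eq_iff_eq_mul.2 hdsp
    intro p
    fin_cases p
    · exact ⟨3, rfl, by simp [D, B.sp_zero]⟩
    · exact ⟨1, rfl, rfl⟩
    · exact ⟨2, rfl, rfl⟩
    · exact ⟨3, rfl, c3⟩
    · refine ⟨1, rfl, ?_⟩
      show sp 4 * d * (sp 4)⁻¹ = sp 1 * d * (sp 1)⁻¹
      rw [show (4 : Fin 6) = pmul 1 3 from rfl, B.smul,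
        show sp 1 * sp 3 * d * (sp 1 * sp 3)⁻¹ = sp 1 * (sp 3 * d * (sp 3)⁻¹) * (sp 1)⁻¹ by group, c3]
    · refine ⟨2, rfl, ?_⟩
      show sp 5 * d * (sp 5)⁻¹ = sp 2 * d * (sp 2)⁻¹
      rw [show (5 : Fin 6) = pmul 2 3 from rfl, B.smul,
        show sp 2 * sp 3 * d * (sp 2 * sp 3)⁻¹ = sp 2 * (sp 3 * d * (sp 3)⁻¹) * (sp 2)⁻¹ by group, c3]
  have hD : ∀ p k, sp p * D k * (sp p)⁻¹ = D (kact p k) := by
    intro p k
    obtain rfl | ⟨q, rfl⟩ : k = 0 ∨ ∃ q, kact q 3 = k := by revert k; decide +kernel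
    · rw [show kact p 0 = 0 by revert p; decide +kernel]; simp [D]
    · obtain ⟨k1, hk1, e1⟩ := hspd q
      obtain ⟨k2, hk2, e2⟩ := hspd (pmul p q)
      rw [← (by decide +kernel : ∀ p q, kact (pmul p q) 3 = kact p (kact q 3)) p q, hk1, hk2, ← e1, ← e2, B.smul]
      group
  have hD2 : ∀ k, D k * D k = 1 := by
    intro k
    obtain rfl | ⟨q, rfl⟩ : k = 0 ∨ ∃ q, kact q 3 = k := by revert k; decide +kernel
    · exact one_mul 1
    · rw [← hD q 3]
      show sp q * d * (sp q)⁻¹ * (sp q * d * (sp q)⁻¹) = 1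
      rw [show sp q * d * (sp q)⁻¹ * (sp q * d * (sp q)⁻¹) = sp q * (d * d) * (sp q)⁻¹ by group, hd2, mul_one,
        mul_inv_cancel]
  have hDi : ∀ k, i * D k = D k * i := by
    intro k
    obtain rfl | ⟨q, rfl⟩ : k = 0 ∨ ∃ q, kact q 3 = k := by revert k; decide +kernel
    · show i * 1 = 1 * i
      rw [mul_one, one_mul]
    · rw [← hD q 3]
      have h1 : Commute i (sp q) := (hisp q).symm
      exact ((h1.mul_right (show Commute i d from hid)).mul_right h1.inv_right).eq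
  have hDact : ∀ k v, D k * th v * (D k)⁻¹ = th (if cd then dact k v else v) := by
    intro k v
    obtain rfl | ⟨q, rfl⟩ : k = 0 ∨ ∃ q, kact q 3 = k := by revert k; decide +kernel
    · show 1 * th v * 1⁻¹ = _
      rw [one_mul, inv_one, mul_one, (act_facts.2.2 0 v).2.2, ite_self]
    · obtain ⟨w, rfl⟩ : ∃ w, pact q w = v := (by decide +kernel : ∀ q v, ∃ w, pact q w = v) q v
      rw [← hD q 3]
      show sp q * d * (sp q)⁻¹ * th (pact q w) * (sp q * d * (sp q)⁻¹)⁻¹ = _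
      rw [← B'.act, show sp q * d * (sp q)⁻¹ * (sp q * th w * (sp q)⁻¹) * (sp q * d * (sp q)⁻¹)⁻¹ =
        sp q * (d * th w * d⁻¹) * (sp q)⁻¹ by group, hdact, B'.act]
      cases cd
      · rfl
      · exact congrArg th (act_facts.1 q 3 w)
  have hkmul : ∀ a b, D (kmul a b) = D a * D b := by
    cases hcd : cd
    · have hd1 : d = 1 := by
        obtain ⟨u, hu⟩ := B'.eq_theta_of_comm fun v => mul_inv_eq_iff_eq_mul.1 (by
          have := hdact v; rwa [hcd, if_neg (by decide)] at this)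
        have h2 : th (u + u) = th 0 := by rw [B'.tadd, hu, hd2, B'.th_zero]
        rw [← hu, (by decide +kernel : ∀ u : V3, u + u = 0 → u = 0) u (B'.tinj h2), B'.th_zero]
      have : ∀ k, D k = 1 := fun k => by fin_cases k <;> simp [D, hd1]
      intro a b
      rw [this, this, this, one_mul]
    · have hDact' : ∀ k v, D k * th v * (D k)⁻¹ = th (dact k v) := fun k v => by rw [hDact, hcd, if_pos rfl]
      obtain ⟨u, hu⟩ := B'.eq_theta_mul (g := D 1 * D 3) (h := D 2) (f := dact 2) (fun v => by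
        rw [show D 1 * D 3 * th v * (D 1 * D 3)⁻¹ = D 1 * (D 3 * th v * (D 3)⁻¹) * (D 1)⁻¹ by group, hDact',
          hDact']
        exact congrArg th ((by decide +kernel : ∀ v, dact 1 (dact 3 v) = dact 2 v) v)) (hDact' 2)
      have conjmul : ∀ p a b c w, D a * D b = th w * D c →
          D (kact p a) * D (kact p b) = th (pact p w) * D (kact p c) := by
        intro p a b c w h
        rw [← hD, ← hD, ← hD, ← B'.act]
        calc _ = sp p * (D a * D b) * (sp p)⁻¹ := by group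
          _ = sp p * (th w * D c) * (sp p)⁻¹ := by rw [h]
          _ = _ := by group
      have h23 : D 2 * D 3 = th (pact 3 u) * D 1 := conjmul 3 1 3 2 u hu
      have h32 : D 3 * D 2 = th (pact 2 u) * D 1 := conjmul 2 1 3 2 u hu
      have e1 : u + pact 3 u = 0 := by
        refine B'.tinj (mul_right_cancel (b := D 1) ?_)
        rw [B'.tadd, mul_assoc, ← h23, ← mul_assoc, ← hu, mul_assoc, hD2, mul_one, B'.th_zero, one_mul]
      have e2 : pact 2 u = dact 1 (-pact 3 u) := by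
        refine B'.tinj (mul_right_cancel (b := D 1) ?_)
        have hi' : ∀ k, (D k)⁻¹ = D k := fun k => inv_eq_of_mul_eq_one_left (hD2 k)
        rw [← h32, ← B'.conj_th (hDact' 1), B'.th_neg]
        calc D 3 * D 2 = (D 2 * D 3)⁻¹ := by rw [mul_inv_rev, hi', hi']
          _ = _ := by rw [h23, mul_inv_rev, hi']
      rw [d_triple u e1 e2, B'.th_zero, one_mul] at hu
      have h13 : ∀ p, D (kact p 1) * D (kact p 3) = D (kact p 2) := fun p => by
        have := conjmul p 1 3 2 0 (by rw [B'.th_zero, one_mul, hu])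
        rwa [(by decide +kernel : ∀ p, pact p (0 : V3) = 0) p, B'.th_zero, one_mul] at this
      intro a b
      obtain rfl | rfl | rfl | ⟨p, rfl, rfl⟩ : a = 0 ∨ b = 0 ∨ a = b ∨ ∃ p, a = kact p 1 ∧ b = kact p 3 := by
        revert a b; decide +kernel
      · rw [show kmul 0 b = b by revert b; decide +kernel]; exact (one_mul _).symm
      · rw [show kmul a 0 = a by revert a; decide +kernel]; exact (mul_one _).symm
      · rw [show kmul a a = 0 by revert a; decide +kernel, hD2]; rfl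
      · rw [h13 p, show kmul (kact p 1) (kact p 3) = kact p 2 by revert p; decide +kernel]
  let E : Bool → G := fun e => if e then i else 1
  let K : Wt → G := fun w => E w.e * D w.k * sp w.p
  let φ : Mn → G := fun q => th q.v * K q.w
  have hKact : ∀ w, Wok ci cd w → ∀ v, K w * th v * (K w)⁻¹ = th (wact w v) := by
    intro w hw v
    show E w.e * D w.k * sp w.p * th v * (E w.e * D w.k * sp w.p)⁻¹ = _
    rw [show E w.e * D w.k * sp w.p * th v * (E w.e * D w.k * sp w.p)⁻¹ =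
      E w.e * (D w.k * (sp w.p * th v * (sp w.p)⁻¹) * (D w.k)⁻¹) * (E w.e)⁻¹ by group, B'.act, hDact]
    have hk : (if cd then dact w.k (pact w.p v) else pact w.p v) = dact w.k (pact w.p v) := by
      rcases eq_or_ne w.k 0 with h | h
      · rw [h, (act_facts.2.2 0 _).2.2, ite_self]
      · rw [if_pos (hw.2 h)]
    rw [hk, wact]
    rcases Bool.eq_false_or_eq_true w.e with h | h <;> rw [h]
    · show i * _ * i⁻¹ = _
      rw [hiact, hw.1 h]
    · show 1 * _ * 1⁻¹ = _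
      rw [one_mul, inv_one, mul_one]; rfl
  have hKmul : ∀ a b : Wt, K (a * b) = K a * K b := by
    intro a b
    show E (a.e ^^ b.e) * D (kmul a.k (kact a.p b.k)) * sp (pmul a.p b.p) = _
    have hE : E (a.e ^^ b.e) = E a.e * E b.e := by cases a.e <;> cases b.e <;> simp [E, hi2]
    have hc : Commute (D a.k * sp a.p) (E b.e) := by
      cases b.e
      · exact Commute.one_right _
      · exact (show Commute (D a.k) i from (hDi _).symm).mul_left (hisp _)
    rw [hE, hkmul, B.smul, ← hD]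
    calc _ = E a.e * (E b.e * (D a.k * sp a.p)) * D b.k * sp b.p := by group
      _ = K a * K b := by rw [← hc.eq]; show _ = E a.e * D a.k * sp a.p * (E b.e * D b.k * sp b.p); group
  have hK1 : K 1 = 1 := by
    show E false * D 0 * sp 0 = 1
    simp [E, D, B.sp_zero]
  have hjM : ∀ v, φ (jM v) = th v := fun v => by show th v * K 1 = th v; rw [hK1, mul_one]
  have hφact : ∀ q, InL ci cd q → ∀ v, φ q * th v * (φ q)⁻¹ = th (wact q.w v) :=
    fun q hq v => B'.act_left (hKact q.w hq) q.v v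
  have hφmem : ∀ q, InL ci cd q → φ q ∈ normalizer (J : Set G) := fun q hq =>
    B'.mem_normalizer_of fun v => by rw [hφact q hq]; exact B'.th_mem _
  have hnorm : ∀ g ∈ normalizer (J : Set G), ∃ p, InL ci cd p ∧ φ p = g := by
    intro g hg
    have hex : ∀ v, ∃ u, θ u = g * θ v * g⁻¹ := fun v =>
      (B.memJ _).1 ((mem_normalizer_iff.1 hg _).1 (B.th_mem v))
    choose f hf using hex
    obtain ⟨w, hw, e⟩ := (hW f).1 ⟨g, hg, fun v => (hf v).symm⟩
    obtain ⟨u, hu⟩ := B'.eq_theta_mul (g := g) (f := wact w) (fun v => by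
      simp only [hth]
      rw [← hf, e]
      simp [hinv]) (hKact w hw)
    exact ⟨⟨u, w⟩, hw, hu.symm⟩
  refine ⟨ci, cd, φ, ⟨fun p q hp hq => ?_, fun p q hp hq e => ?_, fun g => ?_, hφmem, hnorm, fun g hg => ?_,
    B.sig, fun u v g h => ?_, fun R hR hJR g hg => B.weakly_closed hR hJR fun v => hg _ (B.th_mem v)⟩⟩
  · show th (p.v + wact p.w q.v) * K (p.w * q.w) = th p.v * K p.w * (th q.v * K q.w)
    rw [B'.tadd, hKmul, ← hKact p.w hp]; group
  · have hw : p.w = q.w := by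
      have h1 : ∀ v, wact p.w v = wact q.w v := fun v => B'.tinj (by rw [← hφact p hp, ← hφact q hq, e])
      have h2 := wact_faithful (q.w⁻¹ * p.w) fun v => by
        rw [wact_mul, h1, ← wact_mul, wt_inv_mul, wact_one]
      exact (by decide +kernel : ∀ a b : Wt, a⁻¹ * b = 1 → b = a) _ _ h2
    have e' : th p.v * K p.w = th q.v * K q.w := e
    rw [hw] at e'
    obtain ⟨pv, pw⟩ := p
    obtain ⟨qv, qw⟩ := q
    simp only at hw e'
    rw [hw, B'.tinj (mul_right_cancel e')]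
  · rw [B'.memJ]
    simp only [hjM]
  · rw [hjM] at hg
    obtain ⟨v, p, rfl⟩ := B'.cent g hg
    refine ⟨⟨v, ⟨false, 0, p⟩⟩, ⟨fun h => Bool.noConfusion h, fun h => absurd rfl h⟩, ?_⟩
    show th v * (E false * D 0 * sp p) = th v * sp p
    simp [E, D]
  · rw [hjM, hjM] at h
    obtain ⟨n, hn, e⟩ := B'.fusion h
    obtain ⟨p, hp, rfl⟩ := hnorm n hn
    exact ⟨p, hp, B'.tinj ((hφact p hp u).symm.trans e)⟩

end Base

end Cfsg.Agent.NineSym
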