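import Cfsg.Agent.Lib.NineSym.HomTables
import Cfsg.Agent.Lib.NineSym.RelAlt
import Cfsg.Agent.Lib.NineSym.Endgame

/-!
# The second case: the group is the symmetric group of degree nine
-/

set_option autoImplicit false
set_option linter.style.haveILetI false
set_option linter.unusedSectionVars false
set_option maxRecDepth 100000
set_option synthInstance.maxSize 10000

namespace Cfsg.Agent.NineSym

open Subgroup
open Cfsg.Agent.ExtraTwoNine.CoordPerm (P6)
open SymSix (cb cc ct cw)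

variable {G : Type*} [Group G] [Finite G] {J : Subgroup G} {φ : Mn → G}

namespace Frame

variable (D : Frame J true true φ)
include D

variable {K : Subgroup G} (S6 : SixData J φ K) {f : P6 →* G} (F : SixMap φ K f)
include S6 F

theorem exists_hom_nine : ∃ g9 : S9 →* G, (∀ π, g9 (lowHom π) = f π) ∧ ∀ m : Mn, g9 (elP m) = φ m := by
  classical
  obtain ⟨hlo, hhi, hlow, h7, -, ⟨qw, hqw, hqw'⟩, -⟩ := six_nine
  obtain ⟨⟨r0, r3, hr0, hr3, hr03⟩, ⟨r1, r4, hr1, hr4, hr14⟩, ⟨q7, hq7, hq7'⟩, ⟨q6, hq6, u6, e6, hq6'⟩,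
    ⟨p0, hp0, u0, e0, hp0'⟩, ⟨p1, hp1, hp1'⟩, ⟨q5, hq5, hq5'⟩, -, hsq, hbr, hfar⟩ := shift_facts
  obtain ⟨⟨qt, hqt, hqt'⟩, ⟨qc, hqc, hqc'⟩, hsig, hjc, hsplit, hel5⟩ := gen_facts
  have hmul : ∀ p q : Mn, φ (p * q) = φ p * φ q := fun p q => D.hom _ _ (inL_all p) (inL_all q)
  set σ := φ (wM ⟨false, 0, 1⟩) with hσ
  have hconjM : ∀ m : Mn, σ * φ m * σ⁻¹ = φ (wM ⟨false, 0, 1⟩ * m * (wM ⟨false, 0, 1⟩)⁻¹) := fun m => by
    rw [hmul, hmul, D.inv' (inL_all _)]
  let h6 : P6 →* G := (MulAut.conj σ).toMonoidHom.comp f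
  have hh6 : ∀ π, h6 π = σ * f π * σ⁻¹ := fun _ => rfl
  have e03 : f (sw6 3) = h6 (sw6 0) := by rw [hh6, ← hr0, ← hr3, F.agree, F.agree, hconjM, hr03]
  have e14 : f (sw6 4) = h6 (sw6 1) := by rw [hh6, ← hr1, ← hr4, F.agree, F.agree, hconjM, hr14]
  have e6' : h6 (sw6 3) = φ (mC u6 e6) := by rw [hh6, ← hq6, F.agree, hconjM, hq6']
  have e7 : h6 (sw6 4) = φ (wM nCw) := by rw [hh6, ← hq7, F.agree, hconjM, hq7']
  have e0' : f (sw6 0) = σ * φ (mC u0 e0) * σ⁻¹ := by
    rw [hconjM, ← hp0', ← hp0, F.agree]; congr 1; group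
  have e1' : f (sw6 1) = σ * φ (wM nCw) * σ⁻¹ := by
    rw [hconjM, ← hp1', ← hp1, F.agree]; congr 1; group
  have hrel : f (sw6 2) * h6 (sw6 2) = h6 (sw6 2) * f (sw6 2) := D.rel_two_five S6 F
  have hc2 : ∀ x y : G, σ * x * σ⁻¹ * (σ * y * σ⁻¹) = σ * (x * y) * σ⁻¹ := fun x y => by group
  -- the eight generators
  let s : Fin 8 → G := ![f (sw6 0), f (sw6 1), f (sw6 2), f (sw6 3), f (sw6 4), h6 (sw6 2), h6 (sw6 3), h6 (sw6 4)]
  have cube : ∀ (k : P6 →* G) (i j : Fin 5), i.val + 1 = j.val → (k (sw6 i) * k (sw6 j)) ^ 3 = 1 := fun k i j h => by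
    rw [pow_succ, pow_two, ← map_mul, ← map_mul, ← map_mul, hbr i j h, map_one]
  have far : ∀ (k : P6 →* G) (i j : Fin 5), i.val + 1 < j.val → k (sw6 i) * k (sw6 j) = k (sw6 j) * k (sw6 i) :=
    fun k i j h => by rw [← map_mul, hfar i j h, map_mul]
  obtain ⟨g9, hg9⟩ := exists_hom9 s
    (fun i => by
      fin_cases i <;> simp only [s, Fin.zero_eta, Fin.mk_one, Fin.reduceFinMk, Matrix.cons_val] <;>
        rw [← map_mul, hsq, map_one])
    (fun i j hij => by
      fin_cases i <;> fin_cases j <;>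
        simp only [s, Fin.zero_eta, Fin.mk_one, Fin.reduceFinMk, Matrix.cons_val, Fin.val_zero, Fin.val_one,
          Fin.val_two] at hij ⊢ <;> first
        | (exfalso; simp at hij; done)
        | exact cube f 0 1 rfl
        | exact cube f 1 2 rfl
        | exact cube f 2 3 rfl
        | exact cube f 3 4 rfl
        | (rw [e14]; exact cube h6 1 2 rfl)
        | exact cube h6 2 3 rfl
        | exact cube h6 3 4 rfl)
    (fun i j hij => by
      fin_cases i <;> fin_cases j <;>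
        simp only [s, Fin.zero_eta, Fin.mk_one, Fin.reduceFinMk, Matrix.cons_val, Fin.val_zero, Fin.val_one,
          Fin.val_two] at hij ⊢ <;> first
        | (exfalso; simp at hij; done)
        | exact far f 0 2 (by decide)
        | exact far f 0 3 (by decide)
        | exact far f 0 4 (by decide)
        | exact far f 1 3 (by decide)
        | exact far f 1 4 (by decide)
        | exact far f 2 4 (by decide)
        | exact hrel
        | (rw [e03]; exact far h6 0 2 (by decide))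
        | (rw [e03]; exact far h6 0 3 (by decide))
        | (rw [e03]; exact far h6 0 4 (by decide))
        | (rw [e14]; exact far h6 1 3 (by decide))
        | (rw [e14]; exact far h6 1 4 (by decide))
        | exact far h6 2 4 (by decide)
        | (rw [hh6, e0', hc2, hc2, D.comm_mC F])
        | (rw [hh6, e1', hc2, hc2, F.nC])
        | (rw [e6']; exact (D.comm_mC F _ _ _).symm)
        | (rw [e7]; exact (F.nC _).symm))
  have hlowf : ∀ π, g9 (lowHom π) = f π := fun π => by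
    refine perm6_induction (p := fun π => g9 (lowHom π) = f π) (by simp) (fun i => ?_) (fun x y hx hy => ?_) π
    · rw [hlo]
      refine (hg9 _).trans ?_
      fin_cases i <;> rfl
    · show g9 (lowHom (x * y)) = f (x * y)
      rw [map_mul, map_mul, map_mul, hx, hy]
  have hhighf : ∀ π, g9 (highHom π) = h6 π := fun π => by
    refine perm6_induction (p := fun π => g9 (highHom π) = h6 π) (by simp) (fun i => ?_) (fun x y hx hy => ?_) π
    · rw [hhi]
      refine (hg9 _).trans ?_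
      fin_cases i
      · exact e03
      · exact e14
      · rfl
      · rfl
      · rfl
    · show g9 (highHom (x * y)) = h6 (x * y)
      rw [map_mul, map_mul, map_mul, hx, hy]
  refine ⟨g9, hlowf, ?_⟩
  let φH : Mn →* G := MonoidHom.mk' φ hmul
  let eH : Mn →* G := g9.comp elHom
  have hword : ∀ q, eH (wordM q) = φH (wordM q) := fun q => by
    show g9 (elP (wordM q)) = φ (wordM q)
    rw [hlow, hlowf, F.agree]
  have ha : eH (jM (1, 0, 0)) = φH (jM (1, 0, 0)) := by
    obtain ⟨q, -, hq⟩ := six_nine.2.2.2.2.2.2.2.1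
    rw [← hq]; exact hword q
  have hb : eH (jM (0, 1, 0)) = φH (jM (0, 1, 0)) := by rw [← hqc']; exact hword qc
  have hr : eH (wM rhoW) = φH (wM rhoW) := by rw [← hqw']; exact hword qw
  have hn : eH (wM nAw) = φH (wM nAw) := by rw [← hqt']; exact hword qt
  have hnc : eH (wM nCw) = φH (wM nCw) := by
    show g9 (elP (wM nCw)) = φ (wM nCw)
    rw [h7, show sw9 7 = Equiv.swap (Fin.castSucc 7) (Fin.succ 7) from rfl, hg9]
    exact e7
  have h5 : eH (wM ⟨false, 0, 5⟩) = φH (wM ⟨false, 0, 5⟩) := by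
    show g9 (elP (wM ⟨false, 0, 5⟩)) = φ (wM ⟨false, 0, 5⟩)
    rw [hel5, hhighf, hh6, ← hq5, F.agree, hconjM, hq5']
  have hs : eH (wM ⟨false, 0, 1⟩) = φH (wM ⟨false, 0, 1⟩) := by
    rcases hsig with e | e <;> rw [e, map_mul, map_mul, hr, h5]
  have hc : eH (jM (0, 0, 1)) = φH (jM (0, 0, 1)) := by
    rw [← hjc, map_mul, map_mul, map_inv, hs, hb, map_mul, map_mul, map_inv]
  intro m
  show eH m = φH m
  obtain ⟨x, y, z, k, hw⟩ := wM_gen m.w
  rw [hsplit m, jM_gen m.v, hw]
  simp only [map_mul, _root_.map_pow, ha, hb, hc, hn, hr, hnc, hs]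

/-- In the second case the group is the symmetric group of degree nine. -/
theorem case_mon_two : Nonempty (G ≃* Equiv.Perm (Fin 9)) := by
  classical
  obtain ⟨g9, hlow, hel⟩ := D.exists_hom_nine S6 F
  obtain ⟨-, -, -, -, -, -, -, ⟨qa, hqa, hqa'⟩, hrP, hxP, haP, habP, hrP', hA1, hsgn⟩ := six_nine
  have hinj : Function.Injective g9 := by
    rw [← MonoidHom.ker_eq_bot_iff]
    by_contra hne
    have hA := Equiv.Perm.alternatingGroup_le_of_normal (by simp : 5 ≤ Nat.card (Fin 9))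
      (N := g9.ker) ((Subgroup.nontrivial_iff_ne_bot _).2 hne)
    have h1 : g9 aP = 1 := hA (Equiv.Perm.mem_alternatingGroup.2 hsgn)
    rw [haP, hel] at h1
    exact hA1 (by rw [haP, D.eq_one (inL_all _) h1, elP_one])
  have hN : ∀ g ∈ normalizer (J : Set G), g ∈ g9.range := fun g hg => by
    obtain ⟨p, -, e⟩ := D.norm g hg
    exact ⟨elP p, by rw [hel, e]⟩
  have hf : ∀ π, f π ∈ g9.range := fun π => ⟨lowHom π, hlow π⟩
  have hφ : ∀ m, φ m ∈ g9.range := fun m => ⟨elP m, hel m⟩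
  have hsurj := endgame g9 hinj
    (fun g hg => by
      rw [haP, hel] at hg
      set σ := φ (wM ⟨false, 0, 1⟩) with hσ
      have ha : φ (jM (1, 0, 0)) = σ * φ (jM (0, 0, 1)) * σ⁻¹ := by
        rw [hσ, D.act' (inL_all _), show (wM ⟨false, 0, 1⟩).w = ⟨false, 0, 1⟩ from rfl, shift_facts.2.2.2.2.2.2.2.1.2]
      rw [ha] at hg
      obtain ⟨π, u, e⟩ := D.cent_c_elems S6 F (g := σ⁻¹ * g * σ) (by
        calc σ⁻¹ * g * σ * φ (jM (0, 0, 1)) = σ⁻¹ * (g * (σ * φ (jM (0, 0, 1)) * σ⁻¹)) * σ := by group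
          _ = σ⁻¹ * (σ * φ (jM (0, 0, 1)) * σ⁻¹ * g) * σ := by rw [hg]
          _ = _ := by group)
      rw [show g = σ * (σ⁻¹ * g * σ) * σ⁻¹ by group, e]
      exact mul_mem (mul_mem (hφ _) (mul_mem (hf π) (hφ _))) (inv_mem (hφ _)))
    (fun g hg => by
      rw [habP, hel] at hg
      exact hN g (D.good_of_weight 1 (Or.inr (wact_one _)) hg))
    (fun g hg => by
      rw [hxP, hel] at hg
      exact hN g (D.cent_x hg))
    (fun g hg => by
      rw [← hrP', hel] at hg
      obtain ⟨π, u, e, -, rfl⟩ := D.cent_rho_elems S6 F hg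
      exact mul_mem (hf π) (hφ _))
  exact ⟨(MulEquiv.ofBijective g9 ⟨hinj, hsurj⟩).symm⟩

end Frame

end Cfsg.Agent.NineSym
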