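import Cfsg.Agent.Lib.NineSym.Labels

/-!
# Tables for the map from the symmetric group of degree nine
-/

set_option autoImplicit false
set_option maxRecDepth 100000
set_option synthInstance.maxSize 10000

namespace Cfsg.Agent.NineSym

open Cfsg.Agent.ExtraTwoNine.CoordPerm (P6)
open SymSix (cb cc ct cw)

/-- The first six points. -/
def firstSix : Fin 6 ≃ {i : Fin 9 // i.val < 6} where
  toFun i := ⟨⟨i.val, by omega⟩, i.isLt⟩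
  invFun i := ⟨i.1.val, i.2⟩
  left_inv _ := rfl
  right_inv _ := rfl

/-- The last six points. -/
def lastSix : Fin 6 ≃ {i : Fin 9 // 3 ≤ i.val} where
  toFun i := ⟨⟨i.val + 3, by omega⟩, Nat.le_add_left _ _⟩
  invFun i := ⟨i.1.val - 3, by omega⟩
  left_inv _ := by ext; simp
  right_inv i := by
    ext
    have := i.2
    simp only
    omega

/-- The embedding on the first six points. -/
def lowHom : P6 →* S9 := Equiv.Perm.extendDomainHom firstSix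
/-- The embedding on the last six points. -/
def highHom : P6 →* S9 := Equiv.Perm.extendDomainHom lastSix

/-- An adjacent transposition of nine points. -/
def sw9 (i : Fin 8) : S9 := Equiv.swap i.castSucc i.succ

theorem six_nine :
    (∀ i : Fin 5, lowHom (sw6 i) = sw9 ⟨i.val, by omega⟩) ∧
    (∀ i : Fin 5, highHom (sw6 i) = sw9 ⟨i.val + 3, by omega⟩) ∧
    (∀ q, elP (wordM q) = lowHom (word6 q)) ∧
    (elP (wM nCw) = sw9 7) ∧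
    highHom cw * lowHom cw * (highHom cw * lowHom cw) = lowHom cw * highHom cw ∧
    (∃ q, word6 q = cw ∧ wordM q = wM rhoW) ∧
    (∃ q, word6 q = cb * cc ∧ wordM q = jM (1, 1, 0)) ∧
    (∃ q, word6 q = cb ∧ wordM q = jM (1, 0, 0)) ∧
    rhoP = lowHom cw ∧ jP (1, 1, 1) = elP (jM (1, 1, 1)) ∧ aP = elP (jM (1, 0, 0)) ∧
    aP * bP = elP (jM (1, 1, 0)) ∧ elP (wM rhoW) = rhoP ∧ aP ≠ 1 ∧ Equiv.Perm.sign aP = 1 := by
  decide +kernel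

theorem shift_facts :
    (∃ q q', word6 q = sw6 0 ∧ word6 q' = sw6 3 ∧
      wM ⟨false, 0, 1⟩ * wordM q * (wM ⟨false, 0, 1⟩)⁻¹ = wordM q') ∧
    (∃ q q', word6 q = sw6 1 ∧ word6 q' = sw6 4 ∧
      wM ⟨false, 0, 1⟩ * wordM q * (wM ⟨false, 0, 1⟩)⁻¹ = wordM q') ∧
    (∃ q, word6 q = sw6 4 ∧ wM ⟨false, 0, 1⟩ * wordM q * (wM ⟨false, 0, 1⟩)⁻¹ = wM nCw) ∧
    (∃ q, word6 q = sw6 3 ∧ ∃ u e, wM ⟨false, 0, 1⟩ * wordM q * (wM ⟨false, 0, 1⟩)⁻¹ = mC u e) ∧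
    (∃ q, word6 q = sw6 0 ∧ ∃ u e, (wM ⟨false, 0, 1⟩)⁻¹ * wordM q * wM ⟨false, 0, 1⟩ = mC u e) ∧
    (∃ q, word6 q = sw6 1 ∧ (wM ⟨false, 0, 1⟩)⁻¹ * wordM q * wM ⟨false, 0, 1⟩ = wM nCw) ∧
    (∃ q, word6 q = cw ∧ wM ⟨false, 0, 1⟩ * wordM q * (wM ⟨false, 0, 1⟩)⁻¹ = wM ⟨false, 0, 5⟩) ∧
    (wact ⟨false, 0, 1⟩ (0, 1, 0) = (0, 0, 1) ∧ wact ⟨false, 0, 1⟩ (0, 0, 1) = (1, 0, 0)) ∧
    (∀ i : Fin 5, sw6 i * sw6 i = 1) ∧
    (∀ i j : Fin 5, i.val + 1 = j.val → sw6 i * sw6 j * (sw6 i * sw6 j) * (sw6 i * sw6 j) = 1) ∧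
    (∀ i j : Fin 5, i.val + 1 < j.val → sw6 i * sw6 j = sw6 j * sw6 i) := by
  decide +kernel

theorem jM_gen : ∀ v : V3, jM v = jM (1, 0, 0) ^ v.1.val * jM (0, 1, 0) ^ v.2.1.val * jM (0, 0, 1) ^ v.2.2.val := by
  decide +kernel

theorem wM_gen : ∀ w : Wt, ∃ x : Fin 4, ∃ y : Fin 2, ∃ z : Fin 2, ∃ k : Fin 3,
    wM w = (wM nAw * wM rhoW) ^ x.val * wM nAw ^ y.val * wM nCw ^ z.val * wM ⟨false, 0, 1⟩ ^ k.val := by
  decide +kernel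

theorem gen_facts : (∃ q, word6 q = ct ∧ wordM q = wM nAw) ∧ (∃ q, word6 q = cc ∧ wordM q = jM (0, 1, 0)) ∧
    (wM ⟨false, 0, 1⟩ = wM rhoW * wM ⟨false, 0, 5⟩ ∨ wM ⟨false, 0, 1⟩ = wM ⟨false, 0, 5⟩ * wM rhoW) ∧
    wM ⟨false, 0, 1⟩ * jM (0, 1, 0) * (wM ⟨false, 0, 1⟩)⁻¹ = jM (0, 0, 1) ∧
    (∀ p : Mn, p = jM p.v * wM p.w) ∧ elP (wM ⟨false, 0, 5⟩) = highHom cw := by
  decide +kernel

end Cfsg.Agent.NineSym
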