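import Cfsg.Agent.Lib.NineSym.Tools
import Cfsg.Agent.Lib.Involutions.ThompsonTransfer

/-!
# An odd normal complement from repeated transfer to the prime two
-/

set_option autoImplicit false
set_option linter.style.haveILetI false
set_option linter.unusedSectionVars false

namespace Cfsg.Agent.NineSym

open Subgroup
open scoped Pointwise

variable {G : Type*} [Group G] [Finite G]

/-- The squares of a group generate a normal subgroup. -/
def sqGen (H : Type*) [Group H] : Subgroup H := closure (Set.range fun h : H => h * h)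

instance sqGen_normal (H : Type*) [Group H] : (sqGen H).Normal := by
  refine ⟨fun n hn g => ?_⟩
  induction hn using closure_induction with
  | mem x hx =>
    obtain ⟨y, rfl⟩ := hx
    exact subset_closure ⟨g * y * g⁻¹, by group⟩
  | one => simp
  | mul x y _ _ ihx ihy =>
    rw [show g * (x * y) * g⁻¹ = g * x * g⁻¹ * (g * y * g⁻¹) by group]
    exact mul_mem ihx ihy
  | inv x _ ihx =>
    rw [show g * x⁻¹ * g⁻¹ = (g * x * g⁻¹)⁻¹ by group]
    exact inv_mem ihx

theorem odd_mem_sqGen {H : Type*} [Group H] {g : H} (hg : Odd (orderOf g)) : g ∈ sqGen H := by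
  obtain ⟨k, hk⟩ := hg
  refine subset_closure ⟨g ^ (k + 1), ?_⟩
  show g ^ (k + 1) * g ^ (k + 1) = g
  rw [← pow_add, show k + 1 + (k + 1) = orderOf g + 1 by omega, pow_succ, pow_orderOf_eq_one, one_mul]

theorem coprime_three_two {n : ℕ} (h : Odd n) : n.Coprime 2 := h.coprime_two_right

/-- Transfer: if the subgroups of the Sylow `2`-subgroup inside `S` are cyclic and every element outside
`S` is, up to squares, an involution split off by transfer, then the elements of odd order form a subgroup. -/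
theorem odd_core_of {Y T : Subgroup G} (S : Set G) (hTY : T ≤ Y) (hT : IsPGroup 2 T)
    (hmax : ∀ R : Subgroup G, R ≤ Y → IsPGroup 2 R → T ≤ R → R = T)
    (hcyc : ∀ H : Subgroup G, H ≤ T → (∀ g ∈ H, g ∈ S) → IsCyclic H)
    (h : ∀ g ∈ T, g ∈ S ∨ ∃ u ∈ T, ∃ s ∈ T, g = u * (s * s) ∧ u * u = 1 ∧
      ∃ Q : Subgroup G, Q ≤ T ∧ Q.relIndex T = 2 ∧ ∀ y ∈ Y, y * u * y⁻¹ ∉ Q) :
    ∃ O : Subgroup G, O ≤ Y ∧ Y ≤ normalizer (O : Set G) ∧ Odd (Nat.card O) ∧
      ∀ g ∈ Y, Odd (orderOf g) → g ∈ O := by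
  classical
  haveI : Fact (Nat.Prime 2) := ⟨Nat.prime_two⟩
  let P : Sylow 2 Y := ⟨T.subgroupOf Y, hT.of_equiv (subgroupOfEquivOfLe hTY).symm, fun {R} hR hTR => by
    have := hmax (R.map Y.subtype) (map_subtype_le R) (hR.map _) fun g hg =>
      ⟨⟨g, hTY hg⟩, hTR (mem_subgroupOf.2 hg), rfl⟩
    rw [← this, Subgroup.subgroupOf, comap_map_eq_self_of_injective Y.subtype_injective]⟩
  set M : Subgroup Y := sqGen Y with hM
  have hMT : ∀ g : Y, g ∈ M → (g : G) ∈ T → (g : G) ∈ S := by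
    intro g hgM hgT
    rcases h g hgT with hg | ⟨u, huT, s, hsT, e, hu, Q, hQT, hQi, hno⟩
    · exact hg
    exfalso
    have hu2 : orderOf (⟨u, hTY huT⟩ : Y) = 2 := by
      refine orderOf_eq_prime (Subtype.ext (by simpa [pow_two] using hu)) fun e1 => ?_
      have : u = 1 := congrArg Subtype.val e1
      exact hno 1 (one_mem _) (by rw [this]; simp)
    have hi : (Q.subgroupOf Y).index % 4 = 2 := by
      have h1 := relIndex_mul_relIndex Q T Y hQT hTY
      rw [hQi] at h1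
      have h3 : ¬ 2 ∣ T.relIndex Y := P.not_dvd_index
      change Q.relIndex Y % 4 = 2
      omega
    obtain ⟨K, hK, huK⟩ := Involutions.ThompsonTransfer.exists_index_two_of_no_conj (Q.subgroupOf Y) hi
      ⟨u, hTY huT⟩ hu2 (fun y hy => hno y y.2 (mem_subgroupOf.1 hy))
    refine huK ?_
    have hMK : M ≤ K := by
      rw [hM, sqGen, closure_le]
      rintro _ ⟨y, rfl⟩
      exact mul_self_mem_of_index_two hK y
    have e' : (⟨u, hTY huT⟩ : Y) = g * (⟨s, hTY hsT⟩ * ⟨s, hTY hsT⟩)⁻¹ := Subtype.ext (by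
      simp only [Subgroup.coe_mul, InvMemClass.coe_inv]
      rw [e, mul_inv_cancel_right])
    rw [e']
    exact mul_mem (hMK hgM) (inv_mem (hMK (subset_closure ⟨_, rfl⟩)))
  -- a subgroup of odd order containing all elements of odd order of `M`
  obtain ⟨O, hOodd, hO⟩ : ∃ O : Subgroup M, Odd (Nat.card O) ∧ ∀ g : M, Odd (orderOf g) → g ∈ O := by
    rcases Nat.even_or_odd (Nat.card M) with hev | hodd
    · let P0 : Sylow 2 M := default
      obtain ⟨Q, hQ⟩ := (P0.2.map M.subtype).exists_le_sylow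
      obtain ⟨c, hc⟩ := MulAction.exists_smul_eq Y Q P
      have hP0T : ∀ g ∈ (P0 : Subgroup M), ((c * g * c⁻¹ : Y) : G) ∈ T := fun g hg =>
        mem_subgroupOf.1 (show c * (g : Y) * c⁻¹ ∈ (P : Subgroup Y) by
          rw [← hc, Sylow.coe_subgroup_smul]
          exact smul_mem_pointwise_smul (g : Y) (MulAut.conj c) _ (hQ ⟨g, hg, rfl⟩))
      let f : (P0 : Subgroup M) →* G := MonoidHom.mk' (fun g => ((c * (g.1 : Y) * c⁻¹ : Y) : G)) fun a b => by
        simp only [Subgroup.coe_mul, InvMemClass.coe_inv]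
        group
      haveI : IsCyclic f.range := hcyc _ (by rintro _ ⟨g, rfl⟩; exact hP0T g.1 g.2)
        (by rintro _ ⟨g, rfl⟩; exact hMT _ ((sqGen_normal Y).conj_mem _ g.1.2 c) (hP0T g.1 g.2))
      have hcP : IsCyclic (P0 : Subgroup M) := isCyclic_of_injective f.rangeRestrict fun a b e =>
        have e' : ((c * (a.1 : Y) * c⁻¹ : Y) : G) = ((c * (b.1 : Y) * c⁻¹ : Y) : G) :=
          congrArg (fun x : f.range => (x : G)) e
        Subtype.ext (Subtype.ext (mul_left_cancel (mul_right_cancel (Subtype.ext e' : c * (a.1 : Y) * c⁻¹ = c * (b.1 : Y) * c⁻¹))))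
      have hmin : (Nat.card M).minFac = 2 := (Nat.minFac_eq_two_iff _).2 hev.two_dvd
      have hcent := IsCyclic.normalizer_le_centralizer (P := P0) hmin hcP
      refine ⟨(MonoidHom.transferSylow P0 hcent).ker, ?_, fun g hg => ?_⟩
      · exact Nat.odd_iff.2 (Nat.two_dvd_ne_zero.1 (MonoidHom.not_dvd_card_ker_transferSylow P0 hcent))
      · rw [MonoidHom.mem_ker, ← orderOf_eq_one_iff]
        obtain ⟨k, hk⟩ := P0.2 (MonoidHom.transferSylow P0 hcent g)
        exact Nat.dvd_one.1 ((hg.coprime_two_right.pow_right k) ▸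
          Nat.dvd_gcd (orderOf_map_dvd (MonoidHom.transferSylow P0 hcent) g) (orderOf_dvd_of_pow_eq_one hk))
    · exact ⟨⊤, by rwa [card_top], fun _ _ => mem_top _⟩
  have hmem : ∀ g : Y, Odd (orderOf g) → g ∈ O.map M.subtype := fun g hg =>
    ⟨⟨g, odd_mem_sqGen hg⟩, hO _ (by rwa [orderOf_mk]), rfl⟩
  have hodd : ∀ g : Y, g ∈ O.map M.subtype → Odd (orderOf g) := by
    rintro _ ⟨m, hm, rfl⟩
    have := orderOf_dvd_natCard (⟨m, hm⟩ : O)
    rw [orderOf_mk] at this
    rw [orderOf_injective M.subtype M.subtype_injective]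
    exact hOodd.of_dvd_nat this
  refine ⟨(O.map M.subtype).map Y.subtype, map_subtype_le _, fun y hy => ?_, ?_, fun g hg hgo =>
    ⟨⟨g, hg⟩, hmem _ (by rwa [orderOf_mk]), rfl⟩⟩
  · refine mem_normalizer_iff_map_conj_eq.2 (eq_of_le_of_card_ge ?_ (by
      exact le_of_eq (card_map_of_injective (MulEquiv.injective (MulAut.conj y))).symm))
    rintro _ ⟨_, ⟨o, ho, rfl⟩, rfl⟩
    refine ⟨⟨y, hy⟩ * o * ⟨y, hy⟩⁻¹, hmem _ ?_, rfl⟩
    have := (hodd o ho)
    rwa [← orderOf_injective (MulAut.conj (⟨y, hy⟩ : Y)).toMonoidHom (MulEquiv.injective _)] at this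
  · rw [card_map_of_injective Y.subtype_injective, card_map_of_injective M.subtype_injective]
    exact hOodd

/-- The same for a cyclic subgroup. -/
theorem odd_core {Y T C : Subgroup G} (hTY : T ≤ Y) (hT : IsPGroup 2 T)
    (hmax : ∀ R : Subgroup G, R ≤ Y → IsPGroup 2 R → T ≤ R → R = T) (_hC : C ≤ T) (hcyc : IsCyclic C)
    (h : ∀ g ∈ T, g ∈ C ∨ ∃ u ∈ T, ∃ s ∈ T, g = u * (s * s) ∧ u * u = 1 ∧
      ∃ Q : Subgroup G, Q ≤ T ∧ Q.relIndex T = 2 ∧ ∀ y ∈ Y, y * u * y⁻¹ ∉ Q) :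
    ∃ O : Subgroup G, O ≤ Y ∧ Y ≤ normalizer (O : Set G) ∧ Odd (Nat.card O) ∧
      ∀ g ∈ Y, Odd (orderOf g) → g ∈ O :=
  odd_core_of (C : Set G) hTY hT hmax
    (fun _ _ hHC => haveI := hcyc; isCyclic_of_injective (Subgroup.inclusion hHC) (Subgroup.inclusion_injective hHC)) h

/-- `S` is a Sylow `3`-subgroup of both: a conjugation can be corrected to map one to the other. -/
theorem SylowAt.conj_eq {C C' S S' : Subgroup G} (h : SylowAt C S) (h' : SylowAt C' S') {g : G}
    (hg : ∀ c ∈ C, g * c * g⁻¹ ∈ C') (hg' : ∀ c ∈ C', g⁻¹ * c * g ∈ C) :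
    ∃ c ∈ C', ∀ s, s ∈ S ↔ (c * g) * s * (c * g)⁻¹ ∈ S' := by
  haveI : Fact (Nat.Prime 3) := ⟨Nat.prime_three⟩
  have h1 : SylowAt C' (S.map (MulAut.conj g).toMonoidHom) := by
    refine ⟨?_, h.isP.map _, fun R hR hp hle => ?_⟩
    · rintro _ ⟨s, hs, rfl⟩; exact hg s (h.le hs)
    · have := h.maximal (R.map (MulAut.conj g⁻¹).toMonoidHom) ?_ (hp.map _) ?_
      · rw [← this, map_map]
        ext x
        simp [mem_map]
        constructor
        · intro hx; exact ⟨x, hx, by group⟩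
        · rintro ⟨y, hy, rfl⟩
          rwa [show g * (g⁻¹ * y * g) * g⁻¹ = y by group]
      · rintro _ ⟨r, hr, rfl⟩
        simpa [mul_assoc] using hg' r (hR hr)
      · intro s hs
        exact ⟨g * s * g⁻¹, hle ⟨s, hs, rfl⟩, by simp [mul_assoc]⟩
  obtain ⟨P, hP⟩ := h1.exists_sylow
  obtain ⟨P', hP'⟩ := h'.exists_sylow
  obtain ⟨c, hc⟩ := MulAction.exists_smul_eq C' P P'
  refine ⟨c, c.2, fun s => ?_⟩
  have key : (c : G) * g * s * ((c : G) * g)⁻¹ = (c : G) * (g * s * g⁻¹) * (c : G)⁻¹ := by group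
  rw [key]
  constructor
  · intro hs
    have hm : (⟨g * s * g⁻¹, hg s (h.le hs)⟩ : C') ∈ (P : Subgroup C') := by
      rw [hP]; exact ⟨s, hs, rfl⟩
    have := smul_mem_pointwise_smul _ (MulAut.conj c) _ hm
    rw [← Sylow.coe_subgroup_smul, hc, hP'] at this
    exact this
  · intro hs
    have hsC : (c : G) * (g * s * g⁻¹) * (c : G)⁻¹ ∈ C' := h'.le hs
    have hs' : g * s * g⁻¹ ∈ C' := by
      have := mul_mem (mul_mem (inv_mem c.2) hsC) c.2
      simpa [mul_assoc] using this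
    have hm : c * (⟨g * s * g⁻¹, hs'⟩ : C') * c⁻¹ ∈ (P' : Subgroup C') := by rw [hP']; exact hs
    rw [← hc, Sylow.coe_subgroup_smul] at hm
    change (MulAut.conj c) • (⟨g * s * g⁻¹, hs'⟩ : C') ∈ _ at hm
    rw [smul_mem_pointwise_smul_iff, hP] at hm
    obtain ⟨t, ht, e⟩ := hm
    have : s = t := mul_left_cancel (mul_right_cancel e.symm)
    rwa [this]

end Cfsg.Agent.NineSym
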