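import Cfsg.Agent.Lib.NineSym.Cent2
import Cfsg.Agent.Lib.NineSym.TwoTransfer

/-!
# Involutions of the normalizer and the Sylow `3`-subgroups of their centralizers
-/

set_option autoImplicit false
set_option linter.style.haveILetI false
set_option linter.unusedSectionVars false
set_option maxRecDepth 100000
set_option synthInstance.maxSize 10000

namespace Cfsg.Agent.NineSym

open Subgroup

/-- A `p`-subgroup with no normalizing `p`-element outside itself is maximal. -/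
theorem maximal_of_normalizer {G : Type*} [Group G] [Finite G] {p : ℕ} [Fact p.Prime] {Y T : Subgroup G}
    (h : ∀ g ∈ Y, g ∈ normalizer (T : Set G) → (∃ k : ℕ, g ^ p ^ k = 1) → g ∈ T) :
    ∀ R : Subgroup G, R ≤ Y → IsPGroup p R → T ≤ R → R = T := by
  intro R hRY hR hTR
  by_contra hne
  haveI : Group.IsNilpotent R := hR.isNilpotent
  have hlt : T.subgroupOf R < ⊤ := lt_top_iff_ne_top.2 fun e =>
    hne (le_antisymm (subgroupOf_eq_top.1 e) hTR)
  obtain ⟨g, hgn, hgT⟩ := SetLike.exists_of_lt (Group.normalizerCondition_of_isNilpotent (T.subgroupOf R) hlt)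
  refine hgT (mem_subgroupOf.2 (h (g : G) (hRY g.2) ?_ ?_))
  · refine mem_normalizer_iff.2 fun y => ⟨fun hy => ?_, fun hy => ?_⟩
    · exact mem_subgroupOf.1 ((mem_normalizer_iff.1 hgn ⟨y, hTR hy⟩).1 (mem_subgroupOf.2 hy))
    · have hyR : y ∈ R := by
        have := mul_mem (mul_mem (inv_mem g.2) (hTR hy)) g.2
        simpa [mul_assoc] using this
      exact mem_subgroupOf.1 ((mem_normalizer_iff.1 hgn ⟨y, hyR⟩).2 (mem_subgroupOf.2 hy))
  · obtain ⟨k, hk⟩ := hR g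
    exact ⟨k, by simpa using congrArg Subtype.val hk⟩

theorem no_odd_neg {G : Type*} [Group G] {g s : G} {k : ℕ} (hg : g ^ 3 ^ k = 1)
    (h : g * s * g⁻¹ = s⁻¹) : g * s = s * g := by
  have h2 : Commute (g ^ 2) s := by
    show g ^ 2 * s = s * g ^ 2
    have hi : g * s⁻¹ * g⁻¹ = s := by
      rw [show g * s⁻¹ * g⁻¹ = (g * s * g⁻¹)⁻¹ by group, h, inv_inv]
    calc g ^ 2 * s = g * (g * s * g⁻¹) * g := by rw [pow_two]; group
      _ = (g * s * g⁻¹)⁻¹ * g ^ 2 := by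
        rw [h, show g * s⁻¹ * g = g * s⁻¹ * g⁻¹ * g ^ 2 by group, hi, inv_inv]
      _ = s * g ^ 2 := by rw [h, inv_inv]
  obtain ⟨n, hn⟩ : Odd (3 ^ k) := Odd.pow ⟨1, rfl⟩
  have hg' : g = (g ^ 2) ^ (n + 1) := by
    rw [← pow_mul, show 2 * (n + 1) = 3 ^ k + 1 by omega, pow_succ, hg, one_mul]
  rw [hg']
  exact (h2.pow_left _).eq

theorem wt_id : ∀ w : Wt, 1 * w = w ∧ w⁻¹ * w = 1 := fun w =>
  ⟨(by decide +kernel : ∀ w : Wt, 1 * w = w) w, wt_inv_mul w⟩

theorem wt_assoc (a b c : Wt) : a * b * c = a * (b * c) :=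
  congrArg Mn.w (mul_assoc (wM a) (wM b) (wM c))

instance : Group Wt := Group.ofLeftAxioms wt_assoc (fun w => (wt_id w).1) fun w => (wt_id w).2

theorem wt_two : ∀ w : Wt, w ^ 24 = 1 := by decide +kernel

variable {G : Type*} [Group G] [Finite G] {J : Subgroup G} {ci cd : Bool} {φ : Mn → G}

namespace Frame

variable (D : Frame J ci cd φ)
include D

theorem map_pow {p : Mn} (hp : InL ci cd p) : ∀ n : ℕ, InL ci cd (p ^ n) ∧ φ (p ^ n) = φ p ^ n := by
  intro n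
  induction n with
  | zero => exact ⟨by rw [pow_zero]; exact (inL_facts ci cd).1, by rw [pow_zero, pow_zero, D.one]⟩
  | succ n ih =>
    exact ⟨by rw [pow_succ]; exact (inL_facts ci cd).2.2.1 _ _ ih.1 hp,
      by rw [pow_succ, pow_succ, D.hom _ _ ih.1 hp, ih.2]⟩

theorem pow_eq_one {p : Mn} (hp : InL ci cd p) {n : ℕ} (h : φ p ^ n = 1) : p ^ n = 1 :=
  D.eq_one (D.map_pow hp n).1 ((D.map_pow hp n).2.trans h)

theorem w_pow {p : Mn} : ∀ n : ℕ, (p ^ n).w = p.w ^ n := by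
  intro n
  induction n with
  | zero => rw [pow_zero, pow_zero]; rfl
  | succ n ih => rw [pow_succ, pow_succ, ← ih]; rfl

/-- A `3`-element of the normalizer. -/
theorem w_cube {p : Mn} (hp : InL ci cd p) {k : ℕ} (h : φ p ^ 3 ^ k = 1) : p.w ^ 3 = 1 := by
  have h1 : p.w ^ 3 ^ k = 1 := by rw [← D.w_pow, D.pow_eq_one hp h]; rfl
  have h2 := Nat.dvd_gcd (orderOf_dvd_of_pow_eq_one h1) (orderOf_dvd_of_pow_eq_one (wt_two p.w))
  refine orderOf_dvd_iff_pow_eq_one.1 (h2.trans ?_)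
  obtain ⟨i, hi, e⟩ := (Nat.dvd_prime_pow Nat.prime_three).1 (Nat.gcd_dvd_left (3 ^ k) 24)
  have h24 : 3 ^ i ∣ 24 := e ▸ Nat.gcd_dvd_right _ _
  rw [e]
  rcases i with _ | _ | i
  · simp
  · simp
  · exfalso
    have := (pow_dvd_pow 3 (show 2 ≤ i + 1 + 1 by omega)).trans h24
    norm_num at this

theorem fix_iff {p : Mn} (hp : InL ci cd p) (v : V3) :
    φ p * φ (jM v) = φ (jM v) * φ p ↔ wact p.w v = v := by
  refine ⟨D.fix_of_comm hp, fun h => ?_⟩
  have := D.act' hp v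
  rw [h] at this
  exact mul_inv_eq_iff_eq_mul.1 this

/-- An element moving a plane of `J` into `J`. -/
theorem norm_plane {u v : V3} (huv : Indep u v) {g : G} (hu : g * φ (jM u) * g⁻¹ ∈ J)
    (hv : g * φ (jM v) * g⁻¹ ∈ J) : g ∈ normalizer (J : Set G) := by
  have h1 : g⁻¹ ∈ normalizer (J : Set G) := by
    refine mem_normalizer_iff_map_conj_eq.2 (eq_of_le_of_card_ge ?_ (by
      rw [card_map_of_injective (MulEquiv.injective _)]))
    rintro _ ⟨j, hj, rfl⟩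
    show g⁻¹ * j * g⁻¹⁻¹ ∈ J
    rw [inv_inv]
    have hc : ∀ w, g * φ (jM w) * g⁻¹ ∈ J → g⁻¹ * j * g * φ (jM w) = φ (jM w) * (g⁻¹ * j * g) := fun w hw => by
      calc g⁻¹ * j * g * φ (jM w) = g⁻¹ * (j * (g * φ (jM w) * g⁻¹)) * g := by group
        _ = g⁻¹ * ((g * φ (jM w) * g⁻¹) * j) * g := by rw [D.J_comm hj hw]
        _ = φ (jM w) * (g⁻¹ * j * g) := by group
    have hcu := hc u hu
    have hcv := hc v hv
    obtain ⟨p, hp, e⟩ := D.norm _ (D.cent_pair' huv hcu hcv)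
    rw [← e] at hcu hcv ⊢
    have h3 : φ p ^ 3 ^ 1 = 1 := by
      rw [e, pow_one, show g⁻¹ * j * g = g⁻¹ * j * g⁻¹⁻¹ by rw [inv_inv], conj_pow, D.J_cube hj, mul_one,
        mul_inv_cancel]
    have hfx : 9 ≤ fixCard p.w := fix_card_of_indep (P := fun x => wact p.w x = x) huv fun q => by
      let F : V3 →+ V3 := AddMonoidHom.mk' (wact p.w) (wact_add p.w)
      show F (comb2 u v q) = comb2 u v q
      rw [comb2_eq, map_add, map_nsmul, map_nsmul]
      show q.1.val • wact p.w u + q.2.val • wact p.w v = _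
      rw [D.fix_of_comm hp hcu, D.fix_of_comm hp hcv]
    refine D.mem_of_w (by_contra fun hne => hne ?_)
    have hw := D.w_cube hp h3
    rwa [pow_succ, pow_two, (reflection_table.1 p.w hfx hne).2.1, one_mul] at hw
  simpa using inv_mem h1

/-- The fixed subgroup of an element. -/
theorem mem_fix {p : Mn} (hp : InL ci cd p) {g : G} :
    g ∈ J ⊓ centralizer ({φ p} : Set G) ↔ ∃ v, φ (jM v) = g ∧ wact p.w v = v := by
  constructor
  · rintro ⟨hJ, hc⟩
    obtain ⟨v, rfl⟩ := (D.memJ g).1 hJ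
    exact ⟨v, rfl, (D.fix_iff hp v).1 (mem_centralizer_singleton_iff.1 hc).symm⟩
  · rintro ⟨v, rfl, hv⟩
    exact ⟨D.memj v, mem_centralizer_singleton_iff.2 ((D.fix_iff hp v).2 hv).symm⟩

/-- The Sylow `3`-subgroup of the centralizer of an element of the normalizer. -/
theorem sylow_cent {p : Mn} (hp : InL ci cd p)
    (hN : ∀ g, g * φ p = φ p * g → g ∈ normalizer ((J ⊓ centralizer ({φ p} : Set G) : Subgroup G) : Set G) →
      (∃ k : ℕ, g ^ 3 ^ k = 1) → g ∈ normalizer (J : Set G))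
    (htab : ∀ w, Wok ci cd w → w * p.w = p.w * w → w ^ 3 = 1 → w ≠ 1 →
      ∀ v : V3, v + wact w p.v ≠ p.v + wact p.w v) :
    SylowAt (centralizer ({φ p} : Set G)) (J ⊓ centralizer ({φ p} : Set G)) := by
  refine .of_normalizer inf_le_right (D.J_isP.to_le inf_le_left) fun g hg hgn hk => ?_
  have hgc := mem_centralizer_singleton_iff.1 hg
  obtain ⟨q, hq, rfl⟩ := D.norm g (hN g hgc hgn hk)
  obtain ⟨k, hk⟩ := hk
  have hc := D.comm' hq hp hgc
  refine mem_inf.2 ⟨D.mem_of_w (by_contra fun hne => ?_), hg⟩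
  exact htab q.w hq (congrArg Mn.w hc) (D.w_cube hq hk) hne q.v (congrArg Mn.v hc)

theorem sylow_plane {p : Mn} (hp : InL ci cd p) {u v : V3} (huv : Indep u v) (hu : wact p.w u = u)
    (hv : wact p.w v = v)
    (htab : ∀ w, Wok ci cd w → w * p.w = p.w * w → w ^ 3 = 1 → w ≠ 1 →
      ∀ x : V3, x + wact w p.v ≠ p.v + wact p.w x) :
    SylowAt (centralizer ({φ p} : Set G)) (J ⊓ centralizer ({φ p} : Set G)) :=
  D.sylow_cent hp (fun _ _ hg _ => D.norm_plane huv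
    (mem_inf.1 ((mem_normalizer_iff.1 hg _).1 ((D.mem_fix hp).2 ⟨u, rfl, hu⟩))).1
    (mem_inf.1 ((mem_normalizer_iff.1 hg _).1 ((D.mem_fix hp).2 ⟨v, rfl, hv⟩))).1) htab

theorem sylow_line {p : Mn} (hp : InL ci cd p) {v : V3} (hv : wact p.w v = v)
    (huniq : ∀ x : V3, wact p.w x = x → x = 0 ∨ x = v ∨ x = -v)
    (hC : ∀ g, g * φ p = φ p * g → g * φ (jM v) = φ (jM v) * g → (∃ k : ℕ, g ^ 3 ^ k = 1) →
      g ∈ normalizer (J : Set G))
    (htab : ∀ w, Wok ci cd w → w * p.w = p.w * w → w ^ 3 = 1 → w ≠ 1 →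
      ∀ x : V3, x + wact w p.v ≠ p.v + wact p.w x) :
    SylowAt (centralizer ({φ p} : Set G)) (J ⊓ centralizer ({φ p} : Set G)) := by
  refine D.sylow_cent hp (fun g hgp hg hk => hC g hgp ?_ hk) htab
  obtain ⟨x, hx, hxf⟩ := (D.mem_fix hp).1 ((mem_normalizer_iff.1 hg _).1 ((D.mem_fix hp).2 ⟨v, rfl, hv⟩))
  obtain ⟨k, hk⟩ := hk
  rcases huniq x hxf with e | e | e <;> rw [e] at hx
  · rw [D.jzero, eq_comm, conj_eq_one_iff] at hx
    rw [hx]; simp
  · exact mul_inv_eq_iff_eq_mul.1 hx.symm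
  · refine no_odd_neg hk (hx.symm.trans ?_)
    rw [← D.inv' ((inL_facts ci cd).2.1 v)]
    refine congrArg φ ?_
    refine eq_inv_of_mul_eq_one_left ?_
    rw [← jM_add, neg_add_cancel]
    rfl

/-- Non-conjugate involutions: a plane of fixed points. -/
theorem not_conj_plane {p p' : Mn} (hp : InL ci cd p) (hp' : InL ci cd p') {u v : V3} (huv : Indep u v)
    (hu : wact p.w u = u) (hv : wact p.w v = v)
    (hS : SylowAt (centralizer ({φ p} : Set G)) (J ⊓ centralizer ({φ p} : Set G)))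
    (hS' : SylowAt (centralizer ({φ p'} : Set G)) (J ⊓ centralizer ({φ p'} : Set G)))
    (hw : ∀ w, Wok ci cd w → w * p.w ≠ p'.w * w) (g : G) : g * φ p * g⁻¹ ≠ φ p' := by
  intro he
  have hmap : ∀ c, c ∈ centralizer ({φ p} : Set G) → g * c * g⁻¹ ∈ centralizer ({φ p'} : Set G) := fun c hc => by
    rw [← he]
    refine mem_centralizer_singleton_iff.2 ?_
    calc g * c * g⁻¹ * (g * φ p * g⁻¹) = g * (c * φ p) * g⁻¹ := by group
      _ = g * (φ p * c) * g⁻¹ := by rw [mem_centralizer_singleton_iff.1 hc]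
      _ = _ := by group
  have hmap' : ∀ c, c ∈ centralizer ({φ p'} : Set G) → g⁻¹ * c * g ∈ centralizer ({φ p} : Set G) := fun c hc => by
    rw [← he] at hc
    refine mem_centralizer_singleton_iff.2 ?_
    calc g⁻¹ * c * g * φ p = g⁻¹ * (c * (g * φ p * g⁻¹)) * g := by group
      _ = g⁻¹ * ((g * φ p * g⁻¹) * c) * g := by rw [mem_centralizer_singleton_iff.1 hc]
      _ = _ := by group
  obtain ⟨c, hc, hS2⟩ := hS.conj_eq hS' hmap hmap'
  obtain ⟨q, hq, e⟩ := D.norm _ (D.norm_plane huv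
    (mem_inf.1 ((hS2 _).1 ((D.mem_fix hp).2 ⟨u, rfl, hu⟩))).1
    (mem_inf.1 ((hS2 _).1 ((D.mem_fix hp).2 ⟨v, rfl, hv⟩))).1)
  have h1 : φ q * φ p = φ p' * φ q := by
    rw [e]
    calc c * g * φ p = c * (g * φ p * g⁻¹) * g := by group
      _ = φ p' * c * g := by rw [he, mem_centralizer_singleton_iff.1 hc]
      _ = φ p' * (c * g) := by group
  rw [← D.hom _ _ hq hp, ← D.hom _ _ hp' hq] at h1
  exact hw q.w hq (congrArg Mn.w (D.inj _ _ ((inL_facts ci cd).2.2.1 _ _ hq hp)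
    ((inL_facts ci cd).2.2.1 _ _ hp' hq) h1))

/-- Non-conjugate involutions: a line of fixed points. -/
theorem not_conj_line {p p' : Mn} (hp : InL ci cd p) (hp' : InL ci cd p') {v : V3}
    (hv : wact p.w v = v)
    (hS : SylowAt (centralizer ({φ p} : Set G)) (J ⊓ centralizer ({φ p} : Set G)))
    (hS' : SylowAt (centralizer ({φ p'} : Set G)) (J ⊓ centralizer ({φ p'} : Set G)))
    (hw : ∀ w, Wok ci cd w → wact p'.w (wact w v) ≠ wact w v) (g : G) : g * φ p * g⁻¹ ≠ φ p' := by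
  intro he
  have hmap : ∀ c, c ∈ centralizer ({φ p} : Set G) → g * c * g⁻¹ ∈ centralizer ({φ p'} : Set G) := fun c hc => by
    rw [← he]
    refine mem_centralizer_singleton_iff.2 ?_
    calc g * c * g⁻¹ * (g * φ p * g⁻¹) = g * (c * φ p) * g⁻¹ := by group
      _ = g * (φ p * c) * g⁻¹ := by rw [mem_centralizer_singleton_iff.1 hc]
      _ = _ := by group
  have hmap' : ∀ c, c ∈ centralizer ({φ p'} : Set G) → g⁻¹ * c * g ∈ centralizer ({φ p} : Set G) := fun c hc => by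
    rw [← he] at hc
    refine mem_centralizer_singleton_iff.2 ?_
    calc g⁻¹ * c * g * φ p = g⁻¹ * (c * (g * φ p * g⁻¹)) * g := by group
      _ = g⁻¹ * ((g * φ p * g⁻¹) * c) * g := by rw [mem_centralizer_singleton_iff.1 hc]
      _ = _ := by group
  obtain ⟨c, hc, hS2⟩ := hS.conj_eq hS' hmap hmap'
  obtain ⟨x, hx, hxf⟩ := (D.mem_fix hp').1 ((hS2 _).1 ((D.mem_fix hp).2 ⟨v, rfl, hv⟩))
  obtain ⟨q, hq, e⟩ := D.fus v x _ hx.symm
  exact hw q.w hq (by rw [e, hxf])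

/-- The elements of `2`-power order. -/
theorem two_pow {p : Mn} (hp : InL ci cd p) {k : ℕ} (h : φ p ^ 2 ^ k = 1) : p.w ^ 8 = 1 := by
  have h1 : p.w ^ 2 ^ k = 1 := by rw [← D.w_pow, D.pow_eq_one hp h]; rfl
  have h2 := Nat.dvd_gcd (orderOf_dvd_of_pow_eq_one h1) (orderOf_dvd_of_pow_eq_one (wt_two p.w))
  refine orderOf_dvd_iff_pow_eq_one.1 (h2.trans ?_)
  obtain ⟨i, hi, e⟩ := (Nat.dvd_prime_pow Nat.prime_two).1 (Nat.gcd_dvd_left (2 ^ k) 24)
  have h24 : 2 ^ i ∣ 24 := e ▸ Nat.gcd_dvd_right _ _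
  rw [e]
  rcases i with _ | _ | _ | _ | i
  · simp
  · norm_num
  · norm_num
  · norm_num
  · exfalso
    have := (pow_dvd_pow 2 (show 4 ≤ i + 1 + 1 + 1 + 1 by omega)).trans h24
    norm_num at this

end Frame

end Cfsg.Agent.NineSym
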