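import Cfsg.Agent.Lib.NineSym.CentRho

/-!
# The classes of involutions in the second case
-/

set_option autoImplicit false
set_option linter.style.haveILetI false
set_option linter.unusedSectionVars false
set_option maxRecDepth 100000
set_option synthInstance.maxSize 10000

namespace Cfsg.Agent.NineSym

open Subgroup
open Cfsg.Agent.ExtraTwoNine.CoordPerm (P6)
open SymSix (cb cc ct cw)

/-- A `3`-element of `C` is conjugate in `C` into a Sylow subgroup. -/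
theorem SylowAt.conj_mem {G : Type*} [Group G] [Finite G] {C S : Subgroup G} (h : SylowAt C S) {g : G}
    (hg : g ∈ C) (hp : ∃ k : ℕ, g ^ 3 ^ k = 1) : ∃ c ∈ C, c * g * c⁻¹ ∈ S := by
  haveI : Fact (Nat.Prime 3) := ⟨Nat.prime_three⟩
  obtain ⟨P, hP⟩ := h.exists_sylow
  obtain ⟨k, hk⟩ := hp
  have hz : IsPGroup 3 (zpowers (⟨g, hg⟩ : C)) := by
    rintro ⟨x, hx⟩
    obtain ⟨i, rfl⟩ := mem_zpowers_iff.1 hx
    refine ⟨k, Subtype.ext (Subtype.ext ?_)⟩
    show (g ^ i) ^ 3 ^ k = 1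
    rw [← zpow_natCast, ← zpow_mul, mul_comm, zpow_mul, zpow_natCast, hk, one_zpow]
  obtain ⟨Q, hQ⟩ := hz.exists_le_sylow
  obtain ⟨c, hc⟩ := MulAction.exists_smul_eq C Q P
  refine ⟨c, c.2, ?_⟩
  have hm := smul_mem_pointwise_smul _ (MulAut.conj c) _ (hQ (mem_zpowers (⟨g, hg⟩ : C)))
  rw [← Sylow.coe_subgroup_smul, hc, hP] at hm
  exact hm

/-- The number of the class: transposition, two, three of the type of `(03)(14)(25)`, four, three of the
type of `(12)(45)(78)`. -/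
def lab (p : P6 × Bool) : ℕ :=
  match (Finset.univ.filter fun i => p.1 i ≠ i).card, p.2 with
  | 2, false => 1
  | 0, true => 1
  | 4, false => 2
  | 2, true => 2
  | 6, false => 3
  | 6, true => 4
  | 4, true => 5
  | _, _ => 0

/-- Labels of provably different classes. -/
def apart (a b : ℕ) : Bool :=
  decide (a ≠ b) && ((decide (1 ≤ a ∧ a ≤ 4) && decide (1 ≤ b ∧ b ≤ 4)) || decide (a = 1 ∧ b = 5) ||
    decide (a = 5 ∧ b = 1))

/-- The representative of a class. -/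
def repM : ℕ → Mn
  | 1 => wM nAw
  | 2 => wM dMw
  | 3 => wM rhoW
  | 4 => wM nCw * wM rhoW
  | 5 => wM ⟨true, 0, 0⟩
  | _ => 1

theorem lab_classes : ∀ π : P6, π * π = 1 → π = 1 ∨
    ((Finset.univ.filter fun i => π i ≠ i).card = 2 ∧ ∃ κ : P6, κ * π * κ⁻¹ = ct) ∨
    ((Finset.univ.filter fun i => π i ≠ i).card = 4 ∧ ∃ κ : P6, κ * π * κ⁻¹ = d6) ∨
    ((Finset.univ.filter fun i => π i ≠ i).card = 6 ∧ ∃ κ : P6, κ * π * κ⁻¹ = cw) := by
  decide +kernel

theorem lab_words : (∃ q, word6 q = ct ∧ wordM q = wM nAw) ∧ (∃ q, word6 q = d6 ∧ wordM q = wM dMw) ∧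
    (∃ q, word6 q = cw ∧ wordM q = wM rhoW) ∧
    (∃ m : Mn, m * wM nCw * m⁻¹ = wM nAw) ∧
    (∃ m : Mn, m * (wM nAw * wM nCw) * m⁻¹ = wM dMw) ∧
    wM rhoW * wM nCw = wM nCw * wM rhoW ∧ wM dMw * wM nCw = wM ⟨true, 0, 0⟩ ∧
    (∀ e : Bool, (Finset.univ.filter fun i : Fin 6 => (1 : P6) i ≠ i).card = 0) := by
  decide +kernel

theorem cent_cw_card : Fintype.card {π : P6 // π * cw = cw * π} = 48 := by decide +kernel

/-- An element of the subgroup generated by the third three-cycle and its transposition. -/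
def mC (u : ZMod 3) (e : Bool) : Mn := jM (0, 0, u) * (if e then wM nCw else 1)

theorem mC_facts : (∀ u e, mC u e * wM rhoW = wM rhoW * mC u e) ∧
    (∀ u u' e e', mC u e = mC u' e' → u = u' ∧ e = e') ∧
    (∀ u e u' e', ∃ u'' e'', mC u e * (mC u' e')⁻¹ = mC u'' e'') ∧
    (∀ π : P6, (∀ κ : P6, κ * π = π * κ) → π = 1) := by
  decide +kernel

theorem not_conj_facts :
    (∀ w : Wt, w * nAw = nAw * w → w ^ 3 = 1 → w = 1) ∧ (∀ w : Wt, w * dMw = dMw * w → w ^ 3 = 1 → w = 1) ∧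
    (∀ w : Wt, w * (nCw * rhoW) = nCw * rhoW * w → w ^ 3 = 1 → w = 1) ∧
    (wact nAw (0, 1, 0) = (0, 1, 0) ∧ wact nAw (0, 0, 1) = (0, 0, 1) ∧ Indep ((0, 1, 0) : V3) ((0, 0, 1) : V3)) ∧
    (wact rhoW (1, 1, 0) = (1, 1, 0) ∧ wact rhoW (0, 0, 1) = (0, 0, 1) ∧ Indep ((1, 1, 0) : V3) ((0, 0, 1) : V3)) ∧
    (wact dMw (0, 0, 1) = (0, 0, 1) ∧ wact (nCw * rhoW) (1, 1, 0) = (1, 1, 0)) ∧
    (∀ x : V3, wact dMw x = x → x = 0 ∨ x = (0, 0, 1) ∨ x = -(0, 0, 1)) ∧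
    (∀ x : V3, wact (nCw * rhoW) x = x → x = 0 ∨ x = (1, 1, 0) ∨ x = -(1, 1, 0)) ∧
    (∀ w : Wt, w * nAw ≠ rhoW * w ∧ w * nAw ≠ dMw * w ∧ w * nAw ≠ nCw * rhoW * w ∧
      w * rhoW ≠ dMw * w ∧ w * rhoW ≠ nCw * rhoW * w) ∧
    (∀ w : Wt, wact (nCw * rhoW) (wact w (0, 0, 1)) ≠ wact w (0, 0, 1)) ∧
    (∀ π : P6, π * d6 = d6 * π → π ^ 8 = 1) := by
  decide +kernel

theorem iota_sigma : wM ⟨true, 0, 0⟩ * wM ⟨false, 0, 1⟩ = wM ⟨false, 0, 1⟩ * wM ⟨true, 0, 0⟩ ∧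
    (wM ⟨false, 0, 1⟩ * wM ⟨false, 0, 1⟩ * wM ⟨false, 0, 1⟩ = 1 ∧
      jM (1, 1, 1) * wM ⟨false, 0, 1⟩ = wM ⟨false, 0, 1⟩ * jM (1, 1, 1)) ∧
    (∀ v : V3, wact nCw v = v → v = 0 ∨
      (∃ w : Wt, wact w (1, 1, 0) = v ∧ ∀ w', wact w' v = v → w' ^ 3 = 1 → w' = 1) ∨
      (∃ w : Wt, wact w (0, 0, 1) = v)) ∧
    (Finset.univ.filter fun q : V3 × Fin 6 =>
      qM q * wM ⟨false, 0, 1⟩ = wM ⟨false, 0, 1⟩ * qM q).card < 27 ∧
    ∀ w : Wt, ∀ v : V3, (jM v).w = 1 ∧ (wM ⟨false, 0, 1⟩).w ≠ 1 ∧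
      (wM w * jM v * (wM w)⁻¹).w = 1 := by
  decide +kernel

variable {G : Type*} [Group G] [Finite G] {J : Subgroup G} {φ : Mn → G}

namespace Frame

variable (D : Frame J true true φ)
include D

theorem cent_c_elems {K : Subgroup G} (S6 : SixData J φ K) {f : P6 →* G} (F : SixMap φ K f) {g : G}
    (hg : g * φ (jM (0, 0, 1)) = φ (jM (0, 0, 1)) * g) :
    ∃ π u, g = f π * φ (jM (0, 0, u)) := by
  obtain ⟨k, hk, j, hj, rfl⟩ := S6.hdec g (mem_centralizer_singleton_iff.2 hg)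
  obtain ⟨v, rfl⟩ := (D.memJ j).1 hj
  obtain ⟨π, hπ⟩ := (F.range _).1 (mul_mem hk ((S6.mem_plane (v.1, v.2.1, 0)).2 rfl))
  refine ⟨π, v.2.2, ?_⟩
  rw [hπ, mul_assoc, ← D.jadd]
  congr 3
  exact Prod.ext (by simp) (Prod.ext (by simp) (by simp))

theorem jpow (u : ZMod 3) : φ (jM (0, 0, u)) = φ (jM (0, 0, 1)) ^ u.val := by
  rw [← (D.map_pow (inL_all _) _).2]
  congr 1
  revert u; decide +kernel

theorem comm_mC {K : Subgroup G} {f : P6 →* G} (F : SixMap φ K f) (u : ZMod 3) (e : Bool) (π : P6) :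
    φ (mC u e) * f π = f π * φ (mC u e) := by
  have hc : Commute (φ (jM (0, 0, u))) (f π) := by
    rw [D.jpow]; exact (show Commute _ _ from F.c π).pow_left _
  rw [mC, D.hom _ _ (inL_all _) (inL_all _)]
  refine (hc.mul_left ?_).eq
  cases e
  · rw [show (if false then wM nCw else (1 : Mn)) = 1 from rfl, D.one]; exact Commute.one_left _
  · exact F.nC π

/-- The elements commuting with `(03)(14)(25)`. -/
theorem cent_rho_elems {K : Subgroup G} (S6 : SixData J φ K) {f : P6 →* G} (F : SixMap φ K f) {g : G}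
    (hg : g * φ (wM rhoW) = φ (wM rhoW) * g) :
    ∃ π u e, π * cw = cw * π ∧ g = f π * φ (mC u e) := by
  classical
  obtain ⟨hmc, hminj, hmdiv, hcenter⟩ := mC_facts
  obtain ⟨-, -, ⟨qw, hqw, hqw'⟩, -⟩ := lab_words
  have hfw : f cw = φ (wM rhoW) := by rw [← hqw, F.agree, hqw']
  let Φ : {π : P6 // π * cw = cw * π} × ZMod 3 × Bool → centralizer ({φ (wM rhoW)} : Set G) := fun q =>
    ⟨f q.1.1 * φ (mC q.2.1 q.2.2), mem_centralizer_singleton_iff.2 (by
      have h1 : Commute (f q.1.1) (φ (wM rhoW)) := by rw [← hfw]; exact (show Commute _ _ from q.1.2).map f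
      have h2 : Commute (φ (mC q.2.1 q.2.2)) (φ (wM rhoW)) := by
        show _ * _ = _ * _
        rw [← D.hom _ _ (inL_all _) (inL_all _), hmc, D.hom _ _ (inL_all _) (inL_all _)]
      exact (h1.mul_left h2).eq)⟩
  have hinj : Function.Injective Φ := fun p q e => by
    have e' : f p.1.1 * φ (mC p.2.1 p.2.2) = f q.1.1 * φ (mC q.2.1 q.2.2) := congrArg Subtype.val e
    obtain ⟨u, b, hub⟩ := hmdiv q.2.1 q.2.2 p.2.1 p.2.2
    have h1 : f ((q.1.1)⁻¹ * p.1.1) = φ (mC u b) := by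
      rw [← hub, D.hom _ _ (inL_all _) (inL_all _), D.inv' (inL_all _), map_mul, map_inv]
      rw [eq_mul_inv_iff_mul_eq, mul_assoc, e', inv_mul_cancel_left]
    have h2 : (q.1.1)⁻¹ * p.1.1 = 1 := hcenter _ fun κ => F.inj (by
      rw [map_mul f κ, map_mul f _ κ, h1, D.comm_mC F])
    have hpq : p.1.1 = q.1.1 := (inv_mul_eq_one.1 h2).symm
    rw [hpq] at e'
    obtain ⟨hu, he⟩ := hminj _ _ _ _ (D.inj _ _ (inL_all _) (inL_all _) (mul_left_cancel e'))
    exact Prod.ext (Subtype.ext hpq) (Prod.ext hu he)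
  have hcard : Nat.card ({π : P6 // π * cw = cw * π} × ZMod 3 × Bool) = 288 := by
    rw [Nat.card_prod, Nat.card_prod, Nat.card_eq_fintype_card]
    rw [show Fintype.card {π : P6 // π * cw = cw * π} = 48 by convert cent_cw_card]
    simp
  have hbij := (Nat.bijective_iff_injective_and_card Φ).2 ⟨hinj, hcard.trans (D.card_cent_rho S6 F).symm⟩
  obtain ⟨⟨⟨π, hπ⟩, u, e⟩, h⟩ := hbij.2 ⟨g, mem_centralizer_singleton_iff.2 hg⟩
  exact ⟨π, u, e, hπ, (congrArg Subtype.val h).symm⟩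

theorem iota_not_conj_n {K : Subgroup G} (S6 : SixData J φ K) (g : G) :
    g * φ (wM nCw) * g⁻¹ ≠ φ (wM ⟨true, 0, 0⟩) := by
  classical
  intro he
  obtain ⟨hcomm, ⟨h3, hxs⟩, hfix, hsmall, hJw⟩ := iota_sigma
  obtain ⟨hA, -, -, ⟨hb, hc, hind⟩, -⟩ := not_conj_facts
  have hmul : ∀ p q : Mn, φ (p * q) = φ p * φ q := fun p q => D.hom _ _ (inL_all p) (inL_all q)
  set σ := φ (wM ⟨false, 0, 1⟩) with hσ
  have hσ3 : σ ^ 3 = 1 := by rw [pow_succ, pow_two, hσ, ← hmul, ← hmul, h3, D.one]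
  have hnC : ∀ w : Wt, w * nCw = nCw * w → w ^ 3 = 1 → w = 1 := by decide +kernel
  have hfa : wact nCw (1, 0, 0) = (1, 0, 0) ∧ wact nCw (0, 1, 0) = (0, 1, 0) ∧
      Indep ((1, 0, 0) : V3) ((0, 1, 0) : V3) := by decide +kernel
  have hS := D.sylow_plane (p := wM nCw) (inL_all _) hfa.2.2 hfa.1 hfa.2.1
    (fun w _ hw h3 hne => absurd (hnC w hw h3) hne)
  -- move `σ` into the centralizer of the transposition
  have hσ' : g⁻¹ * σ * g ∈ centralizer ({φ (wM nCw)} : Set G) := by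
    refine mem_centralizer_singleton_iff.2 ?_
    have : σ * (g * φ (wM nCw) * g⁻¹) = g * φ (wM nCw) * g⁻¹ * σ := by
      rw [he, hσ, ← hmul, ← hmul, hcomm]
    calc g⁻¹ * σ * g * φ (wM nCw) = g⁻¹ * (σ * (g * φ (wM nCw) * g⁻¹)) * g := by group
      _ = g⁻¹ * (g * φ (wM nCw) * g⁻¹ * σ) * g := by rw [this]
      _ = _ := by group
  obtain ⟨c, hc', hm⟩ := hS.conj_mem hσ' ⟨1, by
    rw [pow_one, show g⁻¹ * σ * g = g⁻¹ * σ * g⁻¹⁻¹ by rw [inv_inv], conj_pow, hσ3, mul_one, mul_inv_cancel]⟩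
  obtain ⟨v, hv, hvf⟩ := (D.mem_fix (inL_all _)).1 hm
  set h := c * g⁻¹ with hh
  have hhv : h * σ * h⁻¹ = φ (jM v) := by rw [hv, hh]; group
  rcases hfix v hvf with rfl | ⟨w, hw, hw3⟩ | ⟨w, hw⟩
  · rw [D.jzero, conj_eq_one_iff] at hhv
    exact (hJw 1 0).2.1 (congrArg Mn.w (D.eq_one (inL_all _) hhv))
  · have hg2 : h⁻¹ * φ (jM v) * h⁻¹⁻¹ = σ := by rw [← hhv]; group
    have hN := D.mem_of_moves (v := v) (fun y => D.good_of_weight w (Or.inr hw)) (fun w' _ => hw3 w')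
      (g := h⁻¹) (by rw [hg2]; exact D.mem _ (inL_all _))
    have hmem : σ ∈ J := by rw [← hg2]; exact (mem_normalizer_iff.1 hN _).1 (D.memj v)
    obtain ⟨v', e'⟩ := (D.memJ _).1 hmem
    have := congrArg Mn.w (D.inj _ _ (inL_all _) (inL_all _) e')
    exact (hJw 1 v').2.1 (this.symm.trans (hJw 1 v').1)
  · -- conjugate into `C(jM (0,0,1))`
    set m := (φ (wM w))⁻¹ * h with hm'
    have hmσ : m * σ * m⁻¹ = φ (jM (0, 0, 1)) := by
      have := D.act' (inL_all (wM w)) (0, 0, 1)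
      rw [show (wM w).w = w from rfl, hw, ← hhv] at this
      rw [hm', show (φ (wM w))⁻¹ * h * σ * ((φ (wM w))⁻¹ * h)⁻¹ = (φ (wM w))⁻¹ * (h * σ * h⁻¹) * φ (wM w) by group,
        ← this]
      group
    set x := φ (jM (1, 1, 1)) with hx
    have hxσ : x * σ = σ * x := by rw [hx, hσ, ← hmul, ← hmul, hxs]
    have hxC : m * x * m⁻¹ ∈ centralizer ({φ (jM (0, 0, 1))} : Set G) := by
      refine mem_centralizer_singleton_iff.2 ?_
      rw [← hmσ, show m * x * m⁻¹ * (m * σ * m⁻¹) = m * (x * σ) * m⁻¹ by group, hxσ]; group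
    obtain ⟨d, hd, hdm⟩ := (D.sylow_at_three (D.J_le_cent (0, 0, 1)) fun p hp =>
      stab_facts.1 _ (D.fix_of_comm (inL_all p) (mem_centralizer_singleton_iff.1 hp))).conj_mem hxC
        ⟨1, by rw [pow_one, conj_pow, hx, D.jcube, mul_one, mul_inv_cancel]⟩
    set n := d * m with hn
    have hnσ : n * σ * n⁻¹ = φ (jM (0, 0, 1)) := by
      rw [hn, show d * m * σ * (d * m)⁻¹ = d * (m * σ * m⁻¹) * d⁻¹ by group, hmσ,
        mem_centralizer_singleton_iff.1 hd, mul_inv_cancel_right]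
    have hnx : n * x * n⁻¹ ∈ J := by
      rw [hn, show d * m * x * (d * m)⁻¹ = d * (m * x * m⁻¹) * d⁻¹ by group]; exact hdm
    have key : ∀ j : J, ∃ q : V3 × Fin 6, qM q * wM ⟨false, 0, 1⟩ = wM ⟨false, 0, 1⟩ * qM q ∧
        φ (qM q) = n⁻¹ * j * n := by
      intro j
      have hjx : n⁻¹ * (j : G) * n * x = x * (n⁻¹ * j * n) := by
        calc n⁻¹ * (j : G) * n * x = n⁻¹ * ((j : G) * (n * x * n⁻¹)) * n := by group
          _ = n⁻¹ * (n * x * n⁻¹ * j) * n := by rw [D.J_comm j.2 hnx]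
          _ = _ := by group
      have hjσ : n⁻¹ * (j : G) * n * σ = σ * (n⁻¹ * j * n) := by
        calc n⁻¹ * (j : G) * n * σ = n⁻¹ * ((j : G) * (n * σ * n⁻¹)) * n := by group
          _ = n⁻¹ * (n * σ * n⁻¹ * j) * n := by rw [hnσ, D.J_comm j.2 (D.memj _)]
          _ = _ := by group
      obtain ⟨p, hp, e⟩ := D.cent _ hjx
      obtain ⟨v', w'⟩ := p
      obtain ⟨q, hq⟩ : ∃ q : Fin 6, w' = ⟨false, 0, q⟩ := by
        revert hp; revert w'; intro w' e hp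
        exact (by decide +kernel : ∀ w' : Wt, Wok false false w' → ∃ q : Fin 6, w' = ⟨false, 0, q⟩) w' hp
      subst hq
      exact ⟨(v', q), D.comm' (inL_all _) (inL_all _) (by
        show φ ⟨v', ⟨false, 0, q⟩⟩ * φ _ = φ _ * φ ⟨v', ⟨false, 0, q⟩⟩
        rw [e]; exact hjσ), e⟩
    choose a ha hae using key
    have hle : Nat.card J ≤ (Finset.univ.filter fun q : V3 × Fin 6 =>
        qM q * wM ⟨false, 0, 1⟩ = wM ⟨false, 0, 1⟩ * qM q).card := by
      rw [← Fintype.card_coe, ← Nat.card_eq_fintype_card]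
      refine Nat.card_le_card_of_injective (fun j => ⟨a j, Finset.mem_filter.2 ⟨Finset.mem_univ _, ha j⟩⟩)
        fun i j e => Subtype.ext ?_
      have e' : a i = a j := congrArg Subtype.val e
      exact mul_left_cancel (mul_right_cancel ((hae i).symm.trans ((by rw [e'] : φ (qM (a i)) = φ (qM (a j))).trans (hae j))))
    rw [D.J_card] at hle
    omega

/-- Conjugate elements have labels that are not apart. -/
theorem lab_not_apart {K : Subgroup G} (S6 : SixData J φ K) {f : P6 →* G} (F : SixMap φ K f)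
    {p p' : P6 × Bool} (hp : p.1 * p.1 = 1) (hp' : p'.1 * p'.1 = 1) {g : G}
    (h : g * (f p.1 * φ (mC 0 p.2)) * g⁻¹ = f p'.1 * φ (mC 0 p'.2)) :
    apart (lab p) (lab p') = false := by
  classical
  obtain ⟨hA3, hd3, hq3, ⟨hAu, hAv, hAi⟩, ⟨hRu, hRv, hRi⟩, ⟨hdv, hqv⟩, hdu, hqu, hne, hdq, hd6⟩ := not_conj_facts
  obtain ⟨⟨qa, hqa, hqa'⟩, ⟨qd, hqd, hqd'⟩, ⟨qw, hqw, hqw'⟩, ⟨mn, hmn⟩, ⟨md, hmd⟩, hRC, hdi, hone⟩ := lab_words
  have hmul : ∀ p q : Mn, φ (p * q) = φ p * φ q := fun p q => D.hom _ _ (inL_all p) (inL_all q)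
  have hfa : f ct = φ (wM nAw) := by rw [← hqa, F.agree, hqa']
  have hfd : f d6 = φ (wM dMw) := by rw [← hqd, F.agree, hqd']
  have hfw : f cw = φ (wM rhoW) := by rw [← hqw, F.agree, hqw']
  have hm0 : ∀ e, mC 0 e = if e then wM nCw else 1 := by decide +kernel
  -- every element is conjugate to the representative of its label
  have hrep : ∀ q : P6 × Bool, q.1 * q.1 = 1 → lab q ≠ 0 →
      ∃ y : G, y * (f q.1 * φ (mC 0 q.2)) * y⁻¹ = φ (repM (lab q)) := by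
    rintro ⟨π, e⟩ hπ hl
    have hk : ∀ κ : P6, f κ * (f π * φ (mC 0 e)) * (f κ)⁻¹ = f (κ * π * κ⁻¹) * φ (mC 0 e) := fun κ => by
      rw [map_mul, map_mul, map_inv]
      calc f κ * (f π * φ (mC 0 e)) * (f κ)⁻¹ = f κ * f π * (φ (mC 0 e) * f κ⁻¹) := by rw [map_inv]; group
        _ = _ := by rw [D.comm_mC F, map_inv]; group
    have hmv : ∀ m q : Mn, ∀ g : G, g = φ q → φ m * g * (φ m)⁻¹ = φ (m * q * m⁻¹) := fun m q g hg => by
      rw [hg, ← D.inv' (inL_all m), hmul, hmul]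
    rcases lab_classes π hπ with rfl | ⟨hc, κ, hκ⟩ | ⟨hc, κ, hκ⟩ | ⟨hc, κ, hκ⟩ <;> cases e
    · exact absurd (by simp only [lab, hone false]) hl
    · refine ⟨φ mn, ?_⟩
      rw [hmv mn (wM nCw) _ (by rw [map_one, one_mul, hm0]; rfl), hmn]
      simp only [lab, hone true]; rfl
    · refine ⟨f κ, ?_⟩
      rw [hk, hκ, hfa, hm0]
      simp only [lab, hc, Bool.false_eq_true, if_false, D.one, mul_one]; rfl
    · refine ⟨φ md * f κ, ?_⟩
      rw [show φ md * f κ * (f π * φ (mC 0 true)) * (φ md * f κ)⁻¹ =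
        φ md * (f κ * (f π * φ (mC 0 true)) * (f κ)⁻¹) * (φ md)⁻¹ by group, hk, hκ,
        hmv md (wM nAw * wM nCw) _ (by rw [hfa, hm0, hmul]; rfl), hmd]
      simp only [lab, hc]; rfl
    · refine ⟨f κ, ?_⟩
      rw [hk, hκ, hfd, hm0]
      simp only [lab, hc, Bool.false_eq_true, if_false, D.one, mul_one]; rfl
    · refine ⟨f κ, ?_⟩
      rw [hk, hκ, hfd, hm0]
      simp only [lab, hc, if_true, ← hmul, hdi]; rfl
    · refine ⟨f κ, ?_⟩
      rw [hk, hκ, hfw, hm0]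
      simp only [lab, hc, Bool.false_eq_true, if_false, D.one, mul_one]; rfl
    · refine ⟨f κ, ?_⟩
      rw [hk, hκ, hfw, hm0]
      simp only [lab, hc, if_true, ← hmul, hRC]; rfl
  by_contra hap
  rw [Bool.not_eq_false] at hap
  have hl : lab p ≠ 0 ∧ lab p' ≠ 0 := by
    simp only [apart, Bool.and_eq_true, Bool.or_eq_true, decide_eq_true_eq] at hap
    omega
  obtain ⟨y, hy⟩ := hrep p hp hl.1
  obtain ⟨y', hy'⟩ := hrep p' hp' hl.2
  have hconj : (y' * g * y⁻¹) * φ (repM (lab p)) * (y' * g * y⁻¹)⁻¹ = φ (repM (lab p')) := by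
    rw [← hy, ← hy', ← h]; group
  -- the Sylow subgroups of the four centralizers
  have hSA := D.sylow_plane (p := wM nAw) (inL_all _) hAi hAu hAv (fun w _ hw h3 hne => absurd (hA3 w hw h3) hne)
  have hSR := D.sylow_plane (p := wM rhoW) (inL_all _) hRi hRu hRv
    (fun w _ hw h3 hne => absurd (rhoM_facts.2.2.2.2.2.2.2.2.2.1 w hw h3) hne)
  have hSd := D.sylow_line (p := wM dMw) (inL_all _) hdv hdu (fun g hgd hgc ⟨k, hk⟩ => by
    obtain ⟨π, u, rfl⟩ := D.cent_c_elems S6 F hgc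
    have hcu : Commute (f π) (φ (jM (0, 0, u))) := by
      rw [D.jpow]; exact (show Commute _ _ from (F.c π).symm).pow_right _
    have hπd : π * d6 = d6 * π := F.inj (by
      rw [map_mul, map_mul, hfd]
      have hud : φ (jM (0, 0, u)) * φ (wM dMw) = φ (wM dMw) * φ (jM (0, 0, u)) := by
        rw [← hmul, ← hmul]
        exact congrArg φ ((by decide +kernel : ∀ u : ZMod 3, jM (0, 0, u) * wM dMw = wM dMw * jM (0, 0, u)) u)
      calc f π * φ (wM dMw) = f π * φ (wM dMw) * φ (jM (0, 0, u)) * (φ (jM (0, 0, u)))⁻¹ := by group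
        _ = f π * φ (jM (0, 0, u)) * φ (wM dMw) * (φ (jM (0, 0, u)))⁻¹ := by rw [mul_assoc (f π), ← hud]; group
        _ = φ (wM dMw) * f π := by rw [hgd]; group)
    have h8 : f π ^ 8 = 1 := by rw [← _root_.map_pow, hd6 π hπd, map_one]
    have hu3 : φ (jM (0, 0, u)) ^ 3 = 1 := D.jcube _
    have hπk : f π ^ 3 ^ (k + 1) = 1 := by
      have h := (pow_mul (f π * φ (jM (0, 0, u))) (3 ^ k) 3)
      rw [hk, one_pow, ← pow_succ, hcu.mul_pow,
        show φ (jM (0, 0, u)) ^ 3 ^ (k + 1) = 1 by rw [pow_succ', pow_mul, hu3, one_pow], mul_one] at h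
      exact h
    have hπ1 : f π = 1 := orderOf_eq_one_iff.1 (Nat.dvd_one.1
      ((Nat.Coprime.pow_right (k + 1) (by norm_num : Nat.Coprime 8 3)) ▸
        Nat.dvd_gcd (orderOf_dvd_of_pow_eq_one h8) (orderOf_dvd_of_pow_eq_one hπk)))
    rw [hπ1, one_mul]
    exact le_normalizer (D.memj _)) (fun w _ hw h3 hne => absurd (hd3 w hw h3) hne)
  have hSq := D.sylow_line (p := wM nCw * wM rhoW) (inL_all _) hqv hqu (fun g _ hgv _ =>
    D.good_of_weight 1 (Or.inr (wact_one _)) hgv) (fun w _ hw h3 hne => absurd (hq3 w hw h3) hne)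
  have h12 := D.not_conj_plane (p' := wM dMw) (inL_all _) (inL_all _) hAi hAu hAv hSA hSd (fun w _ => (hne w).2.1)
  have h13 := D.not_conj_plane (p' := wM rhoW) (inL_all _) (inL_all _) hAi hAu hAv hSA hSR (fun w _ => (hne w).1)
  have h14 := D.not_conj_plane (p' := wM nCw * wM rhoW) (inL_all _) (inL_all _) hAi hAu hAv hSA hSq
    (fun w _ => (hne w).2.2.1)
  have h32 := D.not_conj_plane (p' := wM dMw) (inL_all _) (inL_all _) hRi hRu hRv hSR hSd (fun w _ => (hne w).2.2.2.1)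
  have h34 := D.not_conj_plane (p' := wM nCw * wM rhoW) (inL_all _) (inL_all _) hRi hRu hRv hSR hSq
    (fun w _ => (hne w).2.2.2.2)
  have h24 := D.not_conj_line (p' := wM nCw * wM rhoW) (inL_all _) (inL_all _) hdv hSd hSq (fun w _ => hdq w)
  have h15 : ∀ y : G, y * φ (wM nAw) * y⁻¹ ≠ φ (wM ⟨true, 0, 0⟩) := fun y e => by
    refine D.iota_not_conj_n S6 (y * φ mn) ?_
    rw [show y * φ mn * φ (wM nCw) * (y * φ mn)⁻¹ = y * (φ mn * φ (wM nCw) * (φ mn)⁻¹) * y⁻¹ by group,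
      ← D.inv' (inL_all mn), ← hmul, ← hmul, hmn, e]
  have symm' : ∀ {a b : G}, (∀ y, y * a * y⁻¹ ≠ b) → ∀ y, y * b * y⁻¹ ≠ a := fun hab y e =>
    hab y⁻¹ (by rw [← e]; group)
  generalize y' * g * y⁻¹ = x at hconj
  simp only [apart, Bool.and_eq_true, Bool.or_eq_true, decide_eq_true_eq] at hap
  generalize lab p = a at hap hconj
  generalize lab p' = b at hap hconj
  obtain ⟨hab, hap⟩ := hap
  rcases (show a = 1 ∨ a = 2 ∨ a = 3 ∨ a = 4 ∨ a = 5 by omega) with rfl | rfl | rfl | rfl | rfl <;>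
    rcases (show b = 1 ∨ b = 2 ∨ b = 3 ∨ b = 4 ∨ b = 5 by omega) with rfl | rfl | rfl | rfl | rfl <;>
    first
      | exact absurd rfl hab
      | (exfalso; omega)
      | exact h12 x hconj
      | exact symm' h12 x hconj
      | exact h13 x hconj
      | exact symm' h13 x hconj
      | exact h14 x hconj
      | exact symm' h14 x hconj
      | exact h32 x hconj
      | exact symm' h32 x hconj
      | exact h34 x hconj
      | exact symm' h34 x hconj
      | exact h24 x hconj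
      | exact symm' h24 x hconj
      | exact h15 x hconj
      | exact symm' h15 x hconj

end Frame

end Cfsg.Agent.NineSym
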