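import Mathlib

/-!
# Linear maps of a three dimensional space over the field of three elements, as triples of images
-/

set_option autoImplicit false
set_option maxRecDepth 100000

namespace Cfsg.Agent.NineSym

/-- The space. -/
abbrev Vec : Type := ZMod 3 × ZMod 3 × ZMod 3

/-- A map, by the images of the standard basis. -/
abbrev M3 : Type := Vec × Vec × Vec

/-- Evaluation. -/
def app (m : M3) (v : Vec) : Vec :=
  (v.1 * m.1.1 + v.2.1 * m.2.1.1 + v.2.2 * m.2.2.1,
    v.1 * m.1.2.1 + v.2.1 * m.2.1.2.1 + v.2.2 * m.2.2.2.1,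
    v.1 * m.1.2.2 + v.2.1 * m.2.1.2.2 + v.2.2 * m.2.2.2.2)

/-- Composition. -/
def cmp (m n : M3) : M3 := (app m n.1, app m n.2.1, app m n.2.2)

/-- The fixed vector. -/
def xv : Vec := (1, 1, 1)

/-- The code of a vector. -/
def code (v : Vec) : ℕ := v.1.val + 3 * v.2.1.val + 9 * v.2.2.val

/-- The orbit of a vector under the permutations of coordinates; `8` for `xv`, `9` for zero. -/
def orbIdx (v : Vec) : ℕ :=
  [9, 1, 2, 1, 3, 7, 2, 7, 4, 1, 3, 7, 3, 8, 5, 7, 5, 6, 2, 7, 4, 7, 5, 6, 4, 6, 0].getD (code v) 9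

/-- Membership in the union of orbits given by a bit pattern, together with `xv`. -/
def inO (m : ℕ) (v : Vec) : Bool := orbIdx v == 8 || (orbIdx v != 9 && m.testBit (orbIdx v))

/-- All vectors. -/
def allVec : List Vec :=
  [0, 1, 2].flatMap fun c : ZMod 3 => [0, 1, 2].flatMap fun b : ZMod 3 => [0, 1, 2].map fun a : ZMod 3 => (a, b, c)

theorem mem_allVec : ∀ v : Vec, v ∈ allVec := by decide +kernel

/-- A certificate: bit pattern, unreachable vector, two more vectors of the orbit, test vectors. -/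
abbrev Cert : Type := ℕ × Vec × Vec × Vec × List Vec

/-- One test vector. -/
def kills (m : ℕ) (src im : M3) (t : Vec) : Bool :=
  (app src t != 0 && app im t == 0) || (inO m (app src t) && !inO m (app im t))

/-- The check of a certificate. -/
def certOK (c : Cert) : Bool :=
  let O := allVec.filter (inO c.1)
  inO c.1 c.2.1 && inO c.1 c.2.2.1 && inO c.1 c.2.2.2.1 &&
    O.all fun a => O.all fun b => c.2.2.2.2.any (kills c.1 (xv, c.2.2.1, c.2.2.2.1) (c.2.1, a, b))

theorem app_cmp (m n : M3) (v : Vec) : app (cmp m n) v = app m (app n v) := by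
  obtain ⟨⟨a1, a2, a3⟩, ⟨b1, b2, b3⟩, c1, c2, c3⟩ := m
  obtain ⟨⟨d1, d2, d3⟩, ⟨e1, e2, e3⟩, f1, f2, f3⟩ := n
  obtain ⟨x, y, z⟩ := v
  simp only [app, cmp]
  refine Prod.ext ?_ (Prod.ext ?_ ?_) <;> ring

theorem app_add (m : M3) (u v : Vec) : app m (u + v) = app m u + app m v := by
  obtain ⟨⟨a1, a2, a3⟩, ⟨b1, b2, b3⟩, c1, c2, c3⟩ := m
  obtain ⟨x, y, z⟩ := u
  obtain ⟨x', y', z'⟩ := v
  simp only [app, Prod.mk_add_mk]
  refine Prod.ext ?_ (Prod.ext ?_ ?_) <;> ring

theorem vec_split : ∀ v : Vec, v = v.1.val • (1, 0, 0) + v.2.1.val • (0, 1, 0) + v.2.2.val • (0, 0, 1) := by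
  decide +kernel

/-- An additive map is given by its images. -/
theorem app_of_add {f : Vec → Vec} (hf : ∀ u v, f (u + v) = f u + f v) (v : Vec) :
    f v = app (f (1, 0, 0), f (0, 1, 0), f (0, 0, 1)) v := by
  let g : Vec →+ Vec := AddMonoidHom.mk' f hf
  let h : Vec →+ Vec := AddMonoidHom.mk' (app (f (1, 0, 0), f (0, 1, 0), f (0, 0, 1))) (app_add _)
  have e1 : ∀ m : M3, app m (1, 0, 0) = m.1 ∧ app m (0, 1, 0) = m.2.1 ∧ app m (0, 0, 1) = m.2.2 := fun m => by
    simp [app]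
  show g v = h v
  rw [vec_split v]
  simp only [map_add, map_nsmul]
  obtain ⟨a, b, c⟩ := e1 (f (1, 0, 0), f (0, 1, 0), f (0, 0, 1))
  show v.1.val • f (1, 0, 0) + v.2.1.val • f (0, 1, 0) + v.2.2.val • f (0, 0, 1) = _
  simp only [h, AddMonoidHom.mk'_apply, a, b, c]

end Cfsg.Agent.NineSym
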