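import Cfsg.Agent.Lib.NineSym.Local
import Cfsg.Agent.S3333

/-!
# The full automizer: the centralizer of a three-cycle is in the normalizer or is `3 × Sym 6`
-/

set_option autoImplicit false
set_option linter.style.haveILetI false
set_option linter.unusedSectionVars false
set_option maxRecDepth 100000
set_option synthInstance.maxSize 10000

namespace Cfsg.Agent.NineSym

open Subgroup

/-- The transposition in the first block. -/
def nAw : Wt := ⟨true, 1, 0⟩
/-- The transposition in the second block. -/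
def nBw : Wt := ⟨true, 2, 0⟩
/-- The transposition in the third block. -/
def nCw : Wt := ⟨true, 3, 0⟩
/-- The exchange of the first two blocks. -/
def rhoW : Wt := ⟨false, 0, 3⟩

theorem wok_all : ∀ w : Wt, Wok true true w := by decide +kernel

theorem inL_all (p : Mn) : InL true true p := wok_all p.w

theorem mon_orbits : ∀ v : V3, v ≠ 0 → ∃ w : Wt,
    wact w (1, 1, 1) = v ∨ wact w (1, 1, 0) = v ∨ wact w (0, 0, 1) = v := by
  decide +kernel

theorem mon_two_facts :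
    ((wM rhoW * wM rhoW = 1 ∧ wM nCw * wM nCw = 1) ∧ wM rhoW * wM nCw = wM nCw * wM rhoW) ∧
    wact rhoW (1, 1, 0) = (1, 1, 0) ∧ wact nCw (1, 1, 0) = (1, 1, 0) ∧
    wact rhoW (1, 2, 0) = -(1, 2, 0) ∧ wact rhoW (0, 0, 1) = (0, 0, 1) ∧
    wact nCw (1, 2, 0) = (1, 2, 0) ∧ wact nCw (0, 0, 1) = -(0, 0, 1) ∧
    Indep ((1, 2, 0) : V3) ((0, 0, 1) : V3) ∧
    (∀ q, q ≠ 0 → Indep ((1, 1, 0) : V3) (comb2 (1, 2, 0) (0, 0, 1) q)) ∧
    (∀ w, Wok true true w → wact w (1, 1, 0) = (1, 1, 0) →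
      w = 1 ∨ w = rhoW ∨ w = nCw ∨ w = nCw * rhoW) ∧
    ∀ w, Wok true true w → wact w (1, 1, 0) = (1, 1, 0) →
      ∀ x : V3, ∃ q, x + -wact w x = comb2 (1, 2, 0) (0, 0, 1) q := by
  decide +kernel

theorem stab_facts : (∀ w : Wt, wact w (0, 0, 1) = (0, 0, 1) → w ^ 3 = 1 → w = 1) ∧
    (∀ w : Wt, wact w (0, 0, 1) = (0, 0, 1) → wM w ^ 8 = 1) ∧
    (∀ w : Wt, wact w (0, 0, 1) = (0, 0, 1) → ∀ x : V3, (x + -wact w x).2.2 = 0) ∧
    wact nAw (0, 0, 1) = (0, 0, 1) ∧ wact nBw (0, 0, 1) = (0, 0, 1) ∧ wact rhoW (0, 0, 1) = (0, 0, 1) ∧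
    (∀ x : V3, x.2.2 = 0 → ∃ y z : V3, x = (y + -wact nAw y) + (z + -wact nBw z)) ∧
    (∀ x : V3, x.2.2 = 0 → x ≠ 0 → Indep ((0, 0, 1) : V3) x) ∧
    Indep ((1, 0, 0) : V3) ((0, 1, 0) : V3) := by
  decide +kernel

/-- The dihedral group of order eight as the stabilizer of `(0,0,1)`. -/
def dihFun : DihedralGroup 4 → Wt
  | .r i => (nAw * rhoW) ^ i.val
  | .sr i => nAw * (nAw * rhoW) ^ i.val

theorem plane_card : Fintype.card {v : V3 // v.2.2 = 0} = 9 := by decide +kernel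

theorem dihFun_facts : (∀ x y, dihFun (x * y) = dihFun x * dihFun y) ∧ (∀ x y, dihFun x = dihFun y → x = y) ∧
    (∀ x, wact (dihFun x) (0, 0, 1) = (0, 0, 1)) ∧
    ∀ w : Wt, wact w (0, 0, 1) = (0, 0, 1) → ∃ x, dihFun x = w := by
  decide +kernel

variable {G : Type*} [Group G] [Finite G] {J : Subgroup G} {φ : Mn → G}

/-- The second alternative for the centralizer of a three-cycle. -/
structure SixData (J : Subgroup G) (φ : Mn → G) (K : Subgroup G) : Prop where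
  hKC : K ≤ centralizer ({φ (jM (0, 0, 1))} : Set G)
  hCK : centralizer ({φ (jM (0, 0, 1))} : Set G) ≤ normalizer (K : Set G)
  hdec : ∀ g ∈ centralizer ({φ (jM (0, 0, 1))} : Set G), ∃ k ∈ K, ∃ s ∈ J, g = k * s
  hall : ∀ g ∈ centralizer ({φ (jM (0, 0, 1))} : Set G), (orderOf g).Coprime 3 → g ∈ K
  mem_plane : ∀ v : V3, φ (jM v) ∈ K ↔ v.2.2 = 0
  iso : Nonempty (K ≃* Equiv.Perm (Fin 6))

namespace Frame

variable (D : Frame J true true φ)
include D

/-- A subgroup with no `3`-element of the automizer has `J` as a Sylow subgroup. -/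
theorem sylow_at_three {C : Subgroup G} (hJC : J ≤ C)
    (h : ∀ p, φ p ∈ C → p.w ^ 3 = 1 → p.w = 1) : SylowAt C J :=
  .of_normalizer hJC D.J_isP fun g hg hgn ⟨k, hk⟩ => by
    obtain ⟨p, hp, rfl⟩ := D.norm g hgn
    exact D.mem_of_w (h p hg (D.w_cube hp hk))

/-- The elements of weight two and three. -/
theorem good_of_weight {v : V3} (w : Wt) (h : wact w (1, 1, 1) = v ∨ wact w (1, 1, 0) = v) {g : G}
    (hg : g * φ (jM v) = φ (jM v) * g) : g ∈ normalizer (J : Set G) := by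
  rcases h with h | h
  · subst h
    exact D.cent_orbit (wok_all w) (fun g hg => D.cent_x hg) hg
  · subst h
    obtain ⟨hinv, hu1, hu2, h11, h12, h21, h22, hind, hindu, hstab, hax⟩ := mon_two_facts
    have := D.cent_klein (wok_all rhoW) (wok_all nCw) hinv hu1 hu2 h11 h12 h21 h22 hind hindu hstab hax
    exact D.cent_orbit (wok_all w) (fun g hg => this (mem_centralizer_singleton_iff.2 hg)) hg

/-- Either every element of `J` is good, or the centralizer of a three-cycle is `3 × Sym 6`. -/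
theorem mon_dichotomy : (∀ v : V3, v ≠ 0 → ∀ g : G, g * φ (jM v) = φ (jM v) * g → g ∈ normalizer (J : Set G)) ∨
    ∃ K : Subgroup G, SixData J φ K := by
  classical
  haveI : Fact (Nat.Prime 3) := ⟨Nat.prime_three⟩
  obtain ⟨hno3, h8, hax, hnA, hnB, hrho, hgen, hindc, hab⟩ := stab_facts
  set C := centralizer ({φ (jM (0, 0, 1))} : Set G) with hCdef
  have hJC : J ≤ C := D.J_le_cent _
  have hfix : ∀ p, φ p ∈ C → wact p.w (0, 0, 1) = (0, 0, 1) := fun p hp =>
    D.fix_of_comm (inL_all p) (mem_centralizer_singleton_iff.1 hp)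
  have hS : SylowAt C J := D.sylow_at_three hJC fun p hp h3 => hno3 _ (hfix p hp) h3
  let F : Subgroup G :=
    { carrier := {g | ∃ v : V3, v.2.2 = 0 ∧ φ (jM v) = g}
      one_mem' := ⟨0, rfl, D.jzero⟩
      mul_mem' := by
        rintro _ _ ⟨u, hu, rfl⟩ ⟨v, hv, rfl⟩
        exact ⟨u + v, by rw [Prod.snd_add, Prod.snd_add, hu, hv, add_zero], D.jadd _ _⟩
      inv_mem' := by
        rintro _ ⟨u, hu, rfl⟩
        exact ⟨-u, by rw [Prod.snd_neg, Prod.snd_neg, hu, neg_zero], D.jneg _⟩ }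
  have hFv : ∀ v, φ (jM v) ∈ F ↔ v.2.2 = 0 := fun v =>
    ⟨fun ⟨u, hu, e⟩ => D.jinj e ▸ hu, fun h => ⟨v, h, rfl⟩⟩
  obtain ⟨K, hKC, hCK, hKF, hcomK, hdec, hall, hKS⟩ := hS.split (F := F) (fun x hx y hy => D.J_comm hx hy) (by
    intro n hnC hn j hj
    obtain ⟨p, hp, rfl⟩ := D.norm n hn
    obtain ⟨x, rfl⟩ := (D.memJ j).1 hj
    rw [show φ (jM x) * φ p * (φ (jM x))⁻¹ * (φ p)⁻¹ = φ (jM x) * (φ p * φ (jM x) * (φ p)⁻¹)⁻¹ by group,
      D.act' hp, ← D.jneg, ← D.jadd]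
    exact ⟨_, hax _ (hfix p hnC) x, rfl⟩)
  have hwK : ∀ w : Wt, wact w (0, 0, 1) = (0, 0, 1) → φ (wM w) ∈ K := fun w hw => by
    refine hall _ (mem_centralizer_singleton_iff.2 ((D.fix_iff (inL_all _) _).2 hw)) ?_
    refine Nat.Coprime.coprime_dvd_left (orderOf_dvd_of_pow_eq_one (n := 8) ?_) (by norm_num)
    rw [← (D.map_pow (inL_all _) 8).2, h8 w hw, D.one]
  have hcK : ∀ (w : Wt) (y : V3), wact w (0, 0, 1) = (0, 0, 1) → φ (jM (y + -wact w y)) ∈ K := fun w y hw => by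
    have hf := hcomK (φ (jM y)) (D.memj _) (φ (wM w))
      (mem_centralizer_singleton_iff.2 ((D.fix_iff (inL_all _) _).2 hw)) (D.mem _ (inL_all _))
    rwa [show φ (jM y) * φ (wM w) * (φ (jM y))⁻¹ * (φ (wM w))⁻¹ =
      φ (jM y) * (φ (wM w) * φ (jM y) * (φ (wM w))⁻¹)⁻¹ by group, D.act' (inL_all _),
      ← D.jneg, ← D.jadd] at hf
  have hFK : F ≤ K := by
    rintro _ ⟨x, hx, rfl⟩
    obtain ⟨y, z, rfl⟩ := hgen x hx
    rw [D.jadd]
    exact mul_mem (hcK _ y hnA) (hcK _ z hnB)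
  have hFJ : F ≤ J := by rintro _ ⟨x, -, rfl⟩; exact D.memj _
  have hKJ : K ⊓ J = F := le_antisymm hKF (le_inf hFK hFJ)
  have hmp : ∀ v : V3, φ (jM v) ∈ K ↔ v.2.2 = 0 := fun v =>
    ⟨fun h => (hFv v).1 (hKJ ▸ mem_inf.2 ⟨h, D.memj v⟩), fun h => hFK ((hFv v).2 h)⟩
  rw [hKJ] at hKS
  obtain ⟨P, hP⟩ := hKS.exists_sylow
  have hPm : ∀ x : K, x ∈ (P : Subgroup K) ↔ (x : G) ∈ F := fun x => by rw [hP]; rfl
  have hnF : ∀ g, g ∈ normalizer (F : Set G) → g ∈ normalizer (J : Set G) := fun g hg =>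
    D.norm_plane hab (hFJ ((mem_normalizer_iff.1 hg _).1 ((hFv _).2 rfl)))
      (hFJ ((mem_normalizer_iff.1 hg _).1 ((hFv _).2 rfl)))
  have hJF : ∀ g ∈ K, g ∈ normalizer (J : Set G) → g ∈ normalizer (F : Set G) := by
    intro g hg hgJ
    refine mem_normalizer_iff_map_conj_eq.2 (eq_of_le_of_card_ge ?_ (by
      rw [card_map_of_injective (MulEquiv.injective _)]))
    rintro _ ⟨f, hf, rfl⟩
    rw [SetLike.mem_coe, ← hKJ] at hf
    rw [← hKJ]
    exact mem_inf.2 ⟨mul_mem (mul_mem hg hf.1) (inv_mem hg), (mem_normalizer_iff.1 hgJ f).1 hf.2⟩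
  have hPn : ∀ g : K, g ∈ normalizer ((P : Subgroup K) : Set K) ↔ (g : G) ∈ normalizer (F : Set G) := by
    intro g
    constructor
    · intro hn
      refine mem_normalizer_iff.2 fun y => ⟨fun hy => (hPm _).1 ((mem_normalizer_iff.1 hn ⟨y, hFK hy⟩).1
        ((hPm _).2 hy)), fun hy => ?_⟩
      have hyK : y ∈ K := by
        have := mul_mem (mul_mem (inv_mem g.2) (hFK hy)) g.2
        simpa [mul_assoc] using this
      exact (hPm _).1 ((mem_normalizer_iff.1 hn ⟨y, hyK⟩).2 ((hPm _).2 hy))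
    · intro hn
      refine mem_normalizer_iff.2 fun y => ?_
      rw [hPm, hPm]
      exact mem_normalizer_iff.1 hn y
  have hcard : Nat.card (P : Subgroup K) = 9 := by
    rw [hP, Nat.card_congr (subgroupOfEquivOfLe hFK).toEquiv,
      ← Nat.card_eq_of_bijective
        (fun v : {v : V3 // v.2.2 = 0} => (⟨φ (jM v.1), (hFv _).2 v.2⟩ : F))
        ⟨fun u v e => Subtype.ext (D.jinj (congrArg Subtype.val e)),
          fun g => by obtain ⟨v, hv, e⟩ := g.2; exact ⟨⟨v, hv⟩, Subtype.ext e⟩⟩, Nat.card_eq_fintype_card]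
    convert plane_card
  have hC : centralizer ((P : Subgroup K) : Set K) = P := by
    refine le_antisymm (fun g hg => ?_) fun g hg => mem_centralizer_iff.2 fun x hx =>
      Subtype.ext (D.J_comm (hFJ ((hPm x).1 hx)) (hFJ ((hPm g).1 hg)))
    have hc : ∀ v : V3, v.2.2 = 0 → (g : G) * φ (jM v) = φ (jM v) * g := fun v hv => by
      have := mem_centralizer_iff.1 hg ⟨φ (jM v), (hmp v).2 hv⟩ ((hPm _).2 ((hFv v).2 hv))
      exact (congrArg Subtype.val this).symm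
    obtain ⟨p, hp, e⟩ := D.norm _ (D.cent_pair' hab (hc _ rfl) (hc _ rfl))
    have ha := D.fix_of_comm hp (e ▸ hc (1, 0, 0) rfl)
    have hb := D.fix_of_comm hp (e ▸ hc (0, 1, 0) rfl)
    have hw := wact_faithful' _ ha hb (hfix p (e ▸ hKC g.2))
    refine (hPm g).2 (hKJ ▸ mem_inf.2 ⟨g.2, ?_⟩)
    rw [← e]; exact D.mem_of_w hw
  have hcent : ∀ x ∈ (P : Subgroup K), x ≠ 1 →
      centralizer ({x} : Set K) ≤ normalizer ((P : Subgroup K) : Set K) := fun x hx hx1 g hg => by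
    obtain ⟨v, hv, e⟩ := (hPm x).1 hx
    have hv0 : v ≠ 0 := fun h => hx1 (Subtype.ext (by rw [← e, h, D.jzero]; rfl))
    refine (hPn g).2 (hJF g g.2 (D.cent_pair' (hindc v hv hv0) (mem_centralizer_singleton_iff.1 (hKC g.2)) ?_))
    rw [e]
    exact congrArg Subtype.val (mem_centralizer_singleton_iff.1 hg)
  -- the quotient of the normalizer
  set NK := normalizer ((P : Subgroup K) : Set K) with hNK
  have hch : ∀ n : NK, ∃ p, φ p = ((n : K) : G) := fun n => by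
    obtain ⟨p, -, e⟩ := D.norm _ (hnF _ ((hPn n).1 n.2))
    exact ⟨p, e⟩
  choose pf hpf using hch
  have huniq : ∀ (n : NK) (q : Mn), φ q = ((n : K) : G) → pf n = q := fun n q h =>
    D.inj _ _ (inL_all _) (inL_all _) ((hpf n).trans h.symm)
  let δ : DihedralGroup 4 →* Wt := MonoidHom.mk' dihFun dihFun_facts.1
  let f : NK →* δ.range := MonoidHom.mk' (fun n => ⟨(pf n).w, by
      obtain ⟨x, hx⟩ := dihFun_facts.2.2.2 _ (hfix (pf n) (by rw [hpf]; exact hKC (n : K).2))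
      exact ⟨x, hx⟩⟩) fun m n => Subtype.ext <| by
    show (pf (m * n)).w = (pf m * pf n).w
    rw [huniq (m * n) (pf m * pf n) (by rw [D.hom _ _ (inL_all _) (inL_all _), hpf, hpf]; rfl)]
  have hfs : Function.Surjective f := by
    rintro ⟨_, x, rfl⟩
    have hx : wact (dihFun x) (0, 0, 1) = (0, 0, 1) := dihFun_facts.2.2.1 x
    refine ⟨⟨⟨φ (wM (dihFun x)), hwK _ hx⟩, (hPn _).2 (hJF _ (hwK _ hx) (D.mem _ (inL_all _)))⟩, Subtype.ext ?_⟩
    show (pf _).w = _
    rw [huniq ⟨⟨φ (wM (dihFun x)), hwK _ hx⟩, _⟩ (wM (dihFun x)) rfl]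
    rfl
  have hfk : f.ker = (P : Subgroup K).subgroupOf NK := by
    ext n
    rw [MonoidHom.mem_ker, mem_subgroupOf, hPm]
    constructor
    · intro h
      rw [← hKJ]
      refine mem_inf.2 ⟨(n : K).2, ?_⟩
      rw [← hpf n]
      exact D.mem_of_w (congrArg Subtype.val h)
    · rintro ⟨v, -, e⟩
      refine Subtype.ext ?_
      show (pf n).w = 1
      rw [huniq n (jM v) e]
      rfl
  have eN : NK ⧸ (P : Subgroup K).subgroupOf NK ≃* DihedralGroup 4 :=
    (((QuotientGroup.quotientMulEquivOfEq hfk).symm).trans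
      (QuotientGroup.quotientKerEquivOfSurjective f hfs)).trans
      (MonoidHom.ofInjective (f := δ) dihFun_facts.2.1).symm
  rcases Cfsg.Agent.S3333.result P _ rfl hcard hC eN hcent with h | h
  · left
    have hKN : K ≤ normalizer (J : Set G) := fun k hk =>
      hnF k ((hPn ⟨k, hk⟩).1 (by rw [hNK, normalizer_eq_top_iff.2 h]; exact mem_top _))
    have hCN := D.J_sup hdec hKN
    intro v hv g hg
    obtain ⟨w, h1 | h1 | h1⟩ := mon_orbits v hv
    · exact D.good_of_weight w (Or.inl h1) hg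
    · exact D.good_of_weight w (Or.inr h1) hg
    · subst h1
      exact D.cent_orbit (wok_all w) (fun g hg => hCN (mem_centralizer_singleton_iff.2 hg)) hg
  · exact Or.inr ⟨K, ⟨hKC, hCK, hdec, hall, hmp, h⟩⟩

end Frame

end Cfsg.Agent.NineSym
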