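import Cfsg.Agent.Lib.NineSym.CentRho

/-!
# The centralizer of `(03)(14)(25)` when every element of `J` is good
-/

set_option autoImplicit false
set_option linter.style.haveILetI false
set_option linter.unusedSectionVars false
set_option maxRecDepth 100000
set_option synthInstance.maxSize 10000

namespace Cfsg.Agent.NineSym

open Subgroup

variable {G : Type*} [Group G] [Finite G] {J : Subgroup G} {φ : Mn → G}

namespace Frame

variable (D : Frame J true true φ)
include D

theorem cent_rho_good
    (hgood : ∀ v : V3, v ≠ 0 → ∀ g : G, g * φ (jM v) = φ (jM v) * g → g ∈ normalizer (J : Set G))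
    {g : G} (hg : g * φ (wM rhoW) = φ (wM rhoW) * g) : g ∈ normalizer (J : Set G) := by
  classical
  haveI : Fact (Nat.Prime 3) := ⟨Nat.prime_three⟩
  obtain ⟨⟨hr2, hr1⟩, ⟨ce1, ce2, cr, cs⟩, ⟨r2, s2, rs, r1, r1', s1, s1'⟩, hind, hf1, hf2, hfixv, hgen, -,
    hno3, hnor⟩ := rhoM_facts
  have hL := inL_all
  have hmul : ∀ p q : Mn, φ (p * q) = φ p * φ q := fun p q => D.hom _ _ (hL p) (hL q)
  set z := φ (wM rhoW) with hz
  have hz2 : z * z = 1 := by rw [hz, ← hmul, hr2, D.one]
  have hz1 : z ≠ 1 := fun e => hr1 (D.eq_one (hL _) e)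
  let φH : Mn →* G := MonoidHom.mk' φ hmul
  let μ : centralizer ({wM rhoW} : Set Mn) →* CentQuot z := (centMk z).comp
    (MonoidHom.codRestrict (φH.comp (Subgroup.subtype _)) _ fun p => mem_centralizer_singleton_iff.2 (by
      show φ p.1 * z = z * φ p.1
      rw [hz, ← hmul, ← hmul, mem_centralizer_singleton_iff.1 p.2]))
  let mM : ∀ p : Mn, p * wM rhoW = wM rhoW * p → centralizer ({wM rhoW} : Set Mn) :=
    fun p h => ⟨p, mem_centralizer_singleton_iff.2 h⟩
  let e1 := μ (mM _ ce1)
  let e2 := μ (mM _ ce2)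
  let r := μ (mM _ cr)
  let s := μ (mM _ cs)
  have hμw : μ (mM _ rfl) = 1 := by
    show centMk z _ = 1
    exact (QuotientGroup.eq_one_iff _).2 (mem_subgroupOf.2 (mem_zpowers z))
  set S := J ⊓ centralizer ({z} : Set G) with hSdef
  have hSA : SylowAt (centralizer ({z} : Set G)) S :=
    D.sylow_plane (hL _) hind hf1 hf2 (fun w _ hw h3 hne => absurd (hno3 w hw h3) hne)
  have hSexp : ∀ a ∈ S, a ^ 3 = 1 := fun a ha => D.J_cube (mem_inf.1 ha).1
  obtain ⟨P, hP⟩ := centImg_sylow hz2 hz1 hSA hSexp
  have hSm : ∀ g, g ∈ S ↔ ∃ a b : ZMod 3, φ (jM (a, a, b)) = g := fun g => by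
    rw [hSdef, hz, D.mem_fix (hL _)]
    constructor
    · rintro ⟨v, rfl, hv⟩
      exact ⟨v.1, v.2.2, by rw [← hfixv v hv]⟩
    · rintro ⟨a, b, rfl⟩
      exact ⟨_, rfl, (by decide +kernel : ∀ a b : ZMod 3, wact rhoW (a, a, b) = (a, a, b)) a b⟩
  have hjab : ∀ a b : ZMod 3, jM (a, a, b) * wM rhoW = wM rhoW * jM (a, a, b) := by decide +kernel
  let pe : ZMod 3 → ZMod 3 → CentQuot z := fun a b => μ (mM _ (hjab a b))
  have hPm : ∀ q, q ∈ (P : Subgroup (CentQuot z)) ↔ ∃ a b, pe a b = q := fun q => by
    rw [hP, mem_centImg]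
    constructor
    · rintro ⟨g, hg, rfl⟩
      obtain ⟨a, b, e⟩ := (hSm _).1 hg
      exact ⟨a, b, congrArg (centMk z) (Subtype.ext e)⟩
    · rintro ⟨a, b, rfl⟩
      exact ⟨_, (hSm _).2 ⟨a, b, rfl⟩, rfl⟩
  have rel : ∀ {a b : centralizer ({wM rhoW} : Set Mn)}, (a : Mn) = b → μ a = μ b :=
    fun h => congrArg μ (Subtype.ext h)
  have hN : ∀ x : centralizer ({z} : Set G), centMk z x ∈ normalizer ((P : Subgroup (CentQuot z)) : Set (CentQuot z)) →
      (x : G) ∈ normalizer (J : Set G) := fun x hx => by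
    rw [hP, centImg_normalizer hz2 inf_le_right hSexp] at hx
    exact D.norm_plane hind
      (mem_inf.1 ((mem_normalizer_iff.1 hx _).1 ((D.mem_fix (hL _)).2 ⟨_, rfl, hf1⟩))).1
      (mem_inf.1 ((mem_normalizer_iff.1 hx _).1 ((D.mem_fix (hL _)).2 ⟨_, rfl, hf2⟩))).1
  have hnorm := klein_normal (P := P) (e1 := e1) (e2 := e2) (r := r) (s := s)
    { ti :=
        { card := by
            rw [hP, centImg_card hz2 inf_le_right hSexp, ← Nat.card_eq_of_bijective
              (fun q : ZMod 3 × ZMod 3 => (⟨_, (hSm _).2 ⟨q.1, q.2, rfl⟩⟩ : S))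
              ⟨fun p q e => by
                have h := D.jinj (congrArg Subtype.val e)
                exact Prod.ext (congrArg (fun v : V3 => v.1) h :) (congrArg (fun v : V3 => v.2.2) h :),
              fun g => by obtain ⟨a, b, e⟩ := (hSm _).1 g.2; exact ⟨(a, b), Subtype.ext e⟩⟩]
            simp
          exp := fun q hq => by
            obtain ⟨a, b, rfl⟩ := (hPm q).1 hq
            rw [← _root_.map_pow, ← map_one μ]
            exact rel ((by decide +kernel : ∀ a b : ZMod 3, jM (a, a, b) ^ 3 = 1) a b)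
          comm := fun q hq q' hq' => by
            obtain ⟨a, b, rfl⟩ := (hPm q).1 hq
            obtain ⟨c, d, rfl⟩ := (hPm q').1 hq'
            rw [← map_mul, ← map_mul]
            exact rel ((by decide +kernel : ∀ a b c d : ZMod 3,
              jM (a, a, b) * jM (c, c, d) = jM (c, c, d) * jM (a, a, b)) a b c d)
          cent := fun q hq hq1 x hx => by
            obtain ⟨a, b, rfl⟩ := (hPm q).1 hq
            obtain ⟨g, rfl⟩ := centMk_surjective z x
            have hab : ((a, a, b) : V3) ≠ 0 := fun e => hq1 (by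
              rw [← map_one μ]
              exact rel (by
                show jM (a, a, b) = 1
                rw [e]; rfl))
            have hgN := hgood _ hab _ (centMk_comm hz2 (v := ⟨φ (jM (a, a, b)),
              mem_centralizer_singleton_iff.2 (by rw [hz, ← hmul, ← hmul, hjab])⟩) (D.jcube _)
              (mem_centralizer_singleton_iff.1 hx))
            rw [hP, centImg_normalizer hz2 inf_le_right hSexp]
            refine mem_normalizer_iff_map_conj_eq.2 (eq_of_le_of_card_ge ?_ (by
              rw [card_map_of_injective (MulEquiv.injective _)]))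
            rintro _ ⟨j, hj, rfl⟩
            exact mem_inf.2 ⟨(mem_normalizer_iff.1 hgN j).1 (mem_inf.1 hj).1,
              mul_mem (mul_mem g.2 (mem_inf.1 hj).2) (inv_mem g.2)⟩ }
      m1 := (hPm _).2 ⟨1, 0, rfl⟩
      m2 := (hPm _).2 ⟨0, 1, rfl⟩
      gen := fun q hq => by
        obtain ⟨a, b, rfl⟩ := (hPm q).1 hq
        refine ⟨a.val, b.val, ?_⟩
        rw [← _root_.map_pow, ← _root_.map_pow, ← map_mul]
        exact rel (hgen a b)
      r2 := by rw [← map_mul, ← map_one μ]; exact rel r2
      s2 := by rw [← map_mul, ← map_one μ]; exact rel s2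
      rs := by rw [← map_mul, ← map_mul]; exact rel rs
      r1 := by rw [← map_mul, ← map_mul]; exact rel r1
      r1' := by rw [← map_mul, ← map_mul, ← map_inv]; exact rel r1'
      s1 := by rw [← map_mul, ← map_mul, ← map_inv]; exact rel s1
      s1' := by rw [← map_mul, ← map_mul]; exact rel s1'
      nor := fun q hq => by
        obtain ⟨x, rfl⟩ := centMk_surjective z q
        obtain ⟨p, hp, e⟩ := D.norm _ (hN x hq)
        have hpc : p * wM rhoW = wM rhoW * p :=
          D.comm' hp (hL _) (by rw [e]; exact mem_centralizer_singleton_iff.1 x.2)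
        have hx' : centMk z x = μ (mM p hpc) := congrArg (centMk z) (Subtype.ext e.symm)
        obtain ⟨i, j, a, b, h⟩ := hnor p hpc
        let k : centralizer ({wM rhoW} : Set Mn) := (if i then mM _ cr else 1) * (if j then mM _ cs else 1)
        have hk : μ k = 1 ∨ μ k = r ∨ μ k = s ∨ μ k = r * s := by
          cases i <;> cases j <;> simp [k, r, s]
        have hkv : (k : Mn) = (if i then wM nCw else 1) * (if j then wM dMw else 1) := by
          cases i <;> cases j <;> rfl
        refine ⟨μ k, hk, pe a b, (hPm _).2 ⟨a, b, rfl⟩, ?_⟩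
        rw [hx', ← map_mul]
        rcases h with h | h
        · exact rel (by rw [Subgroup.coe_mul, hkv]; exact h)
        · rw [← mul_one (μ (k * _)), ← hμw, ← map_mul]
          exact rel (by rw [Subgroup.coe_mul, Subgroup.coe_mul, hkv]; exact h) }
  refine hN ⟨g, mem_centralizer_singleton_iff.2 hg⟩ ?_
  rw [normalizer_eq_top_iff.2 hnorm]
  exact mem_top _

end Frame

end Cfsg.Agent.NineSym
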