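import Cfsg.Agent.Lib.NineSym.RelTables
import Cfsg.Agent.Lib.Involutions.ThompsonTransfer

/-!
# The centralizer of two disjoint transpositions
-/

set_option autoImplicit false
set_option linter.style.haveILetI false
set_option linter.unusedSectionVars false
set_option maxRecDepth 100000
set_option synthInstance.maxSize 10000

namespace Cfsg.Agent.NineSym

open Subgroup
open Cfsg.Agent.ExtraTwoNine.CoordPerm (P6)
open SymSix (cb cc ct cw)

variable {G : Type*} [Group G] [Finite G] {J : Subgroup G} {φ : Mn → G}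

/-- An element of `Sym 6 × 2`. -/
def el (f : P6 →* G) (φ : Mn → G) (p : P6 × Bool) : G := f p.1 * φ (mC 0 p.2)

/-- The centralizer of two disjoint transpositions. -/
def W0 (f : P6 →* G) (φ : Mn → G) : Subgroup G := centralizer ({f t6, φ (wM nCw)} : Set G)

theorem mem_W0 {f : P6 →* G} {g : G} :
    g ∈ W0 f φ ↔ g * f t6 = f t6 * g ∧ g * φ (wM nCw) = φ (wM nCw) * g := by
  simp only [W0, mem_centralizer_iff, Set.mem_insert_iff, Set.mem_singleton_iff, forall_eq_or_imp, forall_eq]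
  exact ⟨fun h => ⟨h.1.symm, h.2.symm⟩, fun h => ⟨h.1.symm, h.2.symm⟩⟩

/-- The facts about the subgroup generated by the squares in the centralizer of two disjoint transpositions. -/
structure RelData (f : P6 →* G) (φ : Mn → G) : Prop where
  inter : ∀ g : W0 f φ, g ∈ sqGen (W0 f φ) → (g : G) * f zP = f zP * g → ∃ v ∈ V6, (g : G) = f v
  cent : ∀ g : W0 f φ, g ∈ sqGen (W0 f φ) → (g : G) * φ (jM (0, 1, 0)) = φ (jM (0, 1, 0)) * g →
    ∃ u : ZMod 3, (g : G) = φ (jM (0, 1, 0)) ^ u.val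
  mem : ∀ v ∈ V6, ∃ g : W0 f φ, g ∈ sqGen (W0 f φ) ∧ (g : G) = f v
  sylow : ∀ R : Subgroup G, IsPGroup 2 R → (∀ g ∈ R, ∃ h : W0 f φ, h ∈ sqGen (W0 f φ) ∧ (h : G) = g) →
    Nat.card R ≤ 4

namespace Frame

variable (D : Frame J true true φ)
include D

variable {K : Subgroup G} (S6 : SixData J φ K) {f : P6 →* G} (F : SixMap φ K f)
include S6 F

theorem el_mul (p q : P6 × Bool) : el f φ p * el f φ q = el f φ (p.1 * q.1, p.2 ^^ q.2) := by
  simp only [el, map_mul]
  rw [← model_rel.2.2.2.2.1, D.hom _ _ (inL_all _) (inL_all _)]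
  calc f p.1 * φ (mC 0 p.2) * (f q.1 * φ (mC 0 q.2)) = f p.1 * (φ (mC 0 p.2) * f q.1) * φ (mC 0 q.2) := by group
    _ = _ := by rw [D.comm_mC F]; group

theorem el_inj {p q : P6 × Bool} (h : el f φ p = el f φ q) : p = q := by
  obtain ⟨-, hinj, -, hcen⟩ := mC_facts
  have h1 : f (q.1⁻¹ * p.1) = φ (mC 0 q.2) * (φ (mC 0 p.2))⁻¹ := by
    rw [map_mul, map_inv, eq_mul_inv_iff_mul_eq, mul_assoc]
    simp only [el] at h
    rw [h, inv_mul_cancel_left]
  have h2 : q.1⁻¹ * p.1 = 1 := hcen _ fun κ => F.inj (by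
    rw [map_mul f κ, map_mul f _ κ, h1]
    have ha : Commute (φ (mC 0 q.2)) (f κ) := D.comm_mC F 0 q.2 κ
    have hb : Commute (φ (mC 0 p.2)) (f κ) := D.comm_mC F 0 p.2 κ
    exact (ha.mul_left hb.inv_left).eq.symm)
  have h3 : p.1 = q.1 := (inv_mul_eq_one.1 h2).symm
  simp only [el, h3, mul_right_inj] at h
  exact Prod.ext h3 (hinj _ _ _ _ (D.inj _ _ (inL_all _) (inL_all _) h)).2

theorem el_one : el f φ (1, false) = 1 := by
  rw [el, model_rel.2.2.2.2.2.2.2, D.one, map_one, one_mul]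

theorem el_f (π : P6) : el f φ (π, false) = f π := by
  rw [el, model_rel.2.2.2.2.2.2.2, D.one, mul_one]

theorem el_n : el f φ (1, true) = φ (wM nCw) := by
  rw [el, model_rel.2.2.2.2.2.2.1, map_one, one_mul]

theorem el_W0 {p : P6 × Bool} (hp : p.1 * t6 = t6 * p.1) : el f φ p ∈ W0 f φ := by
  rw [mem_W0, ← D.el_f S6 F t6, ← D.el_n S6 F]
  simp only [D.el_mul S6 F, hp, mul_one, one_mul, Bool.xor_false, Bool.false_xor, Bool.xor_true, Bool.true_xor,
    and_self]

theorem central_W0 (a b : Bool) {g : G} (hg : g ∈ W0 f φ) : g * el f φ (pb t6 a, b) = el f φ (pb t6 a, b) * g := by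
  obtain ⟨h1, h2⟩ := mem_W0.1 hg
  refine (Commute.mul_right (b := f (pb t6 a)) (c := φ (mC 0 b)) ?_ ?_).eq
  · cases a
    · simp [pb]
    · exact h1
  · cases b
    · rw [model_rel.2.2.2.2.2.2.2, D.one]; exact Commute.one_right _
    · rw [model_rel.2.2.2.2.2.2.1]; exact h2

/-- The centralizer of the two transpositions and of `(25)(34)`. -/
theorem cent_triple {g : G} (hg : g ∈ W0 f φ) (hz : g * f zP = f zP * g) :
    ∃ π e, inT6 π ∧ g = el f φ (π, e) := by
  obtain ⟨h1, h2⟩ := mem_W0.1 hg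
  obtain ⟨κ, hκ⟩ := t6_facts.2.2.2.2.1
  obtain ⟨qw, hqw, hqw'⟩ := lab_words.2.2.1
  have hfw : f cw = φ (wM rhoW) := by rw [← hqw, F.agree, hqw']
  have hzt : g * (f κ * φ (wM rhoW) * (f κ)⁻¹) = f κ * φ (wM rhoW) * (f κ)⁻¹ * g := by
    rw [← hfw, ← map_inv, ← map_mul, ← map_mul, hκ, map_mul]
    exact ((show Commute g (f zP) from hz).mul_right (show Commute g (f t6) from h1)).eq
  obtain ⟨π, u, e, -, hπ⟩ := D.cent_rho_elems S6 F (g := (f κ)⁻¹ * g * f κ) (by
    calc (f κ)⁻¹ * g * f κ * φ (wM rhoW) = (f κ)⁻¹ * (g * (f κ * φ (wM rhoW) * (f κ)⁻¹)) * f κ := by group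
      _ = (f κ)⁻¹ * (f κ * φ (wM rhoW) * (f κ)⁻¹ * g) * f κ := by rw [hzt]
      _ = _ := by group)
  have hg' : g = f (κ * π * κ⁻¹) * φ (mC u e) := by
    calc g = f κ * ((f κ)⁻¹ * g * f κ) * (f κ)⁻¹ := by group
      _ = f κ * f π * (φ (mC u e) * f κ⁻¹) := by rw [hπ, map_inv]; group
      _ = _ := by rw [D.comm_mC F, map_mul, map_mul]; group
  have hcn : Commute (φ (mC u e)) (φ (wM nCw)) := by
    have hn : Commute (f (κ * π * κ⁻¹)) (φ (wM nCw)) := (F.nC _).symm
    have := (hn.inv_left.mul_left (show Commute g (φ (wM nCw)) from h2))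
    rwa [hg', inv_mul_cancel_left] at this
  have hu : u = 0 := by
    refine model_rel.2.2.2.2.2.1 u e (D.comm' (inL_all _) (inL_all _) hcn.eq)
  subst hu
  have hcm : ∀ x, Commute g (f x) → κ * π * κ⁻¹ * x = x * (κ * π * κ⁻¹) := fun x hx => F.inj (by
    have hm : Commute (φ (mC 0 e)) (f x) := D.comm_mC F 0 e x
    have := hx.mul_left hm.inv_left
    rw [hg', mul_inv_cancel_right] at this
    rw [map_mul f _ x, map_mul f x]
    exact this.eq)
  exact ⟨_, e, ⟨hcm _ h1, hcm _ hz⟩, hg'⟩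

theorem relData : RelData f φ := by
  classical
  haveI : Fact (Nat.Prime 2) := ⟨Nat.prime_two⟩
  obtain ⟨⟨ht1, htt, htz, hts, htV⟩, ht4, htm, hcomm, -, hz1⟩ := t6_facts
  have htm' : ∀ π π', inT6 π → inT6 π' → inT6 (π * π') := fun π π' h h' => htm π h π' h'
  obtain ⟨hpb, hX2, hS2, hXne, -, hXw, hSw, -, ⟨hccz, hzsq, hv3⟩, hchi⟩ := inv_facts
  have hmul : ∀ p q : Mn, φ (p * q) = φ p * φ q := fun p q => D.hom _ _ (inL_all p) (inL_all q)
  -- the Sylow subgroup
  let T : Subgroup G :=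
    { carrier := {g | ∃ π e, inT6 π ∧ el f φ (π, e) = g}
      one_mem' := ⟨1, false, ht1, D.el_one S6 F⟩
      mul_mem' := by
        rintro _ _ ⟨π, e, h, rfl⟩ ⟨π', e', h', rfl⟩
        exact ⟨_, _, htm' _ _ h h', (D.el_mul S6 F (π, e) (π', e')).symm⟩
      inv_mem' := by
        rintro _ ⟨π, e, h, rfl⟩
        refine ⟨π⁻¹, e, (ht4 π h).1, eq_inv_of_mul_eq_one_left ?_⟩
        rw [D.el_mul S6 F, inv_mul_cancel, Bool.xor_self, D.el_one S6 F] }
  have hTW : T ≤ W0 f φ := by
    rintro _ ⟨π, e, h, rfl⟩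
    exact D.el_W0 S6 F h.1
  have hT2 : IsPGroup 2 T := by
    rintro ⟨_, π, e, h, rfl⟩
    refine ⟨2, Subtype.ext ?_⟩
    show el f φ (π, e) ^ (2 * 2) = 1
    rw [pow_mul, pow_two, pow_two, D.el_mul S6 F, D.el_mul S6 F, ← D.el_one S6 F]
    congr 1
    refine Prod.ext ?_ (by simp)
    show π * π * (π * π) = 1
    rw [← (ht4 π h).2, show (4 : ℕ) = 2 + 2 from rfl, pow_add, pow_two]
  have hmax := maximal_of_normalizer (p := 2) (Y := W0 f φ) (T := T) fun g hg hgn _ => by
    refine (fun ⟨π, e, h, he⟩ => ⟨π, e, h, he.symm⟩) (D.cent_triple S6 F hg ?_)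
    set x := f (sw6 3) with hx
    set y := f (Equiv.swap 2 3 * Equiv.swap 4 5) with hy
    have hxy : x * y * x⁻¹ * y⁻¹ = f zP := by rw [hx, hy, ← map_inv, ← map_inv, ← map_mul, ← map_mul, ← map_mul, hcomm]
    have hmT : ∀ π, inT6 π → g * f π * g⁻¹ ∈ T := fun π h =>
      (mem_normalizer_iff.1 hgn _).1 ⟨π, false, h, D.el_f S6 F π⟩
    obtain ⟨π1, e1, h1, he1⟩ := hmT _ hts
    obtain ⟨π2, e2, h2, he2⟩ := hmT _ (htV (Equiv.swap 2 3 * Equiv.swap 4 5) (by simp [V6]))
    have he : g * f zP * g⁻¹ = f (π1 * π2 * π1⁻¹ * π2⁻¹) := by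
      rw [← hxy, show g * (x * y * x⁻¹ * y⁻¹) * g⁻¹ =
        g * x * g⁻¹ * (g * y * g⁻¹) * (g * x * g⁻¹)⁻¹ * (g * y * g⁻¹)⁻¹ by group, ← he1, ← he2]
      have hinv : ∀ π e, (el f φ (π, e))⁻¹ = el f φ (π⁻¹, e) := fun π e => inv_eq_of_mul_eq_one_right (by
        rw [D.el_mul S6 F, mul_inv_cancel, Bool.xor_self, D.el_one S6 F])
      rw [hinv, hinv, D.el_mul S6 F, D.el_mul S6 F, D.el_mul S6 F, ← D.el_f S6 F]
      congr 2
      cases e1 <;> cases e2 <;> rfl
    rcases List.mem_pair.1 (chi_hom π1 h1 π2 h2 false false).2.2 with e | e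
    · rw [e, map_one, conj_eq_one_iff] at he
      exact absurd (F.inj (he.trans (map_one f).symm)) hz1
    · rw [e] at he
      exact mul_inv_eq_iff_eq_mul.1 he
  let P : Sylow 2 (W0 f φ) := ⟨T.subgroupOf _, hT2.of_equiv (subgroupOfEquivOfLe hTW).symm, fun {R} hR hTR => by
    have := hmax (R.map (W0 f φ).subtype) (map_subtype_le R) (hR.map _) fun g hg =>
      ⟨⟨g, hTW hg⟩, hTR (mem_subgroupOf.2 hg), rfl⟩
    rw [← this, Subgroup.subgroupOf, comap_map_eq_self_of_injective (W0 f φ).subtype_injective]⟩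
  set M := sqGen (W0 f φ) with hM
  -- transfer
  have kill : ∀ (χ : P6 × Bool → Bool), (∀ π π', inT6 π → inT6 π' → ∀ e e',
      χ (π * π', e ^^ e') = (χ (π, e) ^^ χ (π', e'))) → (∃ π e, inT6 π ∧ χ (π, e) = true) →
      ∀ u : W0 f φ, (u : G) * u = 1 → u ≠ 1 →
      (∀ y ∈ W0 f φ, ∀ π e, inT6 π → χ (π, e) = false → y * (u : G) * y⁻¹ ≠ el f φ (π, e)) → u ∉ M := by
    intro χ hχ ⟨π0, e0, h0, hc0⟩ u hu hu1 hno huM
    have hχ1 : χ (1, false) = false := by
      have := hχ 1 1 ht1 ht1 false false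
      rw [mul_one, Bool.xor_self, Bool.xor_self] at this
      exact this
    let Q : Subgroup G :=
      { carrier := {g | ∃ π e, inT6 π ∧ χ (π, e) = false ∧ el f φ (π, e) = g}
        one_mem' := ⟨1, false, ht1, hχ1, D.el_one S6 F⟩
        mul_mem' := by
          rintro _ _ ⟨π, e, h, hc, rfl⟩ ⟨π', e', h', hc', rfl⟩
          exact ⟨_, _, htm' _ _ h h', by rw [hχ _ _ h h', hc, hc']; rfl, (D.el_mul S6 F (π, e) (π', e')).symm⟩
        inv_mem' := by
          rintro _ ⟨π, e, h, hc, rfl⟩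
          refine ⟨π⁻¹, e, (ht4 π h).1, ?_, eq_inv_of_mul_eq_one_left ?_⟩
          · have := hχ _ _ (ht4 π h).1 h e e
            rw [inv_mul_cancel, Bool.xor_self, hc, hχ1] at this
            simpa using this.symm
          · rw [D.el_mul S6 F, inv_mul_cancel, Bool.xor_self, D.el_one S6 F] }
    have hQT : Q ≤ T := by rintro _ ⟨π, e, h, -, rfl⟩; exact ⟨π, e, h, rfl⟩
    have hQi : Q.relIndex T = 2 := by
      refine relIndex_eq_two_iff.2 ⟨el f φ (π0, e0), ⟨π0, e0, h0, rfl⟩, ?_⟩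
      rintro _ ⟨π, e, h, rfl⟩
      have hmem : ∀ π e, inT6 π → (el f φ (π, e) ∈ Q ↔ χ (π, e) = false) := fun π e h =>
        ⟨fun ⟨π', e', _, hc, he⟩ => by rw [← D.el_inj S6 F he]; exact hc, fun hc => ⟨π, e, h, hc, rfl⟩⟩
      rw [D.el_mul S6 F, hmem _ _ (htm' _ _ h h0), hmem _ _ h, hχ _ _ h h0, hc0]
      cases χ (π, e) <;> simp [Xor]
    have hi : (Q.subgroupOf (W0 f φ)).index % 4 = 2 := by
      have h1 := relIndex_mul_relIndex Q T (W0 f φ) hQT hTW
      rw [hQi] at h1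
      have h3 : ¬ 2 ∣ T.relIndex (W0 f φ) := P.not_dvd_index
      change Q.relIndex (W0 f φ) % 4 = 2
      omega
    obtain ⟨K', hK', huK⟩ := Involutions.ThompsonTransfer.exists_index_two_of_no_conj (Q.subgroupOf _) hi u
      (orderOf_eq_prime (Subtype.ext (by simpa [pow_two] using hu)) hu1) (fun y hy => by
        obtain ⟨π, e, h, hc, he⟩ := mem_subgroupOf.1 hy
        exact hno y y.2 π e h hc he.symm)
    refine huK ((closure_le _).2 ?_ huM)
    rintro _ ⟨y, rfl⟩
    exact mul_self_mem_of_index_two hK' y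
  -- squares
  have hoddM : ∀ g : W0 f φ, (g : G) ^ 3 = 1 → g ∈ M := fun g hg =>
    odd_mem_sqGen (Odd.of_dvd_nat (show Odd 3 by decide) (orderOf_dvd_of_pow_eq_one (Subtype.ext (by simpa using hg))))
  obtain ⟨qc, hqc, hqc'⟩ := model_rel.2.2.2.1
  have hfc : f cc = φ (jM (0, 1, 0)) := by rw [← hqc, F.agree, hqc']
  have hVT : ∀ v ∈ V6, f v ∈ W0 f φ := fun v hv => D.el_f S6 F v ▸ D.el_W0 S6 F (htV v hv).1
  have hcW : f cc ∈ W0 f φ := D.el_f S6 F cc ▸ D.el_W0 S6 F (show cc * t6 = t6 * cc by decide +kernel)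
  have hVM : ∀ v (hv : v ∈ V6), (⟨f v, hVT v hv⟩ : W0 f φ) ∈ M := by
    have hzM : ∀ h, (⟨f zP, h⟩ : W0 f φ) ∈ M := fun h => by
      have hm : f (sw6 3 * (Equiv.swap 2 3 * Equiv.swap 4 5)) ∈ W0 f φ :=
        D.el_f S6 F _ ▸ D.el_W0 S6 F (htm' _ _ hts (htV _ (by simp [V6]))).1
      refine subset_closure ⟨⟨_, hm⟩, Subtype.ext ?_⟩
      show f _ * f _ = f zP
      rw [← map_mul, ← hzsq]
    have h2M : ∀ h, (⟨f (Equiv.swap 2 3 * Equiv.swap 4 5), h⟩ : W0 f φ) ∈ M := fun h => by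
      have := (sqGen_normal (W0 f φ)).conj_mem _ (hzM (hVT _ (by simp [V6]))) ⟨f cc, hcW⟩
      convert this using 1
      exact Subtype.ext (by show f _ = f cc * f zP * (f cc)⁻¹; rw [← map_inv, ← map_mul, ← map_mul, hccz])
    intro v hv
    simp only [V6, List.mem_cons, List.not_mem_nil, or_false] at hv
    rcases hv with rfl | rfl | rfl | rfl
    · convert one_mem M using 1
      exact Subtype.ext (map_one f)
    · exact hzM _
    · exact h2M _
    · convert mul_mem (hzM (hVT _ (by simp [V6]))) (h2M (hVT _ (by simp [V6]))) using 1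
      exact Subtype.ext (by show f _ = f _ * f _; rw [← map_mul, hv3])
  have hcentral : ∀ y ∈ W0 f φ, ∀ a b, y * el f φ (pb t6 a, b) * y⁻¹ = el f φ (pb t6 a, b) := fun y hy a b => by
    rw [D.central_W0 S6 F a b hy, mul_inv_cancel_right]
  -- the intersection with the Sylow subgroup
  have inter : ∀ g : W0 f φ, g ∈ M → (g : G) * f zP = f zP * g → ∃ v ∈ V6, (g : G) = f v := by
    intro g hgM hgz
    obtain ⟨π, e, hπ, he⟩ := D.cent_triple S6 F g.2 hgz
    obtain ⟨v, hv, hsplit⟩ := t6_split π hπ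
    refine ⟨v, hv, ?_⟩
    have hg' : (g : G) = el f φ (pb t6 (chiA (π, false)) * pb (sw6 3) (chiO (π, false)), e) * f v := by
      rw [he, ← D.el_f S6 F v, D.el_mul S6 F, Bool.xor_false]
      exact congrArg (fun x => el f φ (x, e)) hsplit
    generalize chiA (π, false) = a at hg'
    generalize chiO (π, false) = o at hg'
    have hin : inT6 (pb t6 a * pb (sw6 3) o) :=
      htm' _ _ (by cases a <;> assumption) (by cases o <;> assumption)
    set u := el f φ (pb t6 a * pb (sw6 3) o, e) with hu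
    have huW : u ∈ W0 f φ := D.el_W0 S6 F hin.1
    have huM : (⟨u, huW⟩ : W0 f φ) ∈ M := by
      convert mul_mem hgM (inv_mem (hVM v hv)) using 1
      exact Subtype.ext (by show u = (g : G) * (f v)⁻¹; rw [hg', mul_inv_cancel_right])
    have hu2 : u * u = 1 := by
      rw [hu, D.el_mul S6 F, Bool.xor_self, ← D.el_one S6 F]
      congr 2
      exact (by decide +kernel : ∀ a o : Bool, pb t6 a * pb (sw6 3) o * (pb t6 a * pb (sw6 3) o) = 1) a o
    cases o
    · rcases eq_or_ne u 1 with h1 | h1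
      · rw [hg', h1, one_mul]
      exfalso
      rw [show pb t6 a * pb (sw6 3) false = pb t6 a by simp [pb]] at hu
      have hne : (⟨u, huW⟩ : W0 f φ) ≠ 1 := fun h => h1 (congrArg Subtype.val h)
      cases a
      · cases e
        · exact h1 (hu.trans (D.el_one S6 F))
        · refine kill chiE (fun _ _ _ _ _ _ => rfl) ⟨1, true, ht1, rfl⟩ _ hu2 hne (fun y hy π' e' _ hc heq => ?_) huM
          have := D.el_inj S6 F ((hcentral y hy false true).symm.trans ((by rw [← hu]; exact heq :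
            y * el f φ (pb t6 false, true) * y⁻¹ = el f φ (π', e'))))
          exact Bool.noConfusion ((congrArg Prod.snd this).trans hc)
      · refine kill chiA (fun p q h h' e e' => (chi_hom p h q h' e e').1) ⟨t6, false, htt, by decide +kernel⟩ _
          hu2 hne (fun y hy π' e' _ hc heq => ?_) huM
        have := D.el_inj S6 F ((hcentral y hy true e).symm.trans ((by rw [← hu]; exact heq :
          y * el f φ (pb t6 true, e) * y⁻¹ = el f φ (π', e'))))
        rw [← this] at hc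
        exact (by decide +kernel : ∀ e, chiA (pb t6 true, e) ≠ false) e hc
    · exfalso
      rw [show pb t6 a * pb (sw6 3) true = pb t6 a * sw6 3 by simp [pb]] at hu hin
      refine kill chiO (fun p q h h' e e' => (chi_hom p h q h' e e').2.1) ⟨sw6 3, false, hts, by decide +kernel⟩ _
        hu2 (fun h => ?_) (fun y hy π' e' hπ' hc heq => ?_) huM
      · have := D.el_inj S6 F ((hu.symm.trans (congrArg Subtype.val h)).trans (D.el_one S6 F).symm)
        exact (by decide +kernel : ∀ a : Bool, pb t6 a * sw6 3 ≠ 1) a (congrArg Prod.fst this)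
      have heq' : y * el f φ (pb t6 a * sw6 3, e) * y⁻¹ = el f φ (π', e') := by rw [← hu]; exact heq
      have hc' : chiO (π', false) = false := by rw [← (hchi π' hπ' e').2]; exact hc
      rcases outside_table a e π' hπ' hc' e' with h | ⟨x, z, hxz⟩
      · obtain ⟨b, rfl⟩ : ∃ b, π' = pb t6 b := by
          rcases h with h | h
          · exact ⟨false, h⟩
          · exact ⟨true, h⟩
        have := D.el_inj S6 F ((hcentral y hy b e').trans heq'.symm |> fun k => mul_left_cancel (mul_right_cancel k))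
        exact (by decide +kernel : ∀ a b : Bool, pb t6 b ≠ pb t6 a * sw6 3) a b (congrArg Prod.fst this)
      · have hq2 : π' * π' = 1 := by
          have : el f φ (π', e') * el f φ (π', e') = 1 := by
            rw [← heq, show y * u * y⁻¹ * (y * u * y⁻¹) = y * (u * u) * y⁻¹ by group, hu2, mul_one, mul_inv_cancel]
          rw [D.el_mul S6 F, ← D.el_one S6 F] at this
          exact congrArg Prod.fst (D.el_inj S6 F this)
        have h := D.lab_not_apart S6 F (p := (pb t6 a * sw6 3 * pb t6 x, e ^^ z)) (p' := (π' * pb t6 x, e' ^^ z))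
          (hSw a x) (inv_facts.2.2.2.2.1 π' hπ' hq2 x) (g := y) (by
            show y * el f φ (pb t6 a * sw6 3 * pb t6 x, e ^^ z) * y⁻¹ = el f φ (π' * pb t6 x, e' ^^ z)
            rw [← D.el_mul S6 F (pb t6 a * sw6 3, e) (pb t6 x, z), ← D.el_mul S6 F (π', e') (pb t6 x, z), ← heq',
              mul_assoc y _ y⁻¹, show el f φ (pb t6 a * sw6 3, e) * el f φ (pb t6 x, z) * y⁻¹ =
                el f φ (pb t6 a * sw6 3, e) * y⁻¹ * (y * el f φ (pb t6 x, z) * y⁻¹) by group, hcentral y hy]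
            group)
        rw [hxz] at h
        exact Bool.noConfusion h
  refine ⟨inter, ?_, fun v hv => ⟨_, hVM v hv, rfl⟩, ?_⟩
  · -- the centralizer of the three-cycle
    intro g hgM hgb
    obtain ⟨⟨qs, q0, hqs, hq0, hqs0⟩, ⟨qn, hqn, hqn'⟩, hsc, -⟩ := model_rel
    set s := φ (wM ⟨false, 0, 2⟩) with hs
    have hconjM : ∀ m : Mn, s * φ m * s⁻¹ = φ (wM ⟨false, 0, 2⟩ * m * (wM ⟨false, 0, 2⟩)⁻¹) := fun m => by
      rw [hmul, hmul, D.inv' (inL_all _)]
    have hst : s * f (sw6 3) * s⁻¹ = f t6 := by rw [← hqs, F.agree, hconjM, hqs0, ← F.agree, hq0]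
    have hsn : s * f ct * s⁻¹ = φ (wM nCw) := by rw [← hqn, F.agree, hconjM, hqn']
    have hsb : s * φ (jM (0, 0, 1)) * s⁻¹ = φ (jM (0, 1, 0)) := by rw [hs, D.act' (inL_all _), ← hsc]; rfl
    obtain ⟨h1, h2⟩ := mem_W0.1 g.2
    have hpull : ∀ x : G, (g : G) * (s * x * s⁻¹) = s * x * s⁻¹ * g → Commute (s⁻¹ * g * s) x := fun x hx => by
      show _ * _ = _ * _
      calc s⁻¹ * (g : G) * s * x = s⁻¹ * ((g : G) * (s * x * s⁻¹)) * s := by group
        _ = s⁻¹ * (s * x * s⁻¹ * g) * s := by rw [hx]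
        _ = _ := by group
    obtain ⟨π, w, hπ⟩ := D.cent_c_elems S6 F (hpull _ (by rw [hsb]; exact hgb)).eq
    have hcm : ∀ x, Commute (s⁻¹ * g * s) (f x) → π * x = x * π := fun x hx => F.inj (by
      have hm : Commute (φ (jM (0, 0, w))) (f x) := by rw [D.jpow]; exact (show Commute _ _ from F.c x).pow_left _
      have := hx.mul_left hm.inv_left
      rw [hπ, mul_inv_cancel_right] at this
      rw [map_mul, map_mul]; exact this.eq)
    obtain ⟨i, j, hij⟩ := cent_split π (hcm _ (hpull _ (by rw [hsn]; exact h2)))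
      (hcm _ (hpull _ (by rw [hst]; exact h1)))
    have hbw : s * φ (jM (0, 0, w)) * s⁻¹ = φ (jM (0, 1, 0)) ^ w.val := by
      rw [D.jpow, ← hsb, conj_pow]
    have hg' : (g : G) = s * f π * s⁻¹ * φ (jM (0, 1, 0)) ^ w.val := by
      rw [← hbw, show s * f π * s⁻¹ * (s * φ (jM (0, 0, w)) * s⁻¹) = s * (f π * φ (jM (0, 0, w))) * s⁻¹ by group,
        ← hπ]
      group
    have hbW : φ (jM (0, 1, 0)) ∈ W0 f φ := hfc ▸ hcW
    have hbM : (⟨φ (jM (0, 1, 0)), hbW⟩ : W0 f φ) ∈ M := hoddM _ (D.jcube _)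
    have huW : s * f π * s⁻¹ ∈ W0 f φ := by
      have := mul_mem g.2 (inv_mem (pow_mem hbW w.val))
      rwa [hg', mul_inv_cancel_right] at this
    have huM : (⟨s * f π * s⁻¹, huW⟩ : W0 f φ) ∈ M := by
      convert mul_mem hgM (inv_mem (pow_mem hbM w.val)) using 1
      exact Subtype.ext (by show s * f π * s⁻¹ = (g : G) * (φ (jM (0, 1, 0)) ^ w.val)⁻¹; rw [hg', mul_inv_cancel_right])
    have hsel : ∀ i j, s * f (pb ct i * pb (sw6 3) j) * s⁻¹ = el f φ (pb t6 j, i) := fun i j => by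
      rw [map_mul, show s * (f (pb ct i) * f (pb (sw6 3) j)) * s⁻¹ =
        s * f (pb ct i) * s⁻¹ * (s * f (pb (sw6 3) j) * s⁻¹) by group]
      rw [show el f φ (pb t6 j, i) = el f φ (1, i) * el f φ (pb t6 j, false) by
        rw [D.el_mul S6 F, one_mul, Bool.xor_false], D.el_f S6 F]
      congr 1
      · cases i
        · simp [pb, D.el_one S6 F]
        · rw [D.el_n S6 F]; exact hsn
      · cases j
        · simp [pb]
        · exact hst
    refine ⟨w, ?_⟩
    rcases hij with rfl | rfl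
    · rw [hsel i j] at hg'
      have huW' : el f φ (pb t6 j, i) ∈ W0 f φ := hsel i j ▸ huW
      have huM' : (⟨el f φ (pb t6 j, i), huW'⟩ : W0 f φ) ∈ M := by
        convert huM using 1
        exact Subtype.ext (hsel i j).symm
      obtain ⟨v, hv, he⟩ := inter ⟨el f φ (pb t6 j, i), huW'⟩ huM' (by
        rw [← D.el_f S6 F zP, D.el_mul S6 F, D.el_mul S6 F]
        cases j <;> simp [pb, htt.2])
      have h := D.el_inj S6 F (he.trans (D.el_f S6 F v).symm)
      have h' : j = false ∧ i = false :=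
        ⟨(by decide +kernel : ∀ j : Bool, ∀ v ∈ V6, pb t6 j = v → j = false) j v hv (congrArg Prod.fst h),
          congrArg Prod.snd h⟩
      obtain ⟨rfl, rfl⟩ := h'
      rw [hg', show el f φ (pb t6 false, false) = 1 from D.el_one S6 F, one_mul]
    · exfalso
      set π0 := x05 * (pb ct i * pb (sw6 3) j) with hπ0
      refine kill chiO (fun p q h h' e e' => (chi_hom p h q h' e e').2.1) ⟨sw6 3, false, hts, by decide +kernel⟩ _
        ?_ (fun h => ?_) (fun y hy π' e' hπ' hc heq => ?_) huM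
      · show s * f π0 * s⁻¹ * (s * f π0 * s⁻¹) = 1
        rw [show s * f π0 * s⁻¹ * (s * f π0 * s⁻¹) = s * (f π0 * f π0) * s⁻¹ by group, ← map_mul, hX2 i j,
          map_one, mul_one, mul_inv_cancel]
      · have h0 : s * f π0 * s⁻¹ = 1 := congrArg Subtype.val h
        rw [conj_eq_one_iff] at h0
        exact hXne i j false false ((F.inj (h0.trans (map_one f).symm)).trans (by simp [pb]))
      have heq' : y * (s * f π0 * s⁻¹) * y⁻¹ = el f φ (π', e') := heq
      have hc' : chiO (π', false) = false := by rw [← (hchi π' hπ' e').2]; exact hc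
      rcases rel_cent_table i j π' hπ' hc' e' with h | ⟨x, z, hxz⟩
      · obtain ⟨b, rfl⟩ : ∃ b, π' = pb t6 b := by
          rcases h with h | h
          · exact ⟨false, h⟩
          · exact ⟨true, h⟩
        have h0 := ((hcentral y hy b e').trans heq'.symm) |> fun k => mul_left_cancel (mul_right_cancel k)
        rw [← hsel e' b] at h0
        exact hXne i j e' b (F.inj (mul_left_cancel (mul_right_cancel h0))).symm
      · have hq2 : π' * π' = 1 := by
          have : el f φ (π', e') * el f φ (π', e') = 1 := by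
            rw [← heq', show y * (s * f π0 * s⁻¹) * y⁻¹ * (y * (s * f π0 * s⁻¹) * y⁻¹) =
              y * (s * (f π0 * f π0) * s⁻¹) * y⁻¹ by group, ← map_mul, hX2 i j, map_one, mul_one, mul_inv_cancel,
              mul_one, mul_inv_cancel]
          rw [D.el_mul S6 F, ← D.el_one S6 F] at this
          exact congrArg Prod.fst (D.el_inj S6 F this)
        have h := D.lab_not_apart S6 F (p := (π0 * (pb ct z * pb (sw6 3) x), false))
          (p' := (π' * pb t6 x, e' ^^ z)) (hXw i j x z) (inv_facts.2.2.2.2.1 π' hπ' hq2 x) (g := y * s) (by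
            show y * s * el f φ (π0 * (pb ct z * pb (sw6 3) x), false) * (y * s)⁻¹ = el f φ (π' * pb t6 x, e' ^^ z)
            rw [D.el_f S6 F, map_mul f π0,
              show y * s * (f π0 * f (pb ct z * pb (sw6 3) x)) * (y * s)⁻¹ =
                y * (s * f π0 * s⁻¹) * y⁻¹ * (y * (s * f (pb ct z * pb (sw6 3) x) * s⁻¹) * y⁻¹) by group,
              hsel z x, hcentral y hy, heq', D.el_mul S6 F])
        rw [hxz] at h
        exact Bool.noConfusion h
  · -- the Sylow subgroups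
    intro R hR hRM
    have hRW : R ≤ W0 f φ := fun g hg => by obtain ⟨h, -, e⟩ := hRM g hg; exact e ▸ h.2
    obtain ⟨Q, hQ⟩ := (hR.of_equiv (subgroupOfEquivOfLe hRW).symm).exists_le_sylow
    obtain ⟨c, hc⟩ := MulAction.exists_smul_eq (W0 f φ) Q P
    have hmem : ∀ r : R, ∃ v ∈ V6, (c : G) * r * (c : G)⁻¹ = f v := fun r => by
      have hm := smul_mem_pointwise_smul _ (MulAut.conj c) _
        (hQ (show (⟨r, hRW r.2⟩ : W0 f φ) ∈ R.subgroupOf _ from r.2))
      rw [← Sylow.coe_subgroup_smul, hc] at hm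
      obtain ⟨π, e, hπ, he⟩ := mem_subgroupOf.1 hm
      obtain ⟨h, hh, e'⟩ := hRM r r.2
      have hr : (⟨r, hRW r.2⟩ : W0 f φ) ∈ M := by
        convert hh using 1
        exact Subtype.ext e'.symm
      refine inter (MulAut.conj c • (⟨r, hRW r.2⟩ : W0 f φ)) ((sqGen_normal _).conj_mem _ hr c) ?_
      show ((c * ⟨r, hRW r.2⟩ * c⁻¹ : W0 f φ) : G) * f zP = f zP * ((c * ⟨r, hRW r.2⟩ * c⁻¹ : W0 f φ) : G)
      have he2 : ((c * ⟨r, hRW r.2⟩ * c⁻¹ : W0 f φ) : G) = el f φ (π, e) := he.symm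
      rw [he2, ← D.el_f S6 F zP, D.el_mul S6 F, D.el_mul S6 F, hπ.2, Bool.xor_comm]
    choose v hv hve using hmem
    have hle := Nat.card_le_card_of_injective (fun r : R => (⟨v r, hv r⟩ : {x // x ∈ V6})) fun r r' e => by
      have e' : v r = v r' := congrArg Subtype.val e
      exact Subtype.ext (mul_left_cancel (mul_right_cancel ((hve r).trans ((by rw [e'] : f (v r) = f (v r')).trans (hve r').symm))))
    refine hle.trans (le_of_eq ?_)
    rw [Nat.card_eq_fintype_card]
    decide +kernel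

end Frame

end Cfsg.Agent.NineSym
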