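import Cfsg.Agent.Lib.NineSym.Labels

/-!
# Tables for the centralizer of two disjoint transpositions
-/

set_option autoImplicit false
set_option linter.style.haveILetI false
set_option linter.unusedSectionVars false
set_option maxRecDepth 100000
set_option synthInstance.maxSize 10000

namespace Cfsg.Agent.NineSym

open Subgroup
open Cfsg.Agent.ExtraTwoNine.CoordPerm (P6)
open SymSix (cb cc ct cw)

/-- An optional factor. -/
def pb {α : Type*} [One α] (p : α) (b : Bool) : α := if b then p else 1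

/-- The transposition `(01)`. -/
def t6 : P6 := sw6 0
/-- The involution `(25)(34)`. -/
def zP : P6 := Equiv.swap 2 5 * Equiv.swap 3 4
/-- The four-group on the last four points. -/
def V6 : List P6 := [1, zP, Equiv.swap 2 3 * Equiv.swap 4 5, Equiv.swap 2 4 * Equiv.swap 3 5]
/-- The transposition `(05)`. -/
def x05 : P6 := Equiv.swap 0 5

/-- The centralizer of `(01)` and `(25)(34)`. -/
def inT6 (π : P6) : Prop := π * t6 = t6 * π ∧ π * zP = zP * π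

instance (π : P6) : Decidable (inT6 π) := inferInstanceAs (Decidable (_ ∧ _))

/-- Whether the first two points are exchanged. -/
def chiA (p : P6 × Bool) : Bool := decide (p.1 0 ≠ 0)
/-- Whether the part on the last four points is odd. -/
def chiO (p : P6 × Bool) : Bool := decide (Equiv.Perm.sign p.1 = -1) ^^ chiA p
/-- The third transposition. -/
def chiE (p : P6 × Bool) : Bool := p.2

theorem t6_split : ∀ π : P6, inT6 π → ∃ v ∈ V6, π = pb t6 (chiA (π, false)) *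
    pb (sw6 3) (chiO (π, false)) * v := by
  decide +kernel

theorem chi_hom : ∀ π : P6, inT6 π → ∀ π' : P6, inT6 π' → ∀ e e' : Bool,
    chiA (π * π', e ^^ e') = (chiA (π, e) ^^ chiA (π', e')) ∧
    chiO (π * π', e ^^ e') = (chiO (π, e) ^^ chiO (π', e')) ∧
    π * π' * π⁻¹ * π'⁻¹ ∈ [1, zP] := by
  decide +kernel

theorem t6_facts : (inT6 1 ∧ inT6 t6 ∧ inT6 zP ∧ inT6 (sw6 3) ∧ (∀ v ∈ V6, inT6 v)) ∧
    (∀ π, inT6 π → inT6 π⁻¹ ∧ π ^ 4 = 1) ∧ (∀ π, inT6 π → ∀ π', inT6 π' → inT6 (π * π')) ∧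
    (sw6 3 * (Equiv.swap 2 3 * Equiv.swap 4 5) * (sw6 3)⁻¹ * (Equiv.swap 2 3 * Equiv.swap 4 5)⁻¹ = zP) ∧
    (∃ κ : P6, κ * cw * κ⁻¹ = zP * t6) ∧ zP ≠ 1 := by
  decide +kernel

theorem outside_table : ∀ a e : Bool, ∀ π' : P6, inT6 π' → chiO (π', false) = false →
    ∀ e' : Bool, (π' = 1 ∨ π' = t6) ∨ ∃ x y : Bool,
      apart (lab (pb t6 a * sw6 3 * pb t6 x, e ^^ y)) (lab (π' * pb t6 x, e' ^^ y)) = true := by
  decide +kernel

theorem rel_cent_table : ∀ i j : Bool, ∀ π' : P6, inT6 π' → chiO (π', false) = false →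
    ∀ e' : Bool, (π' = 1 ∨ π' = t6) ∨ ∃ x y : Bool,
      apart (lab (x05 * (pb ct i * pb (sw6 3) j) * (pb ct y * pb (sw6 3) x), false))
        (lab (π' * pb t6 x, e' ^^ y)) = true := by
  decide +kernel

theorem cent_split : ∀ π : P6, π * ct = ct * π → π * sw6 3 = sw6 3 * π →
    ∃ i j : Bool, π = pb ct i * pb (sw6 3) j ∨ π = x05 * (pb ct i * pb (sw6 3) j) := by
  decide +kernel

theorem inv_facts : (∀ a b : Bool, (pb t6 a * pb t6 b) = pb t6 (a ^^ b)) ∧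
    (∀ i j : Bool, (x05 * (pb ct i * pb (sw6 3) j)) * (x05 * (pb ct i * pb (sw6 3) j)) = 1) ∧
    (∀ a : Bool, pb t6 a * sw6 3 * (pb t6 a * sw6 3) = 1) ∧
    (∀ i j i' j' : Bool, x05 * (pb ct i * pb (sw6 3) j) ≠ pb ct i' * pb (sw6 3) j') ∧
    (∀ π : P6, inT6 π → π * π = 1 → ∀ a : Bool, π * pb t6 a * (π * pb t6 a) = 1) ∧
    (∀ i j x y : Bool, x05 * (pb ct i * pb (sw6 3) j) * (pb ct y * pb (sw6 3) x) *
      (x05 * (pb ct i * pb (sw6 3) j) * (pb ct y * pb (sw6 3) x)) = 1) ∧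
    (∀ a x : Bool, pb t6 a * sw6 3 * pb t6 x * (pb t6 a * sw6 3 * pb t6 x) = 1) ∧
    (∀ v ∈ V6, v ≠ 1 → ∃ i : Fin 3, cc ^ i.val * zP * (cc ^ i.val)⁻¹ = v) ∧
    (cc * zP * cc⁻¹ = Equiv.swap 2 3 * Equiv.swap 4 5 ∧
      zP = sw6 3 * (Equiv.swap 2 3 * Equiv.swap 4 5) * (sw6 3 * (Equiv.swap 2 3 * Equiv.swap 4 5)) ∧
      Equiv.swap 2 4 * Equiv.swap 3 5 = zP * (Equiv.swap 2 3 * Equiv.swap 4 5)) ∧
    (∀ π, inT6 π → ∀ e : Bool, chiA (π, e) = chiA (π, false) ∧ chiO (π, e) = chiO (π, false)) := by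
  decide +kernel

theorem model_rel : (∃ q q0, word6 q = sw6 3 ∧ word6 q0 = t6 ∧
      wM ⟨false, 0, 2⟩ * wordM q * (wM ⟨false, 0, 2⟩)⁻¹ = wordM q0) ∧
    (∃ q, word6 q = ct ∧ wM ⟨false, 0, 2⟩ * wordM q * (wM ⟨false, 0, 2⟩)⁻¹ = wM nCw) ∧
    wact ⟨false, 0, 2⟩ (0, 0, 1) = (0, 1, 0) ∧
    (∃ q, word6 q = cc ∧ wordM q = jM (0, 1, 0)) ∧
    (∀ e e' : Bool, mC 0 e * mC 0 e' = mC 0 (e ^^ e')) ∧
    (∀ (u : ZMod 3) (e : Bool), mC u e * wM nCw = wM nCw * mC u e → u = 0) ∧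
    mC 0 true = wM nCw ∧ mC 0 false = 1 := by
  decide +kernel

end Cfsg.Agent.NineSym
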