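import Cfsg.Agent.Lib.NineSym.Tools
import Cfsg.Agent.Lib.NineSym.Model

/-!
# Coordinates from the centralizer of the element of order three
-/

set_option autoImplicit false
set_option linter.style.haveILetI false
set_option linter.unusedSectionVars false
set_option maxRecDepth 100000
set_option synthInstance.maxSize 10000

namespace Cfsg.Agent.NineSym

open Subgroup

variable {G : Type*} [Group G] [Finite G]

/-- Coordinates of the centralizer of `x = θ (1, 1, 1)`. -/
structure Base (J : Subgroup G) (θ : V3 → G) (sp : Fin 6 → G) : Prop where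
  tadd : ∀ u v, θ (u + v) = θ u * θ v
  tinj : Function.Injective θ
  memJ : ∀ g, g ∈ J ↔ ∃ v, θ v = g
  smul : ∀ p q, sp (pmul p q) = sp p * sp q
  sinj : ∀ v p, sp p = θ v → p = 0
  act : ∀ p v, sp p * θ v * (sp p)⁻¹ = θ (pact p v)
  cent : ∀ g, g * θ (1, 1, 1) = θ (1, 1, 1) * g → ∃ v p, g = θ v * sp p
  sig : ∀ R : Subgroup G, (Nat.card R).Coprime 3 → J ≤ normalizer (R : Set G) → R = ⊥

/-- The model element with given coordinates. -/
def qM (q : V3 × Fin 6) : Mn := ⟨q.1, ⟨false, 0, q.2⟩⟩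

/-- Commutation in coordinates. -/
def pcomm (q r : V3 × Fin 6) : Bool :=
  pmul q.2 r.2 == pmul r.2 q.2 && q.1 + pact q.2 r.1 == r.1 + pact r.2 q.1

theorem pact_faithful : ∀ p : Fin 6, pact p (1, 0, 0) = (1, 0, 0) → pact p (0, 1, 0) = (0, 1, 0) → p = 0 := by
  decide +kernel

theorem center_table : ∀ v : V3, v ≠ 0 → pact 1 v = v → v = (1, 1, 1) ∨ v = (2, 2, 2) := by decide +kernel

theorem c0_cent_small : ∀ q : V3 × Fin 6, q.2 ≠ 0 →
    ((Finset.univ : Finset (V3 × Fin 6)).filter fun r => pcomm q r = true).card < 27 := by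
  decide +kernel

theorem pcomm_of_comm {q r : V3 × Fin 6} (h : qM q * qM r = qM r * qM q) : pcomm q r = true := by
  have hw : ∀ q : V3 × Fin 6, ∀ v, wact (qM q).w v = pact q.2 v := fun q v => by simp [qM, wact, eact, dact]
  have h1 : q.1 + pact q.2 r.1 = r.1 + pact r.2 q.1 := by
    have := congrArg Mn.v h
    change q.1 + wact (qM q).w r.1 = r.1 + wact (qM r).w q.1 at this
    rwa [hw, hw] at this
  have h2 : pmul q.2 r.2 = pmul r.2 q.2 := congrArg (fun g : Mn => g.w.p) h
  simp [pcomm, h1, h2]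

theorem elP_qM : ∀ q, elP (qM q) = jP q.1 * piP q.2 := fun q => by
  simp [elP, qM, wP, dP]

theorem qM_facts : (∀ q, (qM q).w.e = false ∧ (qM q).w.k = 0) ∧ (∀ v, qM (v, 0) = jM v) ∧
    Function.Injective qM :=
  ⟨fun _ => ⟨rfl, rfl⟩, fun _ => rfl, fun a b h => by
    simp only [qM, Mn.mk.injEq, Wt.mk.injEq, true_and] at h
    exact Prod.ext h.1 h.2⟩

theorem qM_zero : ∀ p, qM (0, p) = wM ⟨false, 0, p⟩ := fun _ => rfl

theorem qM_act : ∀ p, ∀ v, qM (0, p) * jM v = jM (pact p v) * qM (0, p) := by decide +kernel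

theorem qM_mul : ∀ p q, qM (0, pmul p q) = qM (0, p) * qM (0, q) := by decide +kernel

/-- An abelian subgroup of order 27 of the centralizer is the group of diagonal elements. -/
theorem abelian_eq (A : Subgroup S9) (hA : ∀ a ∈ A, ∃ q, elP (qM q) = a)
    (hcomm : ∀ a ∈ A, ∀ b ∈ A, a * b = b * a) (hcard : Nat.card A = 27) :
    ∀ a ∈ A, ∃ v, jP v = a := by
  intro a ha
  obtain ⟨⟨v, p⟩, rfl⟩ := hA a ha
  rcases eq_or_ne p 0 with rfl | hp
  · exact ⟨v, by rw [elP_qM]; exact (mul_one _).symm⟩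
  exfalso
  have h := c0_cent_small (v, p) hp
  have hle : Nat.card A ≤ ((Finset.univ : Finset (V3 × Fin 6)).filter fun q => pcomm (v, p) q = true).card := by
    rw [← Fintype.card_coe, ← Nat.card_eq_fintype_card]
    refine Nat.card_le_card_of_injective (fun b : A => ⟨(hA b b.2).choose, ?_⟩) fun b c e => ?_
    · simp only [Finset.mem_filter, Finset.mem_univ, true_and]
      refine pcomm_of_comm ?_
      apply elP_inj
      show elP (qM (v, p) * qM _) = elP (qM _ * qM (v, p))
      rw [elP_mul, elP_mul, (hA b b.2).choose_spec]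
      exact hcomm _ ha _ b.2
    · have h1 := (hA b b.2).choose_spec
      have h2 := (hA c c.2).choose_spec
      simp only [Subtype.mk.injEq] at e
      exact Subtype.ext (h1.symm.trans ((congrArg (fun q => elP (qM q)) e).trans h2))
  omega

theorem exists_base (x : G) (hx : orderOf x = 3)
    (eC : centralizer ({x} : Set G) ≃* centralizer ({x0} : Set S9))
    (J : Subgroup G) (hJC : J ≤ centralizer ({x} : Set G)) (hJcomm : IsMulCommutative J)
    (hJcard : Nat.card J = 27)
    (hJsig : ∀ K : Subgroup G, (Nat.card K).Coprime 3 →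
      (∀ j ∈ J, K.map (MulAut.conj j).toMonoidHom = K) → K = ⊥) :
    ∃ θ sp, Base J θ sp := by
  classical
  haveI : Fact (Nat.Prime 3) := ⟨Nat.prime_three⟩
  obtain ⟨hx0, hjx, hpx, -, -⟩ := x0_facts
  have hqC : ∀ q, elP (qM q) ∈ centralizer ({x0} : Set S9) := fun q => mem_centralizer_singleton_iff.2 (by
    rw [elP_qM, mul_assoc, hpx, ← mul_assoc, hjx, mul_assoc])
  have hCq : ∀ g : centralizer ({x0} : Set S9), ∃ q, elP (qM q) = (g : S9) := fun g => by
    obtain ⟨v, i, e⟩ := cent_x0 (mem_centralizer_singleton_iff.1 g.2)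
    exact ⟨(v, i), by rw [elP_qM, e]⟩
  let ψ : V3 × Fin 6 → G := fun q => (eC.symm ⟨elP (qM q), hqC q⟩ : G)
  have ψmul : ∀ a b c, qM a * qM b = qM c → ψ a * ψ b = ψ c := fun a b c h => by
    simp only [ψ, ← Subgroup.coe_mul, ← map_mul]
    congr 2
    exact Subtype.ext (by rw [Subgroup.coe_mul, ← elP_mul, h])
  have ψinj : Function.Injective ψ := fun a b h => by
    have := eC.symm.injective (Subtype.ext h)
    exact qM_facts.2.2 (elP_inj (congrArg Subtype.val this))
  -- the element `x`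
  let xC : centralizer ({x} : Set G) := ⟨x, mem_centralizer_singleton_iff.2 rfl⟩
  obtain ⟨q0, hq0⟩ := hCq (eC xC)
  have hxq : ψ q0 = x := by
    have : (⟨elP (qM q0), hqC q0⟩ : centralizer ({x0} : Set S9)) = eC xC := Subtype.ext hq0
    simp only [ψ, this, MulEquiv.symm_apply_apply, xC]
  have hx3 : x ^ 3 = 1 := hx ▸ pow_orderOf_eq_one x
  have hcent : ∀ b, qM q0 * qM b = qM b * qM q0 := fun b => by
    have hb : ψ b ∈ centralizer ({x} : Set G) := (eC.symm _).2
    have h1 : Commute xC (eC.symm ⟨elP (qM b), hqC b⟩) :=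
      Subtype.ext (mem_centralizer_singleton_iff.1 hb).symm
    have h2 := congrArg Subtype.val (h1.map eC.toMonoidHom).eq
    simp only [MulEquiv.coe_toMonoidHom, MulEquiv.apply_symm_apply, Subgroup.coe_mul, ← hq0, ← elP_mul] at h2
    exact elP_inj h2
  have hq1 : qM q0 ≠ 1 := fun h => by
    have h1 : eC xC = 1 := Subtype.ext (by rw [← hq0, h, elP_one]; rfl)
    rw [map_eq_one_iff eC eC.injective] at h1
    have : x = 1 := congrArg Subtype.val h1
    rw [this, orderOf_one] at hx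
    norm_num at hx
  have hq3 : qM q0 * qM q0 * qM q0 = 1 := elP_inj (by
    rw [elP_mul, elP_mul, elP_one, hq0, ← Subgroup.coe_mul, ← Subgroup.coe_mul, ← map_mul, ← map_mul,
      show xC * xC * xC = 1 from Subtype.ext (by
        simp only [Subgroup.coe_mul, Subgroup.coe_one, xC]
        rw [← hx3, pow_succ, pow_two]), map_one]
    rfl)
  obtain ⟨s, hs, hsx⟩ : ∃ s : ZMod 3, s * s = 1 ∧ q0 = ((s, s, s), 0) := by
    obtain ⟨v0, p0⟩ := q0
    have hv : ∀ v, v0 + pact p0 v = v + v0 := fun v => by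
      have h := pcomm_of_comm (hcent (v, 0))
      simp only [pcomm, Bool.and_eq_true, beq_iff_eq] at h
      simpa [pact] using h.2
    have hpv : ∀ v, pact p0 v = v := fun v => add_left_cancel ((hv v).trans (add_comm _ _))
    obtain rfl : p0 = 0 := pact_faithful p0 (hpv _) (hpv _)
    have hv0 : v0 ≠ 0 := fun e => hq1 (by rw [e]; rfl)
    have h := pcomm_of_comm (hcent (0, 1))
    simp only [pcomm, Bool.and_eq_true, beq_iff_eq] at h
    rcases center_table v0 hv0 (by simpa [pact] using h.2.symm) with e | e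
    · exact ⟨1, (by rfl : (1 : ZMod 3) * 1 = 1), by rw [e]⟩
    · exact ⟨2, (by rfl : (2 : ZMod 3) * 2 = 1), by rw [e]⟩
  let sc : V3 → V3 := fun v => (s * v.1, s * v.2.1, s * v.2.2)
  have scsc : ∀ v, sc (sc v) = v := fun v => by simp [sc, ← mul_assoc, hs]
  refine ⟨fun v => ψ (sc v, 0), fun p => ψ (0, p), ?_⟩
  have hsx' : ψ (sc (1, 1, 1), 0) = x := by rw [← hxq, hsx]; simp [sc]
  -- the subgroup
  let A : Subgroup S9 := ((J.subgroupOf (centralizer ({x} : Set G))).map eC.toMonoidHom).map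
    (centralizer ({x0} : Set S9)).subtype
  have hAcard : Nat.card A = 27 := by
    rw [card_map_of_injective (Subgroup.subtype_injective _), card_map_of_injective eC.injective,
      Nat.card_congr (subgroupOfEquivOfLe hJC).toEquiv, hJcard]
  have hA := abelian_eq A (by rintro _ ⟨g, -, rfl⟩; exact hCq g) (by
    rintro _ ⟨_, ⟨a, ha, rfl⟩, rfl⟩ _ ⟨_, ⟨b, hb, rfl⟩, rfl⟩
    rw [← map_mul, ← map_mul, ← map_mul, ← map_mul]
    have : a * b = b * a := Subtype.ext
      (congrArg Subtype.val (hJcomm.1.1 ⟨a, ha⟩ ⟨b, hb⟩) : (a : G) * b = b * a)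
    rw [this]) hAcard
  have hJsub : ∀ g ∈ J, ∃ v, ψ (sc v, 0) = g := by
    intro g hg
    obtain ⟨v, hv⟩ := hA _ ⟨eC ⟨g, hJC hg⟩, ⟨⟨g, hJC hg⟩, hg, rfl⟩, rfl⟩
    refine ⟨sc v, ?_⟩
    rw [scsc]
    have : (⟨elP (qM (v, 0)), hqC _⟩ : centralizer ({x0} : Set S9)) = eC ⟨g, hJC hg⟩ :=
      Subtype.ext (show elP (qM (v, 0)) = _ from (elP_qM (v, 0)).trans (by simpa [piP] using hv))
    simp only [ψ, this, MulEquiv.symm_apply_apply]
  have hθinj : Function.Injective fun v => ψ (sc v, 0) := fun a b h => by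
    have := congrArg sc (congrArg Prod.fst (ψinj h))
    rwa [scsc, scsc] at this
  refine ⟨fun u v => ?_, hθinj, fun g => ⟨hJsub g, ?_⟩, fun p q => (ψmul _ _ _ (qM_mul p q).symm).symm,
    fun v p h => congrArg Prod.snd (ψinj h), fun p v => ?_, fun g hg => ?_, fun R hR hn => ?_⟩
  · refine (ψmul _ _ _ ?_).symm
    rw [qM_facts.2.1, qM_facts.2.1, qM_facts.2.1, ← jM_add]
    congr 1
    simp [sc, mul_add]
  · rintro ⟨v, rfl⟩
    have himg : Set.range (fun v => ψ (sc v, 0)) = (J : Set G) := by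
      refine (Set.eq_of_subset_of_ncard_le (s := (J : Set G)) (t := Set.range fun v => ψ (sc v, 0))
        (fun g hg => hJsub g hg) ?_ (Set.toFinite _)).symm
      rw [← Nat.card_coe_set_eq, ← Nat.card_coe_set_eq,
        Nat.card_range_of_injective hθinj,
        show Nat.card ((J : Set G)) = Nat.card J from rfl, hJcard]
      simp
    exact himg.le ⟨v, rfl⟩
  · rw [mul_inv_eq_iff_eq_mul]
    have h1 : qM (0, p) * qM (sc v, 0) = qM (pact p (sc v), p) := by
      rw [qM_facts.2.1, qM_act]; exact (mn_split _ _).symm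
    have h2 : qM (sc (pact p v), 0) * qM (0, p) = qM (pact p (sc v), p) := by
      rw [qM_facts.2.1, show sc (pact p v) = pact p (sc v) by fin_cases p <;> rfl]
      exact (mn_split _ _).symm
    exact (ψmul _ _ _ h1).trans (ψmul _ _ _ h2).symm
  · rw [hsx'] at hg
    obtain ⟨⟨v, p⟩, hq⟩ := hCq (eC ⟨g, mem_centralizer_singleton_iff.2 hg⟩)
    refine ⟨sc v, p, ?_⟩
    rw [scsc]
    have h1 : qM (v, 0) * qM (0, p) = qM (v, p) := (mn_split _ _).symm
    rw [ψmul _ _ _ h1]
    have : (⟨elP (qM (v, p)), hqC _⟩ : centralizer ({x0} : Set S9)) =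
        eC ⟨g, mem_centralizer_singleton_iff.2 hg⟩ := Subtype.ext hq
    simp only [ψ, this, MulEquiv.symm_apply_apply]
  · exact hJsig R hR fun j hj => mem_normalizer_iff_map_conj_eq.1 (hn hj)

end Cfsg.Agent.NineSym
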