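import Cfsg.Agent.Lib.ThreeTransp.SymStep.Coxeter
import Cfsg.Agent.Lib.ExtraTwoNine.CoordPerm

/-!
# The symmetric groups of degree nine and six

A homomorphism out of `S₉` from involutions with the braid relations, and the normalisation of an
isomorphism with `S₆` on a pair of commuting elements of order three.
-/

set_option autoImplicit false
set_option maxRecDepth 20000
set_option synthInstance.maxSize 10000
set_option maxHeartbeats 4000000

namespace Cfsg.Agent.NineSym

open CharTheory.AltPresentation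
open Cfsg.Agent.ExtraTwoNine.CoordPerm (P6 theta thetaHom theta_apply)

theorem sw_seven : ∀ i : Fin 8, sw 7 i.val = Equiv.swap i.castSucc i.succ := by decide +kernel

/-- The presentation of `S₉` by the eight adjacent transpositions. -/
theorem exists_hom9 {G : Type*} [Group G] (s : Fin 8 → G) (hsq : ∀ i, s i * s i = 1)
    (hadj : ∀ i j : Fin 8, i.val + 1 = j.val → (s i * s j) ^ 3 = 1)
    (hfar : ∀ i j : Fin 8, i.val + 1 < j.val → s i * s j = s j * s i) :
    ∃ f : Equiv.Perm (Fin 9) →* G, ∀ i : Fin 8, f (Equiv.swap i.castSucc i.succ) = s i := by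
  obtain ⟨f, hf⟩ := ThreeTransp.SymStep.exists_hom
    (s := fun k => if h : k < 8 then s ⟨k, h⟩ else 1) (n := 7) (by norm_num)
    { sq := fun i hi => by
        rw [dif_pos (show i < 8 by omega)]; exact hsq _
      adj := fun i hi => by
        rw [dif_pos (show i < 8 by omega), dif_pos (show i + 1 < 8 by omega)]
        exact hadj _ _ rfl
      far := fun i j hij hj => by
        rw [dif_pos (show i < 8 by omega), dif_pos (show j < 8 by omega)]
        exact hfar _ _ hij }
  refine ⟨f, fun i => ?_⟩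
  have := hf i.val (by omega)
  rw [sw_seven i, dif_pos i.2] at this
  exact this

namespace SymSix

/-- The first three-cycle. -/
def cb : P6 := Equiv.swap 0 1 * Equiv.swap 1 2
/-- The second three-cycle. -/
def cc : P6 := Equiv.swap 3 4 * Equiv.swap 4 5
/-- A transposition inverting the first and centralising the second. -/
def ct : P6 := Equiv.swap 1 2
/-- An involution exchanging the two three-cycles. -/
def cw : P6 := Equiv.swap 0 3 * Equiv.swap 1 4 * Equiv.swap 2 5

theorem classes_three : ∀ b : P6, b * b * b = 1 → b ≠ 1 →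
    ∃ σ : P6, σ * b * σ⁻¹ = cb ∨ σ * b * σ⁻¹ = cb * cc := by decide +kernel

theorem theta_cb : ∃ σ : P6, σ * thetaHom cb * σ⁻¹ = cb * cc := by decide +kernel

theorem second_three : ∀ c : P6, c * c * c = 1 → cb * c = c * cb → c ≠ 1 → c ≠ cb → c ≠ cb⁻¹ →
    ∀ w : P6, w * w = 1 → w * cb * w = c → c = cc ∨ c = cc⁻¹ := by decide +kernel

theorem inverting : ∀ t : P6, t * t = 1 → t * cb * t = cb⁻¹ → t * cc = cc * t →
    t = ct ∨ t = cb * ct * cb⁻¹ ∨ t = cb⁻¹ * ct * cb := by decide +kernel

theorem swapping : ∀ w : P6, w * w = 1 → w * cb * w = cc →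
    w = cw ∨ w = cc * cw * cc⁻¹ ∨ w = cc⁻¹ * cw * cc := by decide +kernel

theorem model_facts : Equiv.swap 4 5 * cb * (Equiv.swap 4 5)⁻¹ = cb ∧
    Equiv.swap 4 5 * cc⁻¹ * (Equiv.swap 4 5)⁻¹ = cc ∧ cb * cc = cc * cb ∧
    cc * ct = ct * cc := by decide +kernel

variable {K : Type*} [Group K]

/-- An isomorphism sends the four standard elements to the given ones. -/
def Good (b c t w : K) : Prop :=
  ∃ f : P6 ≃* K, f cb = b ∧ f cc = c ∧ f ct = t ∧ f cw = w

theorem Good.map {L : Type*} [Group L] {b c t w : K} (h : Good b c t w) (φ : K ≃* L) :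
    Good (φ b) (φ c) (φ t) (φ w) := by
  obtain ⟨f, h1, h2, h3, h4⟩ := h
  exact ⟨f.trans φ, by simp [h1], by simp [h2], by simp [h3], by simp [h4]⟩

theorem Good.of_map {L : Type*} [Group L] {b c t w : K} (φ : K ≃* L)
    (h : Good (φ b) (φ c) (φ t) (φ w)) : Good b c t w := by
  simpa using h.map φ.symm

theorem good_ct {t w : P6} (ht : t * t = 1) (htb : t * cb * t = cb⁻¹) (htc : t * cc = cc * t)
    (hw : w * w = 1) (hwb : w * cb * w = cc) : Good cb cc t w := by
  have key : ∀ w : P6, w * w = 1 → w * cb * w = cc → Good cb cc ct w := by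
    intro w hw hwb
    have hbc : cc * cb * cc⁻¹ = cb := by
      rw [← model_facts.2.2.1, mul_inv_cancel_right]
    have hct : cc * ct * cc⁻¹ = ct := by rw [model_facts.2.2.2, mul_inv_cancel_right]
    rcases swapping w hw hwb with rfl | rfl | rfl
    · exact ⟨MulEquiv.refl _, rfl, rfl, rfl, rfl⟩
    · refine ⟨MulAut.conj cc, ?_, ?_, ?_, rfl⟩ <;> simp only [MulAut.conj_apply]
      · exact hbc
      · rw [mul_inv_cancel_right]
      · exact hct
    · refine ⟨MulAut.conj cc⁻¹, ?_, ?_, ?_, ?_⟩ <;> simp only [MulAut.conj_apply, inv_inv]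
      · nth_rw 1 [← hbc]; group
      · group
      · nth_rw 1 [← hct]; group
  have hfix : cb * cb * cb⁻¹ = cb := mul_inv_cancel_right _ _
  have hbc : cb * cc * cb⁻¹ = cc := by rw [model_facts.2.2.1, mul_inv_cancel_right]
  rcases inverting t ht htb htc with rfl | rfl | rfl
  · exact key w hw hwb
  · refine Good.of_map (MulAut.conj cb⁻¹) ?_
    simp only [MulAut.conj_apply, inv_inv]
    have h1 : cb⁻¹ * cc * cb = cc := by nth_rw 1 [← hbc]; group
    rw [show cb⁻¹ * cb * cb = cb by group, h1,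
      show cb⁻¹ * (cb * ct * cb⁻¹) * cb = ct by group]
    refine key _ ?_ ?_
    · rw [show cb⁻¹ * w * cb * (cb⁻¹ * w * cb) = cb⁻¹ * (w * w) * cb by group, hw]; group
    · rw [show cb⁻¹ * w * cb * cb * (cb⁻¹ * w * cb) = cb⁻¹ * (w * cb * w) * cb by group, hwb, h1]
  · refine Good.of_map (MulAut.conj cb) ?_
    simp only [MulAut.conj_apply]
    rw [hfix, hbc, show cb * (cb⁻¹ * ct * cb) * cb⁻¹ = ct by group]
    refine key _ ?_ ?_
    · rw [show cb * w * cb⁻¹ * (cb * w * cb⁻¹) = cb * (w * w) * cb⁻¹ by group, hw]; group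
    · rw [show cb * w * cb⁻¹ * cb * (cb * w * cb⁻¹) = cb * (w * cb * w) * cb⁻¹ by group, hwb, hbc]

/-- The relations between the four elements. -/
structure Quad (b c t w : K) : Prop where
  hb : b * b * b = 1
  hc : c * c * c = 1
  hb1 : b ≠ 1
  hbc : b * c = c * b
  c1 : c ≠ 1
  cb_ne : c ≠ b
  cb_inv : c ≠ b⁻¹
  ht : t * t = 1
  htb : t * b * t = b⁻¹
  htc : t * c = c * t
  hw : w * w = 1
  hwb : w * b * w = c

theorem Quad.map {L : Type*} [Group L] {b c t w : K} (h : Quad b c t w) (φ : K ≃* L) :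
    Quad (φ b) (φ c) (φ t) (φ w) where
  hb := by rw [← map_mul, ← map_mul, h.hb, map_one]
  hc := by rw [← map_mul, ← map_mul, h.hc, map_one]
  hb1 := fun e => h.hb1 (φ.injective (e.trans (map_one φ).symm))
  hbc := by rw [← map_mul, h.hbc, map_mul]
  c1 := fun e => h.c1 (φ.injective (e.trans (map_one φ).symm))
  cb_ne := fun e => h.cb_ne (φ.injective e)
  cb_inv := fun e => h.cb_inv (φ.injective (e.trans (map_inv φ b).symm))
  ht := by rw [← map_mul, h.ht, map_one]
  htb := by rw [← map_mul, ← map_mul, h.htb, map_inv]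
  htc := by rw [← map_mul, h.htc, map_mul]
  hw := by rw [← map_mul, h.hw, map_one]
  hwb := by rw [← map_mul, ← map_mul, h.hwb]

theorem good_cb {c t w : P6} (h : Quad cb c t w) : Good cb c t w := by
  rcases second_three c h.hc h.hbc h.c1 h.cb_ne h.cb_inv w h.hw h.hwb with rfl | rfl
  · exact good_ct h.ht h.htb h.htc h.hw h.hwb
  · have h' := h.map (MulAut.conj (Equiv.swap 4 5 : P6))
    refine Good.of_map (MulAut.conj (Equiv.swap 4 5 : P6)) ?_
    simp only [MulAut.conj_apply, model_facts.1, model_facts.2.1] at h' ⊢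
    exact good_ct h'.ht h'.htb h'.htc h'.hw h'.hwb

theorem good_of_quad {b c t w : P6} (h : Quad b c t w) : Good b c t w := by
  obtain ⟨σ, hσ | hσ⟩ := classes_three b h.hb h.hb1
  · have h' := h.map (MulAut.conj σ)
    have hσ' : MulAut.conj σ b = cb := hσ
    rw [hσ'] at h'
    refine Good.of_map (MulAut.conj σ) ?_
    rw [hσ']
    exact good_cb h'
  · obtain ⟨ρ, hρ⟩ := theta_cb
    have hφ : ((MulAut.conj σ).trans ((MulAut.conj ρ).symm.trans theta.symm)) b = cb := by
      rw [MulEquiv.trans_apply, MulEquiv.trans_apply, MulEquiv.symm_apply_eq, theta_apply,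
        MulEquiv.symm_apply_eq]
      exact hσ.trans hρ.symm
    have h' := h.map ((MulAut.conj σ).trans ((MulAut.conj ρ).symm.trans theta.symm))
    rw [hφ] at h'
    refine Good.of_map ((MulAut.conj σ).trans ((MulAut.conj ρ).symm.trans theta.symm)) ?_
    rw [hφ]
    exact good_cb h'

end SymSix

open SymSix in
/-- An isomorphism with `S₆` taking prescribed values at two three-cycles, a transposition and an
involution exchanging the three-cycles. -/
theorem sym6_extend {K : Type*} [Group K] [Finite K] (e : K ≃* Equiv.Perm (Fin 6)) (b c t w : K)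
    (hb : b ^ 3 = 1) (hc : c ^ 3 = 1) (hb1 : b ≠ 1) (hbc : b * c = c * b)
    (hc' : c ≠ 1 ∧ c ≠ b ∧ c ≠ b⁻¹) (ht : t * t = 1) (htb : t * b * t = b⁻¹) (htc : t * c = c * t)
    (hw : w * w = 1) (hwb : w * b * w = c) (_htw : Commute t (w * t * w)) :
    ∃ f : Equiv.Perm (Fin 6) ≃* K, f (Equiv.swap 0 1 * Equiv.swap 1 2) = b ∧
      f (Equiv.swap 3 4 * Equiv.swap 4 5) = c ∧ f (Equiv.swap 1 2) = t ∧
      f (Equiv.swap 0 3 * Equiv.swap 1 4 * Equiv.swap 2 5) = w := by
  have h : Quad b c t w :=
    ⟨by rw [← pow_three']; exact hb, by rw [← pow_three']; exact hc, hb1, hbc, hc'.1, hc'.2.1,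
      hc'.2.2, ht, htb, htc, hw, hwb⟩
  obtain ⟨f, h1, h2, h3, h4⟩ := Good.of_map e (good_of_quad (h.map e))
  exact ⟨f, h1, h2, h3, h4⟩

end Cfsg.Agent.NineSym
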