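import Cfsg.Agent.Lib.NineSym.MonBase
import Cfsg.Agent.Lib.NineSym.SymTools

/-!
# The isomorphism with the symmetric group of degree six, normalised by the frame
-/

set_option autoImplicit false
set_option linter.style.haveILetI false
set_option linter.unusedSectionVars false
set_option maxRecDepth 100000
set_option synthInstance.maxSize 10000

namespace Cfsg.Agent.NineSym

open Subgroup
open Cfsg.Agent.ExtraTwoNine.CoordPerm (P6)
open SymSix (cb cc ct cw)

/-- A word in the standard elements of the group of the two blocks. -/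
def word6 (q : Fin 3 × Fin 3 × Fin 4 × Fin 2) : P6 :=
  cb ^ q.1.val * cc ^ q.2.1.val * (ct * cw) ^ q.2.2.1.val * ct ^ q.2.2.2.val

/-- The same word in the model. -/
def wordM (q : Fin 3 × Fin 3 × Fin 4 × Fin 2) : Mn :=
  jM (1, 0, 0) ^ q.1.val * jM (0, 1, 0) ^ q.2.1.val * (wM nAw * wM rhoW) ^ q.2.2.1.val *
    wM nAw ^ q.2.2.2.val

/-- The five adjacent transpositions. -/
def sw6 (i : Fin 5) : P6 := Equiv.swap i.castSucc i.succ

theorem perm6_induction {p : P6 → Prop} (h1 : p 1) (hs : ∀ i, p (sw6 i))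
    (hm : ∀ x y, p x → p y → p (x * y)) (π : P6) : p π := by
  have h : π ∈ Submonoid.closure (Set.range sw6) := by
    rw [show Set.range sw6 = Set.range fun i : Fin 5 => Equiv.swap i.castSucc i.succ from rfl,
      Equiv.Perm.mclosure_swap_castSucc_succ]
    exact Submonoid.mem_top _
  induction h using Submonoid.closure_induction with
  | mem x hx => obtain ⟨i, rfl⟩ := hx; exact hs i
  | one => exact h1
  | mul x y _ _ hx hy => exact hm x y hx hy

theorem six_rels :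
    (wM nAw * wM nAw = 1 ∧ wM rhoW * wM rhoW = 1 ∧ wM nCw * wM nCw = 1) ∧
    (wM nAw * jM (1, 0, 0) * wM nAw = (jM (1, 0, 0))⁻¹ ∧ wM nAw * jM (0, 1, 0) = jM (0, 1, 0) * wM nAw ∧
      wM rhoW * jM (1, 0, 0) * wM rhoW = jM (0, 1, 0) ∧
      jM (1, 0, 0) * jM (0, 1, 0) = jM (0, 1, 0) * jM (1, 0, 0) ∧
      wM nAw * (wM rhoW * wM nAw * wM rhoW) = wM rhoW * wM nAw * wM rhoW * wM nAw) ∧
    (jM (1, 0, 0) ≠ 1 ∧ jM (0, 1, 0) ≠ 1 ∧ jM (0, 1, 0) ≠ jM (1, 0, 0) ∧
      jM (0, 1, 0) ≠ (jM (1, 0, 0))⁻¹) ∧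
    (∀ q, wM nCw * wordM q = wordM q * wM nCw) ∧
    (∀ q, wact (wordM q).w (0, 0, 1) = (0, 0, 1)) ∧
    ∀ i : Fin 5, i ≠ 2 → ∃ q, word6 q = sw6 i := by
  decide +kernel

theorem nC_unique : ∀ g : P6, g * g = 1 → g * sw6 0 = sw6 0 * g → g * sw6 4 = sw6 4 * g →
    g * sw6 1 * (g * sw6 1) * (g * sw6 1) = 1 → g * sw6 3 * (g * sw6 3) * (g * sw6 3) = 1 →
    g = sw6 2 := by
  decide +kernel

theorem sw6_facts : (∀ i, sw6 i * sw6 i = 1) ∧
    sw6 2 * sw6 1 * (sw6 2 * sw6 1) * (sw6 2 * sw6 1) = 1 ∧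
    sw6 2 * sw6 3 * (sw6 2 * sw6 3) * (sw6 2 * sw6 3) = 1 ∧
    sw6 2 * sw6 0 = sw6 0 * sw6 2 ∧ sw6 2 * sw6 4 = sw6 4 * sw6 2 := by
  decide +kernel

variable {G : Type*} [Group G] [Finite G] {J : Subgroup G} {φ : Mn → G}

/-- The normalised map from `Sym 6`. -/
structure SixMap (φ : Mn → G) (K : Subgroup G) (f : P6 →* G) : Prop where
  inj : Function.Injective f
  range : ∀ g, g ∈ K ↔ ∃ π, f π = g
  agree : ∀ q, f (word6 q) = φ (wordM q)
  nC : ∀ π, φ (wM nCw) * f π = f π * φ (wM nCw)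
  c : ∀ π, φ (jM (0, 0, 1)) * f π = f π * φ (jM (0, 0, 1))

namespace Frame

variable (D : Frame J true true φ)
include D

theorem exists_sixMap {K : Subgroup G} (S : SixData J φ K) : ∃ f : P6 →* G, SixMap φ K f := by
  classical
  obtain ⟨⟨hA2, hR2, hC2⟩, ⟨hAa, hAb, hRa, hab, hAR⟩, ⟨ha1, hb1, hba, hba'⟩, hnc, hfix, hgen⟩ := six_rels
  obtain ⟨hsq, hb12, hb32, hc02, hc42⟩ := sw6_facts
  have hL := inL_all
  have hmul : ∀ p q : Mn, φ (p * q) = φ p * φ q := fun p q => D.hom _ _ (hL p) (hL q)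
  have hinv : ∀ p : Mn, φ p⁻¹ = (φ p)⁻¹ := fun p => D.inv' (hL p)
  have hinj : ∀ {p q : Mn}, φ p = φ q → p = q := fun h => D.inj _ _ (hL _) (hL _) h
  have hmemK : ∀ g, g * φ (jM (0, 0, 1)) = φ (jM (0, 0, 1)) * g → g * g = 1 → g ∈ K := fun g h1 h2 =>
    S.hall g (mem_centralizer_singleton_iff.2 h1) (Nat.Coprime.coprime_dvd_left
      (orderOf_dvd_of_pow_eq_one (n := 2) (by rw [pow_two, h2])) (by norm_num))
  have hA : φ (wM nAw) ∈ K := hmemK _ ((D.fix_iff (hL _) _).2 stab_facts.2.2.2.1) (by rw [← hmul, hA2, D.one])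
  have hR : φ (wM rhoW) ∈ K :=
    hmemK _ ((D.fix_iff (hL _) _).2 stab_facts.2.2.2.2.2.1) (by rw [← hmul, hR2, D.one])
  let b : K := ⟨φ (jM (1, 0, 0)), (S.mem_plane _).2 rfl⟩
  let c : K := ⟨φ (jM (0, 1, 0)), (S.mem_plane _).2 rfl⟩
  let t : K := ⟨φ (wM nAw), hA⟩
  let w : K := ⟨φ (wM rhoW), hR⟩
  obtain ⟨e⟩ := S.iso
  obtain ⟨e', h1, h2, h3, h4⟩ := sym6_extend e b c t w (Subtype.ext (D.jcube _)) (Subtype.ext (D.jcube _))
    (fun h => ha1 (D.eq_one (hL _) (congrArg Subtype.val h))) (Subtype.ext (D.jcomm _ _))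
    ⟨fun h => hb1 (D.eq_one (hL _) (congrArg Subtype.val h)), fun h => hba (hinj (congrArg Subtype.val h)),
      fun h => hba' (hinj ((congrArg Subtype.val h).trans (hinv _).symm))⟩
    (Subtype.ext (by show φ _ * φ _ = 1; rw [← hmul, hA2, D.one]))
    (Subtype.ext (by show φ _ * φ _ * φ _ = (φ _)⁻¹; rw [← hmul, ← hmul, hAa, hinv]))
    (Subtype.ext (by show φ _ * φ _ = φ _ * φ _; rw [← hmul, hAb, hmul]))
    (Subtype.ext (by show φ _ * φ _ = 1; rw [← hmul, hR2, D.one]))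
    (Subtype.ext (by show φ _ * φ _ * φ _ = φ _; rw [← hmul, ← hmul, hRa]))
    (Subtype.ext (by
      show φ _ * (φ _ * φ _ * φ _) = φ _ * φ _ * φ _ * φ _
      rw [← hmul, ← hmul, ← hmul, hAR, hmul]))
  let f : P6 →* G := K.subtype.comp e'.toMonoidHom
  have hf : ∀ π, f π ∈ K := fun π => (e' π).2
  have hfinj : Function.Injective f := fun x y h => e'.injective (Subtype.ext h)
  have hfb : f cb = φ (jM (1, 0, 0)) := congrArg Subtype.val h1
  have hfc : f cc = φ (jM (0, 1, 0)) := congrArg Subtype.val h2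
  have hft : f ct = φ (wM nAw) := congrArg Subtype.val h3
  have hfw : f cw = φ (wM rhoW) := congrArg Subtype.val h4
  have hpow : ∀ (p : Mn) (n : ℕ), φ (p ^ n) = φ p ^ n := fun p n => (D.map_pow (hL p) n).2
  have hfp : ∀ (π : P6) (n : ℕ), f (π ^ n) = f π ^ n := fun π n => by
    induction n with
    | zero => rw [pow_zero, pow_zero, map_one]
    | succ n ih => rw [pow_succ, pow_succ, map_mul, ih]
  have hagree : ∀ q, f (word6 q) = φ (wordM q) := fun q => by
    simp only [word6, wordM, map_mul, hfp, hmul, hpow, hfb, hfc, hft, hfw]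
  have hcf : ∀ π, φ (jM (0, 0, 1)) * f π = f π * φ (jM (0, 0, 1)) := fun π =>
    (mem_centralizer_singleton_iff.1 (S.hKC (hf π))).symm
  -- conjugation by the third transposition
  set n := φ (wM nCw) with hn
  have hn2 : n * n = 1 := by rw [hn, ← hmul, hC2, D.one]
  have hconj : ∀ x y : G, n * (x * y) * n = n * x * n * (n * y * n) := fun x y => by
    rw [show n * x * n * (n * y * n) = n * x * (n * n) * y * n by group, hn2, mul_one]; group
  have hone : n * f 1 * n = f 1 := by rw [map_one, mul_one, hn2]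
  have hnK : ∀ π, n * f π * n ∈ K := fun π => by
    refine perm6_induction (p := fun π => n * f π * n ∈ K) ?_ (fun i => ?_) (fun x y hx hy => ?_) π
    · show n * f 1 * n ∈ K
      rw [hone]; exact hf 1
    · refine hmemK _ ?_ ?_
      · have hnc' : n * φ (jM (0, 0, 1)) * n = (φ (jM (0, 0, 1)))⁻¹ := by
          rw [hn, ← hmul, ← hmul, ← hinv]
          exact congrArg φ (by decide +kernel)
        have hcn : ∀ x, x * φ (jM (0, 0, 1)) = φ (jM (0, 0, 1)) * x →
            n * x * n * (n * φ (jM (0, 0, 1)) * n) = n * φ (jM (0, 0, 1)) * n * (n * x * n) := fun x hx => by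
          rw [← hconj, hx, hconj]
        have h := hcn _ (hcf (sw6 i)).symm
        rw [hnc'] at h
        exact (Commute.inv_right_iff.1 (show Commute (n * f (sw6 i) * n) (φ (jM (0, 0, 1)))⁻¹ from h)).eq
      · rw [← hconj, ← map_mul, hsq, hone, map_one]
    · show n * f (x * y) * n ∈ K
      rw [map_mul, hconj]; exact mul_mem hx hy
  have hrange : ∀ g, g ∈ K ↔ ∃ π, f π = g := fun g =>
    ⟨fun hg => ⟨e'.symm ⟨g, hg⟩, congrArg Subtype.val (e'.apply_symm_apply _)⟩, by rintro ⟨π, rfl⟩; exact hf π⟩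
  have hlow : ∀ i : Fin 5, i ≠ 2 → n * f (sw6 i) * n = f (sw6 i) := fun i hi => by
    obtain ⟨q, hq⟩ := hgen i hi
    rw [← hq, hagree, hn, ← hmul, hnc q, hmul, mul_assoc, ← hn, hn2, mul_one]
  obtain ⟨g, hg⟩ := (hrange _).1 (hnK (sw6 2))
  have himg : ∀ x y z : P6, x * y = z → n * f x * n * (n * f y * n) = n * f z * n := fun x y z h => by
    rw [← hconj, ← map_mul, h]
  have hg2 : g * g = 1 := hfinj (by rw [map_mul, hg, himg _ _ _ (hsq 2), hone])
  have hfix' : ∀ i, i ≠ 2 → sw6 2 * sw6 i = sw6 i * sw6 2 → g * sw6 i = sw6 i * g := fun i hi h =>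
    hfinj (by rw [map_mul, map_mul, hg, ← hlow i hi, ← hconj, ← hconj, ← map_mul, ← map_mul, h])
  have hbr : ∀ i, i ≠ 2 → sw6 2 * sw6 i * (sw6 2 * sw6 i) * (sw6 2 * sw6 i) = 1 →
      g * sw6 i * (g * sw6 i) * (g * sw6 i) = 1 := fun i hi h => by
    refine hfinj ?_
    simp only [map_mul]
    rw [hg, ← hlow i hi]
    simp only [← hconj, ← map_mul]
    rw [h, hone]
  have hg3 := nC_unique g hg2 (hfix' 0 (by decide) hc02) (hfix' 4 (by decide) hc42)
    (hbr 1 (by decide) hb12) (hbr 3 (by decide) hb32)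
  rw [hg3] at hg
  refine ⟨f, ⟨hfinj, hrange, hagree, fun π => ?_, hcf⟩⟩
  have key : n * f π * n = f π := by
    refine perm6_induction (p := fun π => n * f π * n = f π) hone (fun i => ?_) (fun x y hx hy => ?_) π
    · rcases eq_or_ne i 2 with rfl | hi
      · exact hg.symm
      · exact hlow i hi
    · show n * f (x * y) * n = f (x * y)
      rw [map_mul, hconj, hx, hy]
  calc n * f π = n * f π * (n * n) := by rw [hn2, mul_one]
    _ = f π * n := by rw [← mul_assoc, key]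

end Frame

end Cfsg.Agent.NineSym
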